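import Mathlib
import Cfsg.Prelude.Def_Transfer
import Cfsg.Agent.Solvable.Basics
import Cfsg.Agent.Lib.PGroups.Basic

/-!
Gauss sums of squaring maps of `2`-groups of class two with squares in a central elementary subgroup.
-/

set_option autoImplicit false

namespace Cfsg.Agent.GenA.SquareCount

open Subgroup
open scoped commutatorElement

variable {G : Type*} [Group G]

/-- sum of a character over a finite group -/
theorem sum_char [Fintype G] (φ : G →* ℤˣ) :
    (∑ g, ((φ g : ℤˣ) : ℤ)) = 0 ∨ (∀ g, φ g = 1) := by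
  by_cases h : ∀ g, φ g = 1
  · exact Or.inr h
  · push Not at h
    obtain ⟨x, hx⟩ := h
    left
    have h1 := Equiv.sum_comp (Equiv.mulLeft x) (fun g => ((φ g : ℤˣ) : ℤ))
    have hx1 : φ x = -1 := (Int.units_eq_one_or _).resolve_left hx
    simp only [Equiv.coe_mulLeft, map_mul, hx1, Units.val_mul, Units.val_neg, Units.val_one, neg_mul, one_mul,
      Finset.sum_neg_distrib] at h1
    linarith

variable [Fintype G] {Y : Subgroup G}

/-- the square of `Σ ψ(g²)` is `|G|` times `0` or the order of the radical -/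
theorem gauss (hY : Y ≤ center G) (hY2 : ∀ y ∈ Y, y * y = 1) (hsq : ∀ g : G, g * g ∈ Y)
    (hcm : ∀ g h : G, ⁅g, h⁆ ∈ Y) (ψ : ↥Y →* ℤˣ) :
    ∃ R : Subgroup G, (∀ h, h ∈ R ↔ ∀ g, ψ ⟨⁅g, h⁆, hcm g h⟩ = 1) ∧
      ((∑ g : G, ((ψ ⟨g * g, hsq g⟩ : ℤˣ) : ℤ)) ^ 2 = (Nat.card G : ℤ) * (Nat.card R : ℤ) ∧
          (∀ h ∈ R, ψ ⟨h * h, hsq h⟩ = 1) ∨
        (∑ g : G, ((ψ ⟨g * g, hsq g⟩ : ℤˣ) : ℤ)) ^ 2 = 0) := by
  classical
  have hc : ∀ (g h x : G), ⁅g, h⁆ * x = x * ⁅g, h⁆ := fun g h x => (mem_center_iff.mp (hY (hcm g h)) x).symm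
  have hinv : ∀ (g h : G), ⁅g, h⁆ = ⁅h, g⁆ := fun g h => by
    rw [← commutatorElement_inv h g, inv_eq_of_mul_eq_one_right (hY2 _ (hcm h g))]
  have hleft : ∀ a b h : G, ⁅a * b, h⁆ = ⁅a, h⁆ * ⁅b, h⁆ := fun a b h => by
    rw [commutatorElement_mul_left_eq_conj_mul, ← hc b h a, mul_inv_cancel_right, hc b h]
  let χ : G → G →* ℤˣ := fun h =>
    { toFun := fun g => ψ ⟨⁅g, h⁆, hcm g h⟩
      map_one' := by exact (congrArg ψ (Subtype.ext (commutatorElement_one_left h))).trans (map_one ψ)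
      map_mul' := fun a b => by
        rw [← map_mul]
        congr 1
        exact Subtype.ext (hleft a b h) }
  have hχmul : ∀ a b g, χ (a * b) g = χ a g * χ b g := fun a b g => by
    show ψ ⟨⁅g, a * b⁆, _⟩ = ψ ⟨⁅g, a⁆, _⟩ * ψ ⟨⁅g, b⁆, _⟩
    rw [← map_mul]
    congr 1
    refine Subtype.ext ?_
    show ⁅g, a * b⁆ = ⁅g, a⁆ * ⁅g, b⁆
    rw [hinv g, hinv g a, hinv g b, hleft]
  let R : Subgroup G :=
    { carrier := {h | ∀ g, χ h g = 1}
      one_mem' := fun g => (congrArg ψ (Subtype.ext (commutatorElement_one_right g))).trans (map_one ψ)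
      mul_mem' := fun {a b} ha hb g => by rw [hχmul, ha g, hb g, one_mul]
      inv_mem' := fun {a} ha g => by
        have h1 := hχmul a⁻¹ a g
        rw [ha g, mul_one, inv_mul_cancel] at h1
        rw [← h1]; exact (congrArg ψ (Subtype.ext (commutatorElement_one_right g))).trans (map_one ψ) }
  refine ⟨R, fun h => Iff.rfl, ?_⟩
  let ε : G → ℤˣ := fun g => ψ ⟨g * g, hsq g⟩
  have hεmul : ∀ g h, ε (g * h) = ε g * ε h * χ h g := by
    intro g h
    show ψ _ = ψ _ * ψ _ * ψ _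
    rw [← map_mul, ← map_mul]
    congr 1
    refine Subtype.ext ?_
    show g * h * (g * h) = g * g * (h * h) * ⁅g, h⁆
    have e : h * g = g * h * ⁅g, h⁆ := by
      rw [hinv g h, ← hc h g (g * h), commutatorElement_def]; group
    calc g * h * (g * h) = g * (h * g) * h := by group
      _ = g * (g * h * ⁅g, h⁆) * h := by rw [e]
      _ = g * g * h * (⁅g, h⁆ * h) := by group
      _ = g * g * (h * h) * ⁅g, h⁆ := by rw [hc g h h]; group
  have hsum : (∑ g : G, ((ε g : ℤˣ) : ℤ)) ^ 2 = (Nat.card G : ℤ) * ∑ h : ↥R, ((ε h : ℤˣ) : ℤ) := by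
    rw [sq, Finset.sum_mul_sum]
    have h1 : ∀ g : G, ∑ j : G, ((ε g : ℤˣ) : ℤ) * ((ε j : ℤˣ) : ℤ) = ∑ h : G, ((ε h : ℤˣ) : ℤ) * ((χ h g : ℤˣ) : ℤ) := by
      intro g
      rw [← Equiv.sum_comp (Equiv.mulLeft g)]
      refine Finset.sum_congr rfl fun h _ => ?_
      rw [Equiv.coe_mulLeft, hεmul, ← Units.val_mul, ← Units.val_mul, ← mul_assoc, ← mul_assoc, Int.units_mul_self, one_mul]
    rw [Finset.sum_congr rfl fun g _ => h1 g, Finset.sum_comm, Finset.mul_sum, ← Finset.sum_subtype (Finset.univ.filter (· ∈ R)) (by simp) (fun h => (Nat.card G : ℤ) * ((ε h : ℤˣ) : ℤ))]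
    rw [← Finset.sum_filter_add_sum_filter_not Finset.univ (· ∈ R)]
    have h2 : ∑ h ∈ Finset.univ.filter (fun h => ¬ h ∈ R), ∑ g : G, ((ε h : ℤˣ) : ℤ) * ((χ h g : ℤˣ) : ℤ) = 0 := by
      refine Finset.sum_eq_zero fun h hh => ?_
      rw [← Finset.mul_sum, (sum_char (χ h)).resolve_right (Finset.mem_filter.mp hh).2, mul_zero]
    rw [h2, add_zero]
    refine Finset.sum_congr rfl fun h hh => ?_
    have h3 : ∀ g, χ h g = 1 := (Finset.mem_filter.mp hh).2
    rw [Finset.sum_congr rfl (fun g _ => by rw [h3 g, Units.val_one, mul_one]), Finset.sum_const, Finset.card_univ,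
      Nat.card_eq_fintype_card, nsmul_eq_mul]
  let εR : ↥R →* ℤˣ :=
    { toFun := fun h => ε h
      map_one' := (congrArg ψ (Subtype.ext (by simp : ((1 : ↥R) : G) * ((1 : ↥R) : G) = ((1 : ↥Y) : G)))).trans (map_one ψ)
      map_mul' := fun a b => by
        show ε ((a : G) * b) = ε a * ε b
        rw [hεmul, b.2 (a : G), mul_one] }
  rcases sum_char εR with h | h
  · right
    rw [hsum]
    exact mul_eq_zero_of_right _ h
  · left
    refine ⟨?_, fun x hx => h ⟨x, hx⟩⟩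
    rw [hsum]
    congr 1
    rw [Finset.sum_congr rfl (fun (x : ↥R) _ => show ((ε x : ℤˣ) : ℤ) = 1 by rw [show ε x = 1 from h x]; rfl),
      Finset.sum_const, Finset.card_univ, Nat.card_eq_fintype_card, nsmul_eq_mul, mul_one]

/-- a character separating a nontrivial element of an elementary abelian `2`-group -/
theorem exists_char {Y : Type*} [CommGroup Y] [Finite Y] (h2 : ∀ y : Y, y * y = 1) {y : Y} (hy : y ≠ 1) :
    ∃ ψ : Y →* ℤˣ, ψ y = -1 := by
  classical
  obtain ⟨M, hM, hmax⟩ := Set.Finite.exists_maximal (Set.toFinite {M : Subgroup Y | y ∉ M})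
    ⟨⊥, fun h => hy (mem_bot.mp h)⟩
  have hkey : ∀ a, a ∉ M → y * a ∈ M := by
    intro a ha
    have h1 : y ∈ M ⊔ zpowers a := by
      by_contra hn
      exact ha ((hmax hn le_sup_left) (mem_sup_right (mem_zpowers a)))
    obtain ⟨m, hm, c, hc, hmc⟩ := mem_sup_of_normal_left.mp h1
    obtain ⟨i, rfl⟩ := hc
    rcases Int.even_or_odd i with ⟨j, rfl⟩ | ⟨j, rfl⟩
    · rw [show (fun x => a ^ x) (j + j) = 1 by show a ^ (j + j) = 1; rw [← two_mul, zpow_mul, zpow_two, h2, one_zpow], mul_one] at hmc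
      exact absurd (hmc ▸ hm) hM
    · rw [show (fun x => a ^ x) (2 * j + 1) = a by show a ^ (2 * j + 1) = a; rw [zpow_add, zpow_mul, zpow_two, h2, one_zpow, one_mul, zpow_one]] at hmc
      rw [← hmc, mul_assoc, h2, mul_one]; exact hm
  refine ⟨MonoidHom.mk' (fun a => if a ∈ M then 1 else -1) fun a b => ?_, if_neg hM⟩
  by_cases ha : a ∈ M
  · by_cases hb : b ∈ M
    · rw [if_pos ha, if_pos hb, if_pos (M.mul_mem ha hb), one_mul]
    · rw [if_pos ha, if_neg hb, if_neg ((M.mul_mem_cancel_left ha).not.mpr hb), one_mul]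
  · by_cases hb : b ∈ M
    · rw [if_neg ha, if_pos hb, if_neg ((M.mul_mem_cancel_right hb).not.mpr ha), mul_one]
    · rw [if_neg ha, if_neg hb, if_pos]
      · simp
      · have h := M.mul_mem (hkey a ha) (hkey b hb)
        rwa [show y * a * (y * b) = y * y * (a * b) by rw [mul_mul_mul_comm], h2, one_mul] at h

theorem commutator_le_frattini {G : Type*} [Group G] [Finite G] {p : ℕ} [Fact p.Prime] (hG : IsPGroup p G) :
    commutator G ≤ frattini G := by
  haveI : Group.IsNilpotent G := hG.isNilpotent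
  refine le_iInf₂ fun K (hK : IsCoatom K) => ?_
  have hKn : K.Normal := ((Group.isNilpotent_of_finite_tfae (G := G)).out 0 2 rfl rfl).mp inferInstance K hK
  obtain ⟨x, hx⟩ : ∃ x, x ∉ K := by
    by_contra hcon
    push Not at hcon
    exact hK.1 (eq_top_iff.mpr fun x _ => hcon x)
  have htop : K ⊔ zpowers x = ⊤ :=
    hK.2 _ (lt_of_le_of_ne le_sup_left fun h => hx (h ▸ mem_sup_right (mem_zpowers x)))
  exact Normal.commutator_le_of_self_sup_commutative_eq_top htop inferInstance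

/-- squares in a central elementary `Y`, roots of unity forming `W`: `|G| ≤ |W| |Y|²` -/
theorem card_le {G : Type*} [Group G] [Finite G] (hG : IsPGroup 2 G) (Y W : Subgroup G) (hY : Y ≤ center G)
    (hY2 : ∀ y ∈ Y, y * y = 1) (hsq : ∀ g : G, g * g ∈ Y) (hcm : ∀ g h : G, ⁅g, h⁆ ∈ Y) (hW : W ≤ center G)
    (hWmem : ∀ g : G, g * g = 1 ↔ g ∈ W) : Nat.card G ≤ Nat.card W * Nat.card Y ^ 2 := by
  classical
  haveI : Fintype G := Fintype.ofFinite G
  haveI : Fact (Nat.Prime 2) := ⟨Nat.prime_two⟩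
  obtain ⟨a, ha⟩ := IsPGroup.iff_card.mp hG
  obtain ⟨w, hw⟩ := IsPGroup.iff_card.mp (hG.to_subgroup W)
  obtain ⟨k, hk⟩ := IsPGroup.iff_card.mp (hG.to_subgroup Y)
  rw [ha, hw, hk, ← pow_mul, ← pow_add]
  refine Nat.pow_le_pow_right (by norm_num) ?_
  by_contra hlt
  haveI : IsMulCommutative ↥Y := ⟨⟨fun u v => Subtype.ext (mem_center_iff.mp (hY v.2) u)⟩⟩
  letI : CommGroup ↥Y := { (inferInstance : Group ↥Y) with mul_comm := fun u v => IsMulCommutative.is_comm.comm u v }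
  haveI : Finite (↥Y →* ℤˣ) := Finite.of_injective _ DFunLike.coe_injective
  haveI : Fintype (↥Y →* ℤˣ) := Fintype.ofFinite _
  -- every Gauss sum is divisible by `2 ^ (w + k + 1)`
  have hdiv : ∀ ψ : ↥Y →* ℤˣ, ((2 : ℤ) ^ (w + k + 1)) ∣ ∑ g : G, ((ψ ⟨g * g, hsq g⟩ : ℤˣ) : ℤ) := by
    intro ψ
    obtain ⟨R, hR, ⟨hT, -⟩ | hT⟩ := gauss hY hY2 hsq hcm ψ
    · obtain ⟨r, hr⟩ := IsPGroup.iff_card.mp (hG.to_subgroup R)
      have hWR : W ≤ R := fun h hh => (hR h).mpr fun g => by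
        have : ⁅g, h⁆ = 1 := commutatorElement_eq_one_iff_mul_comm.mpr (mem_center_iff.mp (hW hh) g)
        exact (congrArg ψ (Subtype.ext this)).trans (map_one ψ)
      have hwr : w ≤ r := (Nat.pow_le_pow_iff_right (by norm_num : 1 < 2)).mp (hw ▸ hr ▸ card_le_of_le hWR)
      rw [ha, hr] at hT
      push_cast at hT
      rw [← pow_add] at hT
      have hd : ((2 : ℕ) ^ (w + k + 1)) ^ 2 ∣ (∑ g : G, ((ψ ⟨g * g, hsq g⟩ : ℤˣ) : ℤ)).natAbs ^ 2 := by
        rw [← Int.natAbs_pow, hT, Int.natAbs_pow, ← pow_mul]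
        by_cases hpar : a + r < (w + k + 1) * 2
        · exfalso
          have hsq' : ∃ t : ℕ, t ^ 2 = 2 ^ (a + r) := ⟨(∑ g : G, ((ψ ⟨g * g, hsq g⟩ : ℤˣ) : ℤ)).natAbs, by
            rw [← Int.natAbs_pow, hT, Int.natAbs_pow]; rfl⟩
          obtain ⟨t, ht⟩ := hsq'
          obtain ⟨i, -, hi⟩ := (Nat.dvd_prime_pow Nat.prime_two).mp (ht ▸ dvd_pow_self t two_ne_zero)
          rw [hi, ← pow_mul] at ht
          have := Nat.pow_right_injective (le_refl 2) ht
          omega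
        · exact pow_dvd_pow 2 (by omega)
      have := (Nat.pow_dvd_pow_iff two_ne_zero).mp hd
      rw [← Int.natAbs_dvd_natAbs]
      simpa using this
    · rw [sq_eq_zero_iff.mp hT]; exact dvd_zero _
  -- their total is `#Hom * |W|`
  have htot : ∑ ψ : ↥Y →* ℤˣ, ∑ g : G, ((ψ ⟨g * g, hsq g⟩ : ℤˣ) : ℤ) = (Fintype.card (↥Y →* ℤˣ) : ℤ) * (Nat.card W : ℤ) := by
    rw [Finset.sum_comm, ← Finset.sum_filter_add_sum_filter_not Finset.univ (fun g : G => g * g = 1)]
    have h1 : ∑ g ∈ Finset.univ.filter (fun g : G => ¬ g * g = 1), ∑ ψ : ↥Y →* ℤˣ, ((ψ ⟨g * g, hsq g⟩ : ℤˣ) : ℤ) = 0 := by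
      refine Finset.sum_eq_zero fun g hg => ?_
      obtain ⟨ψ0, hψ0⟩ := exists_char (Y := ↥Y) (fun y => Subtype.ext (hY2 y y.2))
        (y := ⟨g * g, hsq g⟩) (fun h => (Finset.mem_filter.mp hg).2 (congrArg Subtype.val h))
      have h2 := Equiv.sum_comp (Equiv.mulLeft ψ0) (fun ψ : ↥Y →* ℤˣ => ((ψ ⟨g * g, hsq g⟩ : ℤˣ) : ℤ))
      simp only [Equiv.coe_mulLeft, MonoidHom.mul_apply, hψ0, Units.val_mul, Units.val_neg, Units.val_one, neg_mul,
        one_mul, Finset.sum_neg_distrib] at h2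
      linarith
    rw [h1, add_zero, Finset.sum_congr rfl (g := fun _ => (Fintype.card (↥Y →* ℤˣ) : ℤ)) (fun g hg => by
      have h3 : (⟨g * g, hsq g⟩ : ↥Y) = 1 := Subtype.ext (Finset.mem_filter.mp hg).2
      simp [h3]), Finset.sum_const, nsmul_eq_mul, mul_comm]
    congr 2
    rw [Nat.card_eq_fintype_card, Fintype.card_subtype]
    congr 1
    ext g
    simp [hWmem]
  have hH : Fintype.card (↥Y →* ℤˣ) ≤ 2 ^ k := by
    rw [← hk, ← Nat.card_eq_fintype_card (α := ↥Y →* ℤˣ)]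
    exact Cfsg.Agent.PGroups.Basic.card_hom_le (p := 2) (hG.to_subgroup Y) (by simp)
  have h5 : ((2 : ℤ) ^ (w + k + 1)) ∣ (Fintype.card (↥Y →* ℤˣ) : ℤ) * (Nat.card W : ℤ) :=
    htot ▸ Finset.dvd_sum fun ψ _ => hdiv ψ
  rw [hw] at h5
  have h6 : 2 ^ (k + 1) * 2 ^ w ∣ Fintype.card (↥Y →* ℤˣ) * 2 ^ w := by
    rw [← pow_add, show k + 1 + w = w + k + 1 by omega]; exact_mod_cast h5
  have h7 := Nat.le_of_dvd Fintype.card_pos (Nat.dvd_of_mul_dvd_mul_right (pow_pos (by norm_num) _) h6)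
  rw [pow_succ] at h7
  have : 0 < 2 ^ k := pow_pos (by norm_num) _
  omega

/-- a subgroup with elementary abelian quotient contains the Frattini subgroup -/
theorem frattini_le {G : Type*} [Group G] [Finite G] (N : Subgroup G) [N.Normal] (hsq : ∀ g : G, g * g ∈ N)
    (hcm : ∀ g h : G, ⁅g, h⁆ ∈ N) : frattini G ≤ N := by
  intro x hx
  by_contra hxN
  have hmc : ∀ a b : G ⧸ N, a * b = b * a := fun a b => by
    obtain ⟨a, rfl⟩ := QuotientGroup.mk'_surjective N a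
    obtain ⟨b, rfl⟩ := QuotientGroup.mk'_surjective N b
    rw [← commutatorElement_eq_one_iff_mul_comm, ← map_commutatorElement]
    exact (QuotientGroup.eq_one_iff _).mpr (hcm a b)
  letI : CommGroup (G ⧸ N) := { (inferInstance : Group (G ⧸ N)) with mul_comm := hmc }
  obtain ⟨ψ, hψ⟩ := exists_char (Y := G ⧸ N) (fun y => by
      obtain ⟨a, rfl⟩ := QuotientGroup.mk'_surjective N y
      rw [← map_mul]
      exact (QuotientGroup.eq_one_iff _).mpr (hsq a))
    (y := (x : G ⧸ N)) (fun h => hxN ((QuotientGroup.eq_one_iff x).mp h))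
  set φ : G →* ℤˣ := ψ.comp (QuotientGroup.mk' N) with hφ
  have hnot : x ∉ φ.ker := fun h => by
    rw [MonoidHom.mem_ker] at h
    exact absurd (hψ.symm.trans h) (by decide)
  have hco : IsCoatom φ.ker := by
    refine ⟨fun h => hnot (h ▸ mem_top x), fun K hK => ?_⟩
    obtain ⟨k, hk, hkn⟩ := SetLike.exists_of_lt hK
    refine eq_top_iff.mpr fun g _ => ?_
    rcases Int.units_eq_one_or (φ g) with hg | hg
    · exact hK.le hg
    · have h1 : g * k ∈ φ.ker := by
        have h2 : φ k = -1 := (Int.units_eq_one_or _).resolve_left hkn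
        rw [MonoidHom.mem_ker, map_mul, hg, h2]; simp
      have := K.mul_mem (hK.le h1) (K.inv_mem hk)
      rwa [mul_inv_cancel_right] at this
  exact hnot (frattini_le_coatom hco hx)

end Cfsg.Agent.GenA.SquareCount
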