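import Mathlib
import Cfsg.Prelude.Def_Local
import Cfsg.Agent.Lib.PGroups.UniqueSubgroup
import Cfsg.Agent.Solvable.Basics
import Cfsg.Agent.Solvable.Fitting
import Cfsg.Agent.Lib.PLocal.Cores
import Cfsg.Agent.Lib.Coprime.Commutator
import Cfsg.Agent.Lib.Coprime.SchurZassenhaus

/-!
Solvable groups in which abelian subgroups of equal order are conjugate: the property
passes to quotients.
-/

set_option autoImplicit false

namespace Cfsg.Agent.GenA.AbelianConj

open Subgroup Cfsg
open scoped Pointwise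

/-- Abelian subgroups of the same order are conjugate. -/
def Hyp (G : Type*) [Group G] : Prop :=
  ∀ A B : Subgroup G, IsMulCommutative ↥A → IsMulCommutative ↥B → Nat.card ↥A = Nat.card ↥B →
    ∃ g : G, B = A.map (MulAut.conj g).toMonoidHom

variable {G : Type*} [Group G]

theorem mul_comm_of {A : Subgroup G} (hA : IsMulCommutative A) {x y : G} (hx : x ∈ A)
    (hy : y ∈ A) : x * y = y * x :=
  congrArg Subtype.val (hA.is_comm.comm (⟨x, hx⟩ : A) ⟨y, hy⟩)

theorem isMulCommutative_of {A : Subgroup G} (h : ∀ x ∈ A, ∀ y ∈ A, x * y = y * x) :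
    IsMulCommutative A :=
  ⟨⟨fun x y => Subtype.ext (h x x.2 y y.2)⟩⟩

theorem isMulCommutative_sup {A B : Subgroup G} (hA : IsMulCommutative A) (hB : IsMulCommutative B)
    (h : A ≤ centralizer (B : Set G)) : IsMulCommutative (A ⊔ B : Subgroup G) := by
  rw [← le_centralizer_iff_isMulCommutative]
  refine sup_le (le_centralizer_iff.mp (sup_le ?_ ?_)) (le_centralizer_iff.mp (sup_le h ?_))
  · exact le_centralizer_iff_isMulCommutative.mpr hA
  · exact le_centralizer_iff.mp h
  · exact le_centralizer_iff_isMulCommutative.mpr hB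

theorem conj_mem_of_zpowers {x y g : G}
    (h : zpowers y = (zpowers x).map (MulAut.conj g).toMonoidHom) {M : Subgroup G} [M.Normal]
    (hy : y ∈ M) : x ∈ M := by
  have h1 : MulAut.conj g x ∈ (zpowers y) := h ▸ mem_map_of_mem _ (mem_zpowers x)
  have h2 : g * x * g⁻¹ ∈ M := zpowers_le.mpr hy h1
  simpa [mul_assoc] using Subgroup.Normal.conj_mem (inferInstanceAs M.Normal) _ h2 g⁻¹

/-- A normal elementary abelian subgroup either has prime order and holds every element of that
order, or is a full Sylow subgroup. -/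
theorem prime_or_sylow [Finite G] (hG : Hyp G) {p : ℕ} [hp : Fact p.Prime] (N : Subgroup G)
    [N.Normal] (hN : N ≠ ⊥) (hab : IsMulCommutative N) (hexp : ∀ x ∈ N, x ^ p = 1) :
    (Nat.card N = p ∧ ∀ x : G, x ^ p = 1 → x ∈ N) ∨ ¬ p ∣ N.index := by
  classical
  have hall : ∀ x : G, x ^ p = 1 → x ∈ N := by
    intro x hx
    by_cases hx1 : x = 1
    · exact hx1 ▸ one_mem N
    obtain ⟨n, hn, hn1⟩ := N.bot_or_exists_ne_one.resolve_left hN
    obtain ⟨g, hg⟩ := hG (zpowers x) (zpowers n) inferInstance inferInstance (by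
      rw [Nat.card_zpowers, Nat.card_zpowers, orderOf_eq_prime hx hx1, orderOf_eq_prime (hexp n hn) hn1])
    exact conj_mem_of_zpowers hg hn
  have hNp : IsPGroup p N := Solvable.Basics.isPGroup_of_forall_pow_eq_one hexp
  obtain ⟨k, hk⟩ := hNp.exists_card_eq
  rcases Nat.lt_or_ge k 2 with h | h
  · interval_cases k
    · exact absurd (card_eq_one.mp (hk.trans (pow_zero p))) hN
    · exact Or.inl ⟨hk.trans (pow_one p), hall⟩
  refine Or.inr ?_
  obtain ⟨E, hE⟩ := Sylow.exists_subgroup_card_pow_prime (G := ↥N) p (n := 2) (hk ▸ pow_dvd_pow p h)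
  have hE' : Nat.card (E.map N.subtype) = p ^ 2 := by rw [card_map_of_injective N.subtype_injective, hE]
  have hEN : E.map N.subtype ≤ N := map_subtype_le E
  have hno : ∀ y : G, orderOf y ≠ p ^ 2 := by
    intro y hy
    obtain ⟨g, hg⟩ := hG (zpowers y) (E.map N.subtype) inferInstance
      (isMulCommutative_of fun a ha b hb => mul_comm_of hab (hEN ha) (hEN hb))
      (by rw [Nat.card_zpowers, hy, hE'])
    have h1 : MulAut.conj g y ∈ N := hEN (hg ▸ mem_map_of_mem _ (mem_zpowers y))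
    have h2 : y ^ p = 1 := by
      apply (MulAut.conj g).injective
      rw [map_pow, map_one]
      exact hexp _ h1
    have h3 : p ^ 2 ≤ p := hy ▸ Nat.le_of_dvd hp.out.pos (orderOf_dvd_of_pow_eq_one h2)
    nlinarith [hp.out.two_le]
  obtain ⟨P⟩ : Nonempty (Sylow p G) := inferInstance
  have hPN : (P : Subgroup G) ≤ N := by
    intro x hx
    refine hall x (orderOf_dvd_iff_pow_eq_one.mp ?_)
    obtain ⟨m, hm⟩ := P.2 ⟨x, hx⟩
    have h1 : orderOf x ∣ p ^ m := orderOf_dvd_of_pow_eq_one (congrArg Subtype.val hm)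
    obtain ⟨i, -, hi⟩ := (Nat.dvd_prime_pow hp.out).mp h1
    rcases Nat.lt_or_ge i 2 with hi2 | hi2
    · rw [hi]; exact (pow_dvd_pow p (Nat.le_of_lt_succ hi2)).trans (by rw [pow_one])
    · exact absurd (orderOf_pow_orderOf_div (x := x) (n := p ^ 2) (orderOf_pos x).ne'
        (hi ▸ pow_dvd_pow p hi2)) (hno _)
  exact fun hd => P.not_dvd_index (hd.trans (index_dvd_of_le hPN))

/-- The hypothesis on the `p`-subgroups needed to push `Hyp` through `N`. -/
def Good (p : ℕ) (G : Type*) [Group G] (N : Subgroup G) : Prop :=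
  ¬ p ∣ N.index ∨ (Nat.card N = p ∧ (∀ x : G, x ^ p = 1 → x ∈ N) ∧
    ∀ T : Subgroup G, IsPGroup p T → ¬ IsCyclic T →
      Nat.card T = p ^ 3 ∧ ∀ P : Sylow p G, Nat.card T = Nat.card P)

theorem exists_frame [Finite G] {p : ℕ} [hp : Fact p.Prime] {N : Subgroup G} [N.Normal]
    (hNp : IsPGroup p N) (A : Subgroup (G ⧸ N)) (hA : IsMulCommutative A) :
    ∃ T A' : Subgroup G, IsPGroup p T ∧ N ≤ T ∧ T ⊔ A' = A.comap (QuotientGroup.mk' N) ∧
      A' ≤ normalizer (T : Set G) ∧ IsMulCommutative A' ∧ (Nat.card A').Coprime p ∧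
      Nat.card T = p ^ (Nat.card (A.comap (QuotientGroup.mk' N))).factorization p ∧
      Nat.card A' * Nat.card T = Nat.card (A.comap (QuotientGroup.mk' N)) ∧
      (∀ a ∈ A', ∀ t ∈ T, a * t * a⁻¹ * t⁻¹ ∈ N) := by
  classical
  set π := QuotientGroup.mk' N
  set A₁ := A.comap π with hA₁
  have hcomm : ∀ a ∈ A₁, ∀ b ∈ A₁, a * b * a⁻¹ * b⁻¹ ∈ N := by
    intro a ha b hb
    rw [← QuotientGroup.eq_one_iff]
    show π (a * b * a⁻¹ * b⁻¹) = 1
    rw [map_mul, map_mul, map_mul, map_inv, map_inv, mul_comm_of hA ha hb]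
    group
  obtain ⟨P⟩ : Nonempty (Sylow p A₁) := inferInstance
  have hNA : N ≤ A₁ := fun x hx => by
    show π x ∈ A
    rw [show π x = 1 from (QuotientGroup.eq_one_iff x).mpr hx]
    exact one_mem A
  haveI : (N.subgroupOf A₁).Normal := inferInstance
  have hNP : N.subgroupOf A₁ ≤ (P : Subgroup A₁) :=
    (PLocal.Cores.le_pCore (hNp.comap_of_injective A₁.subtype A₁.subtype_injective)).trans
      (PLocal.Cores.pCore_le_sylow P)
  haveI hPn : (P : Subgroup A₁).Normal := ⟨fun t ht a => by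
    have h1 : a * t * a⁻¹ * t⁻¹ ∈ (P : Subgroup A₁) := hNP (hcomm a a.2 t t.2)
    simpa using mul_mem h1 ht⟩
  obtain ⟨C, hC⟩ := Subgroup.exists_right_complement'_of_coprime P.card_coprime_index
  refine ⟨(P : Subgroup A₁).map A₁.subtype, C.map A₁.subtype, P.2.map _, ?_, ?_, ?_, ?_, ?_, ?_, ?_, ?_⟩
  · intro x hx
    exact ⟨⟨x, hNA hx⟩, hNP hx, rfl⟩
  · rw [← Subgroup.map_sup, hC.sup_eq_top, ← MonoidHom.range_eq_map, range_subtype]
  · exact (map_mono (le_normalizer_of_normal (K := C) (H := (P : Subgroup A₁)))).trans (le_normalizer_map _)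
  · refine isMulCommutative_of fun a ha b hb => ?_
    obtain ⟨a, ha', rfl⟩ := ha
    obtain ⟨b, hb', rfl⟩ := hb
    have h1 : a * b * a⁻¹ * b⁻¹ ∈ (P : Subgroup A₁) ⊓ C :=
      ⟨hNP (hcomm a a.2 b b.2), C.mul_mem (C.mul_mem (C.mul_mem ha' hb') (C.inv_mem ha')) (C.inv_mem hb')⟩
    rw [hC.disjoint.eq_bot, mem_bot, mul_inv_eq_one, mul_inv_eq_iff_eq_mul] at h1
    exact congrArg Subtype.val h1
  · rw [card_map_of_injective A₁.subtype_injective, ← hC.symm.index_eq_card, Nat.coprime_comm]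
    exact hp.out.coprime_iff_not_dvd.mpr P.not_dvd_index
  · rw [card_map_of_injective A₁.subtype_injective, P.card_eq_multiplicity]
  · rw [card_map_of_injective A₁.subtype_injective, card_map_of_injective A₁.subtype_injective,
      mul_comm, hC.card_mul]
  · rintro _ ⟨a, -, rfl⟩ _ ⟨t, -, rfl⟩
    exact hcomm a a.2 t t.2

theorem centralizes [Finite G] {p : ℕ} [hp : Fact p.Prime] {N T A' : Subgroup G}
    (hN : Nat.card N = p) (huniq : ∀ x : G, x ^ p = 1 → x ∈ N) (hT : IsPGroup p T)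
    (hlt : N < T) (hn : A' ≤ normalizer (T : Set G)) (hcop : (Nat.card A').Coprime p)
    (hc : ∀ a ∈ A', ∀ t ∈ T, a * t * a⁻¹ * t⁻¹ ∈ N) : A' ≤ centralizer (T : Set G) := by
  have hle : N ≤ (frattini T).map T.subtype := by
    have h1 : N.subgroupOf T ≤ frattini T := by
      refine le_iInf₂ fun K hK => ?_
      have hKb : K ≠ ⊥ := by
        intro hKb
        subst hKb
        refine hlt.not_ge (subgroupOf_eq_top.mp (hK.2 (N.subgroupOf T) (bot_lt_iff_ne_bot.mpr fun h => ?_)))
        have h3 : Nat.card (N.subgroupOf T) = p := by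
          rw [Nat.card_congr (subgroupOfEquivOfLe hlt.le).toEquiv, hN]
        rw [h, card_bot] at h3
        exact hp.out.ne_one h3.symm
      haveI : Nontrivial K := (nontrivial_iff_ne_bot K).mpr hKb
      obtain ⟨k, hk⟩ := (hT.to_subgroup K).exists_card_eq
      have hk0 : k ≠ 0 := fun h0 => hKb (card_eq_one.mp (hk.trans (by rw [h0, pow_zero])))
      obtain ⟨u, hu⟩ := exists_prime_orderOf_dvd_card' (G := ↥K) p (hk ▸ dvd_pow_self p hk0)
      have huo : orderOf ((u : T) : G) = p := by rw [Subgroup.orderOf_coe, Subgroup.orderOf_coe, hu]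
      have h2 : zpowers ((u : T) : G) = N := eq_of_le_of_card_ge
        (zpowers_le.mpr (huniq _ (huo ▸ pow_orderOf_eq_one _))) (by rw [Nat.card_zpowers, huo, hN])
      intro x hx
      have hx' : (x : G) ∈ zpowers ((u : T) : G) := h2 ▸ hx
      obtain ⟨i, hi⟩ := hx'
      have : x = (u : T) ^ i := Subtype.ext (by simpa using hi.symm)
      exact this ▸ zpow_mem u.2 i
    exact fun x hx => ⟨⟨x, hlt.le hx⟩, h1 hx, rfl⟩
  refine Coprime.le_centralizer_of_frattini hn ?_ fun a ha t ht => hle (hc a ha t ht)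
  obtain ⟨k, hk⟩ := (hT.to_subgroup (frattini T)).exists_card_eq
  rw [hk]
  exact Nat.Coprime.pow_right k hcop

theorem card_map_conj (g : G) (A : Subgroup G) :
    Nat.card (A.map (MulAut.conj g).toMonoidHom) = Nat.card A :=
  card_map_of_injective (MulAut.conj g).injective

/-- `Hyp` passes to the quotient by `N`. -/
theorem hyp_quotient_of_good [Finite G] (hG : Hyp G) {p : ℕ} [hp : Fact p.Prime] (N : Subgroup G)
    [N.Normal] (hNp : IsPGroup p N) (hgood : Good p G N) : Hyp (G ⧸ N) := by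
  classical
  set π := QuotientGroup.mk' N
  have hπ : Function.Surjective π := QuotientGroup.mk'_surjective N
  intro A B hA hB hcard
  have hcard₁ : Nat.card (A.comap π) = Nat.card (B.comap π) := by
    rw [PLocal.Cores.card_comap_eq A hπ, PLocal.Cores.card_comap_eq B hπ, hcard]
  suffices h : ∃ g : G, B.comap π = (A.comap π).map (MulAut.conj g).toMonoidHom by
    obtain ⟨g, hg⟩ := h
    refine ⟨π g, ?_⟩
    calc B = (B.comap π).map π := (map_comap_eq_self_of_surjective hπ B).symm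
      _ = ((A.comap π).map π).map (MulAut.conj (π g)).toMonoidHom := by
          rw [hg, map_map, map_map]
          congr 1
      _ = _ := by rw [map_comap_eq_self_of_surjective hπ A]
  obtain ⟨T, A', hT, hNT, hTA, hA'n, hA', hA'c, hTc, hprod, hAc⟩ := exists_frame hNp A hA
  obtain ⟨S, B', hS, hNS, hSB, hB'n, hB', hB'c, hSc, hprod', hBc⟩ := exists_frame hNp B hB
  have hTS : Nat.card T = Nat.card S := by rw [hTc, hSc, hcard₁]
  have hA'B' : Nat.card A' = Nat.card B' := by
    refine Nat.eq_of_mul_eq_mul_right (Nat.card_pos (α := T)) ?_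
    rw [hprod, hcard₁, ← hprod', hTS]
  by_cases hTN : Nat.card T = Nat.card N
  · have h1 : N = T := eq_of_le_of_card_ge hNT hTN.le
    have h2 : N = S := eq_of_le_of_card_ge hNS (hTS ▸ hTN.le)
    obtain ⟨g, hg⟩ := hG A' B' hA' hB' hA'B'
    refine ⟨g, ?_⟩
    rw [← hTA, ← hSB, ← h1, ← h2, Subgroup.map_sup, ← hg]
    congr 1
    exact ((Coprime.conj_smul_eq_map g N).symm.trans
      (Coprime.conj_smul_eq_self_iff.mpr (le_normalizer_of_normal (mem_top g)))).symm
  rcases hgood with hidx | ⟨hN, huniq, hcyc⟩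
  · exfalso
    obtain ⟨k, hk⟩ := hT.exists_card_eq
    obtain ⟨m, hm⟩ := hNp.exists_card_eq
    have hdvd : p ^ k ∣ Nat.card N * N.index := by
      rw [N.card_mul_index, ← hk]; exact T.card_subgroup_dvd_card
    have h1 : p ^ k ∣ Nat.card N := (Nat.Coprime.pow_left k
      (hp.out.coprime_iff_not_dvd.mpr hidx)).dvd_of_dvd_mul_right hdvd
    exact hTN (le_antisymm (hk ▸ Nat.le_of_dvd Nat.card_pos h1) (card_le_of_le hNT))
  have hltT : N < T := lt_of_le_of_ne hNT fun h => hTN (h ▸ rfl)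
  have hltS : N < S := lt_of_le_of_ne hNS fun h => hTN (hTS.trans (h ▸ rfl))
  have hA'T := centralizes hN huniq hT hltT hA'n hA'c hAc
  have hB'S := centralizes hN huniq hS hltS hB'n hB'c hBc
  by_cases hcycs : IsCyclic T ∧ IsCyclic S
  · obtain ⟨h1, h2⟩ := hcycs
    have hTab : IsMulCommutative T := IsCyclic.commutative
    have hSab : IsMulCommutative S := IsCyclic.commutative
    refine hG _ _ ?_ ?_ hcard₁
    · rw [← hTA, sup_comm]; exact isMulCommutative_sup hA' hTab hA'T
    · rw [← hSB, sup_comm]; exact isMulCommutative_sup hB' hSab hB'S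
  -- both are Sylow subgroups
  obtain ⟨hT3, hTP⟩ : Nat.card T = p ^ 3 ∧ ∀ P : Sylow p G, Nat.card T = Nat.card P := by
    by_cases h1 : IsCyclic T
    · obtain ⟨h2, h3⟩ := hcyc S hS fun h2 => hcycs ⟨h1, h2⟩
      exact ⟨hTS.trans h2, fun P => hTS.trans (h3 P)⟩
    · exact hcyc T hT h1
  obtain ⟨g, hg⟩ := hG A' B' hA' hB' hA'B'
  set T₂ := T.map (MulAut.conj g).toMonoidHom with hT₂
  set C := centralizer (B' : Set G) with hC
  have hT₂C : T₂ ≤ C := by
    rintro _ ⟨t, ht, rfl⟩
    rw [hC, hg, mem_centralizer_iff]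
    rintro _ ⟨a, ha, rfl⟩
    rw [← map_mul, ← map_mul, (mem_centralizer_iff.mp (hA'T ha) t ht).symm]
  have hSC : S ≤ C := le_centralizer_iff.mp hB'S
  obtain ⟨P⟩ : Nonempty (Sylow p G) := inferInstance
  have hmax : ∀ X : Subgroup G, IsPGroup p X → X ≤ C → Nat.card X = Nat.card T →
      ∃ Q : Sylow p C, (Q : Subgroup C) = X.subgroupOf C := by
    intro X hX hXC hXc
    have hX' : IsPGroup p (X.subgroupOf C) := hX.comap_of_injective C.subtype C.subtype_injective
    obtain ⟨Q, hQ⟩ := hX'.exists_le_sylow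
    refine ⟨Q, le_antisymm ?_ hQ⟩
    obtain ⟨P', hP'⟩ := (Q.2.map C.subtype).exists_le_sylow
    refine (eq_of_le_of_card_ge hQ ?_).ge
    calc Nat.card (Q : Subgroup C) = Nat.card ((Q : Subgroup C).map C.subtype) :=
          (card_map_of_injective C.subtype_injective).symm
      _ ≤ Nat.card (P' : Subgroup G) := card_le_of_le hP'
      _ = Nat.card X := by rw [hXc]; exact (hTP P').symm
      _ = _ := (Nat.card_congr (subgroupOfEquivOfLe hXC).toEquiv).symm
  obtain ⟨Q₁, hQ₁⟩ := hmax T₂ (hT.map _) hT₂C (card_map_conj g T)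
  obtain ⟨Q₂, hQ₂⟩ := hmax S hS hSC hTS.symm
  obtain ⟨c, hc⟩ := MulAction.exists_smul_eq C Q₁ Q₂
  have hc' : S = T₂.map (MulAut.conj (c : G)).toMonoidHom := by
    have h1 := congrArg (fun X : Sylow p C => (X : Subgroup C).map C.subtype) hc
    simp only [Sylow.coe_subgroup_smul, hQ₁, hQ₂] at h1
    rw [map_subgroupOf_eq_of_le hSC] at h1
    rw [← h1, Coprime.conj_smul_eq_map, map_map]
    conv_rhs => rw [← map_subgroupOf_eq_of_le hT₂C, map_map]
    congr 1
  refine ⟨(c : G) * g, ?_⟩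
  rw [← hTA, ← hSB, Subgroup.map_sup]
  have e : ∀ X : Subgroup G, X.map (MulAut.conj ((c : G) * g)).toMonoidHom =
      (X.map (MulAut.conj g).toMonoidHom).map (MulAut.conj (c : G)).toMonoidHom := by
    intro X
    rw [map_map]; congr 1; ext x; simp [mul_assoc]
  rw [e, e, ← hT₂, ← hc', ← hg]
  congr 1
  exact ((Coprime.conj_smul_eq_map (c : G) B').symm.trans
    (Coprime.conj_smul_eq_self_iff.mpr (centralizer_le_normalizer _ c.2))).symm

theorem quaternion_facts {T : Type*} [Group T] {n : ℕ} (e : T ≃* QuaternionGroup (2 ^ n)) :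
    (∀ K : Subgroup T, (∀ x : T, orderOf x = 4 → x ∈ K) → K = ⊤) ∧
      ∃ a : T, orderOf a = 2 ^ (n + 1) ∧ ∀ x : T, 4 < orderOf x → x ∈ zpowers a := by
  haveI : NeZero (2 ^ n) := ⟨by positivity⟩
  have hxa : ∀ i, orderOf (e.symm (QuaternionGroup.xa i)) = 4 := fun i => by
    rw [MulEquiv.orderOf_eq e.symm, QuaternionGroup.orderOf_xa]
  refine ⟨fun K hK => ?_, e.symm (QuaternionGroup.a 1), ?_, fun x hx => ?_⟩
  · refine eq_top_iff.mpr fun x _ => ?_
    obtain ⟨i, hi⟩ | ⟨i, hi⟩ : (∃ i, e x = QuaternionGroup.a i) ∨ ∃ i, e x = QuaternionGroup.xa i := by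
      cases h : e x with
      | a i => exact Or.inl ⟨i, rfl⟩
      | xa i => exact Or.inr ⟨i, rfl⟩
    · have h1 : QuaternionGroup.a i =
          QuaternionGroup.xa (0 : ZMod (2 * 2 ^ n)) * QuaternionGroup.xa (i - ((2 ^ n : ℕ) : ZMod (2 * 2 ^ n))) := by
        rw [QuaternionGroup.xa_mul_xa]; congr 1; ring
      have h2 := K.mul_mem (hK _ (hxa 0)) (hK _ (hxa (i - ((2 ^ n : ℕ) : ZMod (2 * 2 ^ n)))))
      rwa [← map_mul, ← h1, ← hi, e.symm_apply_apply] at h2
    · have h2 := hK _ (hxa i)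
      rwa [← hi, e.symm_apply_apply] at h2
  · rw [MulEquiv.orderOf_eq e.symm, QuaternionGroup.orderOf_a_one, pow_succ, mul_comm]
  · cases h : e x with
    | a i =>
      refine ⟨(i.val : ℤ), ?_⟩
      show e.symm (QuaternionGroup.a 1) ^ (i.val : ℤ) = x
      rw [zpow_natCast, ← map_pow, QuaternionGroup.a_one_pow, ZMod.natCast_zmod_val, ← h, e.symm_apply_apply]
    | xa i =>
      exfalso
      have := hxa i
      rw [← h, e.symm_apply_apply] at this
      omega

theorem orderOf_four_of_two_pow [Finite G] {x : G} (hx : x ^ 2 ≠ 1) {k : ℕ} (hk : x ^ 2 ^ k = 1) :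
    ∃ j : ℕ, orderOf (x ^ j) = 4 := by
  obtain ⟨i, -, hi⟩ := (Nat.dvd_prime_pow Nat.prime_two).mp (orderOf_dvd_of_pow_eq_one hk)
  have hi2 : 2 ≤ i := by
    by_contra h
    exact hx (orderOf_dvd_iff_pow_eq_one.mp (hi ▸ (pow_dvd_pow 2 (by omega : i ≤ 1)).trans (by norm_num)))
  exact ⟨_, orderOf_pow_orderOf_div (orderOf_pos x).ne' (hi ▸ (pow_dvd_pow 2 hi2) : 2 ^ 2 ∣ orderOf x)⟩

/-- `G` has at most one involution in each `2`-subgroup. -/
def OneInvolution (G : Type*) [Group G] : Prop :=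
  ∀ S : Subgroup G, IsPGroup 2 S → ∀ x ∈ S, ∀ y ∈ S, x ^ 2 = 1 → y ^ 2 = 1 → x ≠ 1 → y ≠ 1 → x = y

theorem quaternion_of_oneInvolution [Finite G] (hu : OneInvolution G) {T : Subgroup G}
    (hT : IsPGroup 2 T) (hnc : ¬ IsCyclic T) :
    ∃ n : ℕ, 1 ≤ n ∧ Nonempty (T ≃* QuaternionGroup (2 ^ n)) ∧ Nat.card T = 2 ^ (n + 2) := by
  classical
  have h := PGroups.UniqueSubgroup.isCyclic_or_quaternion (p := 2) hT (fun H K hH hK => by
    have hgen : ∀ H : Subgroup T, Nat.card H = 2 → ∃ x : T, x ≠ 1 ∧ x ^ 2 = 1 ∧ H = zpowers x := by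
      intro H hH
      obtain ⟨⟨x, hx⟩, hxo⟩ := exists_prime_orderOf_dvd_card' (G := ↥H) 2 hH.symm.dvd
      rw [Subgroup.orderOf_mk] at hxo
      refine ⟨x, fun h => ?_, hxo ▸ pow_orderOf_eq_one x, (eq_of_le_of_card_ge (zpowers_le.mpr hx) (by rw [Nat.card_zpowers, hxo, hH])).symm⟩
      rw [h, orderOf_one] at hxo
      omega
    obtain ⟨x, hx1, hx, rfl⟩ := hgen H hH
    obtain ⟨y, hy1, hy, rfl⟩ := hgen K hK
    rw [Subtype.ext (hu T hT x x.2 y y.2 (congrArg Subtype.val hx) (congrArg Subtype.val hy)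
      (fun h => hx1 (Subtype.ext h)) (fun h => hy1 (Subtype.ext h)))])
  obtain ⟨-, n, ⟨e⟩⟩ := h.resolve_left hnc
  haveI : NeZero (2 ^ n) := ⟨by positivity⟩
  have hcard : Nat.card T = 2 ^ (n + 2) := by
    rw [Nat.card_congr e.toEquiv, Nat.card_eq_fintype_card, QuaternionGroup.card]; ring
  refine ⟨n, ?_, ⟨e⟩, hcard⟩
  by_contra h0
  obtain rfl : n = 0 := by omega
  refine hnc (isCyclic_of_orderOf_eq_card (e.symm (QuaternionGroup.xa 0)) ?_)
  rw [MulEquiv.orderOf_eq e.symm, QuaternionGroup.orderOf_xa, hcard]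
  norm_num

/-- The bound on noncyclic `2`-subgroups. -/
def Bound (G : Type*) [Group G] : Prop :=
  ∀ T : Subgroup G, IsPGroup 2 T → ¬ IsCyclic T →
    Nat.card T = 2 ^ 3 ∧ ∀ P : Sylow 2 G, Nat.card T = Nat.card P

theorem good_odd [Finite G] (hG : Hyp G) {r : ℕ} [hr : Fact r.Prime] (hr2 : r ≠ 2) (N : Subgroup G)
    [N.Normal] (hN : N ≠ ⊥) (hab : IsMulCommutative N) (hexp : ∀ x ∈ N, x ^ r = 1) :
    Hyp (G ⧸ N) := by
  refine hyp_quotient_of_good hG N (Solvable.Basics.isPGroup_of_forall_pow_eq_one hexp) ?_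
  rcases prime_or_sylow hG N hN hab hexp with ⟨hc, hu⟩ | h
  · refine Or.inr ⟨hc, hu, fun T hT hnc => absurd ?_ hr2⟩
    refine ((PGroups.UniqueSubgroup.isCyclic_or_quaternion hT fun H K hH hK => ?_).resolve_left hnc).1
    have hval : ∀ H : Subgroup T, Nat.card H = r → H.map T.subtype = N := by
      intro H hH
      refine eq_of_le_of_card_ge ?_ (by rw [card_map_of_injective T.subtype_injective, hH, hc])
      rintro _ ⟨x, hx, rfl⟩
      refine hu _ ?_
      have h1 : (⟨x, hx⟩ : H) ^ r = 1 := hH ▸ pow_card_eq_one'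
      exact congrArg (fun z : H => ((z : T) : G)) h1
    exact map_injective T.subtype_injective ((hval H hH).trans (hval K hK).symm)
  · exact Or.inl h

universe u

theorem bound_aux : ∀ (n : ℕ) {G : Type u} [Group G] [Finite G] [Group.IsSolvable G],
    Nat.card G ≤ n → Hyp G → OneInvolution G → Bound G := by
  intro n
  induction n with
  | zero => intro G _ _ _ h; exact absurd h (Nat.not_le.mpr Nat.card_pos)
  | succ n ih =>
  intro G _ _ _ hn hG hu T hT hnc
  classical
  by_cases hO : pPrimeCore 2 G ≠ ⊥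
  · haveI : (pPrimeCore 2 G).Normal := inferInstance
    obtain ⟨M, hMn, hMO, hM, hmin⟩ := Solvable.Basics.exists_minimal_normal hO
    haveI := hMn
    obtain ⟨hab, r, hr, hexp⟩ := Solvable.Basics.minimal_normal_solvable inferInstance hM hmin
    haveI := Fact.mk hr
    have hco : (Nat.card M).Coprime 2 :=
      (PLocal.Cores.coprime_card_pPrimeCore (p := 2) (G := G)).coprime_dvd_left (card_dvd_of_le hMO)
    have hr2 : r ≠ 2 := by
      rintro rfl
      obtain ⟨x, hx, hx1⟩ := M.bot_or_exists_ne_one.resolve_left hM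
      have h1 : orderOf x = 2 := orderOf_eq_prime (hexp x hx) hx1
      have h2 : 2 ∣ Nat.card M := h1 ▸ Subgroup.orderOf_dvd_natCard M hx
      exact Nat.prime_two.coprime_iff_not_dvd.mp hco.symm h2
    have hQ := good_odd hG hr2 M hM hab hexp
    set π := QuotientGroup.mk' M
    have hπ : Function.Surjective π := QuotientGroup.mk'_surjective M
    have hinj : ∀ S : Subgroup G, IsPGroup 2 S → Function.Injective (π.comp S.subtype) := by
      intro S hS
      rw [← MonoidHom.ker_eq_bot_iff, eq_bot_iff]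
      intro x hx
      obtain ⟨k, hk⟩ := hS x
      have h1 : orderOf x ∣ 2 ^ k := orderOf_dvd_of_pow_eq_one hk
      have h2 : orderOf x ∣ Nat.card M := by
        rw [← Subgroup.orderOf_coe]
        exact Subgroup.orderOf_dvd_natCard M ((QuotientGroup.eq_one_iff (x : G)).mp hx)
      exact mem_bot.mpr (orderOf_eq_one_iff.mp (Nat.eq_one_of_dvd_coprimes (hco.pow_right k) h2 h1))
    have hlift : ∀ S : Subgroup (G ⧸ M), IsPGroup 2 S → ∃ S' : Subgroup G, IsPGroup 2 S' ∧ S ≤ S'.map π := by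
      intro S hS
      obtain ⟨Pq, hPq⟩ := hS.exists_le_sylow
      obtain ⟨P, rfl⟩ := Sylow.mapSurjective_surjective hπ 2 Pq
      exact ⟨P, P.2, hPq⟩
    have hu' : OneInvolution (G ⧸ M) := by
      intro S hS x hx y hy hx2 hy2 hx1 hy1
      obtain ⟨S', hS', hle⟩ := hlift S hS
      obtain ⟨x', hx', rfl⟩ := hle hx
      obtain ⟨y', hy', rfl⟩ := hle hy
      have hsq : ∀ z : G, z ∈ S' → π z ^ 2 = 1 → z ^ 2 = 1 := fun z hz h =>
        congrArg Subtype.val ((map_eq_one_iff _ (hinj S' hS')).mp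
          (show (π.comp S'.subtype) (⟨z, hz⟩ ^ 2) = 1 by rw [map_pow]; exact h))
      rw [hu S' hS' x' hx' y' hy' (hsq x' hx' hx2) (hsq y' hy' hy2)
        (fun h => hx1 (by rw [h, map_one])) (fun h => hy1 (by rw [h, map_one]))]
    have hlt : Nat.card (G ⧸ M) ≤ n := by
      have h1 := M.index_mul_card
      have h2 : 1 < Nat.card M := by
        rcases Nat.lt_or_ge 1 (Nat.card M) with h | h
        · exact h
        · exact absurd (card_eq_one.mp (le_antisymm h Nat.card_pos)) hM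
      have h3 : 0 < M.index := Nat.pos_of_ne_zero index_ne_zero_of_finite
      rw [← index_eq_card]
      nlinarith
    have hTmap : Nat.card (T.map π) = Nat.card T := by
      rw [show T.map π = (π.comp T.subtype).range by rw [MonoidHom.range_comp, range_subtype]]
      exact Nat.card_congr (MonoidHom.ofInjective (hinj T hT)).toEquiv.symm
    have hnc' : ¬ IsCyclic (T.map π) := by
      intro hc
      haveI := hc
      refine hnc (isCyclic_of_injective (π.subgroupMap T) ?_)
      intro a b hab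
      exact hinj T hT (congrArg Subtype.val hab)
    obtain ⟨h3, hP⟩ := ih hlt hQ hu' (T.map π) (hT.map π) hnc'
    refine ⟨hTmap ▸ h3, fun P => ?_⟩
    rw [← hTmap, hP (P.mapSurjective hπ)]
    show Nat.card ((P : Subgroup G).map π) = _
    rw [show (P : Subgroup G).map π = (π.comp (P : Subgroup G).subtype).range by rw [MonoidHom.range_comp, range_subtype]]
    exact Nat.card_congr (MonoidHom.ofInjective (hinj P P.2)).toEquiv.symm
  rw [not_not] at hO
  set Q := pCore 2 G with hQd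
  have hQp : IsPGroup 2 Q := PLocal.Cores.isPGroup_pCore
  have hQn : Q.Normal := inferInstance
  have hCQ := Solvable.Fitting.centralizer_pCore_le 2 hO
  have hgen4 : ∀ S : Subgroup G, IsPGroup 2 S → ¬ IsCyclic S → ∀ K : Subgroup G,
      (∀ x : G, orderOf x = 4 → x ∈ K) → S ≤ K := by
    intro S hS hSnc K hK
    obtain ⟨m, -, ⟨e⟩, -⟩ := quaternion_of_oneInvolution hu hS hSnc
    have := (quaternion_facts e).1 (K.subgroupOf S) fun x hx => hK _ ((Subgroup.orderOf_coe x).trans hx)
    exact subgroupOf_eq_top.mp this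
  have hconj4 : ∀ x y : G, orderOf x = 4 → orderOf y = 4 → ∀ K : Subgroup G, K.Normal → y ∈ K → x ∈ K := by
    intro x y hx hy K hK hyK
    haveI := hK
    obtain ⟨g, hg⟩ := hG (zpowers x) (zpowers y) inferInstance inferInstance
      (by rw [Nat.card_zpowers, Nat.card_zpowers, hx, hy])
    exact conj_mem_of_zpowers hg hyK
  have hex : ∃ q ∈ Q, orderOf q = 4 := by
    by_contra hno
    push Not at hno
    have hsq : ∀ q ∈ Q, q ^ 2 = 1 := by
      intro q hq
      by_contra h
      obtain ⟨k, hk⟩ := hQp ⟨q, hq⟩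
      obtain ⟨j, hj⟩ := orderOf_four_of_two_pow h (congrArg Subtype.val hk)
      exact hno _ (Q.pow_mem hq j) hj
    have hcen : centralizer (Q : Set G) = ⊤ := by
      refine eq_top_iff.mpr fun g _ => mem_centralizer_iff.mpr fun q hq => ?_
      by_cases hq1 : q = 1
      · rw [hq1, mul_one, one_mul]
      have h1 := hu Q hQp q hq (g * q * g⁻¹) (hQn.conj_mem q hq g) (hsq q hq) (hsq _ (hQn.conj_mem q hq g))
        hq1 (by simpa using hq1)
      exact eq_mul_inv_iff_mul_eq.mp h1
    obtain ⟨m, -, ⟨e⟩, -⟩ := quaternion_of_oneInvolution hu hT hnc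
    haveI : NeZero (2 ^ m) := ⟨by positivity⟩
    have h4 : orderOf ((e.symm (QuaternionGroup.xa 0) : T) : G) = 4 := by
      rw [Subgroup.orderOf_coe, MulEquiv.orderOf_eq e.symm, QuaternionGroup.orderOf_xa]
    exact hno _ (hCQ (hcen ▸ mem_top _)) h4
  obtain ⟨q, hqQ, hq4⟩ := hex
  have h4Q : ∀ x : G, orderOf x = 4 → x ∈ Q := fun x hx => hconj4 x q hx hq4 Q hQn hqQ
  have hTQ : T ≤ Q := hgen4 T hT hnc Q h4Q
  have hQnc : ¬ IsCyclic Q := fun hc => hnc (@Subgroup.isCyclic_of_le _ _ _ _ hTQ hc)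
  obtain ⟨m, hm, ⟨e⟩, hcQ⟩ := quaternion_of_oneInvolution hu hQp hQnc
  have hm1 : m = 1 := by
    by_contra hne
    have hm2 : 2 ≤ m := by omega
    obtain ⟨a, hao, hamem⟩ := (quaternion_facts e).2
    have haG : orderOf (a : G) = 2 ^ (m + 1) := by rw [Subgroup.orderOf_coe, hao]
    set X := Subgroup.normalClosure ({(a : G)} : Set G) with hX
    have hbig : 4 < orderOf (a : G) := by
      rw [haG]
      calc 4 < 2 ^ 3 := by norm_num
        _ ≤ _ := Nat.pow_le_pow_right two_pos (by omega)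
    have hXle : X ≤ zpowers (a : G) := by
      rw [hX, Subgroup.normalClosure, closure_le]
      intro z hz
      obtain ⟨w, hw, hwz⟩ := Group.mem_conjugatesOfSet_iff.mp hz
      rw [Set.mem_singleton_iff] at hw
      obtain ⟨g, rfl⟩ := isConj_iff.mp (hw ▸ hwz)
      have hzQ : g * (a : G) * g⁻¹ ∈ Q := hQn.conj_mem _ a.2 g
      obtain ⟨i, hi⟩ := hamem ⟨_, hzQ⟩ (by
        rw [← Subgroup.orderOf_coe]
        show 4 < orderOf (g * (a : G) * g⁻¹)
        rw [show g * (a : G) * g⁻¹ = MulAut.conj g a from rfl, MulEquiv.orderOf_eq (MulAut.conj g)]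
        exact hbig)
      exact ⟨i, by simpa using congrArg Subtype.val hi⟩
    have h4 : orderOf ((a : G) ^ (2 ^ (m - 1))) = 4 := by
      rw [orderOf_pow' _ (by positivity), haG, Nat.gcd_eq_right (pow_dvd_pow 2 (by omega)), Nat.pow_div (by omega) two_pos,
        show m + 1 - (m - 1) = 2 by omega]
      norm_num
    have haX : (a : G) ^ (2 ^ (m - 1)) ∈ X := X.pow_mem (Subgroup.subset_normalClosure (Set.mem_singleton _)) _
    have hQa : Q ≤ zpowers (a : G) :=
      (hgen4 Q hQp hQnc X fun x hx => hconj4 x _ hx h4 X inferInstance haX).trans hXle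
    exact hQnc (@Subgroup.isCyclic_of_le _ _ _ _ hQa inferInstance)
  subst hm1
  obtain ⟨k, hk, -, hcT⟩ := quaternion_of_oneInvolution hu hT hnc
  have hT3 : Nat.card T = 2 ^ 3 := by
    refine le_antisymm ((card_le_of_le hTQ).trans_eq hcQ) ?_
    rw [hcT]; exact Nat.pow_le_pow_right two_pos (by omega)
  refine ⟨hT3, fun P => ?_⟩
  have hQP : Q ≤ (P : Subgroup G) := PLocal.Cores.pCore_le_sylow P
  have hPQ : (P : Subgroup G) ≤ Q := hgen4 P P.2 (fun hc => hQnc (@Subgroup.isCyclic_of_le _ _ _ _ hQP hc)) Q h4Q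
  rw [hT3, show (P : Subgroup G) = Q from le_antisymm hPQ hQP, hcQ]

theorem hyp_quotient_minimal [Finite G] [Group.IsSolvable G] (hG : Hyp G) (N : Subgroup G) [N.Normal]
    (hN : N ≠ ⊥) (hmin : ∀ M : Subgroup G, M.Normal → M ≤ N → M = ⊥ ∨ M = N) : Hyp (G ⧸ N) := by
  obtain ⟨hab, p, hp, hexp⟩ := Solvable.Basics.minimal_normal_solvable inferInstance hN hmin
  haveI := Fact.mk hp
  by_cases hp2 : p = 2
  · subst hp2
    refine hyp_quotient_of_good hG N (Solvable.Basics.isPGroup_of_forall_pow_eq_one hexp) ?_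
    rcases prime_or_sylow hG N hN hab hexp with ⟨hc, hu⟩ | h
    · refine Or.inr ⟨hc, hu, bound_aux _ le_rfl hG ?_⟩
      intro S _ x _ y _ hx hy hx1 hy1
      have h1 : zpowers x = N := eq_of_le_of_card_ge (zpowers_le.mpr (hu x hx))
        (by rw [hc, Nat.card_zpowers, orderOf_eq_prime hx hx1])
      have h2 : y ∈ zpowers x := h1 ▸ hu y hy
      obtain ⟨i, rfl⟩ := h2
      show x = x ^ i
      have h3 : x ^ i = x ^ (i % 2) := by
        rw [show (2 : ℤ) = ((orderOf x : ℕ) : ℤ) by rw [orderOf_eq_prime hx hx1]; rfl, zpow_mod_orderOf]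
      rcases Int.emod_two_eq_zero_or_one i with h | h
      · exact absurd (show x ^ i = 1 by rw [h3, h, zpow_zero]) hy1
      · rw [h3, h, zpow_one]
    · exact Or.inl h
  · exact good_odd hG hp2 N hN hab hexp

theorem hyp_congr {H : Type*} [Group H] (e : G ≃* H) (hG : Hyp G) : Hyp H := by
  intro A B hA hB hc
  have hab : ∀ C : Subgroup H, IsMulCommutative C → IsMulCommutative (C.map e.symm.toMonoidHom) := fun C hC =>
    isMulCommutative_of fun x hx y hy => by
      obtain ⟨a, ha, rfl⟩ := hx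
      obtain ⟨b, hb, rfl⟩ := hy
      rw [← map_mul, ← map_mul, mul_comm_of hC ha hb]
  have he : ∀ C : Subgroup H, (C.map e.symm.toMonoidHom).map e.toMonoidHom = C := fun C => by
    rw [map_map, show e.toMonoidHom.comp e.symm.toMonoidHom = MonoidHom.id H by ext; simp, map_id]
  obtain ⟨g, hg⟩ := hG _ _ (hab A hA) (hab B hB) (by
    rw [card_map_of_injective e.symm.injective, card_map_of_injective e.symm.injective, hc])
  refine ⟨e g, ?_⟩
  rw [← he B, hg, ← he A]
  simp only [map_map]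
  congr 1
  ext x; simp

theorem hyp_quotient_aux : ∀ (n : ℕ) {G : Type u} [Group G] [Finite G] [Group.IsSolvable G],
    Nat.card G ≤ n → Hyp G → ∀ (M : Subgroup G) [M.Normal], Hyp (G ⧸ M) := by
  intro n
  induction n with
  | zero => intro G _ _ _ h; exact absurd h (Nat.not_le.mpr Nat.card_pos)
  | succ n ih =>
  intro G _ _ _ hn hG M _
  by_cases hM : M = ⊥
  · subst hM
    exact hyp_congr (QuotientGroup.quotientBot (G := G)).symm hG
  obtain ⟨N, hNn, hNM, hN, hmin⟩ := Solvable.Basics.exists_minimal_normal hM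
  haveI := hNn
  have h1 := hyp_quotient_minimal hG N hN hmin
  haveI : (M.map (QuotientGroup.mk' N)).Normal :=
    Subgroup.Normal.map inferInstance _ (QuotientGroup.mk'_surjective N)
  refine hyp_congr (QuotientGroup.quotientQuotientEquivQuotient N M hNM) (ih ?_ h1 _)
  have h4 := N.index_mul_card
  have h2 : 1 < Nat.card N := by
    rcases Nat.lt_or_ge 1 (Nat.card N) with h | h
    · exact h
    · exact absurd (card_eq_one.mp (le_antisymm h Nat.card_pos)) hN
  have h3 : 0 < N.index := Nat.pos_of_ne_zero index_ne_zero_of_finite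
  rw [← index_eq_card]
  nlinarith

/-- In a solvable group the property passes to every quotient. -/
theorem hyp_quotient [Finite G] [Group.IsSolvable G] (hG : Hyp G) (M : Subgroup G) [M.Normal] :
    Hyp (G ⧸ M) :=
  hyp_quotient_aux _ le_rfl hG M

end Cfsg.Agent.GenA.AbelianConj
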