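import Mathlib

/-!
Polynomial maps from `ℕ` into a nilpotent group with respect to the lower central series (Lazard,
Leibman), and the consequence: in class less than `p` the elements of order dividing `p` are closed
under products.
-/

set_option autoImplicit false

namespace Cfsg.Agent.GenA.Lazard

open scoped commutatorElement

variable {G : Type*} [Group G]

/-- The filtration `G, G, γ₂, γ₃, …`. -/
def F (G : Type*) [Group G] (i : ℕ) : Subgroup G := (⊤ : Subgroup G).lowerCentralSeries (i - 1)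

theorem F_antitone : Antitone (F G) := fun _ _ h =>
  Subgroup.lowerCentralSeries_antitone _ (Nat.sub_le_sub_right h 1)

instance F_normal (i : ℕ) : (F G i).Normal := by unfold F; infer_instance

theorem F_zero : F G 0 = ⊤ := rfl

theorem lcs_commutator (i j : ℕ) :
    ⁅(⊤ : Subgroup G).lowerCentralSeries i, (⊤ : Subgroup G).lowerCentralSeries j⁆ ≤
      (⊤ : Subgroup G).lowerCentralSeries (i + j + 1) := by
  induction j generalizing i with
  | zero => rw [Subgroup.lowerCentralSeries_zero]; exact le_rfl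
  | succ j ih =>
    set N := (⊤ : Subgroup G).lowerCentralSeries (i + (j + 1) + 1) with hN
    suffices h : Subgroup.map (QuotientGroup.mk' N) ⁅(⊤ : Subgroup G).lowerCentralSeries i, (⊤ : Subgroup G).lowerCentralSeries (j + 1)⁆ = ⊥ by
      rwa [Subgroup.map_eq_bot_iff, QuotientGroup.ker_mk'] at h
    rw [Subgroup.map_commutator, Subgroup.map_lowerCentralSeries, Subgroup.map_lowerCentralSeries,
      Subgroup.map_top_of_surjective _ (QuotientGroup.mk'_surjective N)]
    set Q := (⊤ : Subgroup (G ⧸ N)).lowerCentralSeries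
    have hbot : ∀ a b, a + b = i + j + 1 → ⁅Q a, Q b⁆ ≤ Q (a + b + 1) → ⁅Q a, Q b⁆ = ⊥ := by
      intro a b hab h
      refine le_bot_iff.mp (h.trans (le_of_eq ?_))
      show (⊤ : Subgroup (G ⧸ N)).lowerCentralSeries (a + b + 1) = ⊥
      rw [← Subgroup.map_top_of_surjective _ (QuotientGroup.mk'_surjective N), ← Subgroup.map_lowerCentralSeries,
        Subgroup.map_eq_bot_iff, QuotientGroup.ker_mk', hN, show a + b + 1 = i + (j + 1) + 1 by omega]
    have hih : ∀ a, ⁅Q a, Q j⁆ ≤ Q (a + j + 1) := fun a => by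
      show ⁅(⊤ : Subgroup (G ⧸ N)).lowerCentralSeries a, (⊤ : Subgroup (G ⧸ N)).lowerCentralSeries j⁆ ≤
        (⊤ : Subgroup (G ⧸ N)).lowerCentralSeries (a + j + 1)
      rw [← Subgroup.map_top_of_surjective _ (QuotientGroup.mk'_surjective N), ← Subgroup.map_lowerCentralSeries,
        ← Subgroup.map_lowerCentralSeries, ← Subgroup.map_lowerCentralSeries, ← Subgroup.map_commutator]
      exact Subgroup.map_mono (ih a)
    show ⁅Q i, Q (j + 1)⁆ = ⊥
    rw [Subgroup.commutator_comm]
    show ⁅⁅Q j, (⊤ : Subgroup (G ⧸ N))⁆, Q i⁆ = ⊥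
    refine Subgroup.commutator_commutator_eq_bot_of_rotate ?_ ?_
    · rw [Subgroup.commutator_comm ⊤ (Q i)]
      exact hbot (i + 1) j (by omega) (hih (i + 1))
    · refine le_bot_iff.mp ((Subgroup.commutator_mono (hih i) le_rfl).trans (le_of_eq ?_))
      show Q (i + j + 1 + 1) = ⊥
      show (⊤ : Subgroup (G ⧸ N)).lowerCentralSeries (i + j + 1 + 1) = ⊥
      rw [← Subgroup.map_top_of_surjective _ (QuotientGroup.mk'_surjective N), ← Subgroup.map_lowerCentralSeries,
        Subgroup.map_eq_bot_iff, QuotientGroup.ker_mk', hN, show i + j + 1 + 1 = i + (j + 1) + 1 by omega]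

theorem F_commutator (a b : ℕ) : ⁅F G a, F G b⁆ ≤ F G (a + b) :=
  (lcs_commutator (a - 1) (b - 1)).trans
    (Subgroup.lowerCentralSeries_antitone _ (by omega))

/-- The right difference. -/
def D (f : ℕ → G) : ℕ → G := fun n => (f n)⁻¹ * f (n + 1)

/-- The left difference. -/
def L (f : ℕ → G) : ℕ → G := fun n => f (n + 1) * (f n)⁻¹

/-- `Pol k d f` : `f` is polynomial of degree below `k` at level `d`. -/
def Pol : ℕ → ℕ → (ℕ → G) → Prop
  | 0, _, f => ∀ n, f n = 1
  | k + 1, d, f => (∀ n, f n ∈ F G d) ∧ Pol k (d + 1) (D f) ∧ Pol k (d + 1) (L f)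

/-- Polynomial maps at level `d` for a group of class at most `c`. -/
def P (c d : ℕ) (f : ℕ → G) : Prop := Pol (c + 1 - d) d f

variable {c : ℕ}

theorem F_bot (hc : (⊤ : Subgroup G).lowerCentralSeries c = ⊥) {d : ℕ} (h : c + 1 ≤ d) : F G d = ⊥ :=
  le_bot_iff.mp ((Subgroup.lowerCentralSeries_antitone _ (by omega : c ≤ d - 1)).trans hc.le)

theorem Pol_one : ∀ k d, Pol k d (fun _ => (1 : G))
  | 0, _ => fun _ => rfl
  | k + 1, d => ⟨fun _ => one_mem _, by
      have h1 : D (fun _ : ℕ => (1 : G)) = fun _ => 1 := funext fun n => by simp [D]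
      have h2 : L (fun _ : ℕ => (1 : G)) = fun _ => 1 := funext fun n => by simp [L]
      rw [h1, h2]; exact ⟨Pol_one k _, Pol_one k _⟩⟩

theorem P_iff (hc : (⊤ : Subgroup G).lowerCentralSeries c = ⊥) (d : ℕ) (f : ℕ → G) :
    P c d f ↔ (∀ n, f n ∈ F G d) ∧ P c (d + 1) (D f) ∧ P c (d + 1) (L f) := by
  by_cases h : d ≤ c
  · unfold P
    rw [show c + 1 - d = (c + 1 - (d + 1)) + 1 by omega]
    rfl
  · unfold P
    rw [show c + 1 - d = 0 by omega, show c + 1 - (d + 1) = 0 by omega]
    constructor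
    · intro hf
      refine ⟨fun n => by rw [hf n]; exact one_mem _, fun n => ?_, fun n => ?_⟩ <;> simp [D, L, hf _]
    · intro hf n
      have := hf.1 n
      rwa [F_bot hc (by omega), Subgroup.mem_bot] at this

/-- Downward induction on the level. -/
theorem down {motive : ℕ → Prop} (c : ℕ) (top : ∀ d, c < d → motive d)
    (step : ∀ d, d ≤ c → (∀ e, d < e → motive e) → motive d) : ∀ d, motive d := by
  intro d
  induction hk : c + 1 - d using Nat.strong_induction_on generalizing d with
  | _ k ih =>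
    by_cases hd : d ≤ c
    · refine step d hd fun e he => ?_
      by_cases hec : e ≤ c
      · exact ih (c + 1 - e) (by omega) e rfl
      · exact top e (by omega)
    · exact top d (by omega)

theorem P_top (hc : (⊤ : Subgroup G).lowerCentralSeries c = ⊥) {d : ℕ} (h : c < d) (f : ℕ → G) :
    P c d f ↔ ∀ n, f n = 1 := by
  unfold P; rw [show c + 1 - d = 0 by omega]; rfl

theorem P_antitone (hc : (⊤ : Subgroup G).lowerCentralSeries c = ⊥) :
    ∀ d, ∀ f : ℕ → G, P c (d + 1) f → P c d f := by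
  refine down c (fun d hd f hf => ?_) fun d hd ih f hf => ?_
  · exact (P_top hc hd f).mpr ((P_top hc (by omega) f).mp hf)
  · obtain ⟨h1, h2, h3⟩ := (P_iff hc (d + 1) f).mp hf
    exact (P_iff hc d f).mpr ⟨fun n => F_antitone (Nat.le_succ d) (h1 n), ih _ (by omega) _ h2, ih _ (by omega) _ h3⟩

theorem P_le (hc : (⊤ : Subgroup G).lowerCentralSeries c = ⊥) {d e : ℕ} (h : d ≤ e) {f : ℕ → G}
    (hf : P c e f) : P c d f := by
  induction e, h using Nat.le_induction with
  | base => exact hf
  | succ e _ ih => exact ih (P_antitone hc e f hf)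

theorem P_inv (hc : (⊤ : Subgroup G).lowerCentralSeries c = ⊥) :
    ∀ d, ∀ f : ℕ → G, P c d f → P c d (fun n => (f n)⁻¹) := by
  refine down c (fun d hd f hf => ?_) fun d hd ih f hf => ?_
  · rw [P_top hc hd] at hf ⊢; intro n; simp [hf n]
  · obtain ⟨h1, h2, h3⟩ := (P_iff hc d f).mp hf
    refine (P_iff hc d _).mpr ⟨fun n => inv_mem (h1 n), ?_, ?_⟩
    · have : D (fun n => (f n)⁻¹) = fun n => (L f n)⁻¹ := funext fun n => by simp [D, L]
      rw [this]; exact ih _ (by omega) _ h3
    · have : L (fun n => (f n)⁻¹) = fun n => (D f n)⁻¹ := funext fun n => by simp [D, L]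
      rw [this]; exact ih _ (by omega) _ h2

theorem P_shift (hc : (⊤ : Subgroup G).lowerCentralSeries c = ⊥) :
    ∀ d, ∀ f : ℕ → G, P c d f → P c d (fun n => f (n + 1)) := by
  refine down c (fun d hd f hf => ?_) fun d hd ih f hf => ?_
  · rw [P_top hc hd] at hf ⊢; intro n; exact hf _
  · obtain ⟨h1, h2, h3⟩ := (P_iff hc d f).mp hf
    exact (P_iff hc d _).mpr ⟨fun n => h1 _, ih _ (by omega) _ h2, ih _ (by omega) _ h3⟩

theorem P_group (hc : (⊤ : Subgroup G).lowerCentralSeries c = ⊥) : ∀ e,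
    (∀ f g : ℕ → G, P c e f → P c e g → P c e (fun n => f n * g n)) ∧
    (∀ f u : ℕ → G, P c 0 f → P c e u → P c e (fun n => f n * u n * (f n)⁻¹)) ∧
    (∀ a b (f g : ℕ → G), a + b = e → P c a f → P c b g → P c e (fun n => ⁅f n, g n⁆)) := by
  refine down c (fun e he => ⟨fun f g hf hg => ?_, fun f u hf hu => ?_, fun a b f g hab hf hg => ?_⟩) fun e he ih => ?_
  · rw [P_top hc he] at hf hg ⊢; intro n; simp [hf n, hg n]
  · rw [P_top hc he] at hu ⊢; intro n; simp [hu n]
  · rw [P_top hc he]; intro n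
    have hv := F_commutator a b (Subgroup.commutator_mem_commutator (((P_iff hc a f).mp hf).1 n) (((P_iff hc b g).mp hg).1 n))
    rwa [hab, F_bot hc (by omega), Subgroup.mem_bot] at hv
  obtain ⟨ihA, ihC, ihB⟩ := ih (e + 1) (by omega)
  have hconj' : ∀ f u : ℕ → G, P c 0 f → P c (e + 1) u → P c (e + 1) (fun n => (f n)⁻¹ * u n * f n) := by
    intro f u hf hu
    have := ihC _ _ (P_inv hc 0 f hf) hu
    simpa using this
  refine ⟨fun f g hf hg => ?_, fun f u hf hu => ?_, fun a b f g hab hf hg => ?_⟩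
  · obtain ⟨f1, f2, f3⟩ := (P_iff hc e f).mp hf
    obtain ⟨g1, g2, g3⟩ := (P_iff hc e g).mp hg
    refine (P_iff hc e _).mpr ⟨fun n => mul_mem (f1 n) (g1 n), ?_, ?_⟩
    · have : D (fun n => f n * g n) = fun n => ((g n)⁻¹ * D f n * g n) * D g n := funext fun n => by
        simp only [D]; group
      rw [this]
      exact ihA _ _ (hconj' _ _ (P_le hc (Nat.zero_le e) hg) f2) g2
    · have : L (fun n => f n * g n) = fun n => L f n * (f n * L g n * (f n)⁻¹) := funext fun n => by
        simp only [L]; group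
      rw [this]
      exact ihA _ _ f3 (ihC _ _ (P_le hc (Nat.zero_le e) hf) g3)
  · obtain ⟨f1, f2, f3⟩ := (P_iff hc 0 f).mp hf
    obtain ⟨u1, u2, u3⟩ := (P_iff hc e u).mp hu
    have hF : P c 0 (D f) := P_le hc (Nat.zero_le 1) f2
    refine (P_iff hc e _).mpr ⟨fun n => (inferInstance : (F G e).Normal).conj_mem _ (u1 n) _, ?_, ?_⟩
    · have : D (fun n => f n * u n * (f n)⁻¹) =
          fun n => f n * (⁅(u n)⁻¹, D f n⁆ * (D f n * D u n * (D f n)⁻¹)) * (f n)⁻¹ := funext fun n => by
        simp only [D, commutatorElement_def]; group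
      rw [this]
      exact ihC _ _ hf (ihA _ _ (ihB e 1 _ _ rfl (P_inv hc e u hu) f2) (ihC _ _ hF u2))
    · have : L (fun n => f n * u n * (f n)⁻¹) =
          fun n => f n * (⁅D f n, u (n + 1)⁆ * L u n) * (f n)⁻¹ := funext fun n => by
        simp only [D, L, commutatorElement_def]; group
      rw [this]
      exact ihC _ _ hf (ihA _ _ (ihB 1 e _ _ (by omega) f2 (P_shift hc e u hu)) u3)
  · obtain ⟨f1, f2, f3⟩ := (P_iff hc a f).mp hf
    obtain ⟨g1, g2, g3⟩ := (P_iff hc b g).mp hg
    have hf0 := P_le hc (Nat.zero_le a) hf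
    have hg0 := P_le hc (Nat.zero_le b) hg
    have hu : P c (e + 1) (fun n => f n * ⁅D f n, g (n + 1)⁆ * (f n)⁻¹) :=
      ihC _ _ hf0 (ihB (a + 1) b _ _ (by omega) f2 (P_shift hc b g hg))
    have hv : P c (e + 1) (fun n => g n * ⁅f n, D g n⁆ * (g n)⁻¹) :=
      ihC _ _ hg0 (ihB a (b + 1) _ _ (by omega) hf g2)
    refine (P_iff hc e _).mpr ⟨fun n => hab ▸ F_commutator a b (Subgroup.commutator_mem_commutator (f1 n) (g1 n)), ?_, ?_⟩
    · have : D (fun n => ⁅f n, g n⁆) = fun n =>
          (g n * (f n * ((g n)⁻¹ * ((f n)⁻¹ * (f n * ⁅D f n, g (n + 1)⁆ * (f n)⁻¹) * f n) * g n) * (f n)⁻¹) * (g n)⁻¹) *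
            (g n * ⁅f n, D g n⁆ * (g n)⁻¹) := funext fun n => by
        simp only [D, commutatorElement_def]; group
      rw [this]
      exact ihA _ _ (ihC _ _ hg0 (ihC _ _ hf0 (hconj' _ _ hg0 (hconj' _ _ hf0 hu)))) hv
    · have : L (fun n => ⁅f n, g n⁆) = fun n => (f n * ⁅D f n, g (n + 1)⁆ * (f n)⁻¹) *
          (f n * (g n * ((f n)⁻¹ * ((g n)⁻¹ * (g n * ⁅f n, D g n⁆ * (g n)⁻¹) * g n) * f n) * (g n)⁻¹) * (f n)⁻¹) := funext fun n => by
        simp only [D, L, commutatorElement_def]; group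
      rw [this]
      exact ihA _ _ hu (ihC _ _ hf0 (ihC _ _ hg0 (hconj' _ _ hf0 (hconj' _ _ hg0 hv))))

theorem P_mul (hc : (⊤ : Subgroup G).lowerCentralSeries c = ⊥) {d : ℕ} {f g : ℕ → G}
    (hf : P c d f) (hg : P c d g) : P c d (fun n => f n * g n) :=
  (P_group hc d).1 f g hf hg

theorem P_const (hc : (⊤ : Subgroup G).lowerCentralSeries c = ⊥) {d : ℕ} {z : G} (hz : z ∈ F G d) :
    P c d (fun _ => z) := by
  refine (P_iff hc d _).mpr ⟨fun _ => hz, ?_, ?_⟩
  · have : D (fun _ : ℕ => z) = fun _ => 1 := funext fun n => by simp [D]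
    rw [this]; exact Pol_one _ _
  · have : L (fun _ : ℕ => z) = fun _ => 1 := funext fun n => by simp [L]
    rw [this]; exact Pol_one _ _

theorem P_choose (hc : (⊤ : Subgroup G).lowerCentralSeries c = ⊥) {z : G} : ∀ i d, z ∈ F G (d + i) →
    P c d (fun n => z ^ n.choose i)
  | 0, d, h => by simpa using P_const hc h
  | i + 1, d, h => by
    have hs : ∀ n, z ^ (n + 1).choose (i + 1) = z ^ n.choose i * z ^ n.choose (i + 1) := fun n => by
      rw [Nat.choose_succ_succ, pow_add]
    refine (P_iff hc d _).mpr ⟨fun n => pow_mem (F_antitone (Nat.le_add_right d _) h) _, ?_, ?_⟩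
    · have : D (fun n => z ^ n.choose (i + 1)) = fun n => z ^ n.choose i := funext fun n => by
        simp only [D, hs]
        rw [((Commute.refl z).pow_pow _ _).eq, inv_mul_cancel_left]
      rw [this]; exact P_choose hc i (d + 1) (by rwa [show d + 1 + i = d + (i + 1) by omega])
    · have : L (fun n => z ^ n.choose (i + 1)) = fun n => z ^ n.choose i := funext fun n => by
        simp only [L, hs]
        rw [mul_inv_cancel_right]
      rw [this]; exact P_choose hc i (d + 1) (by rwa [show d + 1 + i = d + (i + 1) by omega])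

/-- A polynomial map with initial values in `K ⊇ F (m+1)` has all values in `K`. -/
theorem vanish (hc : (⊤ : Subgroup G).lowerCentralSeries c = ⊥) (m : ℕ) : ∀ j d, d + j = m + 1 →
    ∀ f : ℕ → G, P c d f → (∀ n < j, f n ∈ F G (m + 1)) → ∀ n, f n ∈ F G (m + 1) := by
  intro j
  induction j with
  | zero => intro d hd f hf _ n; rw [show m + 1 = d by omega]; exact ((P_iff hc d f).mp hf).1 n
  | succ j ih =>
    intro d hd f hf h0
    have hD := ih (d + 1) (by omega) (D f) ((P_iff hc d f).mp hf).2.1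
      (fun n hn => mul_mem (inv_mem (h0 n (by omega))) (h0 (n + 1) (by omega)))
    intro n
    induction n with
    | zero => exact h0 0 (by omega)
    | succ n ihn => have := mul_mem ihn (hD n); simpa [D] using this

/-- A polynomial map trivial at `0` and `1` is trivial at `p`. -/
theorem eval_prime (hc : (⊤ : Subgroup G).lowerCentralSeries c = ⊥) {p : ℕ} (hp : p.Prime) (hcp : c < p)
    (hexp : ∀ z ∈ F G 2, z ^ p = 1) (k : ℕ) : ∀ m, 2 ≤ m → c + 1 ≤ m + k → ∀ f : ℕ → G, P c 0 f →
      (∀ n, f n ∈ F G m) → f 0 = 1 → f 1 = 1 → f p = 1 := by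
  induction k with
  | zero =>
    intro m _ hm f _ hv _ _
    have := hv p
    rwa [F_bot hc (by omega), Subgroup.mem_bot] at this
  | succ k ih =>
    intro m hm hmk f hf hv h0 h1
    by_cases hmc : c + 1 ≤ m
    · have := hv p
      rwa [F_bot hc hmc, Subgroup.mem_bot] at this
    have step : ∀ i, i ≤ m + 1 → ∃ g : ℕ → G, P c 0 g ∧ (∀ n, g n ∈ F G m) ∧ g 0 = 1 ∧ g 1 = 1 ∧ g p = f p ∧
        ∀ n < i, g n ∈ F G (m + 1) := by
      intro i
      induction i with
      | zero => exact fun _ => ⟨f, hf, hv, h0, h1, rfl, fun n hn => absurd hn (Nat.not_lt_zero n)⟩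
      | succ i ihi =>
        intro hi
        obtain ⟨g, hg, hgv, hg0, hg1, hgp, hgi⟩ := ihi (by omega)
        rcases Nat.lt_or_ge i 2 with h2 | h2
        · refine ⟨g, hg, hgv, hg0, hg1, hgp, fun n hn => ?_⟩
          interval_cases i <;> interval_cases n <;> simp_all [one_mem]
        · refine ⟨fun n => g n * ((g i) ^ n.choose i)⁻¹, P_mul hc hg (P_inv hc 0 _ (P_choose hc i 0 ?_)),
            fun n => mul_mem (hgv n) (inv_mem (pow_mem (hgv i) _)), ?_, ?_, ?_, fun n hn => ?_⟩
          · exact F_antitone (by omega) (hgv i)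
          · simp [hg0, Nat.choose_eq_zero_of_lt (show 0 < i by omega)]
          · simp [hg1, Nat.choose_eq_zero_of_lt (show 1 < i by omega)]
          · show g p * ((g i) ^ p.choose i)⁻¹ = f p
            obtain ⟨q, hq⟩ := hp.dvd_choose_self (by omega : i ≠ 0) (by omega)
            rw [hq, pow_mul, hexp _ (F_antitone hm (hgv i)), one_pow, inv_one, mul_one, hgp]
          · rcases Nat.lt_or_eq_of_le (Nat.lt_succ_iff.mp hn) with h | rfl
            · simp [Nat.choose_eq_zero_of_lt h, hgi n h]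
            · simp [one_mem]
    obtain ⟨g, hg, hgv, hg0, hg1, hgp, hgi⟩ := step (m + 1) le_rfl
    rw [← hgp]
    exact ih (m + 1) (by omega) (by omega) g hg (vanish hc m (m + 1) 0 (by omega) g hg hgi) hg0 hg1

/-- Class less than `p` and `γ₂` of exponent `p`: `p`-th powers are multiplicative. -/
theorem mul_pow_eq_one (hc : (⊤ : Subgroup G).lowerCentralSeries c = ⊥) {p : ℕ} (hp : p.Prime) (hcp : c < p)
    (hexp : ∀ z ∈ F G 2, z ^ p = 1) {x y : G} (hx : x ^ p = 1) (hy : y ^ p = 1) : (x * y) ^ p = 1 := by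
  set h : ℕ → G := fun n => (x ^ n)⁻¹ * (x * y) ^ n * (y ^ n)⁻¹ with hh
  have hP : ∀ z : G, P c 0 (fun n => z ^ n) := fun z => by
    have := P_choose hc (z := z) 1 0 (by rw [zero_add]; exact Subgroup.mem_top z)
    simpa using this
  have hpol : P c 0 h := P_mul hc (P_mul hc (P_inv hc 0 _ (hP x)) (hP (x * y))) (P_inv hc 0 _ (hP y))
  have hv : ∀ n, h n ∈ F G 2 := fun n => by
    show h n ∈ (⊤ : Subgroup G).lowerCentralSeries 1
    rw [Subgroup.top_lowerCentralSeries_one, ← QuotientGroup.eq_one_iff]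
    simp only [hh]
    change Abelianization.of ((x ^ n)⁻¹ * (x * y) ^ n * (y ^ n)⁻¹) = 1
    simp [mul_pow]
  have := eval_prime hc hp hcp hexp (c + 1) 2 le_rfl (by omega) h hpol hv (by simp [hh]) (by simp [hh])
  simpa [hh, hx, hy] using this

/-- In a `p`-group of class less than `p` the elements of order dividing `p` are closed under products. -/
theorem omega_mul_closed {p : ℕ} [hp : Fact p.Prime] : ∀ (n : ℕ) (G : Type*) [Group G] [Finite G], Nat.card G ≤ n →
    IsPGroup p G → (∃ c, c < p ∧ (⊤ : Subgroup G).lowerCentralSeries c = ⊥) →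
    ∀ x y : G, x ^ p = 1 → y ^ p = 1 → (x * y) ^ p = 1 := by
  intro n
  induction n with
  | zero => intro G _ _ h; exact absurd h (Nat.not_le.mpr Nat.card_pos)
  | succ n ih =>
    intro G _ _ hn hG hcl x y hx hy
    obtain ⟨c, hcp, hc⟩ := hcl
    have hsub : ∀ K : Subgroup G, K ≠ ⊤ → ∀ u ∈ K, ∀ v ∈ K, u ^ p = 1 → v ^ p = 1 → (u * v) ^ p = 1 := by
      intro K hK u hu v hv hu1 hv1
      have hlt : Nat.card K < Nat.card G :=
        lt_of_le_of_ne K.card_le_card_group fun h => hK (Subgroup.eq_top_of_card_eq K h)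
      have := ih K (by omega) (hG.to_subgroup K) ⟨c, hcp, le_bot_iff.mp (by
          rw [← Subgroup.map_le_map_iff_of_injective K.subtype_injective, Subgroup.map_bot,
            Subgroup.top_subtype_lowerCentralSeries]
          exact (Subgroup.lowerCentralSeries_mono c le_top).trans hc.le)⟩
        ⟨u, hu⟩ ⟨v, hv⟩ (Subtype.ext hu1) (Subtype.ext hv1)
      exact congrArg Subtype.val this
    by_cases hH : Subgroup.closure ({x, y} : Set G) = ⊤
    swap
    · exact hsub _ hH x (Subgroup.subset_closure (Or.inl rfl)) y (Subgroup.subset_closure (Or.inr rfl)) hx hy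
    by_cases hK : Subgroup.normalClosure ({x} : Set G) = ⊤
    · -- then `G` is generated by `x` modulo the Frattini subgroup
      haveI := hG.isNilpotent
      have htop : Subgroup.zpowers x = ⊤ := by
        by_contra hne
        obtain ⟨M, hM, hxM⟩ := (eq_top_or_exists_le_coatom (Subgroup.zpowers x)).resolve_left hne
        haveI := Subgroup.NormalizerCondition.normal_of_coatom M Group.normalizerCondition_of_isNilpotent hM
        apply hM.1
        rw [eq_top_iff, ← hK]
        exact Subgroup.normalClosure_le_normal (Set.singleton_subset_iff.mpr (hxM (Subgroup.mem_zpowers x)))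
      obtain ⟨i, rfl⟩ := Subgroup.mem_zpowers_iff.mp (htop ▸ Subgroup.mem_top y)
      rw [((Commute.refl x).zpow_right i).mul_pow, hx, hy, one_mul]
    set K := Subgroup.normalClosure ({x} : Set G)
    haveI : K.Normal := Subgroup.normalClosure_normal
    have hKexp : ∀ z ∈ K, z ^ p = 1 := by
      intro z hz
      refine (Subgroup.closure_induction (p := fun z hz => z ∈ K ∧ z ^ p = 1) ?_ ⟨one_mem K, one_pow p⟩ ?_ ?_ hz).2
      · intro u hu
        refine ⟨Subgroup.subset_closure hu, ?_⟩
        obtain ⟨v, hv, huv⟩ := Group.mem_conjugatesOfSet_iff.mp hu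
        rw [Set.mem_singleton_iff] at hv; subst hv
        obtain ⟨g, rfl⟩ := isConj_iff.mp huv
        rw [conj_pow, hx, mul_one, mul_inv_cancel]
      · intro u v _ _ hu hv
        exact ⟨mul_mem hu.1 hv.1, hsub K hK u hu.1 v hv.1 hu.2 hv.2⟩
      · intro u _ hu
        exact ⟨inv_mem hu.1, by rw [inv_pow, hu.2, inv_one]⟩
    have hxy : ∀ g : G, ∃ i : ℤ, g * (y ^ i)⁻¹ ∈ K := by
      intro g
      have hle : Subgroup.closure ({x, y} : Set G) ≤ (Subgroup.zpowers (QuotientGroup.mk' K y)).comap (QuotientGroup.mk' K) := by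
        rw [Subgroup.closure_le]
        rintro u (rfl | rfl)
        · show QuotientGroup.mk' K u ∈ Subgroup.zpowers (QuotientGroup.mk' K y)
          rw [show QuotientGroup.mk' K u = 1 from (QuotientGroup.eq_one_iff u).mpr (Subgroup.subset_normalClosure rfl)]
          exact one_mem _
        · exact Subgroup.mem_zpowers _
      obtain ⟨i, hi⟩ := Subgroup.mem_zpowers_iff.mp (hle (hH ▸ Subgroup.mem_top g))
      refine ⟨i, ?_⟩
      rw [← QuotientGroup.eq_one_iff]
      show QuotientGroup.mk' K (g * (y ^ i)⁻¹) = 1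
      rw [map_mul, map_inv, map_zpow, hi, mul_inv_cancel]
    refine mul_pow_eq_one hc hp.out hcp (fun z hz => hKexp z ?_) hx hy
    have hle : F G 2 ≤ K := by
      show (⊤ : Subgroup G).lowerCentralSeries 1 ≤ K
      rw [Subgroup.lowerCentralSeries_succ, Subgroup.lowerCentralSeries_zero, Subgroup.commutator_le]
      intro u _ v _
      obtain ⟨i, hi⟩ := hxy u
      obtain ⟨j, hj⟩ := hxy v
      rw [← QuotientGroup.eq_one_iff] at hi hj ⊢
      show QuotientGroup.mk' K ⁅u, v⁆ = 1
      have hu : QuotientGroup.mk' K u = QuotientGroup.mk' K y ^ i := by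
        rw [← map_zpow]; rw [QuotientGroup.mk_mul, QuotientGroup.mk_inv, mul_inv_eq_one] at hi; exact hi
      have hv : QuotientGroup.mk' K v = QuotientGroup.mk' K y ^ j := by
        rw [← map_zpow]; rw [QuotientGroup.mk_mul, QuotientGroup.mk_inv, mul_inv_eq_one] at hj; exact hj
      rw [map_commutatorElement, hu, hv, commutatorElement_eq_one_iff_mul_comm]
      exact ((Commute.refl _).zpow_zpow i j).eq
    exact hle hz

end Cfsg.Agent.GenA.Lazard
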