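import Mathlib
import Cfsg.Agent.GenA.Lazard

/-!
The Lie ring of the lower central series, truncated after a given degree.
-/

set_option autoImplicit false

namespace Cfsg.Agent.GenA.AssociatedLie

open scoped commutatorElement

variable {G : Type*} [Group G]

/-- The lower central series of the whole group. -/
abbrev γ (G : Type*) [Group G] (n : ℕ) : Subgroup G := (⊤ : Subgroup G).lowerCentralSeries n

theorem γ_comm {i j : ℕ} {x y : G} (hx : x ∈ γ G i) (hy : y ∈ γ G j) : ⁅x, y⁆ ∈ γ G (i + j + 1) :=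
  Lazard.lcs_commutator i j (Subgroup.commutator_mem_commutator hx hy)

theorem γ_le {i j : ℕ} (h : i ≤ j) : γ G j ≤ γ G i := Subgroup.lowerCentralSeries_antitone _ h

/-- The factor of degree `n`. -/
def Gr (G : Type*) [Group G] (n : ℕ) : Type _ := Additive (↥(γ G n) ⧸ (γ G (n + 1)).subgroupOf (γ G n))

instance (n : ℕ) : AddGroup (Gr G n) := inferInstanceAs (AddGroup (Additive _))

instance (n : ℕ) : AddCommGroup (Gr G n) :=
  { (inferInstance : AddGroup (Gr G n)) with
    add_comm := fun a b => by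
      obtain ⟨x, hx⟩ := QuotientGroup.mk'_surjective _ (Additive.toMul (a : Additive _))
      obtain ⟨y, hy⟩ := QuotientGroup.mk'_surjective _ (Additive.toMul (b : Additive _))
      show Additive.ofMul (Additive.toMul (a : Additive _) * Additive.toMul (b : Additive _)) =
        Additive.ofMul (Additive.toMul (b : Additive _) * Additive.toMul (a : Additive _))
      rw [← hx, ← hy, ← map_mul, ← map_mul]
      refine congrArg Additive.ofMul (QuotientGroup.eq.mpr ?_)
      show ((x : G) * y)⁻¹ * (y * x) ∈ γ G (n + 1)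
      rw [show ((x : G) * y)⁻¹ * (y * x) = ⁅(y : G)⁻¹, (x : G)⁻¹⁆ by rw [commutatorElement_def]; group]
      exact γ_le (by omega) (γ_comm (inv_mem y.2) (inv_mem x.2)) }

open Classical in
/-- The class of an element. -/
noncomputable def cls (n : ℕ) (x : G) : Gr G n :=
  if h : x ∈ γ G n then (Additive.ofMul (QuotientGroup.mk' ((γ G (n + 1)).subgroupOf (γ G n)) ⟨x, h⟩) : Additive _)
  else (0 : Gr G n)

theorem cls_of_mem {n : ℕ} {x : G} (h : x ∈ γ G n) :
    cls n x = (Additive.ofMul (QuotientGroup.mk' ((γ G (n + 1)).subgroupOf (γ G n)) ⟨x, h⟩) : Additive _) :=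
  dif_pos h

theorem cls_mul {n : ℕ} {x y : G} (hx : x ∈ γ G n) (hy : y ∈ γ G n) : cls n (x * y) = cls n x + cls n y := by
  rw [cls_of_mem (mul_mem hx hy), cls_of_mem hx, cls_of_mem hy]
  rfl

theorem cls_one (n : ℕ) : cls n (1 : G) = 0 := by
  rw [cls_of_mem (one_mem _)]
  exact congrArg Additive.ofMul (map_one _)

theorem cls_inv {n : ℕ} {x : G} (hx : x ∈ γ G n) : cls n x⁻¹ = -cls n x := by
  rw [eq_neg_iff_add_eq_zero, ← cls_mul (inv_mem hx) hx, inv_mul_cancel, cls_one]

theorem cls_eq_zero {n : ℕ} {x : G} (hx : x ∈ γ G (n + 1)) : cls n x = 0 := by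
  rw [cls_of_mem (γ_le (Nat.le_succ n) hx)]
  exact congrArg Additive.ofMul ((QuotientGroup.eq_one_iff _).mpr hx)

theorem mem_of_cls_eq_zero {n : ℕ} {x : G} (hx : x ∈ γ G n) (h : cls n x = 0) : x ∈ γ G (n + 1) := by
  rw [cls_of_mem hx] at h
  exact (QuotientGroup.eq_one_iff (⟨x, hx⟩ : γ G n)).mp (Additive.ofMul.injective h)

theorem cls_conj {n : ℕ} {x : G} (hx : x ∈ γ G n) (g : G) : cls n (g * x * g⁻¹) = cls n x := by
  have h1 : ⁅g, x⁆ ∈ γ G (n + 1) := γ_le (by omega) (γ_comm (i := 0) (Subgroup.mem_top g) hx)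
  rw [show g * x * g⁻¹ = ⁅g, x⁆ * x by rw [commutatorElement_def]; group, cls_mul (γ_le (Nat.le_succ n) h1) hx,
    cls_eq_zero h1, zero_add]

/-- A representative. -/
noncomputable def rep {n : ℕ} (a : Gr G n) : G :=
  ((Quotient.out (Additive.toMul (a : Additive _)) : ↥(γ G n)) : G)

theorem rep_mem {n : ℕ} (a : Gr G n) : rep a ∈ γ G n := SetLike.coe_mem _

theorem cls_rep {n : ℕ} (a : Gr G n) : cls n (rep a) = a := by
  rw [cls_of_mem (rep_mem a)]
  exact congrArg Additive.ofMul (QuotientGroup.out_eq' _)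

theorem exists_rep {n : ℕ} (a : Gr G n) : ∃ x ∈ γ G n, cls n x = a := ⟨rep a, rep_mem a, cls_rep a⟩

theorem comm_add_left {i j : ℕ} {x x' y : G} (hx : x ∈ γ G i) (hx' : x' ∈ γ G i) (hy : y ∈ γ G j) :
    cls (i + j + 1) ⁅x * x', y⁆ = cls (i + j + 1) ⁅x, y⁆ + cls (i + j + 1) ⁅x', y⁆ := by
  have h1 := γ_comm hx' hy
  have h2 := γ_comm hx hy
  rw [commutatorElement_mul_left_eq_conj_mul,
    cls_mul ((inferInstance : (γ G (i + j + 1)).Normal).conj_mem _ h1 x) h2, cls_conj h1]
  exact add_comm _ _

theorem comm_swap {n i j : ℕ} (hn : i + j + 1 = n) {x y : G} (hx : x ∈ γ G i) (hy : y ∈ γ G j) :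
    cls n ⁅y, x⁆ = -cls n ⁅x, y⁆ := by
  rw [← commutatorElement_inv, cls_inv (hn ▸ γ_comm hx hy)]

theorem comm_add_right {i j : ℕ} {x y y' : G} (hx : x ∈ γ G i) (hy : y ∈ γ G j) (hy' : y' ∈ γ G j) :
    cls (i + j + 1) ⁅x, y * y'⁆ = cls (i + j + 1) ⁅x, y⁆ + cls (i + j + 1) ⁅x, y'⁆ := by
  have hm : y * y' ∈ γ G j := mul_mem hy hy'
  rw [comm_swap (show j + i + 1 = i + j + 1 by omega) hm hx, comm_swap (show j + i + 1 = i + j + 1 by omega) hy hx,
    comm_swap (show j + i + 1 = i + j + 1 by omega) hy' hx,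
    show i + j + 1 = j + i + 1 by omega, comm_add_left hy hy' hx, neg_add]

theorem comm_congr {i j : ℕ} {x x' y y' : G} (hx : x ∈ γ G i) (hx' : x' ∈ γ G i) (hy : y ∈ γ G j) (hy' : y' ∈ γ G j)
    (h1 : cls i x = cls i x') (h2 : cls j y = cls j y') :
    cls (i + j + 1) ⁅x, y⁆ = cls (i + j + 1) ⁅x', y'⁆ := by
  have hz : x⁻¹ * x' ∈ γ G (i + 1) := mem_of_cls_eq_zero (mul_mem (inv_mem hx) hx') (by
    rw [cls_mul (inv_mem hx) hx', cls_inv hx, h1, neg_add_cancel])
  have hw : y⁻¹ * y' ∈ γ G (j + 1) := mem_of_cls_eq_zero (mul_mem (inv_mem hy) hy') (by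
    rw [cls_mul (inv_mem hy) hy', cls_inv hy, h2, neg_add_cancel])
  conv_rhs => rw [show x' = x * (x⁻¹ * x') by group, show y' = y * (y⁻¹ * y') by group]
  rw [comm_add_left hx (γ_le (Nat.le_succ i) hz) (mul_mem hy (γ_le (Nat.le_succ j) hw)),
    comm_add_right hx hy (γ_le (Nat.le_succ j) hw),
    cls_eq_zero (γ_le (by omega) (γ_comm hx hw) : ⁅x, y⁻¹ * y'⁆ ∈ γ G (i + j + 1 + 1)),
    cls_eq_zero (γ_le (by omega) (γ_comm hz (mul_mem hy (γ_le (Nat.le_succ j) hw))) :
      ⁅x⁻¹ * x', y * (y⁻¹ * y')⁆ ∈ γ G (i + j + 1 + 1)), add_zero, add_zero]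

/-- The bracket of two homogeneous elements in degree `n`. -/
noncomputable def B (i j n : ℕ) (a : Gr G i) (b : Gr G j) : Gr G n :=
  if i + j + 1 = n then cls n ⁅rep a, rep b⁆ else 0

theorem B_cls {i j n : ℕ} (h : i + j + 1 = n) {x y : G} (hx : x ∈ γ G i) (hy : y ∈ γ G j) :
    B i j n (cls i x) (cls j y) = cls n ⁅x, y⁆ := by
  subst h
  rw [B, if_pos rfl]
  exact comm_congr (rep_mem _) hx (rep_mem _) hy (cls_rep _) (cls_rep _)

theorem B_ne {i j n : ℕ} (h : i + j + 1 ≠ n) (a : Gr G i) (b : Gr G j) : B i j n a b = 0 := if_neg h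

theorem B_add_left (i j n : ℕ) (a a' : Gr G i) (b : Gr G j) : B i j n (a + a') b = B i j n a b + B i j n a' b := by
  by_cases h : i + j + 1 = n
  · obtain ⟨x, hx, rfl⟩ := exists_rep a
    obtain ⟨x', hx', rfl⟩ := exists_rep a'
    obtain ⟨y, hy, rfl⟩ := exists_rep b
    rw [← cls_mul hx hx', B_cls h (mul_mem hx hx') hy, B_cls h hx hy, B_cls h hx' hy]
    subst h
    exact comm_add_left hx hx' hy
  · rw [B_ne h, B_ne h, B_ne h, add_zero]

theorem B_swap (i j n : ℕ) (a : Gr G i) (b : Gr G j) : B j i n b a = -B i j n a b := by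
  by_cases h : i + j + 1 = n
  · obtain ⟨x, hx, rfl⟩ := exists_rep a
    obtain ⟨y, hy, rfl⟩ := exists_rep b
    rw [B_cls h hx hy, B_cls (show j + i + 1 = n by omega) hy hx, comm_swap h hx hy]
  · rw [B_ne h, B_ne (show j + i + 1 ≠ n by omega), neg_zero]

theorem B_zero_left (i j n : ℕ) (b : Gr G j) : B i j n 0 b = 0 := by
  have := B_add_left i j n 0 0 b
  rw [add_zero] at this
  exact left_eq_add.mp this

theorem B_zero_right (i j n : ℕ) (a : Gr G i) : B i j n a 0 = 0 := by
  rw [B_swap j i n 0 a, B_zero_left, neg_zero]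

theorem B_add_right (i j n : ℕ) (a : Gr G i) (b b' : Gr G j) : B i j n a (b + b') = B i j n a b + B i j n a b' := by
  rw [B_swap j i n (b + b') a, B_add_left, neg_add, ← B_swap j i n b a, ← B_swap j i n b' a]

theorem B_self (i n : ℕ) (a : Gr G i) : B i i n a a = 0 := by
  by_cases h : i + i + 1 = n
  · obtain ⟨x, hx, rfl⟩ := exists_rep a
    rw [B_cls h hx hx, commutatorElement_self, cls_one]
  · exact B_ne h _ _

/-- The truncated Lie ring. -/
def LRing (G : Type*) [Group G] (c : ℕ) : Type _ := ∀ i : Fin (c + 1), Gr G i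

variable {c : ℕ}

instance : AddCommGroup (LRing G c) := inferInstanceAs (AddCommGroup (∀ i : Fin (c + 1), Gr G i))

/-- A homogeneous element. -/
noncomputable def single (i : Fin (c + 1)) (a : Gr G i) : LRing G c :=
  (Pi.single i a : ∀ i : Fin (c + 1), Gr G i)

theorem single_self (i : Fin (c + 1)) (a : Gr G i) : single i a i = a := Pi.single_eq_same ..

theorem single_ne {i j : Fin (c + 1)} (h : j ≠ i) (a : Gr G i) : single i a j = 0 :=
  Pi.single_eq_of_ne (M := fun i : Fin (c + 1) => Gr G i) h a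

theorem single_add (i : Fin (c + 1)) (a b : Gr G i) : single i (a + b) = single i a + single i b := Pi.single_add ..

theorem single_zero (i : Fin (c + 1)) : single i (0 : Gr G i) = 0 := Pi.single_zero i

theorem add_apply (f g : LRing G c) (i : Fin (c + 1)) : (f + g) i = f i + g i := rfl

theorem zero_apply (i : Fin (c + 1)) : (0 : LRing G c) i = 0 := rfl

theorem induction {P : LRing G c → Prop} (h0 : P 0) (hadd : ∀ f g, P f → P g → P (f + g))
    (hs : ∀ i a, P (single i a)) (f : LRing G c) : P f := by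
  have e : f = ∑ i, single i (f i) := (Finset.univ_sum_single (f : ∀ i : Fin (c + 1), Gr G i)).symm
  rw [e]
  exact Finset.sum_induction _ P hadd h0 fun i _ => hs i _

/-- The bracket. -/
noncomputable def br (f g : LRing G c) : LRing G c := fun n => ∑ i : Fin (c + 1), ∑ j : Fin (c + 1), B i j n (f i) (g j)

theorem br_add_left (f f' g : LRing G c) : br (f + f') g = br f g + br f' g := funext fun n => by
  simp only [br, add_apply, B_add_left, Finset.sum_add_distrib]

theorem br_add_right (f g g' : LRing G c) : br f (g + g') = br f g + br f g' := funext fun n => by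
  simp only [br, add_apply, B_add_right, Finset.sum_add_distrib]

theorem br_zero_left (g : LRing G c) : br 0 g = 0 := funext fun n => by
  simp only [br, zero_apply, B_zero_left, Finset.sum_const_zero]

theorem br_zero_right (f : LRing G c) : br f 0 = 0 := funext fun n => by
  simp only [br, zero_apply, B_zero_right, Finset.sum_const_zero]

theorem br_single_left (i : Fin (c + 1)) (a : Gr G i) (g : LRing G c) (n : Fin (c + 1)) :
    br (single i a) g n = ∑ j : Fin (c + 1), B i j n a (g j) := by
  rw [br, Finset.sum_eq_single i]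
  · simp only [single_self]
  · intro k _ hk; simp only [single_ne hk, B_zero_left, Finset.sum_const_zero]
  · simp

theorem br_single (i j : Fin (c + 1)) (a : Gr G i) (b : Gr G j) (n : Fin (c + 1)) :
    br (single i a) (single j b) n = B i j n a b := by
  rw [br_single_left, Finset.sum_eq_single j]
  · simp only [single_self]
  · intro k _ hk; simp only [single_ne hk, B_zero_right]
  · simp

theorem br_skew (f g : LRing G c) : br g f = -br f g := funext fun n => by
  show br g f n = -(br f g n)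
  simp only [br]
  rw [Finset.sum_comm, ← Finset.sum_neg_distrib]
  refine Finset.sum_congr rfl fun i _ => ?_
  rw [← Finset.sum_neg_distrib]
  exact Finset.sum_congr rfl fun j _ => B_swap i j n _ _

theorem br_self (f : LRing G c) : br f f = 0 := by
  induction f using induction with
  | h0 => exact br_zero_left 0
  | hadd f g hf hg =>
    rw [br_add_left, br_add_right, br_add_right, hf, hg, br_skew f g]; abel
  | hs i a =>
    funext n
    rw [br_single, B_self]; rfl

theorem nested_single {i j k : Fin (c + 1)} {x y z : G} (hx : x ∈ γ G i) (hy : y ∈ γ G j) (hz : z ∈ γ G k)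
    (n : Fin (c + 1)) :
    br (single i (cls i x)) (br (single j (cls j y)) (single k (cls k z))) n =
      if (i : ℕ) + j + k + 2 = n then cls n ⁅x, ⁅y, z⁆⁆ else 0 := by
  rw [br_single_left]
  by_cases h : (i : ℕ) + j + k + 2 = n
  · rw [if_pos h, Finset.sum_eq_single (⟨(j : ℕ) + k + 1, by have := n.2; omega⟩ : Fin (c + 1))]
    · rw [br_single, B_cls (by simp) hy hz]
      exact B_cls (by show (i : ℕ) + (j + k + 1) + 1 = n; omega) hx (γ_comm hy hz)
    · intro m _ hm
      rw [br_single, B_ne (i := (j : ℕ)) (fun e => hm (Fin.ext e.symm)), B_zero_right]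
    · simp
  · rw [if_neg h]
    refine Finset.sum_eq_zero fun m _ => ?_
    rw [br_single]
    by_cases hm : (j : ℕ) + k + 1 = m
    · rw [B_ne (i := (i : ℕ))]; omega
    · rw [B_ne (i := (j : ℕ)) hm, B_zero_right]

theorem hall_witt {i j k n : ℕ} (hn : i + j + k + 2 = n) {x y z : G} (hx : x ∈ γ G i) (hy : y ∈ γ G j)
    (hz : z ∈ γ G k) : cls n ⁅x, ⁅y, z⁆⁆ + cls n ⁅y, ⁅z, x⁆⁆ + cls n ⁅z, ⁅x, y⁆⁆ = 0 := by
  have key : ∀ {a b d : ℕ} {u v w : G}, a + b + d + 2 = n → u ∈ γ G a → v ∈ γ G b → w ∈ γ G d →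
      ⁅⁅u, v⁆, v * w * v⁻¹⁆ ∈ γ G n ∧ cls n ⁅⁅u, v⁆, v * w * v⁻¹⁆ = -cls n ⁅w, ⁅u, v⁆⁆ := by
    intro a b d u v w habd hu hv hw
    have h1 := γ_comm hu hv
    have hw' : v * w * v⁻¹ ∈ γ G d := (inferInstance : (γ G d).Normal).conj_mem w hw v
    refine ⟨γ_le (by omega) (γ_comm h1 hw'), ?_⟩
    rw [← comm_swap (show d + (a + b + 1) + 1 = n by omega) hw h1]
    have e : (a + b + 1) + d + 1 = n := by omega
    subst e
    exact comm_congr h1 h1 hw' hw rfl (cls_conj hw v)
  obtain ⟨m1, e1⟩ := key hn hx hy hz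
  obtain ⟨m2, e2⟩ := key (show j + k + i + 2 = n by omega) hy hz hx
  obtain ⟨m3, e3⟩ := key (show k + i + j + 2 = n by omega) hz hx hy
  have hid : ⁅⁅x, y⁆, y * z * y⁻¹⁆ * ⁅⁅y, z⁆, z * x * z⁻¹⁆ * ⁅⁅z, x⁆, x * y * x⁻¹⁆ = 1 := by
    simp only [commutatorElement_def]; group
  have := congrArg (cls n) hid
  rw [cls_mul (mul_mem m1 m2) m3, cls_mul m1 m2, cls_one, e1, e2, e3] at this
  rw [← neg_eq_zero, ← this]
  abel

theorem jacobi (f g h : LRing G c) : br f (br g h) + br g (br h f) + br h (br f g) = 0 := by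
  induction f using induction with
  | h0 => simp [br_zero_left, br_zero_right]
  | hadd f f' hf hf' =>
    simp only [br_add_left, br_add_right]
    linear_combination (norm := abel) hf + hf'
  | hs i a =>
    induction g using induction with
    | h0 => simp [br_zero_left, br_zero_right]
    | hadd g g' hg hg' =>
      simp only [br_add_left, br_add_right]
      linear_combination (norm := abel) hg + hg'
    | hs j b =>
      induction h using induction with
      | h0 => simp [br_zero_left, br_zero_right]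
      | hadd h h' hh hh' =>
        simp only [br_add_left, br_add_right]
        linear_combination (norm := abel) hh + hh'
      | hs k d =>
        obtain ⟨x, hx, rfl⟩ := exists_rep a
        obtain ⟨y, hy, rfl⟩ := exists_rep b
        obtain ⟨z, hz, rfl⟩ := exists_rep d
        funext n
        rw [add_apply, add_apply, zero_apply, nested_single hx hy hz, nested_single hy hz hx, nested_single hz hx hy,
          show (j : ℕ) + k + i + 2 = i + j + k + 2 by omega, show (k : ℕ) + i + j + 2 = i + j + k + 2 by omega]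
        by_cases hh : (i : ℕ) + j + k + 2 = n
        · rw [if_pos hh, if_pos hh, if_pos hh, hall_witt hh hx hy hz]
        · rw [if_neg hh, if_neg hh, if_neg hh, add_zero, add_zero]

noncomputable instance : LieRing (LRing G c) where
  bracket := br
  add_lie := br_add_left
  lie_add := br_add_right
  lie_self := br_self
  leibniz_lie f g h := by
    show br f (br g h) = br (br f g) h + br g (br f h)
    have hn : br g (br h f) = -br g (br f h) := by
      rw [br_skew f h, eq_neg_iff_add_eq_zero, ← br_add_right, neg_add_cancel, br_zero_right]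
    have h1 := jacobi f g h
    rw [hn, br_skew (br f g) h] at h1
    rw [← sub_eq_zero, ← h1]; abel

theorem lie_def (f g : LRing G c) : ⁅f, g⁆ = br f g := rfl

/-- The action of an automorphism. -/
noncomputable def auto (α : MulAut G) : LRing G c →+ LRing G c where
  toFun f := fun i => cls i (α (rep (f i)))
  map_zero' := by
    funext i
    show cls i (α (rep ((0 : LRing G c) i))) = 0
    exact cls_eq_zero (mem_of_cls_eq_zero (rep_mem _) (cls_rep _) |> fun h => by
      have := Subgroup.mem_map_of_mem α.toMonoidHom h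
      rwa [Subgroup.map_lowerCentralSeries, Subgroup.map_top_of_surjective _ α.surjective] at this)
  map_add' f g := by
    funext i
    have hm : ∀ {x : G}, x ∈ γ G i → α x ∈ γ G i := fun {x} hx => by
      have := Subgroup.mem_map_of_mem α.toMonoidHom hx
      rwa [Subgroup.map_lowerCentralSeries, Subgroup.map_top_of_surjective _ α.surjective] at this
    show cls i (α (rep ((f + g) i))) = cls i (α (rep (f i))) + cls i (α (rep (g i)))
    rw [← cls_mul (hm (rep_mem _)) (hm (rep_mem _)), ← map_mul]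
    have h1 : (rep (f i) * rep (g i))⁻¹ * rep ((f + g) i) ∈ γ G (i + 1) :=
      mem_of_cls_eq_zero (mul_mem (inv_mem (mul_mem (rep_mem _) (rep_mem _))) (rep_mem _)) (by
        rw [cls_mul (inv_mem (mul_mem (rep_mem _) (rep_mem _))) (rep_mem _), cls_inv (mul_mem (rep_mem _) (rep_mem _)),
          cls_mul (rep_mem _) (rep_mem _), cls_rep, cls_rep, cls_rep, add_apply, neg_add_cancel])
    have h2 : α ((rep (f i) * rep (g i))⁻¹ * rep ((f + g) i)) ∈ γ G (i + 1) := by
      have := Subgroup.mem_map_of_mem α.toMonoidHom h1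
      rwa [Subgroup.map_lowerCentralSeries, Subgroup.map_top_of_surjective _ α.surjective] at this
    conv_lhs => rw [show rep ((f + g) i) = rep (f i) * rep (g i) * ((rep (f i) * rep (g i))⁻¹ * rep ((f + g) i)) by group]
    rw [map_mul, cls_mul (hm (mul_mem (rep_mem _) (rep_mem _))) (γ_le (Nat.le_succ _) h2), cls_eq_zero h2, add_zero]

theorem map_mem (α : MulAut G) {n : ℕ} {x : G} (hx : x ∈ γ G n) : α x ∈ γ G n := by
  have := Subgroup.mem_map_of_mem α.toMonoidHom hx
  rwa [Subgroup.map_lowerCentralSeries, Subgroup.map_top_of_surjective _ α.surjective] at this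

theorem cls_auto (α : MulAut G) {n : ℕ} {x y : G} (hx : x ∈ γ G n) (hy : y ∈ γ G n) (h : cls n x = cls n y) :
    cls n (α x) = cls n (α y) := by
  have h1 : x⁻¹ * y ∈ γ G (n + 1) := mem_of_cls_eq_zero (mul_mem (inv_mem hx) hy) (by
    rw [cls_mul (inv_mem hx) hy, cls_inv hx, h, neg_add_cancel])
  conv_rhs => rw [show y = x * (x⁻¹ * y) by group]
  rw [map_mul, cls_mul (map_mem α hx) (γ_le (Nat.le_succ n) (map_mem α h1)), cls_eq_zero (map_mem α h1), add_zero]

theorem auto_single (α : MulAut G) (i : Fin (c + 1)) {x : G} (hx : x ∈ γ G i) :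
    auto α (single i (cls i x)) = (single i (cls i (α x)) : LRing G c) := by
  funext j
  show cls j (α (rep (single i (cls i x) j))) = single i (cls i (α x)) j
  by_cases h : j = i
  · subst h
    rw [single_self, single_self]
    exact cls_auto α (rep_mem _) hx (cls_rep _)
  · rw [single_ne h, single_ne h, cls_auto α (rep_mem _) (one_mem _) (by rw [cls_rep, cls_one]), map_one, cls_one]

theorem auto_lie (α : MulAut G) (f g : LRing G c) : auto α ⁅f, g⁆ = ⁅auto α f, auto α g⁆ := by
  induction f using induction with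
  | h0 => simp
  | hadd f f' hf hf' => simp [add_lie, hf, hf']
  | hs i a =>
    induction g using induction with
    | h0 => simp
    | hadd g g' hg hg' => simp [lie_add, hg, hg']
    | hs j b =>
      obtain ⟨x, hx, rfl⟩ := exists_rep a
      obtain ⟨y, hy, rfl⟩ := exists_rep b
      rw [auto_single α i hx, auto_single α j hy]
      funext n
      show cls n (α (rep (⁅single i (cls i x), single j (cls j y)⁆ n))) = ⁅single i (cls i (α x)), single j (cls j (α y))⁆ n
      rw [lie_def, lie_def, br_single, br_single]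
      by_cases h : (i : ℕ) + j + 1 = n
      · rw [B_cls h hx hy, B_cls h (map_mem α hx) (map_mem α hy),
          cls_auto α (rep_mem _) (h ▸ γ_comm hx hy) (cls_rep _), map_commutatorElement]
      · rw [B_ne h, B_ne h, cls_auto α (rep_mem _) (one_mem _) (by rw [cls_rep, cls_one]), map_one, cls_one]

/-- A fixed point free automorphism has no fixed points on the factors. -/
theorem auto_fixed [Finite G] (α : MulAut G) (hfpf : ∀ g : G, α g = g → g = 1) (f : LRing G c) (hf : auto α f = f) :
    f = 0 := by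
  funext i
  rw [zero_apply, ← cls_rep (f i)]
  set x := rep (f i) with hx
  have hxm : x ∈ γ G i := rep_mem _
  have h1 : cls i (α x) = cls i x := by rw [hx, cls_rep]; exact congrFun hf i
  have h2 : x⁻¹ * α x ∈ γ G (i + 1) := mem_of_cls_eq_zero (mul_mem (inv_mem hxm) (map_mem α hxm)) (by
    rw [cls_mul (inv_mem hxm) (map_mem α hxm), cls_inv hxm, h1, neg_add_cancel])
  let ψ : γ G (i + 1) → γ G (i + 1) := fun z => ⟨(z : G)⁻¹ * α z, mul_mem (inv_mem z.2) (map_mem α z.2)⟩
  have hψ : Function.Injective ψ := fun z w e => by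
    have e' : (z : G)⁻¹ * α z = (w : G)⁻¹ * α w := congrArg Subtype.val e
    have h3 := hfpf ((z : G) * (w : G)⁻¹) (by
      rw [map_mul, map_inv, show α (z : G) = z * ((w : G)⁻¹ * α w) by rw [← e']; group]; group)
    exact Subtype.ext (mul_inv_eq_one.mp h3)
  obtain ⟨z, hz⟩ := (Finite.injective_iff_surjective.mp hψ) ⟨_, h2⟩
  have hz' : (z : G)⁻¹ * α z = x⁻¹ * α x := congrArg Subtype.val hz
  have h4 := hfpf (x * (z : G)⁻¹) (by
    rw [map_mul, map_inv, show α x = x * ((z : G)⁻¹ * α z) by rw [hz']; group]; group)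
  rw [mul_inv_eq_one.mp h4]
  exact cls_eq_zero z.2

end Cfsg.Agent.GenA.AssociatedLie
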