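import Mathlib

/-!
Lie algebras graded by `ℤ/pℤ` with trivial zero component (Kreknin, Kostrikin, Higman): the derived series
vanishes after `2^(p-1) - 1` steps and the lower central series after a number depending only on `p`.
-/

set_option autoImplicit false

namespace Cfsg.Agent.GenA.GradedLie

open Submodule

variable {K : Type*} [CommRing K] {A : Type*} [LieRing A] [LieAlgebra K A] {p : ℕ}

/-- A family of homogeneous parts. -/
abbrev Fam (p : ℕ) (K A : Type*) [CommRing K] [AddCommGroup A] [Module K A] := ZMod p → Submodule K A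

/-- The family spanned by the brackets of two families. -/
def br (F G : Fam p K A) : Fam p K A := fun j =>
  span K {z | ∃ a b, a + b = j ∧ ∃ x ∈ F a, ∃ y ∈ G b, z = ⁅x, y⁆}

theorem br_mem {F G : Fam p K A} {a b j : ZMod p} (h : a + b = j) {x y : A} (hx : x ∈ F a) (hy : y ∈ G b) :
    ⁅x, y⁆ ∈ br F G j := subset_span ⟨a, b, h, x, hx, y, hy, rfl⟩

theorem br_le {F G : Fam p K A} {j : ZMod p} {T : Submodule K A}
    (h : ∀ a b, a + b = j → ∀ x ∈ F a, ∀ y ∈ G b, ⁅x, y⁆ ∈ T) : br F G j ≤ T := by
  refine span_le.mpr ?_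
  rintro _ ⟨a, b, hab, x, hx, y, hy, rfl⟩
  exact h a b hab x hx y hy

theorem br_mono {F F' G G' : Fam p K A} (h : F ≤ F') (h' : G ≤ G') : br F G ≤ br F' G' := fun _ =>
  br_le fun _ _ hab _ hx _ hy => br_mem hab (h _ hx) (h' _ hy)

/-- A family closed under brackets. -/
def Closed (F : Fam p K A) : Prop := br F F ≤ F

theorem Closed.der {F : Fam p K A} (h : Closed F) : Closed (br F F) := br_mono h h

/-- The derived series of a family. -/
def der (F : Fam p K A) : Fam p K A := br F F

theorem der_mono {F G : Fam p K A} (h : F ≤ G) : der F ≤ der G := br_mono h h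

theorem iterate_closed {F : Fam p K A} (h : Closed F) : ∀ n, Closed (der^[n] F) ∧ der^[n] F ≤ F
  | 0 => ⟨h, le_rfl⟩
  | n + 1 => by
    rw [Function.iterate_succ_apply']
    exact ⟨(iterate_closed h n).1.der, le_trans (iterate_closed h n).1 (iterate_closed h n).2⟩

/-- Left-normed products of the components of index above `k`. -/
inductive Reach (F : Fam p K A) (k : ℕ) : ZMod p → A → Prop
  | gen {j : ZMod p} {x : A} : k < j.val → x ∈ F j → Reach F k j x
  | step {a b : ZMod p} {x y : A} : Reach F k a x → k < b.val → y ∈ F b → Reach F k (a + b) ⁅x, y⁆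

/-- Their span. -/
def gen (F : Fam p K A) (k : ℕ) : Fam p K A := fun j => span K {x | Reach F k j x}

/-- The products of length at least two. -/
def gen2 (F : Fam p K A) (k : ℕ) : Fam p K A := fun j =>
  span K {z | ∃ a b x y, a + b = j ∧ Reach F k a x ∧ k < b.val ∧ y ∈ F b ∧ z = ⁅x, y⁆}

theorem gen2_le (F : Fam p K A) (k : ℕ) : gen2 F k ≤ gen F k := fun j => by
  refine span_mono ?_
  rintro _ ⟨a, b, x, y, rfl, hx, hb, hy, rfl⟩
  exact hx.step hb hy

theorem reach_bracket {F : Fam p K A} {k : ℕ} {b : ZMod p} {y : A} (hy : Reach F k b y) :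
    ∀ {a : ZMod p} {x : A}, x ∈ gen F k a → ⁅x, y⁆ ∈ gen2 F k (a + b) := by
  induction hy with
  | @gen j y hj hy =>
    intro a x hx
    induction hx using span_induction with
    | mem x hx => exact subset_span ⟨a, j, x, y, rfl, hx, hj, hy, rfl⟩
    | zero => rw [zero_lie]; exact zero_mem _
    | add x z _ _ h1 h2 => rw [add_lie]; exact add_mem h1 h2
    | smul c x _ h => rw [smul_lie]; exact smul_mem _ c h
  | @step c e u g hu he hg ih =>
    intro a x hx
    have h1 : ⁅⁅x, u⁆, g⁆ ∈ gen2 F k (a + (c + e)) := by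
      have h := gen2_le F k (a + c) (ih hx)
      rw [← add_assoc]
      generalize ⁅x, u⁆ = w at h
      induction h using span_induction with
      | mem w hw => exact subset_span ⟨a + c, e, w, g, rfl, hw, he, hg, rfl⟩
      | zero => rw [zero_lie]; exact zero_mem _
      | add _ _ _ _ h1 h2 => rw [add_lie]; exact add_mem h1 h2
      | smul c' _ _ h => rw [smul_lie]; exact smul_mem _ c' h
    have h2 : ⁅⁅x, g⁆, u⁆ ∈ gen2 F k (a + (c + e)) := by
      have h : ⁅x, g⁆ ∈ gen F k (a + e) := by
        clear h1 ih
        induction hx using span_induction with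
        | mem x hx => exact subset_span (Reach.step hx he hg)
        | zero => rw [zero_lie]; exact zero_mem _
        | add _ _ _ _ h1 h2 => rw [add_lie]; exact add_mem h1 h2
        | smul c' _ _ h => rw [smul_lie]; exact smul_mem _ c' h
      rw [show a + (c + e) = a + e + c by abel]
      exact ih h
    have e1 : ⁅x, ⁅u, g⁆⁆ = ⁅⁅x, u⁆, g⁆ - ⁅⁅x, g⁆, u⁆ := by
      rw [leibniz_lie x u g, ← lie_skew u ⁅x, g⁆, sub_eq_add_neg]
    rw [e1]
    exact sub_mem h1 h2

theorem br_gen (F : Fam p K A) (k : ℕ) : br (gen F k) (gen F k) ≤ gen2 F k := fun j => by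
  refine br_le fun a b hab x hx y hy => ?_
  subst hab
  induction hy using span_induction with
  | mem y hy => exact reach_bracket hy hx
  | zero => rw [lie_zero]; exact zero_mem _
  | add _ _ _ _ h1 h2 => rw [lie_add]; exact add_mem h1 h2
  | smul c _ _ h => rw [lie_smul]; exact smul_mem _ c h

theorem reach_mem {F : Fam p K A} (hF : Closed F) {k : ℕ} {j : ZMod p} {x : A} (hx : Reach F k j x) : x ∈ F j := by
  induction hx with
  | gen _ h => exact h
  | step _ _ hy ih => exact hF _ (br_mem rfl ih hy)

/-- Kreknin's lemma. -/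
theorem kreknin [NeZero p] : ∀ (k : ℕ), k < p → ∀ (F H : Fam p K A), Closed F → F 0 = ⊥ → Closed H →
    (∀ j : ZMod p, k < j.val → F j ≤ H j) → der^[2 ^ k - 1] F ≤ H := by
  intro k
  induction k with
  | zero =>
    intro _ F H hF h0 hH hgen j
    simp only [pow_zero, Nat.sub_self, Function.iterate_zero, id_eq]
    by_cases hj : j = 0
    · rw [hj, h0]; exact bot_le
    · exact hgen j (Nat.pos_of_ne_zero fun h => hj ((ZMod.val_eq_zero j).mp h))
  | succ k ih =>
    intro hk F H hF h0 hH hgen
    set m := 2 ^ k - 1 with hm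
    have hgc : Closed (gen F k) := le_trans (br_gen F k) (gen2_le F k)
    have h1 : der^[m] F ≤ gen F k := ih (by omega) F (gen F k) hF h0 hgc fun j hj x hx =>
      subset_span (Reach.gen hj hx)
    set M := der^[m + 1] F with hM
    obtain ⟨hMc, hMF⟩ := iterate_closed hF (m + 1)
    have hMk : ∀ j : ZMod p, j.val = k + 1 → M j ≤ H j := by
      intro j hj
      have h2 : M j ≤ gen2 F k j := by
        rw [hM, Function.iterate_succ_apply']
        exact le_trans (der_mono h1 j) (br_gen F k j)
      refine h2.trans (span_le.mpr ?_)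
      rintro _ ⟨a, b, x, y, hab, hx, hb, hy, rfl⟩
      by_cases hbk : b.val = k + 1
      · have ha : a = 0 := by
          have : b = j := ZMod.val_injective p (hbk.trans hj.symm)
          rw [this] at hab
          exact add_eq_right.mp hab
        have hx0 := reach_mem hF hx
        rw [ha, h0, mem_bot] at hx0
        show ⁅x, y⁆ ∈ H j
        rw [hx0, zero_lie]; exact zero_mem _
      · have hb' : k + 1 < b.val := by omega
        have ha : k + 1 < a.val := by
          have h3 : (a + b).val = k + 1 := hab ▸ hj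
          rw [ZMod.val_add] at h3
          have := a.val_lt
          have := b.val_lt
          rcases Nat.lt_or_ge (a.val + b.val) p with h | h
          · rw [Nat.mod_eq_of_lt h] at h3; omega
          · rw [Nat.mod_eq_sub_mod h, Nat.mod_eq_of_lt (by omega)] at h3; omega
        exact hH _ (br_mem hab (hgen a ha (reach_mem hF hx)) (hgen b hb' hy))
    have hM0 : M 0 = ⊥ := le_bot_iff.mp ((hMF 0).trans h0.le)
    have h4 : der^[m] M ≤ H := ih (by omega) M H hMc hM0 hH fun j hj => by
      rcases Nat.lt_or_ge (k + 1) j.val with h | h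
      · exact (hMF j).trans (hgen j h)
      · exact hMk j (by omega)
    rw [hM, ← Function.iterate_add_apply] at h4
    have : 2 ^ (k + 1) - 1 = m + (m + 1) := by
      have := Nat.one_le_two_pow (n := k)
      rw [pow_succ]; omega
    rw [this]; exact h4

/-- The lower central series of a family. -/
def lc (L : Fam p K A) (n : ℕ) : Fam p K A := (fun F => br F L)^[n] L

theorem lc_succ (L : Fam p K A) (n : ℕ) : lc L (n + 1) = br (lc L n) L := Function.iterate_succ_apply' _ _ _

theorem lc_le {L : Fam p K A} (hL : Closed L) : ∀ n, lc L n ≤ L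
  | 0 => le_rfl
  | n + 1 => by rw [lc_succ]; exact le_trans (br_mono (lc_le hL n) le_rfl) hL

/-- An ideal family. -/
def IsIdeal (L F : Fam p K A) : Prop := F ≤ L ∧ br F L ≤ F

theorem IsIdeal.der {L F : Fam p K A} (h : IsIdeal L F) : IsIdeal L (der F) := by
  refine ⟨le_trans (le_trans (br_mono le_rfl h.1) h.2) h.1, fun j => br_le fun a b hab z hz w hw => ?_⟩
  subst hab
  induction hz using span_induction with
  | mem z hz =>
    obtain ⟨c, e, hce, x, hx, y, hy, rfl⟩ := hz
    subst hce
    have e1 : ⁅⁅x, y⁆, w⁆ = ⁅x, ⁅y, w⁆⁆ + ⁅⁅x, w⁆, y⁆ := by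
      rw [leibniz_lie x y w, ← lie_skew y ⁅x, w⁆]; abel
    rw [e1]
    refine add_mem (br_mem (by abel) hx (h.2 _ (br_mem rfl hy hw))) ?_
    exact br_mem (show c + b + e = c + e + b by abel) (h.2 _ (br_mem rfl hx hw)) hy
  | zero => rw [zero_lie]; exact zero_mem _
  | add _ _ _ _ h1 h2 => rw [add_lie]; exact add_mem h1 h2
  | smul c _ _ h => rw [smul_lie]; exact smul_mem _ c h

/-- The bracket of an element with a list, left normed. -/
def app (m : A) (l : List (ℕ × ZMod p × A)) : A := l.foldl (fun x y => ⁅x, y.2.2⁆) m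

theorem app_cons (m : A) (y : ℕ × ZMod p × A) (l : List (ℕ × ZMod p × A)) :
    app m (y :: l) = app ⁅m, y.2.2⁆ l := rfl

theorem app_sub (l : List (ℕ × ZMod p × A)) : ∀ m m' : A, app (m - m') l = app m l - app m' l := by
  induction l with
  | nil => intro m m'; rfl
  | cons y l ih => intro m m'; rw [app_cons, app_cons, app_cons, sub_lie, ih]

theorem app_zero (l : List (ℕ × ZMod p × A)) : app (0 : A) l = 0 := by
  have := app_sub l 0 0
  rwa [sub_zero, sub_self] at this

theorem app_smul (d : K) (l : List (ℕ × ZMod p × A)) : ∀ m : A, app (d • m) l = d • app m l := by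
  induction l with
  | nil => intro m; rfl
  | cons y l ih => intro m; rw [app_cons, app_cons, smul_lie, ih]

theorem app_append (m : A) (l l' : List (ℕ × ZMod p × A)) : app m (l ++ l') = app (app m l) l' :=
  List.foldl_append ..

/-- The grade of a list. -/
def grade (l : List (ℕ × ZMod p × A)) : ZMod p := (l.map fun y => y.2.1).sum

theorem app_mem {L F : Fam p K A} (hF : IsIdeal L F) : ∀ (l : List (ℕ × ZMod p × A)),
    (∀ y ∈ l, y.2.2 ∈ L y.2.1) → ∀ {g : ZMod p} {m : A}, m ∈ F g → app m l ∈ F (g + grade l) := by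
  intro l
  induction l with
  | nil => intro _ g m hm; simpa [app, grade] using hm
  | cons y l ih =>
    intro hl g m hm
    rw [app_cons, show g + grade (y :: l) = g + y.2.1 + grade l by simp [grade, add_assoc]]
    exact ih (fun z hz => hl z (List.mem_cons_of_mem _ hz)) (hF.2 _ (br_mem rfl hm (hl y (List.mem_cons_self ..))))

/-- Subset sums of a list of nonzero residues. -/
theorem subset_sums [hp : Fact p.Prime] {β : Type*} (f : β → ZMod p) :
    ∀ (l : List β), (∀ y ∈ l, f y ≠ 0) → ∃ s : Finset (ZMod p), min p (l.length + 1) ≤ s.card ∧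
      ∀ a ∈ s, ∃ l₁ l₂ : List β, (l₁ ++ l₂).Perm l ∧ (l₁.map f).sum = a := by
  classical
  intro l
  induction l with
  | nil =>
    intro _
    exact ⟨{0}, by simp, fun a ha => ⟨[], [], by simp, by simp [Finset.mem_singleton.mp ha]⟩⟩
  | cons y l ih =>
    intro hne
    obtain ⟨s, hs, hmem⟩ := ih fun z hz => hne z (List.mem_cons_of_mem _ hz)
    refine ⟨s ∪ s.image (· + f y), ?_, fun a ha => ?_⟩
    · by_cases hsub : s.image (· + f y) ⊆ s
      · have hcl : ∀ a ∈ s, a + f y ∈ s := fun a ha => hsub (Finset.mem_image_of_mem _ ha)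
        have hpos : 0 < s.card := lt_of_lt_of_le (lt_min hp.out.pos (Nat.succ_pos _)) hs
        obtain ⟨a₀, ha₀⟩ := Finset.card_pos.mp hpos
        have hall : ∀ n : ℕ, a₀ + (n : ZMod p) * f y ∈ s := by
          intro n
          induction n with
          | zero => simpa using ha₀
          | succ n ihn => rw [Nat.cast_succ, add_mul, one_mul, ← add_assoc]; exact hcl _ ihn
        have huniv : s = Finset.univ := Finset.eq_univ_of_forall fun b => by
          have hy0 : f y ≠ 0 := hne y (List.mem_cons_self ..)
          have := hall (((b - a₀) * (f y)⁻¹).val)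
          rwa [ZMod.natCast_zmod_val, mul_assoc, inv_mul_cancel₀ hy0, mul_one, add_sub_cancel] at this
        rw [huniv, Finset.union_eq_left.mpr (Finset.subset_univ _), Finset.card_univ, ZMod.card]
        exact min_le_left _ _
      · have hlt : s.card < (s ∪ s.image (· + f y)).card := by
          refine Finset.card_lt_card ⟨Finset.subset_union_left, fun h => hsub ?_⟩
          exact fun z hz => h (Finset.mem_union_right _ hz)
        simp only [List.length_cons]
        omega
    · rcases Finset.mem_union.mp ha with h | h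
      · obtain ⟨l₁, l₂, hl, hsum⟩ := hmem a h
        exact ⟨l₁, y :: l₂, List.perm_middle.trans (hl.cons y), hsum⟩
      · obtain ⟨b, hb, rfl⟩ := Finset.mem_image.mp h
        obtain ⟨l₁, l₂, hl, hsum⟩ := hmem b hb
        exact ⟨y :: l₁, l₂, hl.cons y, by simp [hsum, add_comm]⟩

/-- Higman's lemma: long products with an element of `M` fall into `[M, M]`. -/
theorem higman [hp : Fact p.Prime] {L M : Fam p K A} (hL : Closed L) (h0 : L 0 = ⊥) (hM : IsIdeal L M) {c : ℕ}
    (hc : lc L c ≤ M) : ∀ (k : ℕ) (l : List (ℕ × ZMod p × A)), l.length = k →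
      (∀ y ∈ l, y.2.2 ∈ lc L y.1 y.2.1) → (p - 2) * c + 1 ≤ (l.map fun y => y.1 + 1).sum →
      ∀ (g : ZMod p) (m : A), m ∈ M g → app m l ∈ der M (g + grade l) := by
  classical
  have hI : IsIdeal L (der M) := hM.der
  have hlcM : ∀ n, c ≤ n → lc L n ≤ M := by
    intro n hn
    induction n, hn using Nat.le_induction with
    | base => exact hc
    | succ n _ ih => rw [lc_succ]; exact le_trans (br_mono ih le_rfl) hM.2
  have hlc2 : ∀ j i a b, ∀ x ∈ lc L i a, ∀ y ∈ lc L j b, ⁅x, y⁆ ∈ lc L (i + j + 1) (a + b) := by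
    intro j
    induction j with
    | zero => intro i a b x hx y hy; rw [add_zero, lc_succ]; exact br_mem rfl hx hy
    | succ j ih =>
      intro i a b x hx y hy
      rw [lc_succ] at hy
      induction hy using span_induction with
      | mem y hy =>
        obtain ⟨u, v, huv, z, hz, w, hw, rfl⟩ := hy
        subst huv
        have e1 : ⁅x, ⁅z, w⁆⁆ = ⁅⁅x, z⁆, w⁆ - ⁅⁅x, w⁆, z⁆ := by
          rw [leibniz_lie x z w, ← lie_skew z ⁅x, w⁆, sub_eq_add_neg]
        rw [e1]
        refine sub_mem ?_ ?_
        · rw [show i + (j + 1) + 1 = i + j + 1 + 1 by omega, lc_succ]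
          exact br_mem (by abel) (ih i a u x hx z hz) hw
        · have h1 : ⁅x, w⁆ ∈ lc L (i + 1) (a + v) := by rw [lc_succ]; exact br_mem rfl hx hw
          rw [show i + (j + 1) + 1 = i + 1 + j + 1 by omega, show a + (u + v) = a + v + u by abel]
          exact ih (i + 1) (a + v) u _ h1 z hz
      | zero => rw [lie_zero]; exact zero_mem _
      | add _ _ _ _ h1 h2 => rw [lie_add]; exact add_mem h1 h2
      | smul c' _ _ h => rw [lie_smul]; exact smul_mem _ c' h
  intro k
  induction k using Nat.strong_induction_on with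
  | _ k ih =>
    intro l hlen hl hw
    -- permutation invariance modulo `[M, M]`
    have hperm : ∀ {l₁ l₂ : List (ℕ × ZMod p × A)}, l₁.Perm l₂ → ∀ (pre : List (ℕ × ZMod p × A)),
        (pre ++ l₁).Perm l → ∀ g m, m ∈ M g → app m (pre ++ l₁) - app m (pre ++ l₂) ∈ der M (g + grade l) := by
      intro l₁ l₂ h12
      induction h12 with
      | nil => intro pre _ g m _; rw [sub_self]; exact zero_mem _
      | @cons x s t hst ihp =>
        intro pre hpre g m hm
        have := ihp (pre ++ [x]) (by simpa using hpre) g m hm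
        simpa using this
      | @swap x y s =>
        intro pre hpre g m hm
        have e : app m (pre ++ y :: x :: s) - app m (pre ++ x :: y :: s) =
            app m (pre ++ (y.1 + x.1 + 1, y.2.1 + x.2.1, ⁅y.2.2, x.2.2⁆) :: s) := by
          simp only [app_append, app_cons, ← app_sub]
          congr 1
          rw [leibniz_lie (app m pre) y.2.2 x.2.2, ← lie_skew y.2.2 ⁅app m pre, x.2.2⁆, sub_eq_add_neg]
        rw [e]
        have hlen' := hpre.length_eq
        have hlm : ∀ z ∈ pre ++ y :: x :: s, z.2.2 ∈ lc L z.1 z.2.1 := fun z hz => hl z (hpre.mem_iff.mp hz)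
        have hgr : grade l = grade (pre ++ (y.1 + x.1 + 1, y.2.1 + x.2.1, ⁅y.2.2, x.2.2⁆) :: s) := by
          rw [grade, ← (hpre.map fun z => z.2.1).sum_eq]
          simp [grade, add_assoc]
        rw [hgr]
        refine ih (k - 1) (by simp at hlen'; omega) _ (by simp at hlen' ⊢; omega) ?_ ?_ g m hm
        · intro z hz
          rcases List.mem_append.mp hz with h | h
          · exact hlm z (List.mem_append_left _ h)
          rcases List.mem_cons.mp h with rfl | h
          · exact hlc2 x.1 y.1 y.2.1 x.2.1 _ (hlm y (by simp)) _ (hlm x (by simp))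
          · exact hlm z (by simp [h])
        · refine hw.trans (le_of_eq ?_)
          rw [← (hpre.map fun z => z.1 + 1).sum_eq]
          simp
          omega
      | @trans a b c' hab hbc ih1 ih2 =>
        intro pre hpre g m hm
        have := add_mem (ih1 pre hpre g m hm) (ih2 pre ((hab.symm.append_left pre).trans hpre) g m hm)
        simpa using this
    intro g m hm
    by_cases hg0 : g = 0
    · have := hM.1 g hm
      rw [hg0, h0, mem_bot] at this
      rw [this, app_zero]; exact zero_mem _
    by_cases hy0 : ∃ y ∈ l, y.2.1 = 0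
    · obtain ⟨y, hy, hy0⟩ := hy0
      obtain ⟨s, t, rfl⟩ := List.append_of_mem hy
      have h1 := lc_le hL _ _ (hl y hy)
      rw [hy0, h0, mem_bot] at h1
      rw [app_append, app_cons, h1, lie_zero, app_zero]; exact zero_mem _
    push_neg at hy0
    have hred : ∀ {l' : List (ℕ × ZMod p × A)}, l'.Perm l → app m l' ∈ der M (g + grade l) →
        app m l ∈ der M (g + grade l) := by
      intro l' hp' h
      have := sub_mem h (by simpa using hperm hp' [] (by simpa using hp') g m hm)
      simpa using this
    by_cases hbig : ∃ y ∈ l, c ≤ y.1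
    · obtain ⟨y, hy, hyc⟩ := hbig
      obtain ⟨s, t, rfl⟩ := List.append_of_mem hy
      refine hred (l' := y :: (s ++ t)) List.perm_middle.symm ?_
      rw [app_cons, show g + grade (s ++ y :: t) = g + y.2.1 + grade (s ++ t) by simp [grade]; abel]
      exact app_mem hI _ (fun z hz => lc_le hL _ _ (hl z (by
        rcases List.mem_append.mp hz with h | h <;> simp [h]))) (br_mem rfl hm (hlcM _ hyc _ (hl y hy)))
    push_neg at hbig
    have hk : p - 1 ≤ l.length := by
      by_contra hlt
      have h1 : (l.map fun y => y.1 + 1).sum ≤ l.length * c := by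
        have := List.sum_le_card_nsmul (l.map fun y => y.1 + 1) c (by
          intro z hz
          obtain ⟨y, hy, rfl⟩ := List.mem_map.mp hz
          exact hbig y hy)
        simpa using this
      have h2 : l.length * c ≤ (p - 2) * c := Nat.mul_le_mul_right c (by omega)
      omega
    obtain ⟨s, hs, hmem⟩ := subset_sums (fun y : ℕ × ZMod p × A => y.2.1) l hy0
    have hsu : s = Finset.univ := Finset.eq_univ_of_card _ (le_antisymm (Finset.card_le_univ _) (by
      rw [ZMod.card]; omega))
    obtain ⟨l₁, l₂, hl12, hsum⟩ := hmem (-g) (hsu ▸ Finset.mem_univ _)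
    refine hred hl12 ?_
    have h1 : app m l₁ ∈ M (g + grade l₁) := app_mem hM l₁ (fun y hy =>
      lc_le hL _ _ (hl y (hl12.mem_iff.mp (List.mem_append_left _ hy)))) hm
    rw [show g + grade l₁ = 0 by rw [grade, hsum, add_neg_cancel]] at h1
    have h2 := hM.1 _ h1
    rw [h0, mem_bot] at h2
    rw [app_append, h2, app_zero]; exact zero_mem _

/-- The bound for the lower central series. -/
theorem lc_eq_bot [hp : Fact p.Prime] {L : Fam p K A} (hL : Closed L) (h0 : L 0 = ⊥) :
    lc L (Finset.sum (Finset.range (2 ^ (p - 1) - 1)) fun i => (p - 1) ^ i) = ⊥ := by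
  have hkr : der^[2 ^ (p - 1) - 1] L = ⊥ := le_bot_iff.mp
    (kreknin (p - 1) (by have := hp.out.pos; omega) L ⊥ hL h0
      (fun j => br_le fun a b _ x hx y _ => by
        rw [show x = 0 from (mem_bot K).mp hx, zero_lie]; exact zero_mem _)
      fun j hj => absurd hj (by have := ZMod.val_lt j; omega))
  have key : ∀ i, IsIdeal L (der^[i] L) ∧
      lc L (Finset.sum (Finset.range i) fun i => (p - 1) ^ i) ≤ der^[i] L := by
    intro i
    induction i with
    | zero => exact ⟨⟨le_rfl, hL⟩, le_rfl⟩
    | succ i ih =>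
      obtain ⟨hid, hle⟩ := ih
      rw [Function.iterate_succ_apply']
      refine ⟨hid.der, ?_⟩
      set c := Finset.sum (Finset.range i) fun i => (p - 1) ^ i with hc
      have hsum : Finset.sum (Finset.range (i + 1)) (fun i => (p - 1) ^ i) = c + ((p - 2) * c + 1) := by
        rw [Finset.sum_range_succ', pow_zero]
        simp_rw [pow_succ, ← Finset.sum_mul]
        have := hp.out.two_le
        rw [← hc]
        obtain ⟨d, rfl⟩ : ∃ d, p = d + 2 := ⟨p - 2, by omega⟩
        simp only [Nat.add_sub_cancel, show d + 2 - 1 = d + 1 by omega]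
        ring
      rw [hsum]
      have hn : ∀ n j x, x ∈ lc L (c + n) j → ∀ (l : List (ℕ × ZMod p × A)),
          (∀ y ∈ l, y.2.2 ∈ lc L y.1 y.2.1) → (p - 2) * c + 1 ≤ n + (l.map fun y => y.1 + 1).sum →
          app x l ∈ der (der^[i] L) (j + grade l) := by
        intro n
        induction n with
        | zero =>
          intro j x hx l hl hw
          exact higman hL h0 hid hle l.length l rfl hl (by omega) j x (hle j hx)
        | succ n ihn =>
          intro j x hx l hl hw
          rw [← add_assoc, lc_succ] at hx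
          induction hx using span_induction with
          | mem x hx =>
            obtain ⟨a, b, hab, u, hu, v, hv, rfl⟩ := hx
            have := ihn a u hu ((0, b, v) :: l) (List.forall_mem_cons.mpr ⟨hv, hl⟩) (by simp at hw ⊢; omega)
            rw [app_cons] at this
            rwa [show j + grade l = a + grade ((0, b, v) :: l) by simp [grade, ← hab, add_assoc]]
          | zero => rw [app_zero]; exact zero_mem _
          | add u v _ _ h1 h2 =>
            have e : app (u + v) l = app u l + app v l := by
              have := app_sub l (u + v) v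
              rw [add_sub_cancel_right] at this
              rw [this, sub_add_cancel]
            rw [e]; exact add_mem h1 h2
          | smul d u _ h =>
            rw [app_smul]; exact smul_mem _ d h
      intro j x hx
      simpa [app, grade] using hn _ j x hx [] (by simp) (by simp)
  have h1 := (key (2 ^ (p - 1) - 1)).2
  rw [hkr] at h1
  exact le_bot_iff.mp h1

/-- With three classes the products of length three vanish. -/
theorem lc_two_eq_bot {L : Fam 3 K A} (hL : Closed L) (h0 : L 0 = ⊥) : lc L 2 = ⊥ := by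
  refine le_bot_iff.mp fun j => ?_
  rw [lc_succ]
  refine br_le fun a b _ x hx y hy => ?_
  rw [lc_succ] at hx
  induction hx using span_induction with
  | mem x hx =>
    obtain ⟨c, e, hce, u, hu, v, hv, rfl⟩ := hx
    subst hce
    have hz : ∀ i k (s t : A), s ∈ L i → t ∈ L k → i + k = 0 → ⁅s, t⁆ = 0 := fun i k s t hs ht hik =>
      (mem_bot K).mp (h0 ▸ hik ▸ hL _ (br_mem rfl hs ht))
    have hu0 : u ∈ L c := hu
    show ⁅⁅u, v⁆, y⁆ ∈ (⊥ : Submodule K A)
    rw [mem_bot]
    have e1 : ⁅⁅u, v⁆, y⁆ = ⁅u, ⁅v, y⁆⁆ + ⁅⁅u, y⁆, v⁆ := by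
      rw [leibniz_lie u v y, ← lie_skew v ⁅u, y⁆]; abel
    by_cases hc : c = 0
    · rw [hc, h0, mem_bot] at hu0; simp [hu0]
    by_cases he : e = 0
    · rw [he, h0, mem_bot] at hv; simp [hv]
    by_cases hb : b = 0
    · rw [hb, h0, mem_bot] at hy; simp [hy]
    rcases (show ∀ c e b : ZMod 3, c ≠ 0 → e ≠ 0 → b ≠ 0 → c + e = 0 ∨ c + e + b = 0 ∨ (e + b = 0 ∧ c + b = 0) by decide) c e b hc he hb with h | h | ⟨h1, h2⟩
    · rw [hz c e u v hu0 hv h, zero_lie]
    · exact hz (c + e) b _ y (hL _ (br_mem rfl hu0 hv)) hy h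
    · rw [e1, hz e b v y hv hy h1, hz c b u y hu0 hy h2, lie_zero, zero_lie, add_zero]
  | zero => rw [zero_lie]; exact zero_mem _
  | add _ _ _ _ h1 h2 => rw [add_lie]; exact add_mem h1 h2
  | smul c _ _ h => rw [smul_lie]; exact smul_mem _ c h

end Cfsg.Agent.GenA.GradedLie
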