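import Mathlib
import Cfsg.Agent.GenA.GradedLie
import Cfsg.Agent.GenA.AssociatedLie

/-!
A fixed-point-free automorphism of prime order gives a `ℤ/pℤ`-graded Lie algebra without zero component
(eigenspaces on the Lie ring of the lower central series after extending the scalars).
-/

set_option autoImplicit false

namespace Cfsg.Agent.GenA.FPFClassBound

open GradedLie AssociatedLie
open scoped TensorProduct commutatorElement

set_option maxHeartbeats 1000000

universe u

/-- Eigenspaces of an automorphism of order dividing `p` with zero trace map. -/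
theorem eigen_decomposition {K : Type*} [Field K] {A : Type*} [LieRing A] [LieAlgebra K A] {p : ℕ} [hp : Fact p.Prime]
    [NeZero (p : K)] {ω : K} (hω : IsPrimitiveRoot ω p) (T : Module.End K A) (hTlie : ∀ u v, T ⁅u, v⁆ = ⁅T u, T v⁆)
    (hTp : ∀ u, (T ^ p) u = u) (hsum0 : ∀ u, ∑ i ∈ Finset.range p, (T ^ i) u = 0) :
    ∃ L : Fam p K A, Closed L ∧ L 0 = ⊥ ∧ ∀ u, u ∈ ⨆ j, L j := by
  let L : Fam p K A := fun j => LinearMap.ker (T - (ω ^ j.val) • (1 : Module.End K A))
  have hmemL : ∀ j u, u ∈ L j ↔ T u = ω ^ j.val • u := fun j u => by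
    simp only [L, LinearMap.mem_ker, LinearMap.sub_apply, LinearMap.smul_apply, Module.End.one_apply, sub_eq_zero]
  have hclosed : Closed L := fun j => br_le fun a b hab x hx y hy => by
    rw [hmemL] at hx hy ⊢
    rw [hTlie, hx, hy, smul_lie, lie_smul, smul_smul, ← pow_add, ← hab, ZMod.val_add,
      ← pow_eq_pow_mod _ hω.pow_eq_one]
  have hL0 : L 0 = ⊥ := by
    refine le_bot_iff.mp fun u hu => ?_
    rw [hmemL, ZMod.val_zero, pow_zero, one_smul] at hu
    have h1 : ∀ i : ℕ, (T ^ i) u = u := by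
      intro i
      induction i with
      | zero => rfl
      | succ i ih => rw [pow_succ, Module.End.mul_apply, hu, ih]
    have h2 := hsum0 u
    simp only [h1, Finset.sum_const, Finset.card_range, ← Nat.cast_smul_eq_nsmul K] at h2
    exact (Submodule.mem_bot K).mpr ((smul_eq_zero.mp h2).resolve_left (NeZero.ne _))
  have htop : ∀ u : A, u ∈ ⨆ j, L j := by
    intro u
    set ζ := ω⁻¹ with hζ
    have hζp : IsPrimitiveRoot ζ p := hω.inv
    let e : ℕ → A := fun j => ∑ i ∈ Finset.range p, ζ ^ (j * i) • (T ^ i) u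
    have he : ∀ j : ℕ, e j ∈ L (j : ZMod p) := by
      intro j
      rw [hmemL, map_sum, Finset.smul_sum]
      have hval : ω ^ (j : ZMod p).val = ω ^ j := by
        rw [ZMod.val_natCast, hω.eq_orderOf, pow_mod_orderOf]
      rw [hval]
      set F : ℕ → A := fun i => ω ^ j • ζ ^ (j * i) • (T ^ i) u with hF
      have hshift : ∀ i, T (ζ ^ (j * i) • (T ^ i) u) = F (i + 1) := fun i => by
        simp only [hF]
        rw [map_smul, ← Module.End.mul_apply, ← pow_succ', smul_smul, Nat.mul_succ, pow_add ζ, hζ, inv_pow ω j,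
          mul_left_comm, mul_inv_cancel₀ (pow_ne_zero _ (hω.ne_zero hp.out.ne_zero)), mul_one]
      rw [Finset.sum_congr rfl fun i _ => hshift i]
      apply add_right_cancel (b := F 0)
      rw [← Finset.sum_range_succ' F p, Finset.sum_range_succ]
      congr 1
      have hjp : ζ ^ (j * p) = 1 := by rw [mul_comm, pow_mul, hζp.pow_eq_one, one_pow]
      simp only [hF, Nat.mul_zero, pow_zero, hjp, hTp, Module.End.one_apply]
    have hsum : ∑ j ∈ Finset.range p, e j = (p : K) • u := by
      simp only [e]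
      rw [Finset.sum_comm, Finset.sum_eq_single 0]
      · simp [Nat.cast_smul_eq_nsmul K]
      · intro i hi hi0
        rw [← Finset.sum_smul]
        simp only [mul_comm _ i, pow_mul]
        rw [(hζp.pow_of_coprime i ((hp.out.coprime_iff_not_dvd.mpr fun hd =>
          hi0 (Nat.eq_zero_of_dvd_of_lt hd (Finset.mem_range.mp hi))).symm)).geom_sum_eq_zero hp.out.one_lt, zero_smul]
      · intro h0; exact absurd (Finset.mem_range.mpr hp.out.pos) h0
    rw [show u = (p : K)⁻¹ • ∑ j ∈ Finset.range p, e j by rw [hsum, inv_smul_smul₀ (NeZero.ne _)]]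
    exact Submodule.smul_mem _ _ (Submodule.sum_mem _ fun j _ => Submodule.mem_iSup_of_mem _ (he j))
  exact ⟨L, hclosed, hL0, htop⟩

variable {G : Type u} [Group G] [Finite G] {p : ℕ} [hp : Fact p.Prime] (α : MulAut G)

omit [Finite G] hp in
theorem auto_iterate_period {S : ℕ} (hα : α ^ p = 1) (f : LRing G S) : (auto α)^[p] f = f := by
  have key : ∀ (i : ℕ) (j : Fin (S + 1)) (x : G), x ∈ γ G j →
      (auto α)^[i] (single j (cls j x) : LRing G S) = single j (cls j ((α ^ i) x)) := by
    intro i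
    induction i with
    | zero => intro j x _; rfl
    | succ i ih =>
      intro j x hx
      rw [Function.iterate_succ_apply', ih j x hx, auto_single α j (map_mem _ hx), pow_succ', MulAut.mul_apply]
  have hlin : ∀ (i : ℕ) (f g : LRing G S), (auto α)^[i] (f + g) = (auto α)^[i] f + (auto α)^[i] g :=
    fun i => iterate_map_add (auto α) i
  induction f using induction with
  | h0 => exact iterate_map_zero (auto α) p
  | hadd f g hf hg => rw [hlin, hf, hg]
  | hs j a =>
    obtain ⟨x, hx, rfl⟩ := exists_rep a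
    rw [key p j x hx, hα]; rfl

/-- An additive map onto `ℤ/qℤ` that is not zero. -/
theorem exists_functional {M : Type*} [AddCommGroup M] [Finite M] (q : ℕ) [Fact q.Prime] (hq : q ∣ Nat.card M) :
    ∃ (φ : M →+ ZMod q) (a : M), φ a ≠ 0 := by
  set B : AddSubgroup M := (nsmulAddMonoidHom q).range with hBd
  letI : Module (ZMod q) (M ⧸ B) := AddCommGroup.zmodModule fun v => by
    obtain ⟨a, rfl⟩ := QuotientAddGroup.mk'_surjective B v
    rw [← map_nsmul]
    exact (QuotientAddGroup.eq_zero_iff _).mpr ⟨a, rfl⟩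
  have hB : B ≠ ⊤ := fun h => by
    have hsurj : Function.Surjective (nsmulAddMonoidHom q : M →+ M) := AddMonoidHom.range_eq_top.mp h
    obtain ⟨a, ha⟩ := exists_prime_addOrderOf_dvd_card' q hq
    have h0 : q • a = 0 := ha ▸ addOrderOf_nsmul_eq_zero a
    have : a = 0 := (Finite.injective_iff_surjective.mpr hsurj) (show q • a = q • (0 : M) by rw [h0, nsmul_zero])
    rw [this, addOrderOf_zero] at ha
    exact (Fact.out : q.Prime).ne_one ha.symm
  obtain ⟨a, ha⟩ : ∃ a, a ∉ B := by
    by_contra hcon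
    push_neg at hcon
    exact hB (eq_top_iff.mpr fun a _ => hcon a)
  have hne0 : (QuotientAddGroup.mk' B a : M ⧸ B) ≠ 0 := fun h => ha ((QuotientAddGroup.eq_zero_iff _).mp h)
  obtain ⟨f, hf⟩ : ∃ f : Module.Dual (ZMod q) (M ⧸ B), f.toAddMonoidHom (QuotientAddGroup.mk' B a) ≠ 0 := by
    by_contra hcon
    push_neg at hcon
    exact hne0 ((Module.forall_dual_apply_eq_zero_iff (ZMod q) _).mp hcon)
  exact ⟨f.toAddMonoidHom.comp (QuotientAddGroup.mk' B), a, hf⟩

/-- Brackets of spans of graded pieces. -/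
theorem bracket_mem {K A : Type*} [CommRing K] [LieRing A] [LieAlgebra K A] {L : Fam p K A} {n : ℕ} {x y : A}
    (hx : x ∈ ⨆ j, lc L n j) (hy : y ∈ ⨆ j, L j) : ⁅x, y⁆ ∈ ⨆ j, lc L (n + 1) j := by
  induction hx using Submodule.iSup_induction' with
  | mem i u hu =>
    induction hy using Submodule.iSup_induction' with
    | mem k v hv => exact Submodule.mem_iSup_of_mem (i + k) (by rw [lc_succ]; exact br_mem rfl hu hv)
    | zero => rw [lie_zero]; exact zero_mem _
    | add _ _ _ _ h h' => rw [lie_add]; exact add_mem h h'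
  | zero => rw [zero_lie]; exact zero_mem _
  | add _ _ _ _ h h' => rw [add_lie]; exact add_mem h h'

/-- Brackets of pure tensors in the spans. -/
theorem tmul_bracket_mem {K : Type*} [Field K] {N : Type*} [LieRing N] (L : Fam p K (K ⊗[ℤ] N))
    (htop : ∀ w, w ∈ ⨆ j, L j) {n : ℕ} (u v : N) (hu : (1 : K) ⊗ₜ[ℤ] u ∈ ⨆ j, lc L n j) :
    (1 : K) ⊗ₜ[ℤ] ⁅u, v⁆ ∈ ⨆ j, lc L (n + 1) j := by
  have h := bracket_mem hu (htop ((1 : K) ⊗ₜ[ℤ] v))
  rwa [LieAlgebra.ExtendScalars.bracket_tmul, one_mul] at h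

/-- A bilinear identity that holds on pure tensors holds everywhere. -/
theorem hom_of_tmul {K : Type*} [CommRing K] {R : Type*} [CommRing R] [Algebra R K] {N : Type*} [LieRing N]
    [LieAlgebra R N] (T : K ⊗[R] N →ₗ[K] K ⊗[R] N)
    (h : ∀ (k l : K) (f g : N), T ⁅k ⊗ₜ[R] f, l ⊗ₜ[R] g⁆ = ⁅T (k ⊗ₜ[R] f), T (l ⊗ₜ[R] g)⁆) (u v : K ⊗[R] N) :
    T ⁅u, v⁆ = ⁅T u, T v⁆ := by
  induction u with
  | zero => simp
  | add u u' hu hu' => simp [add_lie, hu, hu']
  | tmul k f =>
    induction v with
    | zero => simp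
    | add v v' hv hv' => simp [lie_add, hv, hv']
    | tmul l g => exact h k l f g

omit [Finite G] in
/-- Every homogeneous element of degree `n` lies in the `n`-th term of the lower central series. -/
theorem span_mem {S : ℕ} {K : Type} [Field K] (L : Fam p K (K ⊗[ℤ] LRing G S)) (htop : ∀ u, u ∈ ⨆ j, L j) :
    ∀ n, ∀ hn : n < S + 1, ∀ x ∈ γ G n,
      (1 : K) ⊗ₜ[ℤ] (single ⟨n, hn⟩ (cls n x) : LRing G S) ∈ ⨆ j, lc L n j := by
  intro n
  induction n with
  | zero => intro hn x _; exact htop _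
  | succ n ih =>
    intro hn x hx
    suffices h : x ∈ γ G (n + 1) ∧ (1 : K) ⊗ₜ[ℤ] (single ⟨n + 1, hn⟩ (cls (n + 1) x) : LRing G S) ∈ ⨆ j, lc L (n + 1) j
      from h.2
    rw [show γ G (n + 1) = ⁅γ G n, (⊤ : Subgroup G)⁆ from rfl, Subgroup.commutator_def] at hx
    induction hx using Subgroup.closure_induction with
    | mem z hz =>
      obtain ⟨a, ha, b, -, rfl⟩ := hz
      refine ⟨γ_comm (j := 0) ha (Subgroup.mem_top b), ?_⟩
      suffices e : (single ⟨n + 1, hn⟩ (cls (n + 1) ⁅a, b⁆) : LRing G S) =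
          ⁅(single ⟨n, by omega⟩ (cls n a) : LRing G S), single ⟨0, by omega⟩ (cls 0 b)⁆ by
        rw [e]
        exact tmul_bracket_mem L htop _ _ (ih (by omega) a ha)
      funext m
      rw [lie_def, br_single]
      by_cases hm : m = ⟨n + 1, hn⟩
      · subst hm
        rw [single_self]
        have hb0 : b ∈ γ G 0 := Subgroup.mem_top b
        exact (B_cls (i := n) (j := 0) (n := n + 1) (by omega) ha hb0).symm
      · have h1 : n + 0 + 1 ≠ (m : ℕ) := fun e => hm (Fin.ext (show (m : ℕ) = n + 1 by omega))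
        rw [single_ne hm]
        exact (B_ne (i := n) (j := 0) (n := (m : ℕ)) h1 _ _).symm
    | one => exact ⟨one_mem _, by rw [cls_one, single_zero, TensorProduct.tmul_zero]; exact zero_mem _⟩
    | mul a b _ _ ha hb =>
      exact ⟨mul_mem ha.1 hb.1, by rw [cls_mul ha.1 hb.1, single_add, TensorProduct.tmul_add]; exact add_mem ha.2 hb.2⟩
    | inv a _ ha =>
      refine ⟨inv_mem ha.1, ?_⟩
      have e : (single ⟨n + 1, hn⟩ (cls (n + 1) a⁻¹) : LRing G S) = -single ⟨n + 1, hn⟩ (cls (n + 1) a) := by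
        rw [eq_neg_iff_add_eq_zero, ← single_add, cls_inv ha.1, neg_add_cancel, single_zero]
      rw [e, TensorProduct.tmul_neg]; exact neg_mem ha.2

/-- The class bound: a bound for graded Lie algebras bounds the lower central series. -/
theorem main (hα : α ^ p = 1) (hfpf : ∀ g : G, α g = g → g = 1) (hnil : Group.IsNilpotent G) (S : ℕ)
    (hS : ∀ (K : Type) (A : Type u) [Field K] [LieRing A] [LieAlgebra K A] (L : Fam p K A),
      Closed L → L 0 = ⊥ → lc L S = ⊥) :
    (⊤ : Subgroup G).lowerCentralSeries S = ⊥ := by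
  classical
  suffices hstep : γ G S ≤ γ G (S + 1) by
    obtain ⟨n, hn⟩ := Subgroup.nilpotent_iff_lowerCentralSeries.mp hnil
    have : ∀ k, γ G S ≤ γ G (S + k) := by
      intro k
      induction k with
      | zero => exact le_rfl
      | succ k ih =>
        refine ih.trans ?_
        clear ih
        induction k with
        | zero => exact hstep
        | succ k ihk =>
          show γ G (S + k + 1) ≤ ⁅γ G (S + k + 1), (⊤ : Subgroup G)⁆
          exact Subgroup.commutator_mono ihk le_rfl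
    exact le_bot_iff.mp ((this n).trans ((Subgroup.lowerCentralSeries_antitone _ (Nat.le_add_left n S)).trans hn.le))
  by_contra hne
  -- a prime dividing the top factor
  have hnt : Nontrivial (Gr G S) := by
    obtain ⟨x, hx, hx'⟩ := SetLike.not_le_iff_exists.mp hne
    exact ⟨⟨cls S x, 0, fun h => hx' (mem_of_cls_eq_zero hx h)⟩⟩
  haveI : Finite (Gr G S) := inferInstanceAs (Finite (Additive _))
  obtain ⟨q, hq, hqd⟩ := Nat.exists_prime_and_dvd (Finite.one_lt_card (α := Gr G S)).ne'
  haveI := Fact.mk hq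
  have hqp : q ≠ p := by
    rintro rfl
    have h1 : Nat.card (Gr G S) ∣ Nat.card G :=
      (Subgroup.index_dvd_card ((γ G (S + 1)).subgroupOf (γ G S))).trans (Subgroup.card_subgroup_dvd_card _)
    let f : MulAut G →* Equiv.Perm G := MulAut.toPerm G
    have hP : IsPGroup q (Subgroup.zpowers α) := fun g => ⟨1, by
      obtain ⟨i, hi⟩ := Subgroup.mem_zpowers_iff.mp g.2
      refine Subtype.ext ?_
      rw [SubmonoidClass.coe_pow, ← hi, pow_one, ← zpow_natCast, ← zpow_mul, mul_comm, zpow_mul, zpow_natCast, hα, one_zpow]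
      rfl⟩
    have h2 := hP.card_modEq_card_fixedPoints G
    have h3 : MulAction.fixedPoints (Subgroup.zpowers α) G = {1} := by
      ext g
      simp only [MulAction.mem_fixedPoints, Set.mem_singleton_iff]
      exact ⟨fun h => hfpf g (h ⟨α, Subgroup.mem_zpowers α⟩), fun h a => by subst h; exact map_one (a : MulAut G)⟩
    rw [h3] at h2
    have h4 : q ∣ Nat.card ({1} : Set G) := (Nat.ModEq.dvd_iff h2 (dvd_refl q)).mp (hqd.trans h1)
    rw [Nat.card_unique] at h4
    exact hq.not_dvd_one h4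
  -- a functional modulo `q`
  obtain ⟨φ, x₀, hx₀, hφ⟩ : ∃ (φ : Gr G S →+ ZMod q) (x : G), x ∈ γ G S ∧ φ (cls S x) ≠ 0 := by
    obtain ⟨φ, a, ha⟩ := exists_functional (M := Gr G S) q hqd
    obtain ⟨x, hx, rfl⟩ := exists_rep a
    exact ⟨φ, x, hx, ha⟩
  -- the algebra
  let K := AlgebraicClosure (ZMod q)
  haveI : CharP K q := charP_of_injective_algebraMap (algebraMap (ZMod q) K).injective q
  haveI : NeZero (p : K) := ⟨fun h => by
    rw [CharP.cast_eq_zero_iff K q p] at h
    exact hqp ((Nat.prime_dvd_prime_iff_eq hq hp.out).mp h)⟩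
  obtain ⟨ω, hω⟩ : ∃ ω : K, IsPrimitiveRoot ω p := HasEnoughRootsOfUnity.exists_primitiveRoot K p
  let T : Module.End K (K ⊗[ℤ] LRing G S) := ((auto (c := S) α).toIntLinearMap).baseChange K
  have hTt : ∀ (k : K) (f : LRing G S), T (k ⊗ₜ f) = k ⊗ₜ auto α f := fun k f => rfl
  have hTlie : ∀ u v : K ⊗[ℤ] LRing G S, T ⁅u, v⁆ = ⁅T u, T v⁆ := hom_of_tmul T fun k l f g => by
    rw [LieAlgebra.ExtendScalars.bracket_tmul, hTt, hTt, hTt, LieAlgebra.ExtendScalars.bracket_tmul, auto_lie]
  have hiter : ∀ (i : ℕ) (k : K) (f : LRing G S), (T ^ i) (k ⊗ₜ f) = k ⊗ₜ ((auto α)^[i] f) := by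
    intro i
    induction i with
    | zero => intro k f; rfl
    | succ i ih => intro k f; rw [pow_succ, Module.End.mul_apply, hTt, ih, Function.iterate_succ_apply]
  have hperiod := auto_iterate_period (S := S) α hα
  have hTp : ∀ u : K ⊗[ℤ] LRing G S, (T ^ p) u = u := by
    intro u
    induction u with
    | zero => simp
    | add u v hu hv => simp [hu, hv]
    | tmul k f => rw [hiter, hperiod]
  have hsum0 : ∀ u : K ⊗[ℤ] LRing G S, ∑ i ∈ Finset.range p, (T ^ i) u = 0 := by
    intro u
    induction u with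
    | zero => simp
    | add u v hu hv => simp [Finset.sum_add_distrib, hu, hv]
    | tmul k f =>
      simp only [hiter, ← TensorProduct.tmul_sum]
      rw [auto_fixed α hfpf (∑ i ∈ Finset.range p, (auto α)^[i] f), TensorProduct.tmul_zero]
      rw [map_sum]
      simp only [← Function.iterate_succ_apply' (auto α)]
      apply add_right_cancel (b := (auto α)^[0] f)
      rw [← Finset.sum_range_succ' (fun i => (auto α)^[i] f) p, Finset.sum_range_succ, hperiod]
      rfl
  obtain ⟨L, hclosed, hL0, htop⟩ := eigen_decomposition hω T hTlie hTp hsum0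
  have hspan := span_mem (S := S) L htop
  have hz := hspan S (Nat.lt_succ_self S) x₀ hx₀
  have hbot := hS K _ L hclosed hL0
  have hz' := (iSup_le fun j => (le_of_eq (congrFun hbot j)) : (⨆ j, lc L S j) ≤ ⊥) hz
  rw [Submodule.mem_bot] at hz'
  let ψ₀ : LRing G S →+ K :=
    ((algebraMap (ZMod q) K).toAddMonoidHom.comp φ).comp
      { toFun := fun f => f ⟨S, Nat.lt_succ_self S⟩, map_zero' := rfl, map_add' := fun _ _ => rfl }
  let ψ : (K ⊗[ℤ] LRing G S) →ₗ[ℤ] K := TensorProduct.lift ((LinearMap.mul ℤ K).compl₂ ψ₀.toIntLinearMap)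
  have h1 : (1 : K) * ψ₀ (single ⟨S, Nat.lt_succ_self S⟩ (cls S x₀)) = 0 :=
    (congrArg ψ hz').trans (map_zero ψ)
  have h2 : algebraMap (ZMod q) K (φ ((single ⟨S, Nat.lt_succ_self S⟩ (cls S x₀) : LRing G S) ⟨S, Nat.lt_succ_self S⟩)) = 0 :=
    (one_mul _).symm.trans h1
  rw [single_self] at h2
  exact hφ ((map_eq_zero _).mp h2)

end Cfsg.Agent.GenA.FPFClassBound
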