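import Mathlib

/-!
The Baer trick: a group of class two with uniquely halved commutators as an abelian group, and the
resulting fixed point of an operator `p`-group on a group acted on by a coprime group.
-/

set_option autoImplicit false

namespace Cfsg.Agent.GenA.BaerTrick

open scoped commutatorElement

universe u

variable {G : Type u} [Group G]

/-- wrapper -/
@[ext]
structure Baer (G : Type u) where
  val : G

variable (hcen : ∀ a b : G, ⁅a, b⁆ ∈ Subgroup.center G)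
include hcen

theorem comm_mul_left (a b c : G) : ⁅a * b, c⁆ = ⁅a, c⁆ * ⁅b, c⁆ := by
  rw [commutatorElement_mul_left_eq_conj_mul, Subgroup.mem_center_iff.mp (hcen b c) a, mul_inv_cancel_right,
    Subgroup.mem_center_iff.mp (hcen b c) ⁅a, c⁆]

theorem comm_mul_right (a b c : G) : ⁅a, b * c⁆ = ⁅a, b⁆ * ⁅a, c⁆ := by
  have e : ⁅a, b * c⁆ = ⁅a, b⁆ * (b * ⁅a, c⁆ * b⁻¹) := by simp only [commutatorElement_def]; group
  rw [e, Subgroup.mem_center_iff.mp (hcen a c) b, mul_inv_cancel_right]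

omit hcen in
theorem comm_central {a c : G} (hc : c ∈ Subgroup.center G) : ⁅a, c⁆ = 1 :=
  commutatorElement_eq_one_iff_mul_comm.mpr (Subgroup.mem_center_iff.mp hc a)

/-- the abelian group -/
@[reducible] def baerGroup (h : ℕ) (hh : ∀ a b : G, ⁅a, b⁆ ^ (2 * h) = ⁅a, b⁆) : CommGroup (Baer G) :=
  letI : Mul (Baer G) := ⟨fun x y => ⟨x.val * y.val * ⁅y.val, x.val⁆ ^ h⟩⟩
  letI : One (Baer G) := ⟨⟨1⟩⟩
  letI : Inv (Baer G) := ⟨fun x => ⟨x.val⁻¹⟩⟩
  have hZ : ∀ a b : G, ⁅a, b⁆ ^ h ∈ Subgroup.center G := fun a b => pow_mem (hcen a b) h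
  { Group.ofLeftAxioms
      (fun x y z => by
        refine Baer.ext ?_
        show x.val * y.val * ⁅y.val, x.val⁆ ^ h * z.val * ⁅z.val, x.val * y.val * ⁅y.val, x.val⁆ ^ h⁆ ^ h =
          x.val * (y.val * z.val * ⁅z.val, y.val⁆ ^ h) * ⁅y.val * z.val * ⁅z.val, y.val⁆ ^ h, x.val⁆ ^ h
        have e1 : ⁅⁅z.val, y.val⁆ ^ h, x.val⁆ = 1 := by
          rw [← commutatorElement_inv, comm_central (hZ _ _), inv_one]
        rw [comm_mul_right hcen, comm_mul_right hcen, comm_central (hZ _ _), mul_one, comm_mul_left hcen,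
          comm_mul_left hcen, e1, mul_one]
        have c1 : ∀ w, w * ⁅y.val, x.val⁆ ^ h = ⁅y.val, x.val⁆ ^ h * w := Subgroup.mem_center_iff.mp (hZ _ _)
        have c2 : ∀ w, w * ⁅z.val, y.val⁆ ^ h = ⁅z.val, y.val⁆ ^ h * w := Subgroup.mem_center_iff.mp (hZ _ _)
        have m : ∀ a b c d : G, (⁅a, b⁆ * ⁅c, d⁆) ^ h = ⁅a, b⁆ ^ h * ⁅c, d⁆ ^ h := fun a b c d =>
          (show Commute ⁅a, b⁆ ⁅c, d⁆ from (Subgroup.mem_center_iff.mp (hcen a b) _).symm).mul_pow h
        rw [m, m]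
        calc x.val * y.val * ⁅y.val, x.val⁆ ^ h * z.val * (⁅z.val, x.val⁆ ^ h * ⁅z.val, y.val⁆ ^ h)
            = x.val * y.val * (⁅y.val, x.val⁆ ^ h * z.val) * ⁅z.val, x.val⁆ ^ h * ⁅z.val, y.val⁆ ^ h := by group
          _ = x.val * y.val * z.val * ⁅y.val, x.val⁆ ^ h * ⁅z.val, x.val⁆ ^ h * ⁅z.val, y.val⁆ ^ h := by
              rw [← c1 z.val]; group
          _ = x.val * y.val * z.val * ((⁅y.val, x.val⁆ ^ h * ⁅z.val, x.val⁆ ^ h) * ⁅z.val, y.val⁆ ^ h) := by group
          _ = _ := by rw [c2]; group)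
      (fun x => Baer.ext (show 1 * x.val * ⁅x.val, (1 : G)⁆ ^ h = x.val by simp))
      (fun x => Baer.ext (show x.val⁻¹ * x.val * ⁅x.val, x.val⁻¹⁆ ^ h = 1 by
        rw [commutatorElement_def]; simp)) with
    mul_comm := fun x y => by
      refine Baer.ext ?_
      show x.val * y.val * ⁅y.val, x.val⁆ ^ h = y.val * x.val * ⁅x.val, y.val⁆ ^ h
      have e : y.val * x.val = x.val * y.val * ⁅y.val, x.val⁆ := by
        rw [Subgroup.mem_center_iff.mp (hcen y.val x.val) (x.val * y.val), commutatorElement_def]; group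
      rw [e, mul_assoc (x.val * y.val), ← commutatorElement_inv y.val x.val, inv_pow]
      congr 1
      rw [eq_mul_inv_iff_mul_eq, ← pow_add, ← two_mul, hh] }

theorem exists_fixed [Finite G] {p : ℕ} [Fact p.Prime] (hG : IsPGroup p G) {h : ℕ}
    (hh : ∀ a b : G, ⁅a, b⁆ ^ (2 * h) = ⁅a, b⁆) {Q P : Type*} [Group Q] [Finite Q] [Group P] [Finite P]
    (hP : IsPGroup p P) (hQ : (Nat.card Q).Coprime p) (α : Q →* MulAut G) (β : P →* MulAut G)
    (γ : P → Q ≃ Q) (hγ : ∀ b a g, β b (α a g) = α (γ b a) (β b g)) (hnt : ∃ a g, α a g ≠ g) :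
    ∃ g : G, (∀ b, β b g = g) ∧ ∃ a, α a g ≠ g := by
  classical
  letI := baerGroup hcen h hh
  haveI : Finite (Baer G) := Finite.of_injective Baer.val fun _ _ => Baer.ext
  haveI : Fintype Q := Fintype.ofFinite Q
  let liftAut : MulAut G → (Baer G →* Baer G) := fun φ => MonoidHom.mk' (fun x => ⟨φ x.val⟩) fun x y =>
    Baer.ext (show φ (x.val * y.val * ⁅y.val, x.val⁆ ^ h) = φ x.val * φ y.val * ⁅φ y.val, φ x.val⁆ ^ h by
      rw [map_mul, map_mul, map_pow, map_commutatorElement])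
  let ε : Baer G →* Baer G := ∏ a : Q, liftAut (α a)
  have hεapply : ∀ x, ε x = ∏ a : Q, liftAut (α a) x := fun x => MonoidHom.finsetProd_apply _ _ _
  have hαmul : ∀ a c x, liftAut (α (a * c)) x = liftAut (α a) (liftAut (α c) x) := fun a c x =>
    Baer.ext (show α (a * c) x.val = α a (α c x.val) by rw [map_mul]; rfl)
  have hfixε : ∀ (c : Q) x, liftAut (α c) (ε x) = ε x := fun c x => by
    rw [hεapply, map_prod]
    exact Fintype.prod_equiv (Equiv.mulLeft c) _ _ fun a => (hαmul c a x).symm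
  have hne : ε.ker ≠ ⊥ := by
    intro hbot
    obtain ⟨a, g, hag⟩ := hnt
    obtain ⟨x, hx⟩ := Finite.injective_iff_surjective.mp ((MonoidHom.ker_eq_bot_iff ε).mp hbot) ⟨g⟩
    exact hag (congrArg Baer.val (hx ▸ hfixε a x :))
  have hεβ : ∀ b x, liftAut (β b) (ε x) = ε (liftAut (β b) x) := fun b x => by
    rw [hεapply, hεapply, map_prod]
    exact Fintype.prod_equiv (γ b) _ _ fun a => Baer.ext (hγ b a x.val)
  letI : MulAction P ↥ε.ker :=
    { smul := fun b x => ⟨liftAut (β b) x, by rw [MonoidHom.mem_ker, ← hεβ, MonoidHom.mem_ker.mp x.2, map_one]⟩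
      one_smul := fun x => Subtype.ext (Baer.ext (show β 1 (x : Baer G).val = (x : Baer G).val by rw [map_one]; rfl))
      mul_smul := fun b c x => Subtype.ext (Baer.ext (show β (b * c) (x : Baer G).val = β b (β c (x : Baer G).val) by
        rw [map_mul]; rfl)) }
  have hcardB : Nat.card (Baer G) = Nat.card G :=
    Nat.card_congr ⟨Baer.val, Baer.mk, fun _ => rfl, fun _ => rfl⟩
  have hBp : IsPGroup p (Baer G) := by
    obtain ⟨k, hk⟩ := IsPGroup.iff_card.mp hG
    exact IsPGroup.of_card (hcardB.trans hk)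
  obtain ⟨k, hk⟩ := IsPGroup.iff_card.mp (hBp.to_subgroup ε.ker)
  have hk0 : k ≠ 0 := fun e => hne (Subgroup.card_eq_one.mp (by rw [hk, e, pow_zero]))
  obtain ⟨y, hy, hy1⟩ := hP.exists_fixed_point_of_prime_dvd_card_of_fixed_point ↥ε.ker
    (hk ▸ dvd_pow_self p hk0) (a := 1) (fun b => Subtype.ext (show liftAut (β b) 1 = 1 from map_one _))
  refine ⟨(y : Baer G).val, fun b => congrArg (fun z : ↥ε.ker => (z : Baer G).val) (hy b), ?_⟩
  by_contra hall
  push Not at hall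
  refine hy1 (Subtype.ext ?_).symm
  have h1 : (y : Baer G) ^ Nat.card Q = 1 := by
    rw [← (MonoidHom.mem_ker.mp y.2 : ε y = 1), hεapply,
      Finset.prod_congr rfl fun a _ => (Baer.ext (hall a) : liftAut (α a) (y : Baer G) = y),
      Finset.prod_const, Finset.card_univ, Nat.card_eq_fintype_card]
  obtain ⟨m, hm⟩ := IsPGroup.iff_card.mp hBp
  exact (powCoprime (hm ▸ hQ.symm.pow_left m)).injective (h1.trans (one_pow _).symm)

end Cfsg.Agent.GenA.BaerTrick
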