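/-
Coprime action with solvable commutator: control of the `q'`-cores of centralizers.
-/
import Mathlib
import Cfsg.Agent.Lib.PLocal.PSolvable
import Cfsg.Agent.Lib.PLocal.SolvableSeparable
import Cfsg.Agent.Lib.Coprime.PGroup
import Cfsg.Agent.Lib.Coprime.Commutator
import Cfsg.Agent.Lib.Coprime.Action
import Cfsg.Agent.Lib.Coprime.OmegaDetect

set_option autoImplicit false

namespace Cfsg.Agent.GenA.CoreControl

open Subgroup Cfsg Cfsg.Agent

variable {G : Type*} [Group G]

/-- The elements normalizing `A` normalize the image of a characteristic subgroup of `A`. -/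
theorem le_normalizer_char {A Y : Subgroup G} (h : Y ≤ normalizer (A : Set G)) (X : Subgroup A)
    [X.Characteristic] : Y ≤ normalizer ((X.map A.subtype : Subgroup G) : Set G) :=
  h.trans (Cfsg.Agent.Coprime.OmegaDetect.normalizer_le_normalizer_char A X)

theorem normalizer_le_normalizer_cent (S : Set G) :
    normalizer S ≤ normalizer (centralizer S : Set G) := by
  have key : ∀ g ∈ normalizer S, ∀ c ∈ centralizer S, g * c * g⁻¹ ∈ centralizer S := by
    intro g hg c hc s hs
    have h1 : g⁻¹ * s * g ∈ S := by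
      have := (mem_set_normalizer_iff.1 (inv_mem hg) s).1 hs
      simpa using this
    calc s * (g * c * g⁻¹) = g * ((g⁻¹ * s * g) * c) * g⁻¹ := by group
      _ = g * (c * (g⁻¹ * s * g)) * g⁻¹ := by rw [hc _ h1]
      _ = g * c * g⁻¹ * s := by group
  intro g hg
  rw [mem_normalizer_iff]
  refine fun c => ⟨key g hg c, fun h => ?_⟩
  simpa [mul_assoc] using key g⁻¹ (inv_mem hg) _ h

variable [Finite G]

instance pCore_characteristic' (q : ℕ) : (pCore q G).Characteristic :=
  Subgroup.characteristic_iff_map_eq.2 fun e => PLocal.Cores.map_pCore_equiv e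

instance pPrimeCore_characteristic' (q : ℕ) : (pPrimeCore q G).Characteristic :=
  PLocal.Cores.pPrimeCore_characteristic

theorem le_map_pPrimeCore {q : ℕ} {R K : Subgroup G} (hR : (Nat.card R).Coprime q) (hRK : R ≤ K)
    (hn : K ≤ normalizer (R : Set G)) : R ≤ (pPrimeCore q K).map K.subtype := by
  haveI : (R.subgroupOf K).Normal := normal_subgroupOf_of_le_normalizer hn
  have h : R.subgroupOf K ≤ pPrimeCore q K := PLocal.Cores.le_pPrimeCore
    (by rwa [Nat.card_congr (Subgroup.subgroupOfEquivOfLe hRK).toEquiv])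
  calc R = (R.subgroupOf K).map K.subtype := (map_subgroupOf_eq_of_le hRK).symm
    _ ≤ _ := map_mono h

theorem coprime_card_map_pPrimeCore (q : ℕ) (K : Subgroup G) :
    (Nat.card ((pPrimeCore q K).map K.subtype)).Coprime q := by
  rw [Subgroup.card_subtype]
  exact PLocal.Cores.coprime_card_pPrimeCore

/-- The statement for `O_{q'}(H) = 1`. -/
theorem core_case {p q : ℕ} [Fact p.Prime] [Fact q.Prime] {H P : Subgroup G} [H.Normal]
    (hP : IsPGroup p P) (hcop : (Nat.card P).Coprime (Nat.card H))
    (hL : Group.IsSolvable ↥⁅H, P⁆)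
    (hO : ∀ N : Subgroup G, N ≤ H → H ≤ normalizer (N : Set G) → (Nat.card N).Coprime q → N = ⊥)
    {z : G} (hzH : z ∈ H) (hzP : z ∈ centralizer (P : Set G))
    (hz : IsPGroup q (zpowers z)) {D E : Subgroup G}
    (hDH : D ≤ H ⊓ centralizer ({z} : Set G)) (hDn : H ⊓ centralizer ({z} : Set G) ≤ normalizer (D : Set G))
    (hDP : P ≤ normalizer (D : Set G)) (hDq : (Nat.card D).Coprime q)
    (hEH : E ≤ H ⊓ centralizer (P : Set G)) (hEn : H ⊓ centralizer (P : Set G) ≤ normalizer (E : Set G))
    (hEq : (Nat.card E).Coprime q) : ⁅D, P⁆ = ⊥ ∧ D ⊓ E = ⊥ := by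
  have hPH : P ≤ normalizer (H : Set G) := le_normalizer_of_normal
  have hLH : ⁅H, P⁆ ≤ H := commutator_le_left H P
  have hHL : H ≤ normalizer ((⁅H, P⁆ : Subgroup G) : Set G) := normalizer_commutator_ge_left H P
  have hPL : P ≤ normalizer ((⁅H, P⁆ : Subgroup G) : Set G) := normalizer_commutator_ge_right H P
  let Q := (pCore q ↥⁅H, P⁆).map (⁅H, P⁆ : Subgroup G).subtype
  have hQq : IsPGroup q Q := PLocal.Cores.isPGroup_pCore.map _
  have hQL : Q ≤ ⁅H, P⁆ := map_subtype_le _
  have hHQ : H ≤ normalizer (Q : Set G) := le_normalizer_char hHL _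
  have hPQ : P ≤ normalizer (Q : Set G) := le_normalizer_char hPL _
  have hL1 : pPrimeCore q ↥⁅H, P⁆ = ⊥ :=
    (map_eq_bot_iff_of_injective _ (subtype_injective _)).1
      (hO _ ((map_subtype_le _).trans hLH) (le_normalizer_char hHL _)
        (coprime_card_map_pPrimeCore q _))
  haveI := hL
  have hCQ : ⁅H, P⁆ ⊓ centralizer (Q : Set G) ≤ Q := by
    rintro x ⟨hxL, hxC⟩
    refine ⟨⟨x, hxL⟩, PLocal.PSolvable.centralizer_pCore_le hL1
      (PLocal.SolvableSeparable.isPSolvable_of_isSolvable q _) ?_, rfl⟩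
    intro y hy
    exact Subtype.ext (hxC y (mem_map_of_mem _ hy))
  have hDQ1 : D ⊓ Q = ⊥ := by
    rw [inf_comm]; exact PLocal.Cores.inf_eq_bot_of_isPGroup_of_coprime hQq hDq
  have hDC : D ≤ centralizer (Q : Set G) := by
    refine Coprime.le_centralizer_of_pxq (P := zpowers z) hz hDq hQq ?_
      ((zpowers_le.2 hzH).trans hHQ) ((hDH.trans inf_le_left).trans hHQ) ?_
    · refine zpowers_le.2 fun d hd => ?_
      exact mem_centralizer_singleton_iff.1 (hDH hd).2
    · have h1 : ⁅Q ⊓ centralizer (zpowers z : Set G), D⁆ ≤ Q ⊓ D := by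
        rw [commutator_le]
        rintro u ⟨huQ, huC⟩ d hd
        rw [commutatorElement_def]
        refine ⟨?_, ?_⟩
        · have h2 := (le_normalizer_iff.1 hHQ) d (hDH hd).1 u⁻¹ (inv_mem huQ)
          simpa [mul_assoc] using mul_mem huQ h2
        · have hun : u ∈ H ⊓ centralizer ({z} : Set G) :=
            ⟨hLH (hQL huQ), mem_centralizer_singleton_iff.2 (huC z (mem_zpowers z)).symm⟩
          exact D.mul_mem ((le_normalizer_iff.1 hDn) u hun d hd) (D.inv_mem hd)
      exact Coprime.commutator_eq_bot_iff_le_centralizer'.1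
        (le_bot_iff.1 (h1.trans (by rw [inf_comm, hDQ1]))) |> fun h2 =>
          le_centralizer_iff.1 h2
  refine ⟨?_, ?_⟩
  · have h1 : ⁅D, P⁆ ≤ D := Coprime.commutator_le_of_le_normalizer hDP
    have h2 : ⁅D, P⁆ ≤ ⁅H, P⁆ := commutator_mono (hDH.trans inf_le_left) le_rfl
    rw [← le_bot_iff, ← hDQ1]
    exact le_inf h1 ((le_inf h2 (h1.trans hDC)).trans hCQ)
  · let C := H ⊓ centralizer (Q : Set G)
    have hPC : P ≤ normalizer (C : Set G) :=
      (le_inf hPH (hPQ.trans (normalizer_le_normalizer_cent _))).trans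
        inf_normalizer_le_normalizer_inf
    have hHC : H ≤ normalizer (C : Set G) :=
      (le_inf Subgroup.le_normalizer (hHQ.trans (normalizer_le_normalizer_cent _))).trans
        inf_normalizer_le_normalizer_inf
    have hcopC : (Nat.card P).Coprime (Nat.card C) :=
      hcop.coprime_dvd_right (card_dvd_of_le inf_le_left)
    have hsup := Coprime.commutator_sup_inf_centralizer hPC hcopC
      (Or.inl (Coprime.isSolvable_of_isPGroup hP))
    have hCP : ⁅C, P⁆ ≤ Q := by
      refine le_trans (le_inf (commutator_mono inf_le_left le_rfl) ?_) hCQ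
      exact (Coprime.commutator_le_of_le_normalizer hPC).trans inf_le_right
    have hEC : C ≤ normalizer ((E ⊓ C : Subgroup G) : Set G) := by
      refine hsup.ge.trans (sup_le ?_ ?_)
      · intro u hu
        refine centralizer_le_normalizer _ fun e he => ?_
        exact ((he.2.2) u (hCP hu)).symm
      · exact (le_inf ((inf_le_inf_right _ inf_le_left).trans hEn)
          (inf_le_left.trans Subgroup.le_normalizer)).trans inf_normalizer_le_normalizer_inf
    have hEq' : (Nat.card ↥(E ⊓ C)).Coprime q :=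
      hEq.coprime_dvd_left (card_dvd_of_le inf_le_left)
    have h1 : (pPrimeCore q C).map C.subtype = ⊥ :=
      hO _ ((map_subtype_le _).trans inf_le_left) (le_normalizer_char hHC _)
        (coprime_card_map_pPrimeCore q _)
    have h2 := le_map_pPrimeCore hEq' inf_le_right hEC
    rw [h1, le_bot_iff] at h2
    rw [← le_bot_iff, ← h2]
    exact le_inf inf_le_right fun x hx => ⟨(hDH hx.1).1, hDC hx.1⟩

/-- Core control in a quotient-free form. -/
theorem main {p q : ℕ} [Fact p.Prime] [Fact q.Prime] {H P : Subgroup G} [H.Normal]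
    (hP : IsPGroup p P) (hcop : (Nat.card P).Coprime (Nat.card H))
    (hL : Group.IsSolvable ↥⁅H, P⁆)
    {z : G} (hzH : z ∈ H) (hzP : z ∈ centralizer (P : Set G)) (hz : IsPGroup q (zpowers z)) :
    ((pPrimeCore q ↥(H ⊓ centralizer ({z} : Set G))).map (H ⊓ centralizer ({z} : Set G)).subtype ⊓
      (pPrimeCore q ↥(H ⊓ centralizer (P : Set G))).map (H ⊓ centralizer (P : Set G)).subtype) ⊔
    ⁅(pPrimeCore q ↥(H ⊓ centralizer ({z} : Set G))).map
        (H ⊓ centralizer ({z} : Set G)).subtype, P⁆ ≤ (pPrimeCore q H).map H.subtype := by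
  let Cz := H ⊓ centralizer ({z} : Set G)
  let CP := H ⊓ centralizer (P : Set G)
  let D := (pPrimeCore q Cz).map Cz.subtype
  let E := (pPrimeCore q CP).map CP.subtype
  let N := (pPrimeCore q H).map H.subtype
  show D ⊓ E ⊔ ⁅D, P⁆ ≤ N
  haveI hNn : N.Normal :=
    normalizer_eq_top_iff.1 (top_le_iff.1
      (le_normalizer_char (Y := ⊤) (by rw [normalizer_eq_top]) _))
  let f := QuotientGroup.mk' N
  have hf : Function.Surjective f := QuotientGroup.mk'_surjective N
  have hker : f.ker = N := QuotientGroup.ker_mk' N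
  have hNH : N ≤ H := map_subtype_le _
  have hNq : (Nat.card N).Coprime q := coprime_card_map_pPrimeCore q H
  haveI : (H.map f).Normal := Subgroup.Normal.map inferInstance f hf
  have hL' : Group.IsSolvable ↥⁅H.map f, P.map f⁆ := by
    rw [← map_commutator]
    haveI := hL
    exact Group.isSolvable_of_surjective (f.subgroupMap_surjective ⁅H, P⁆)
  have hcop' : (Nat.card (P.map f)).Coprime (Nat.card (H.map f)) :=
    (hcop.coprime_dvd_left (card_map_dvd _ _)).coprime_dvd_right (card_map_dvd _ _)
  have hO : ∀ M : Subgroup (G ⧸ N), M ≤ H.map f → H.map f ≤ normalizer (M : Set (G ⧸ N)) →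
      (Nat.card M).Coprime q → M = ⊥ := by
    intro M hMH hMn hMq
    have h1 : M.comap f ≤ H := by
      intro x hx
      obtain ⟨h, hh, he⟩ := hMH hx
      have h2 : h⁻¹ * x ∈ N := by rw [← hker, MonoidHom.mem_ker, map_mul, map_inv, he, inv_mul_cancel]
      simpa using mul_mem hh (hNH h2)
    have h2 : H ≤ normalizer ((M.comap f : Subgroup G) : Set G) := by
      rw [le_normalizer_iff]
      intro a ha x hx
      rw [mem_comap, map_mul, map_mul, map_inv]
      exact (le_normalizer_iff.1 hMn) (f a) (mem_map_of_mem f ha) (f x) hx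
    have h3 : (Nat.card (M.comap f)).Coprime q := by
      rw [PLocal.Cores.card_comap_eq M hf, hker]
      exact hNq.mul hMq
    have h4 : M.comap f ≤ N := le_map_pPrimeCore h3 h1 h2
    rw [← map_comap_eq_self_of_surjective hf M]
    exact (Subgroup.map_eq_bot_iff _).2 (h4.trans hker.ge)
  have hDn : H.map f ⊓ centralizer ({f z} : Set (G ⧸ N)) ≤ normalizer ((D.map f : Subgroup _) : Set (G ⧸ N)) := by
    rintro y ⟨⟨x, hxH, rfl⟩, hy⟩
    obtain ⟨n, hn, hxn⟩ := Coprime.exists_fixed_in_coset (A := zpowers z) (N := N) (k := x)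
      le_normalizer_of_normal (by
        obtain ⟨k, hk⟩ := IsPGroup.iff_card.1 hz
        rw [hk]; exact hNq.symm.pow_left k)
      (Or.inl (Coprime.isSolvable_of_isPGroup hz)) (fun a ha => by
        obtain ⟨i, rfl⟩ := mem_zpowers_iff.1 ha
        rw [← hker, MonoidHom.mem_ker]
        have h1 : Commute (f z) (f x) := (mem_centralizer_singleton_iff.1 hy).symm
        have h2 : Commute (f (z ^ i)) (f x) := by rw [map_zpow]; exact h1.zpow_left i
        rw [map_mul, map_mul, map_mul, map_inv, map_inv, h2.eq]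
        group)
    have h1 : x * n ∈ Cz := ⟨mul_mem hxH (hNH hn),
      mem_centralizer_singleton_iff.2 (hxn z (mem_zpowers z)).symm⟩
    have h2 := Subgroup.le_normalizer_map f
      (mem_map_of_mem f (le_normalizer_char (A := Cz) Subgroup.le_normalizer (pPrimeCore q Cz) h1))
    have h3 : f (x * n) = f x := by
      rw [map_mul, show f n = 1 from MonoidHom.mem_ker.1 (hker.ge hn), mul_one]
    rwa [h3] at h2
  have hEn : H.map f ⊓ centralizer ((P.map f : Subgroup _) : Set (G ⧸ N)) ≤
      normalizer ((E.map f : Subgroup _) : Set (G ⧸ N)) := by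
    rw [← Coprime.map_inf_centralizer f le_normalizer_of_normal hcop
      (Or.inl (Coprime.isSolvable_of_isPGroup hP))]
    exact (map_mono (le_normalizer_char (A := CP) Subgroup.le_normalizer (pPrimeCore q CP))).trans
      (Subgroup.le_normalizer_map f)
  have hPCz : P ≤ normalizer (Cz : Set G) := by
    refine (le_inf le_normalizer_of_normal ?_).trans inf_normalizer_le_normalizer_inf
    intro a ha
    refine normalizer_le_normalizer_cent _ ?_
    rw [normalizer_singleton, mem_centralizer_singleton_iff]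
    exact hzP a ha
  have hzs : IsPGroup q (zpowers (f z)) := by
    rw [← MonoidHom.map_zpowers]
    exact hz.map f
  obtain ⟨h1, h2⟩ := core_case (H := H.map f) (P := P.map f) (hP.map f) hcop' hL' hO
    (mem_map_of_mem f hzH) (fun a ha => by
      obtain ⟨b, hb, rfl⟩ := ha
      rw [← map_mul, ← map_mul, hzP b hb]) hzs (D := D.map f) (E := E.map f)
    (by
      rintro _ ⟨d, hd, rfl⟩
      have hd' : d ∈ Cz := map_subtype_le _ hd
      refine ⟨mem_map_of_mem f hd'.1, mem_centralizer_singleton_iff.2 ?_⟩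
      rw [← map_mul, ← map_mul, mem_centralizer_singleton_iff.1 hd'.2])
    hDn ((map_mono (le_normalizer_char hPCz _)).trans (Subgroup.le_normalizer_map f))
    ((coprime_card_map_pPrimeCore q Cz).coprime_dvd_left (card_map_dvd _ _))
    (by
      rintro _ ⟨e, he, rfl⟩
      have he' : e ∈ CP := map_subtype_le _ he
      refine ⟨mem_map_of_mem f he'.1, fun a ha => ?_⟩
      obtain ⟨b, hb, rfl⟩ := ha
      rw [← map_mul, ← map_mul, he'.2 b hb])
    hEn ((coprime_card_map_pPrimeCore q CP).coprime_dvd_left (card_map_dvd _ _))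
  refine sup_le ?_ ?_
  · rw [← hker, ← Subgroup.map_eq_bot_iff]
    exact le_bot_iff.1 ((map_inf_le D E f).trans h2.le)
  · rw [← hker, ← Subgroup.map_eq_bot_iff, map_commutator]
    exact h1

end Cfsg.Agent.GenA.CoreControl
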