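import Cfsg.Agent.Lib.Components.Basic
import Cfsg.Agent.Lib.Transfer.Frobenius
import Cfsg.Agent.Lib.Transfer.NormalPComplement
import Mathlib.GroupTheory.OrderOfElement
import Mathlib.GroupTheory.Perm.Basic

/-!
# Groups whose cyclic `p`-subgroups of equal order are conjugate have at most one component
-/

set_option autoImplicit false
set_option linter.unusedSectionVars false

namespace Cfsg.Agent.GenA.CyclicConjugateLayer

open Subgroup
open Cfsg.Agent.Components.Basic

universe u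

variable {G : Type u} [Group G]

/-- `x` does not centralise `K`. -/
def Moved (K : Subgroup G) (x : G) : Prop := ∃ k ∈ K, x * k ≠ k * x

theorem Moved.zpow {K : Subgroup G} {x : G} {i : ℤ} (h : Moved K (x ^ i)) : Moved K x := by
  obtain ⟨k, hk, hne⟩ := h
  exact ⟨k, hk, fun e => hne ((show Commute x k from e).zpow_left i).eq⟩

theorem Moved.conj {K : Subgroup G} {x g : G} (h : Moved K (g * x * g⁻¹)) :
    Moved (K.map (MulAut.conj g⁻¹).toMonoidHom) x := by
  obtain ⟨k, hk, hne⟩ := h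
  refine ⟨g⁻¹ * k * g, ⟨k, hk, by simp⟩, fun e => hne ?_⟩
  calc g * x * g⁻¹ * k = g * (x * (g⁻¹ * k * g)) * g⁻¹ := by group
    _ = g * (g⁻¹ * k * g * x) * g⁻¹ := by rw [e]
    _ = k * (g * x * g⁻¹) := by group

theorem moved_iff_notMem_center {K : Subgroup G} (x : K) :
    Moved K (x : G) ↔ x ∉ center K := by
  rw [mem_center_iff, Moved]
  push Not
  exact ⟨fun ⟨k, hk, h⟩ => ⟨⟨k, hk⟩, fun e => h (congrArg Subtype.val e).symm⟩,
    fun ⟨k, h⟩ => ⟨k, k.2, fun e => h (Subtype.ext e.symm)⟩⟩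

variable [Finite G]

theorem commute_of_ne {K L : Subgroup G} (hK : Cfsg.IsComponent K) (hL : Cfsg.IsComponent L)
    (hne : K ≠ L) {a b : G} (ha : a ∈ K) (hb : b ∈ L) : Commute a b := by
  have h := commutator_eq_bot_iff_le_centralizer.mp (component_commutator_eq_bot_of_ne hK hL hne) ha
  exact (mem_centralizer_iff.mp h b hb).symm

theorem Moved.eq_of_mem {K L : Subgroup G} (hK : Cfsg.IsComponent K) (hL : Cfsg.IsComponent L)
    {a : G} (ha : a ∈ K) (h : Moved L a) : L = K := by
  by_contra hne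
  obtain ⟨k, hk, hk'⟩ := h
  exact hk' (commute_of_ne hK hL (Ne.symm hne) ha hk).eq

variable (hP : ∀ (p : ℕ), p.Prime → ∀ A B : Subgroup G, IsCyclic ↥A → IsCyclic ↥B →
  IsPGroup p ↥A → Nat.card ↥A = Nat.card ↥B → ∃ g : G, B = A.map (MulAut.conj g).toMonoidHom)
include hP

/-- An element moving one component only is not as large as one moving two. -/
theorem eq_of_orderOf_eq {p m : ℕ} (hp : p.Prime) {K K₁ K₂ : Subgroup G} (h₁ : Cfsg.IsComponent K₁)
    (h₂ : Cfsg.IsComponent K₂) {x y : G} (hx : orderOf x = p ^ m) (hy : orderOf y = p ^ m)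
    (honly : ∀ L, Cfsg.IsComponent L → Moved L x → L = K) (hy₁ : Moved K₁ y) (hy₂ : Moved K₂ y) :
    K₁ = K₂ := by
  obtain ⟨g, hg⟩ := hP p hp (zpowers x) (zpowers y) inferInstance inferInstance
    (IsPGroup.of_card (n := m) (by rw [Nat.card_zpowers, hx]))
    (by rw [Nat.card_zpowers, Nat.card_zpowers, hx, hy])
  have hyg : y ∈ (zpowers x).map (MulAut.conj g).toMonoidHom := hg ▸ mem_zpowers y
  obtain ⟨x', hx', hxy⟩ := hyg
  obtain ⟨i, rfl⟩ := mem_zpowers_iff.mp hx'
  have e : g * x ^ i * g⁻¹ = y := by simpa using hxy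
  rw [← e] at hy₁ hy₂
  exact map_injective (MulAut.conj g⁻¹).injective
    ((honly _ (component_conj h₁ g⁻¹) hy₁.conj.zpow).trans
      (honly _ (component_conj h₂ g⁻¹) hy₂.conj.zpow).symm)

variable {K L : Subgroup G} (hK : Cfsg.IsComponent K) (hL : Cfsg.IsComponent L) (hne : K ≠ L)
include hK hL hne

/-- The orders of `a`, `b` and `a b`. -/
theorem order_data {p : ℕ} (hp : p.Prime) {a b : G} (ha : a ∈ K) (hb : b ∈ L) (hma : Moved K a)
    (hmb : Moved L b) {i j : ℕ} (hi : orderOf a = p ^ i) (hj : orderOf b = p ^ j) :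
    i = j ∧ a ^ p ^ (i - 1) * b ^ p ^ (i - 1) = 1 := by
  have hab : Commute a b := commute_of_ne hK hL hne ha hb
  have hmK : Moved K (a * b) := by
    obtain ⟨k, hk, hk'⟩ := hma
    refine ⟨k, hk, fun e => hk' ?_⟩
    have hbk : Commute k b := commute_of_ne hK hL hne hk hb
    calc a * k = a * b * k * b⁻¹ := by rw [mul_assoc a b k, ← hbk.eq]; group
      _ = k * (a * b) * b⁻¹ := by rw [e]
      _ = k * a := by group
  have hmL : Moved L (a * b) := by
    obtain ⟨k, hk, hk'⟩ := hmb
    refine ⟨k, hk, fun e => hk' ?_⟩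
    have hak : Commute a k := commute_of_ne hK hL hne ha hk
    calc b * k = a⁻¹ * (a * b * k) := by group
      _ = a⁻¹ * (k * (a * b)) := by rw [e]
      _ = a⁻¹ * (a * k) * b := by rw [hak.eq]; group
      _ = k * b := by group
  have hnota : orderOf (a * b) ≠ p ^ i := fun e => hne (eq_of_orderOf_eq hP hp hK hL hi e
    (fun M hM h => h.eq_of_mem hK hM ha) hmK hmL)
  have hnotb : orderOf (a * b) ≠ p ^ j := fun e => hne (eq_of_orderOf_eq hP hp hK hL hj e
    (fun M hM h => h.eq_of_mem hL hM hb) hmK hmL)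
  have hij : i = j := by
    rcases lt_trichotomy i j with h | h | h
    · refine absurd (hj ▸ hab.orderOf_mul_eq_right_of_forall_prime_mul_dvd ?_ ?_) hnotb
      · exact orderOf_pos_iff.mp (orderOf_pos b)
      · intro r hr hra
        rw [hi] at hra ⊢
        rw [hj, (Nat.prime_dvd_prime_iff_eq hr hp).mp (hr.dvd_of_dvd_pow hra), ← pow_succ']
        exact Nat.pow_dvd_pow p h
    · exact h
    · refine absurd ?_ hnota
      rw [hab.eq, ← hi]
      refine hab.symm.orderOf_mul_eq_right_of_forall_prime_mul_dvd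
        (orderOf_pos_iff.mp (orderOf_pos a)) ?_
      intro r hr hrb
      rw [hj] at hrb ⊢
      rw [hi, (Nat.prime_dvd_prime_iff_eq hr hp).mp (hr.dvd_of_dvd_pow hrb), ← pow_succ']
      exact Nat.pow_dvd_pow p h
  subst hij
  refine ⟨rfl, ?_⟩
  have hi0 : i ≠ 0 := fun e => by
    rw [e, pow_zero, orderOf_eq_one_iff] at hi
    obtain ⟨k, -, hk⟩ := hma
    exact hk (by rw [hi, one_mul, mul_one])
  by_contra h
  refine hnota ?_
  have := Fact.mk hp
  obtain ⟨n, rfl⟩ := Nat.exists_eq_succ_of_ne_zero hi0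
  refine orderOf_eq_prime_pow ?_ ?_
  · rw [hab.mul_pow]; exact h
  · rw [hab.mul_pow, ← hi, pow_orderOf_eq_one, one_mul, hi, ← hj, pow_orderOf_eq_one]

/-- No odd prime serves two components. -/
theorem no_odd {p : ℕ} (hp : p.Prime) (hp2 : p ≠ 2) {a b : G} (ha : a ∈ K) (hb : b ∈ L)
    (hma : Moved K a) (hmb : Moved L b) {i j : ℕ} (hi : orderOf a = p ^ i)
    (hj : orderOf b = p ^ j) : False := by
  obtain ⟨-, h1⟩ := order_data hP hK hL hne hp ha hb hma hmb hi hj
  have hmb' : Moved L b⁻¹ := by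
    obtain ⟨k, hk, hk'⟩ := hmb
    exact ⟨k, hk, fun e => hk' (by simpa using (show Commute b⁻¹ k from e).inv_left.eq)⟩
  obtain ⟨-, h2⟩ := order_data hP hK hL hne hp ha (inv_mem hb) hma hmb' hi
    (by rw [orderOf_inv, hj])
  rw [inv_pow] at h2
  have h3 : b ^ p ^ (i - 1) = (b ^ p ^ (i - 1))⁻¹ := mul_left_cancel (h1.trans h2.symm)
  have h4 : (b ^ p ^ (i - 1)) ^ 2 = 1 := by
    rw [sq]
    exact mul_eq_one_iff_eq_inv.mpr h3
  have h5 : b ^ p ^ (i - 1) = 1 := by
    have hd : orderOf (b ^ p ^ (i - 1)) ∣ p ^ j := hj ▸ orderOf_pow_dvd _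
    have hd2 := orderOf_dvd_of_pow_eq_one h4
    rw [← orderOf_eq_one_iff]
    exact Nat.eq_one_of_dvd_coprimes
      ((Nat.coprime_primes hp Nat.prime_two).mpr hp2 |>.pow_left j) hd hd2
  rw [h5, mul_one] at h1
  have hi0 : i ≠ 0 := fun e => by
    rw [e, pow_zero, orderOf_eq_one_iff] at hi
    obtain ⟨k, -, hk⟩ := hma
    exact hk (by rw [hi, one_mul, mul_one])
  have := Nat.le_of_dvd (pow_pos hp.pos _) (hi ▸ orderOf_dvd_of_pow_eq_one h1)
  have := Nat.pow_lt_pow_right hp.one_lt (show i - 1 < i by omega)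
  omega

omit hP hK hL hne

/-- In `K` the non-central `2`-elements all have order `2 ^ m` and the same involution as a power. -/
structure TwoData (K : Type*) [Group K] (m : ℕ) (z : K) : Prop where
  two_le : 2 ≤ m
  order : ∀ x : K, x ∉ center K → (∃ i, orderOf x = 2 ^ i) → orderOf x = 2 ^ m ∧ x ^ 2 ^ (m - 1) = z
  central : ∀ x : K, x ∈ center K → (∃ i, orderOf x = 2 ^ i) → x ^ 2 ^ (m - 1) = 1

theorem TwoData.exists_three {K : Type*} [Group K] [Finite K] {m : ℕ} {z : K} (d : TwoData K m z)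
    (hno : ¬ Cfsg.HasNormalPComplement 2 K) :
    ∃ x : K, x ∉ center K ∧ ∃ i, orderOf x = 3 ^ i := by
  have := Fact.mk Nat.prime_two
  rw [Transfer.Frobenius.hasNormalPComplement_iff_condition] at hno
  unfold Transfer.Frobenius.Condition at hno
  push Not at hno
  obtain ⟨Q, hQ, g, hg, hgo, hgc⟩ := hno
  have hQ2 : ∀ x ∈ Q, ∃ i, orderOf x = 2 ^ i := fun x hx => by
    obtain ⟨i, hi⟩ := hQ.exists_card_eq
    obtain ⟨k, -, hk⟩ := (Nat.dvd_prime_pow Nat.prime_two).mp (hi ▸ Q.orderOf_dvd_natCard hx)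
    exact ⟨k, hk⟩
  -- squares are central
  have hsq : ∀ x ∈ Q, x ^ 2 ∈ center K := fun x hx => by
    by_contra h
    by_cases hxc : x ∈ center K
    · exact h (pow_mem hxc 2)
    obtain ⟨h1, -⟩ := d.order x hxc (hQ2 x hx)
    obtain ⟨h2, -⟩ := d.order _ h (hQ2 _ (pow_mem hx 2))
    rw [orderOf_pow' x two_ne_zero, h1, Nat.gcd_eq_right (dvd_pow_self 2 (by have := d.two_le; omega))]
      at h2
    have := Nat.div_lt_self (show 0 < 2 ^ m by positivity) one_lt_two
    omega
  have hz : ∀ x ∈ Q, x ∉ center K → x ^ 2 ^ (m - 1) = z ∧ z ≠ 1 := fun x hx hxc => by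
    obtain ⟨h1, h2⟩ := d.order x hxc (hQ2 x hx)
    refine ⟨h2, fun e => ?_⟩
    have := Nat.le_of_dvd (by positivity) (h1 ▸ orderOf_dvd_of_pow_eq_one (h2.trans e))
    have := Nat.pow_lt_pow_right one_lt_two (show m - 1 < m by have := d.two_le; omega)
    omega
  -- no three independent classes
  have hthree : ∀ x ∈ Q, ∀ y ∈ Q, ∀ w ∈ Q, x ∉ center K → y ∉ center K → w ∉ center K →
      x * y ∉ center K → x * w ∉ center K → y * w ∉ center K → x * (y * w) ∉ center K → False := by
    intro x hx y hy w hw hxc hyc hwc hxyc hxwc hywc hxywc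
    obtain ⟨hxz, hz1⟩ := hz x hx hxc
    rcases eq_or_lt_of_le d.two_le with hm | hm
    · subst hm
      have inv : ∀ v ∈ Q, v ∉ center K → x * v ∉ center K → v * x * v⁻¹ = x⁻¹ := by
        intro v hv hvc hxvc
        have e1 : x ^ 2 = z := by simpa using hxz
        have e2 : v ^ 2 = z := by simpa using (hz v hv hvc).1
        have e3 : (x * v) ^ 2 = z := by simpa using (hz _ (mul_mem hx hv) hxvc).1
        have hzc : Commute z v := e2 ▸ (Commute.refl v).pow_left 2
        have e4 : x * v * x * v = x * x := by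
          rw [← sq, e1, ← e3, sq]; group
        have e5 : v * x * v = x := mul_left_cancel (a := x) (by
          simpa only [mul_assoc] using e4)
        calc v * x * v⁻¹ = v * x * v * (v ^ 2)⁻¹ := by rw [sq]; group
          _ = x * z⁻¹ := by rw [e5, e2]
          _ = x⁻¹ := by rw [← e1, sq]; group
      have h1 := inv y hy hyc hxyc
      have h2 := inv w hw hwc hxwc
      have h3 := inv _ (mul_mem hy hw) hywc hxywc
      have h4 : x = x⁻¹ := by
        rw [← h3, show y * w * x * (y * w)⁻¹ = y * (w * x * w⁻¹) * y⁻¹ by group, h2, ← conj_inv, h1,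
          inv_inv]
      refine hz1 (hxz ▸ ?_)
      rw [show 2 ^ (2 - 1) = 2 from rfl, sq]
      exact mul_eq_one_iff_eq_inv.mpr h4
    · obtain ⟨hyz, -⟩ := hz y hy hyc
      obtain ⟨hxyz, -⟩ := hz _ (mul_mem hx hy) hxyc
      set c := (x ^ 2)⁻¹ * (x * y) ^ 2 * (y ^ 2)⁻¹ with hc
      have hcc : c ∈ center K :=
        mul_mem (mul_mem (inv_mem (hsq x hx)) (hsq _ (mul_mem hx hy))) (inv_mem (hsq y hy))
      have hc' : y * x = x * c * y := by rw [hc, sq, sq, sq]; group
      have hc2 : c ^ 2 = 1 := by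
        have hconj : y * x * y⁻¹ = x * c := by rw [hc']; group
        have h : y * x ^ 2 * y⁻¹ = x ^ 2 * c ^ 2 := by
          rw [← conj_pow, hconj, (show Commute x c from mem_center_iff.mp hcc x).mul_pow]
        rw [mem_center_iff.mp (hsq x hx) y, mul_inv_cancel_right] at h
        exact (mul_eq_left.mp h.symm)
      have e : (x * y) ^ 2 = x ^ 2 * c * y ^ 2 := by rw [hc]; group
      have hcm : ∀ u : K, Commute c u := fun u => (mem_center_iff.mp hcc u).symm
      have hxm : Commute (x ^ 2) (c * y ^ 2) := (mem_center_iff.mp (hsq x hx) _).symm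
      have hm2 : 2 ^ (m - 1) = 2 * 2 ^ (m - 2) := by
        rw [← pow_succ']; congr 1; omega
      rw [hm2, pow_mul] at hxz hyz hxyz
      rw [e, mul_assoc, hxm.mul_pow, (hcm _).mul_pow, hxz, hyz,
        show 2 ^ (m - 2) = 2 * 2 ^ (m - 3) by rw [← pow_succ']; congr 1; omega, pow_mul, hc2,
        one_pow, one_mul] at hxyz
      exact hz1 (mul_eq_left.mp hxyz)
  -- at most four classes
  set π := QuotientGroup.mk' (center K) with hπ
  set Qb := Q.map π with hQb
  have hker : ∀ {x : K}, π x = 1 ↔ x ∈ center K := fun {x} => QuotientGroup.eq_one_iff x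
  have hcard : Nat.card Qb ≤ 4 := by
    classical
    by_contra hlt
    push Not at hlt
    haveI := Fintype.ofFinite Qb
    rw [Nat.card_eq_fintype_card] at hlt
    have pick : ∀ s : Finset Qb, s.card ≤ 4 → ∃ u, u ∉ s := fun s hs => by
      by_contra h
      push Not at h
      have := Finset.card_le_card (fun u (_ : u ∈ Finset.univ) => h u)
      rw [Finset.card_univ] at this
      omega
    have hinv : ∀ u : Qb, u⁻¹ = u := fun u => by
      obtain ⟨x, hx, hxu⟩ := u.2
      refine inv_eq_of_mul_eq_one_right (Subtype.ext ?_)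
      show (u : K ⧸ center K) * u = 1
      rw [← hxu, ← map_mul, ← sq]
      exact hker.mpr (hsq x hx)
    obtain ⟨u, hu⟩ := pick {1} (by simp)
    obtain ⟨v, hv⟩ := pick {1, u} (Finset.card_le_two.trans (by norm_num))
    obtain ⟨w, hw⟩ := pick {1, u, v, u * v} (Finset.card_le_four)
    simp only [Finset.mem_insert, Finset.mem_singleton, not_or] at hu hv hw
    obtain ⟨x, hx, hxu⟩ := u.2
    obtain ⟨y, hy, hyv⟩ := v.2
    obtain ⟨t, ht, htw⟩ := w.2
    have nc : ∀ (q : K) (r : Qb), π q = (r : K ⧸ center K) → r ≠ 1 → q ∉ center K :=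
      fun q r e hr hq => hr (Subtype.ext (e.symm.trans (hker.mpr hq)))
    have ne_mul : ∀ {r s : Qb}, r ≠ s → r * s ≠ 1 := fun {r s} h e => h (by
      rw [eq_inv_of_mul_eq_one_left e, hinv])
    refine hthree x hx y hy t ht (nc x u hxu hu) (nc y v hyv hv.1) (nc t w htw hw.1)
      (nc _ (u * v) ?_ (ne_mul (Ne.symm hv.2))) (nc _ (u * w) ?_ (ne_mul (Ne.symm hw.2.1)))
      (nc _ (v * w) ?_ (ne_mul (Ne.symm hw.2.2.1))) (nc _ (u * v * w) ?_ (ne_mul (Ne.symm hw.2.2.2)))
    all_goals simp only [map_mul, hxu, hyv, htw, Subgroup.coe_mul, mul_assoc]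
  -- an element of order prime to `6` centralises `Q`
  have hcentral : ∀ h ∈ zpowers g, ¬ 3 ∣ orderOf h → h ∈ centralizer (Q : Set K) := by
    intro h hh h3
    have hhN : h ∈ normalizer (Q : Set K) := (zpowers_le.mpr hg) hh
    have ho2 : (orderOf h).Coprime 2 := hgo.coprime_dvd_left (orderOf_dvd_of_mem_zpowers hh)
    have ho6 : (orderOf h).Coprime 24 := by
      have : (orderOf h).Coprime 3 := ((Nat.prime_three.coprime_iff_not_dvd).mpr h3).symm
      simpa using (ho2.pow_right 3).mul_right this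
    have hπN : π h ∈ normalizer (Qb : Set (K ⧸ center K)) := le_normalizer_map π ⟨h, hhN, rfl⟩
    have hd : orderOf (normalizerMonoidHom Qb ⟨π h, hπN⟩) ∣ 24 := by
      refine (_root_.orderOf_dvd_natCard _).trans ?_
      refine dvd_trans (Subgroup.card_dvd_of_injective (MulAut.toPerm Qb)
        fun a b e => MulEquiv.ext fun u => congrArg (fun σ : Equiv.Perm Qb => σ u) e) ?_
      rw [Nat.card_perm]
      exact Nat.factorial_dvd_factorial hcard
    have hd' : orderOf (normalizerMonoidHom Qb ⟨π h, hπN⟩) ∣ orderOf h :=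
      (orderOf_map_dvd _ _).trans (by
        rw [Subgroup.orderOf_mk]; exact orderOf_map_dvd _ _)
    have hone := orderOf_eq_one_iff.mp (Nat.eq_one_of_dvd_coprimes ho6 hd' hd)
    refine mem_centralizer_iff.mpr fun q hq => ?_
    set zc := q⁻¹ * (h * q * h⁻¹) with hzc
    have hzcen : zc ∈ center K := by
      have e := congrArg Subtype.val
        (congrArg (fun σ : MulAut Qb => σ ⟨π q, mem_map_of_mem π hq⟩) hone)
      rw [normalizerMonoidHom_apply_apply_coe] at e
      refine hker.mp ?_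
      simp only [hzc, map_mul, map_inv]
      simpa [inv_mul_eq_one] using e.symm
    have hzQ : zc ∈ Q := mul_mem (inv_mem hq) ((mem_normalizer_iff.mp hhN q).mp hq)
    have hpow : ∀ k : ℕ, h ^ k * q * (h ^ k)⁻¹ = q * zc ^ k := by
      intro k
      induction k with
      | zero => simp
      | succ k ih =>
        have hcz : h * zc ^ k = zc ^ k * h := mem_center_iff.mp (pow_mem hzcen k) h
        calc h ^ (k + 1) * q * (h ^ (k + 1))⁻¹ = h * (h ^ k * q * (h ^ k)⁻¹) * h⁻¹ := by
              rw [pow_succ']; group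
          _ = h * q * (h⁻¹ * h) * zc ^ k * h⁻¹ := by rw [ih]; group
          _ = h * q * h⁻¹ * (h * zc ^ k) * h⁻¹ := by group
          _ = q * zc * (zc ^ k * h) * h⁻¹ := by rw [hcz, hzc]; group
          _ = q * zc ^ (k + 1) := by rw [pow_succ']; group
    have h1 := hpow (orderOf h)
    rw [pow_orderOf_eq_one, one_mul, inv_one, mul_one] at h1
    obtain ⟨i, hi⟩ := hQ2 zc hzQ
    have h2 : orderOf zc ∣ orderOf h := orderOf_dvd_of_pow_eq_one (mul_eq_left.mp h1.symm)
    have h3 : zc = 1 := orderOf_eq_one_iff.mp (Nat.eq_one_of_dvd_coprimes (ho2.pow_right i) h2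
      (hi ▸ dvd_rfl))
    rw [hzc, inv_mul_eq_one] at h3
    exact (mul_inv_eq_iff_eq_mul.mp h3.symm).symm
  -- the `3`-part of `g`
  set n := orderOf g with hn
  obtain ⟨i, r, hr, hir⟩ := Nat.exists_eq_pow_mul_and_not_dvd (orderOf_pos g).ne' 3 (by norm_num)
  rw [← hn] at hir
  have hcop : (3 ^ i).Coprime r := ((Nat.prime_three.coprime_iff_not_dvd).mpr hr).pow_left i
  have hr0 : r ≠ 0 := fun e => hr (e ▸ dvd_zero 3)
  refine ⟨g ^ r, fun hcen => hgc fun q hq => ?_, i, ?_⟩
  · have h' : g ^ 3 ^ i ∈ centralizer (Q : Set K) := hcentral _ (pow_mem (mem_zpowers g) _) (by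
      rw [orderOf_pow' g (pow_ne_zero _ three_ne_zero), ← hn, hir,
        Nat.gcd_eq_right (dvd_mul_right _ _), Nat.mul_div_cancel_left _ (pow_pos three_pos _)]
      exact hr)
    have hgr : g ^ r ∈ centralizer (Q : Set K) :=
      mem_centralizer_iff.mpr fun q _ => mem_center_iff.mp hcen q
    have hgmem : g ∈ centralizer (Q : Set K) := by
      obtain ⟨a, b, hab⟩ := Int.isCoprime_iff_gcd_eq_one.mpr
        (show Int.gcd ((3 ^ i : ℕ) : ℤ) (r : ℤ) = 1 from (Int.gcd_natCast_natCast _ _).trans hcop)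
      have e : (g ^ 3 ^ i) ^ a * (g ^ r) ^ b = g := by
        rw [← zpow_natCast g (3 ^ i), ← zpow_natCast g r, ← zpow_mul, ← zpow_mul, ← zpow_add,
          mul_comm _ a, mul_comm _ b, hab, zpow_one]
      exact e ▸ mul_mem (zpow_mem h' a) (zpow_mem hgr b)
    exact mem_centralizer_iff.mp hgmem q hq
  · rw [orderOf_pow' g hr0, ← hn, hir, Nat.gcd_eq_right (dvd_mul_left _ _),
      Nat.mul_div_cancel _ (Nat.pos_of_ne_zero hr0)]

variable (hFT : ∀ (H : Type u) [Group H] [Finite H], Odd (Nat.card H) → Group.IsSolvable H)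
include hFT

/-- A component has a `2`-element outside its centre. -/
theorem exists_two (hK : Cfsg.IsComponent K) :
    ∃ a : K, a ∉ center K ∧ ∃ i, orderOf a = 2 ^ i := by
  have := Fact.mk Nat.prime_two
  by_contra h
  push Not at h
  have hq := hK.2
  have hall : ∀ P : Sylow 2 K, (P : Subgroup K) ≤ center K := fun P x hx => by
    by_contra hxc
    obtain ⟨i, hi⟩ := P.isPGroup'.exists_card_eq
    obtain ⟨k, -, hk⟩ := (Nat.dvd_prime_pow Nat.prime_two).mp
      (hi ▸ (P : Subgroup K).orderOf_dvd_natCard hx)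
    exact h x hxc k hk
  have hodd : Odd (Nat.card (K ⧸ center K)) := by
    rw [← Subgroup.index_eq_card, ← Nat.not_even_iff_odd, even_iff_two_dvd]
    intro hd
    obtain P : Sylow 2 K := default
    exact P.not_dvd_index (hd.trans (index_dvd_of_le (hall P)))
  have hs := hFT _ hodd
  haveI := hq.2
  haveI : Group.IsPerfect (K ⧸ center K) :=
    haveI := hq.1
    Group.IsPerfect.ofSurjective (f := QuotientGroup.mk' (center K)) (QuotientGroup.mk'_surjective _)
  exact Group.IsPerfect.not_isSolvable (K ⧸ center K) hs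

include hP

/-- There is at most one component. -/
theorem component_unique (hK : Cfsg.IsComponent K) (hL : Cfsg.IsComponent L) : K = L := by
  by_contra hne
  have hne' : L ≠ K := fun e => hne e.symm
  obtain ⟨a, ha, i, hi⟩ := exists_two hFT hK
  obtain ⟨b, hb, j, hj⟩ := exists_two hFT hL
  rw [← moved_iff_notMem_center] at ha hb
  rw [← Subgroup.orderOf_coe] at hi hj
  -- the data in each component
  have data : ∀ {K L : Subgroup G}, Cfsg.IsComponent K → Cfsg.IsComponent L → K ≠ L →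
      ∀ {b : G}, b ∈ L → Moved L b → ∀ {j : ℕ}, orderOf b = 2 ^ j →
      ∀ {a₀ : K}, a₀ ∉ center K → (∃ i, orderOf a₀ = 2 ^ i) →
      ∃ z : K, TwoData K j z := by
    intro K L hK hL hne b hb hmb j hj a₀ ha₀ hao
    have key : ∀ x : K, x ∉ center K → (∃ i, orderOf x = 2 ^ i) →
        orderOf x = 2 ^ j ∧ ((x : G) ^ 2 ^ (j - 1)) * b ^ 2 ^ (j - 1) = 1 := by
      intro x hx ⟨k, hk⟩
      rw [← moved_iff_notMem_center] at hx
      rw [← Subgroup.orderOf_coe] at hk
      obtain ⟨rfl, h⟩ := order_data hP hK hL hne Nat.prime_two x.2 hb hx hmb hk hj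
      exact ⟨(Subgroup.orderOf_coe x).symm.trans hk, h⟩
    have hj2 : 2 ≤ j := by
      by_contra hlt
      obtain ⟨h1, h2⟩ := key a₀ ha₀ hao
      rcases (show j = 0 ∨ j = 1 by omega) with rfl | rfl
      · rw [pow_zero, orderOf_eq_one_iff] at h1
        exact ha₀ (h1 ▸ one_mem _)
      · rw [show 2 ^ (1 - 1) = 1 from rfl, pow_one, pow_one] at h2
        refine hne (Moved.eq_of_mem hL hK ?_ ((moved_iff_notMem_center a₀).mpr ha₀))
        rw [eq_inv_of_mul_eq_one_left h2]
        exact inv_mem hb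
    refine ⟨a₀ ^ 2 ^ (j - 1), hj2, fun x hx hxo => ?_, fun x hx hxo => ?_⟩
    · obtain ⟨h1, h2⟩ := key x hx hxo
      obtain ⟨-, h3⟩ := key a₀ ha₀ hao
      refine ⟨h1, Subtype.ext ?_⟩
      rw [SubgroupClass.coe_pow, SubgroupClass.coe_pow]
      exact mul_right_cancel (h2.trans h3.symm)
    · have hax : a₀ * x ∉ center K := fun h => ha₀ (by simpa using mul_mem h (inv_mem hx))
      have hcx : Commute a₀ x := mem_center_iff.mp hx a₀
      have hao' : ∃ i, orderOf (a₀ * x) = 2 ^ i := by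
        obtain ⟨i, hi⟩ := hao
        obtain ⟨k, hk⟩ := hxo
        have hd := hcx.orderOf_mul_dvd_lcm
        rw [hi, hk] at hd
        obtain ⟨r, -, hr⟩ := (Nat.dvd_prime_pow Nat.prime_two).mp
          (hd.trans (Nat.lcm_dvd (Nat.pow_dvd_pow 2 (le_max_left i k))
            (Nat.pow_dvd_pow 2 (le_max_right i k))))
        exact ⟨r, hr⟩
      obtain ⟨-, h1⟩ := key a₀ ha₀ hao
      obtain ⟨-, h2⟩ := key _ hax hao'
      refine Subtype.ext ?_
      have := mul_right_cancel (h2.trans h1.symm)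
      rw [← SubgroupClass.coe_pow, ← SubgroupClass.coe_pow, hcx.mul_pow, Subgroup.coe_mul] at this
      rw [SubgroupClass.coe_pow] at this ⊢
      exact mul_eq_left.mp this
  obtain ⟨za, da⟩ := data hK hL hne b.2 hb hj (a₀ := a) ((moved_iff_notMem_center a).mp ha)
    ⟨i, (Subgroup.orderOf_coe a).symm.trans hi⟩
  obtain ⟨zb, db⟩ := data hL hK hne' a.2 ha hi (a₀ := b) ((moved_iff_notMem_center b).mp hb)
    ⟨j, (Subgroup.orderOf_coe b).symm.trans hj⟩
  have hno : ∀ {M : Subgroup G}, Cfsg.IsComponent M → ¬ Cfsg.HasNormalPComplement 2 M := by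
    intro M hM hc
    obtain ⟨N, hN, hNc, k, hk⟩ := Transfer.NormalPComplement.hasNormalPComplement_iff_exists.mp hc
    by_cases hNt : N = ⊤
    · subst hNt
      refine quasisimple_not_isSolvable hM.2 (hFT _ ?_)
      rw [card_top] at hNc
      exact Nat.Coprime.odd_of_right hNc
    · haveI := hM.2.1
      haveI : Group.IsPerfect (↥M ⧸ N) :=
        Group.IsPerfect.ofSurjective (f := QuotientGroup.mk' N) (QuotientGroup.mk'_surjective _)
      haveI : Nontrivial (↥M ⧸ N) := QuotientGroup.nontrivial_iff.mpr hNt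
      haveI := Fact.mk Nat.prime_two
      have hp : IsPGroup 2 (↥M ⧸ N) := IsPGroup.of_card (n := k) (by rw [← index_eq_card, hk])
      haveI := hp.isNilpotent
      exact Group.IsPerfect.not_isSolvable (↥M ⧸ N) inferInstance
  obtain ⟨x, hx, ix, hix⟩ := TwoData.exists_three da (hno hK)
  obtain ⟨y, hy, iy, hiy⟩ := TwoData.exists_three db (hno hL)
  exact no_odd hP hK hL hne Nat.prime_three (by norm_num) x.2 y.2
    ((moved_iff_notMem_center x).mpr hx) ((moved_iff_notMem_center y).mpr hy)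
    (i := ix) (j := iy) (by rw [Subgroup.orderOf_coe, hix]) (by rw [Subgroup.orderOf_coe, hiy])

/-- The layer is quasisimple. -/
theorem layer_simple (hE : Cfsg.layer G ≠ ⊥) :
    IsSimpleGroup (↥(Cfsg.layer G) ⧸ Subgroup.center ↥(Cfsg.layer G)) ∧
      ¬ IsMulCommutative (↥(Cfsg.layer G) ⧸ Subgroup.center ↥(Cfsg.layer G)) := by
  obtain ⟨K, hK⟩ : ∃ K : Subgroup G, Cfsg.IsComponent K := by
    by_contra h
    push Not at h
    exact hE (sSup_eq_bot.mpr fun K hK => absurd hK (h K))
  have e : Cfsg.layer G = K :=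
    le_antisymm (sSup_le fun L hL => (component_unique hP hFT hL hK).le) (le_sSup hK)
  rw [e]
  refine ⟨hK.2.2, fun hc => ?_⟩
  haveI := hK.2.2
  haveI : Group.IsPerfect (↥K ⧸ center K) :=
    haveI := hK.2.1
    Group.IsPerfect.ofSurjective (f := QuotientGroup.mk' (center K)) (QuotientGroup.mk'_surjective _)
  exact Group.IsPerfect.not_isSolvable (↥K ⧸ center K) (Group.isSolvable_of_comm fun a b => hc.is_comm.comm a b)

end Cfsg.Agent.GenA.CyclicConjugateLayer
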