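import Mathlib
import Cfsg.Agent.S3754
import Cfsg.Agent.Lib.PLocal.S4Section
import Cfsg.Agent.Lib.Coprime.SchurZassenhaus
import Cfsg.Agent.Lib.PLocal.GlaubermanReplacement
import Cfsg.Agent.Lib.PLocal.PSolvable

/-!
A cyclic normal subgroup of a Sylow `p`-subgroup of a `p`-soluble group which acts on a
self-centralising elementary abelian `O_p` forces `p = 2` and an `S_4` section.
-/

set_option autoImplicit false

namespace Cfsg.Agent.GenA.CyclicNormal

open Cfsg Subgroup
open scoped commutatorElement Pointwise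

variable {G : Type*} [Group G] [Finite G] {p : ℕ} [hp : Fact p.Prime]

theorem fixed_of_zpowers_le {a z : G} {i : ℤ} (h : z = a ^ i) : a * z = z * a := by
  rw [h]; exact (Commute.refl a).zpow_right i |>.eq

theorem core (hsol : IsPSolvable p G) (V : Subgroup G) [V.Normal] (hV : IsElementaryAbelian p V)
    (hVc : centralizer (V : Set G) = V) (hVcore : pCore p G = V) (P : Sylow p G) (a : G)
    (haP : a ∈ (P : Subgroup G)) (han : (P : Subgroup G) ≤ normalizer (zpowers a : Set G))
    (haV : a ∉ V) (hapV : a ^ p ∈ V) : p = 2 ∧ Cfsg.Involves (Equiv.Perm (Fin 4)) G := by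
  classical
  have hpp : p.Prime := hp.out
  have hVP : V ≤ (P : Subgroup G) := hVcore ▸ PLocal.Cores.pCore_le_sylow P
  have hVab : ∀ u ∈ V, ∀ v ∈ V, u * v = v * u := fun u hu v hv =>
    congrArg Subtype.val (hV.1.is_comm.comm (⟨u, hu⟩ : V) ⟨v, hv⟩)
  set b := a ^ p with hb
  set A := zpowers a with hA
  have hAV : ∀ g ∈ A, g ∈ V → g ∈ zpowers b := by
    rintro _ ⟨i, rfl⟩ hiV
    by_cases hd : (p : ℤ) ∣ i
    · obtain ⟨j, rfl⟩ := hd
      exact ⟨j, by rw [hb]; simp [← zpow_natCast, ← zpow_mul]⟩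
    · exfalso
      obtain ⟨u, v, huv⟩ := (Nat.prime_iff_prime_int.1 hpp).coprime_iff_not_dvd.2 hd
      refine haV ?_
      have h1 : a ^ (u * (p : ℤ) + v * i) = a := by rw [huv, zpow_one]
      rw [← h1, zpow_add, zpow_mul', zpow_mul', zpow_natCast]
      exact V.mul_mem (V.zpow_mem hapV u) (V.zpow_mem hiV v)
  have hb1 : b ^ p = 1 := hV.2 b hapV
  have hab : a * b = b * a := by rw [hb]; exact ((Commute.refl a).pow_right p).eq
  have hcomm : ∀ v ∈ V, v * a * v⁻¹ * a⁻¹ ∈ zpowers b := by
    intro v hv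
    refine hAV _ (A.mul_mem ((mem_normalizer_iff.mp (han (hVP hv)) a).mp (mem_zpowers a)) (A.inv_mem (mem_zpowers a))) ?_
    rw [show v * a * v⁻¹ * a⁻¹ = v * (a * v⁻¹ * a⁻¹) by group]
    exact V.mul_mem hv (Subgroup.Normal.conj_mem inferInstance _ (V.inv_mem hv) a)
  have hAp : IsPGroup p A := P.2.to_le (zpowers_le.mpr haP)
  have hΦ : (frattini ↥A).map A.subtype ≤ pCore p G := by
    rw [hVcore]
    have hidx : (V.subgroupOf A).index = p := by
      obtain ⟨k, hk⟩ := hAp.exists_card_eq
      let f : ↥A →* G ⧸ V := (QuotientGroup.mk' V).comp A.subtype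
      have hker : f.ker = V.subgroupOf A := by
        ext g; exact (QuotientGroup.eq_one_iff (g : G))
      have hr : f.range = zpowers (QuotientGroup.mk' V a) := by
        rw [MonoidHom.range_comp, range_subtype, hA, MonoidHom.map_zpowers]
      rw [← hker, index_ker, hr, Nat.card_zpowers]
      refine orderOf_eq_prime ?_ fun h => haV ((QuotientGroup.eq_one_iff a).mp h)
      rw [← map_pow]; exact (QuotientGroup.eq_one_iff _).mpr hapV
    have hle : frattini ↥A ≤ V.subgroupOf A := by
      refine Order.radical_le_coatom ⟨fun h => ?_, fun K hK => ?_⟩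
      · rw [h, index_top] at hidx; exact hpp.ne_one hidx.symm
      · have h1 := Subgroup.index_dvd_of_le hK.le
        rw [hidx] at h1
        rcases (Nat.dvd_prime hpp).mp h1 with h | h
        · exact index_eq_one.mp h
        · exfalso
          have h2 := Subgroup.relIndex_mul_index hK.le
          rw [hidx, h] at h2
          exact hK.not_ge (Subgroup.relIndex_eq_one.mp (Nat.eq_of_mul_eq_mul_right hpp.pos (by rw [h2, one_mul])))
    rintro _ ⟨g, hg, rfl⟩
    exact hle hg
  obtain ⟨x, hxK, hxR, hRK, hRA, hidxA, -⟩ := S3754.result hsol A hAp hΦ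
    (fun h => haV (hVcore ▸ h (mem_zpowers a)))
  set L := A ⊔ A.map (MulAut.conj x).toMonoidHom with hL
  set R := (pResidual p ↥L).map L.subtype with hR
  set Kp := (pPrimeCore p (G ⧸ pCore p G)).comap (QuotientGroup.mk' (pCore p G)) with hKp
  -- `L` is no `p`-group
  have hnp : ¬ IsPGroup p L := by
    intro h
    have h1 : pCore p ↥L = ⊤ := (PLocal.Cores.isPGroup_iff_pCore_eq_top).mp h
    rw [h1, ← MonoidHom.range_eq_map, range_subtype, inf_eq_left.mpr (le_sup_left : A ≤ L), relIndex_self] at hidxA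
    exact hpp.ne_one hidxA.symm
  set a' := x * a * x⁻¹ with ha'
  set b' := x * b * x⁻¹ with hb'
  have hbV : b ∈ V := hapV
  have hb'V : b' ∈ V := Subgroup.Normal.conj_mem inferInstance b hbV x
  have haL : a ∈ L := Subgroup.mem_sup_left (mem_zpowers a)
  have ha'L : a' ∈ L := Subgroup.mem_sup_right ⟨a, mem_zpowers a, rfl⟩
  have hcomm' : ∀ v ∈ V, v * a' * v⁻¹ * a'⁻¹ ∈ zpowers b' := by
    intro v hv
    have h := hcomm _ (show x⁻¹ * v * x ∈ V by simpa using Subgroup.Normal.conj_mem inferInstance v hv x⁻¹)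
    obtain ⟨i, hi⟩ := h
    refine ⟨i, ?_⟩
    show b' ^ i = _
    rw [hb', conj_zpow, show b ^ i = _ from hi, ha']
    group
  set W := zpowers b ⊔ zpowers b' with hW
  have hWV : W ≤ V := sup_le (zpowers_le.mpr hbV) (zpowers_le.mpr hb'V)
  have hWa : ∀ v ∈ V, v * a * v⁻¹ * a⁻¹ ∈ W := fun v hv => Subgroup.mem_sup_left (hcomm v hv)
  have hWa' : ∀ v ∈ V, v * a' * v⁻¹ * a'⁻¹ ∈ W := fun v hv => Subgroup.mem_sup_right (hcomm' v hv)
  have hnormW : ∀ g, (∀ v ∈ V, v * g * v⁻¹ * g⁻¹ ∈ W) → g ∈ normalizer (W : Set G) := by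
    intro g hg
    refine PLocal.GlaubermanReplacement.mem_normalizer_of_conj_mem ?_
    intro w hw
    rw [show g * w * g⁻¹ = w * (w⁻¹ * g * w⁻¹⁻¹ * g⁻¹) by group]
    exact W.mul_mem hw (hg _ (V.inv_mem (hWV hw)))
  have hLW : L ≤ normalizer (W : Set G) := by
    refine sup_le (zpowers_le.mpr (hnormW a hWa)) ?_
    rw [hA, MonoidHom.map_zpowers, zpowers_le]
    exact hnormW a' hWa'
  -- `W` is not centralised
  have hchain : ¬ ∀ g ∈ L, ∀ w ∈ W, g * w = w * g := by
    intro hc
    let S : Subgroup G :=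
      { carrier := {g | (∀ w ∈ W, g * w = w * g) ∧ ∀ v ∈ V, v * g * v⁻¹ * g⁻¹ ∈ W}
        one_mem' := ⟨fun w _ => by simp, fun v _ => by simp [W.one_mem]⟩
        mul_mem' := fun {g h} hg hh => ⟨fun w hw => (Commute.mul_left (hg.1 w hw) (hh.1 w hw)), fun v hv => by
          rw [show v * (g * h) * v⁻¹ * (g * h)⁻¹ = (v * g * v⁻¹ * g⁻¹) * (g * (v * h * v⁻¹ * h⁻¹) * g⁻¹) by group,
            hg.1 _ (hh.2 v hv), mul_inv_cancel_right]
          exact W.mul_mem (hg.2 v hv) (hh.2 v hv)⟩
        inv_mem' := fun {g} hg => ⟨fun w hw => (Commute.inv_left (hg.1 w hw)), fun v hv => by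
          have h1 := W.inv_mem (hg.2 v hv)
          have h2 : g⁻¹ * (v * g * v⁻¹ * g⁻¹)⁻¹ * g = (v * g * v⁻¹ * g⁻¹)⁻¹ := by
            rw [mul_assoc, ← hg.1 _ h1, inv_mul_cancel_left]
          rw [show v * g⁻¹ * v⁻¹ * g⁻¹⁻¹ = g⁻¹ * (v * g * v⁻¹ * g⁻¹)⁻¹ * g by
            have hh : (g⁻¹ : G) * (v * g * v⁻¹ * g⁻¹)⁻¹ * g = v * g⁻¹ * v⁻¹ * g := by group
            rw [hh, inv_inv], h2]
          exact h1⟩ }
    have hLS : L ≤ S := by
      refine sup_le (zpowers_le.mpr ⟨hc a haL, hWa⟩) ?_
      rw [hA, MonoidHom.map_zpowers, zpowers_le]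
      exact ⟨hc a' ha'L, hWa'⟩
    refine hnp fun g => ?_
    obtain ⟨hgW, hgV⟩ := hLS g.2
    have hgp : (g : G) ^ p ∈ V := by
      rw [← hVc, mem_centralizer_iff]
      intro v hv
      set c := v * (g : G) * v⁻¹ * (g : G)⁻¹ with hc'
      have e : v * (g : G) * v⁻¹ = c * g := by rw [hc']; group
      have e2 : v * (g : G) ^ p * v⁻¹ = (g : G) ^ p := by
        rw [← conj_pow, e, (show Commute c g from (hgW c (hgV v hv)).symm).mul_pow, hV.2 c (hWV (hgV v hv)), one_mul]
      exact mul_inv_eq_iff_eq_mul.mp e2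
    refine ⟨2, Subtype.ext ?_⟩
    rw [pow_two, pow_mul, SubgroupClass.coe_pow, SubgroupClass.coe_pow, hV.2 _ hgp]
    rfl
  set C := V ⊓ centralizer (L : Set G) with hC
  have hbord : b ≠ 1 → ∀ w ∈ zpowers b, w ≠ 1 → b ∈ zpowers w := by
    intro hbn w hw hw1
    have ho : Nat.card (zpowers b) = p := by rw [Nat.card_zpowers, orderOf_eq_prime hb1 hbn]
    have := Subgroup.eq_of_le_of_card_ge (zpowers_le.mpr hw) (by
      rw [ho, Nat.card_zpowers]
      exact Nat.le_of_dvd (orderOf_pos w) (dvd_of_eq (orderOf_eq_prime (hV.2 w ((zpowers_le.mpr hbV) hw)) hw1).symm))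
    exact this ▸ mem_zpowers b
  -- the fixed points of `a` in `W`
  have hfixW : ∀ (c d : G), c ∈ V → d ∈ V → ∀ g, g * c = c * g → ¬ g * d = d * g →
      ∀ w ∈ zpowers c ⊔ zpowers d, g * w = w * g → w ∈ zpowers c := by
    intro c d hc hd g hgc hgd w hw hgw
    obtain ⟨u, hu, t, ht, rfl⟩ := (show w ∈ ((zpowers c : Set G) * (zpowers d : Set G)) by
      rw [← Subgroup.coe_mul_of_left_le_normalizer_right (zpowers c) (zpowers d) (fun y hy =>
        centralizer_le_normalizer _ (mem_centralizer_iff.mpr fun z hz => hVab z ((zpowers_le.mpr hd) hz) y ((zpowers_le.mpr hc) hy)))]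
      exact hw)
    obtain ⟨i, rfl⟩ := hu
    obtain ⟨j, rfl⟩ := ht
    by_cases hj : (p : ℤ) ∣ j
    · obtain ⟨k, rfl⟩ := hj
      have : d ^ ((p : ℤ) * k) = 1 := by rw [zpow_mul, zpow_natCast, hV.2 d hd, one_zpow]
      show c ^ i * d ^ ((p : ℤ) * k) ∈ zpowers c
      rw [this, mul_one]; exact zpow_mem (mem_zpowers c) i
    · exfalso
      refine hgd ?_
      have hci : Commute g (c ^ i) := Commute.zpow_right hgc i
      have hdj : Commute g (d ^ j) := by
        have := hci.inv_right.mul_right (show Commute g (c ^ i * d ^ j) from hgw)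
        rwa [inv_mul_cancel_left] at this
      obtain ⟨u, v, huv⟩ := (Nat.prime_iff_prime_int.1 hpp).coprime_iff_not_dvd.2 hj
      have h1 : d ^ (u * (p : ℤ) + v * j) = d := by rw [huv, zpow_one]
      rw [← h1, zpow_add, zpow_mul' d u, zpow_natCast, hV.2 d hd, one_zpow, one_mul, zpow_mul']
      exact (hdj.zpow_right v).eq
  have hab' : a' * b' = b' * a' := by
    rw [ha', hb']
    calc x * a * x⁻¹ * (x * b * x⁻¹) = x * (a * b) * x⁻¹ := by group
      _ = x * (b * a) * x⁻¹ := by rw [hab]
      _ = _ := by group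
  have hgenL : ∀ w, a * w = w * a → a' * w = w * a' → ∀ g ∈ L, g * w = w * g := by
    intro w h1 h2 g hg
    have : L ≤ centralizer ({w} : Set G) := by
      refine sup_le (zpowers_le.mpr (mem_centralizer_singleton_iff.mpr h1)) ?_
      rw [hA, MonoidHom.map_zpowers, zpowers_le]
      exact mem_centralizer_singleton_iff.mpr h2
    exact mem_centralizer_singleton_iff.mp (this hg)
  have hmv : ¬ a * b' = b' * a ∧ ¬ a' * b = b * a' := by
    constructor
    · intro hfix
      refine hchain ?_
      by_cases h2 : a' * b = b * a'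
      · intro g hg w hw
        have : W ≤ centralizer ({g} : Set G) := sup_le
          (zpowers_le.mpr (mem_centralizer_singleton_iff.mpr (hgenL b hab h2 g hg).symm))
          (zpowers_le.mpr (mem_centralizer_singleton_iff.mpr (hgenL b' hfix hab' g hg).symm))
        exact (mem_centralizer_singleton_iff.mp (this hw)).symm
      · exfalso
        -- `a` centralises `W`, hence so does its conjugate `a'`
        exact h2 (by
          have hLWc : ∀ w ∈ W, a * w = w * a := fun w hw => by
            have : W ≤ centralizer ({a} : Set G) := sup_le (zpowers_le.mpr (mem_centralizer_singleton_iff.mpr hab.symm))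
              (zpowers_le.mpr (mem_centralizer_singleton_iff.mpr hfix.symm))
            exact (mem_centralizer_singleton_iff.mp (this hw)).symm
          have hxW : x⁻¹ ∈ normalizer (W : Set G) := inv_mem (hLW (map_subtype_le _ hxR))
          have h3 := hLWc _ ((mem_normalizer_iff.mp hxW b).mp (Subgroup.mem_sup_left (mem_zpowers b)))
          rw [ha']
          calc x * a * x⁻¹ * b = x * (a * (x⁻¹ * b * x⁻¹⁻¹)) * x⁻¹ := by group
            _ = x * ((x⁻¹ * b * x⁻¹⁻¹) * a) * x⁻¹ := by rw [h3]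
            _ = _ := by group)
    · intro hfix
      have hLWc : ∀ w ∈ W, a' * w = w * a' := fun w hw => by
        have : W ≤ centralizer ({a'} : Set G) := sup_le (zpowers_le.mpr (mem_centralizer_singleton_iff.mpr hfix.symm))
          (zpowers_le.mpr (mem_centralizer_singleton_iff.mpr hab'.symm))
        exact (mem_centralizer_singleton_iff.mp (this hw)).symm
      refine hchain fun g hg w hw => hgenL w ?_ (hLWc w hw) g hg
      have hxW : x ∈ normalizer (W : Set G) := hLW (map_subtype_le _ hxR)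
      have h3 := hLWc _ ((mem_normalizer_iff.mp hxW w).mp hw)
      rw [ha'] at h3
      have h4 : x * (a * w) * x⁻¹ = x * (w * a) * x⁻¹ := by
        calc x * (a * w) * x⁻¹ = x * a * x⁻¹ * (x * w * x⁻¹) := by group
          _ = x * w * x⁻¹ * (x * a * x⁻¹) := h3
          _ = _ := by group
      exact mul_left_cancel (mul_right_cancel h4)
  have hbn : b ≠ 1 := fun h => hmv.1 (by rw [hb', h]; group)
  have hWC : W ⊓ C = ⊥ := by
    rw [eq_bot_iff]
    rintro w ⟨hwW, hwC⟩
    have hwL := mem_centralizer_iff.mp hwC.2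
    have h1 := hfixW b b' hbV hb'V a hab hmv.1 w hwW (hwL a haL)
    by_contra hw1
    obtain ⟨i, hi⟩ := hbord hbn w h1 hw1
    refine hmv.2 ?_
    rw [← (show w ^ i = b from hi)]
    exact (Commute.zpow_right (show Commute a' w from hwL a' ha'L) i).eq
  have hVWC : V ≤ W ⊔ C := by
    have hcardle : ∀ (g c : G), c ∈ V → g * c = c * g → (∀ v ∈ V, v * g * v⁻¹ * g⁻¹ ∈ zpowers c) →
        (centralizer ({g} : Set G)).relIndex V ≤ p := by
      intro g c hc hgc hg
      let φ : ↥V →* ↥(zpowers c) :=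
        { toFun := fun v => ⟨(v : G) * g * (v : G)⁻¹ * g⁻¹, hg v v.2⟩
          map_one' := by ext; simp
          map_mul' := fun u v => by
            refine Subtype.ext ?_
            show (u : G) * v * g * ((u : G) * v)⁻¹ * g⁻¹ = ((u : G) * g * (u : G)⁻¹ * g⁻¹) * ((v : G) * g * (v : G)⁻¹ * g⁻¹)
            have h1 : ((v : G) * g * (v : G)⁻¹ * g⁻¹) ∈ V := (zpowers_le.mpr hc) (hg v v.2)
            have h2 : ((u : G) * g * (u : G)⁻¹ * g⁻¹) ∈ V := (zpowers_le.mpr hc) (hg u u.2)
            calc (u : G) * v * g * ((u : G) * v)⁻¹ * g⁻¹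
                = (u : G) * ((v : G) * g * (v : G)⁻¹ * g⁻¹) * (u : G)⁻¹ * ((u : G) * g * (u : G)⁻¹ * g⁻¹) := by group
              _ = ((v : G) * g * (v : G)⁻¹ * g⁻¹) * ((u : G) * g * (u : G)⁻¹ * g⁻¹) := by
                  rw [hVab _ u.2 _ h1, mul_inv_cancel_right]
              _ = _ := hVab _ h1 _ h2 }
      have hk : φ.ker = (centralizer ({g} : Set G)).subgroupOf V := by
        ext v
        rw [MonoidHom.mem_ker, mem_subgroupOf, mem_centralizer_singleton_iff, Subtype.ext_iff]
        show (v : G) * g * (v : G)⁻¹ * g⁻¹ = 1 ↔ _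
        rw [mul_inv_eq_one, mul_inv_eq_iff_eq_mul]
      rw [relIndex, ← hk, index_ker]
      refine (Subgroup.card_le_card_group _).trans ?_
      rw [Nat.card_zpowers]
      exact Nat.le_of_dvd hpp.pos (orderOf_dvd_of_pow_eq_one (hV.2 c hc))
    have hCeq : C = V ⊓ (centralizer ({a} : Set G) ⊓ centralizer ({a'} : Set G)) := by
      refine le_antisymm (le_inf inf_le_left (le_inf ?_ ?_)) ?_
      · exact inf_le_right.trans (centralizer_le (Set.singleton_subset_iff.mpr haL))
      · exact inf_le_right.trans (centralizer_le (Set.singleton_subset_iff.mpr ha'L))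
      · rintro v ⟨hv, hv1, hv2⟩
        exact ⟨hv, mem_centralizer_iff.mpr fun g hg =>
          hgenL v (mem_centralizer_singleton_iff.mp hv1).symm (mem_centralizer_singleton_iff.mp hv2).symm g hg⟩
    have hidxC : C.relIndex V ≤ p * p := by
      rw [hCeq, inf_relIndex_left]
      exact relIndex_inf_le.trans (Nat.mul_le_mul (hcardle a b hbV hab hcomm) (hcardle a' b' hb'V hab' hcomm'))
    have hcardW : p * p ≤ Nat.card W := by
      have h1 : Nat.card (zpowers b) = p := by rw [Nat.card_zpowers, orderOf_eq_prime hb1 hbn]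
      have hb'n : b' ≠ 1 := fun h => hmv.1 (by rw [h]; simp)
      have h1' : Nat.card (zpowers b') = p := by rw [Nat.card_zpowers, orderOf_eq_prime (hV.2 _ hb'V) hb'n]
      have hd : zpowers b ⊓ zpowers b' = ⊥ := by
        rw [eq_bot_iff]
        rintro w ⟨hw, hw'⟩
        by_contra hw1
        obtain ⟨i, rfl⟩ := hw'
        obtain ⟨j, hj⟩ := hbord hbn _ hw hw1
        refine hmv.2 ?_
        rw [← (show (b' ^ i) ^ j = b from hj)]
        exact ((Commute.zpow_right (show Commute a' b' from hab') i).zpow_right j).eq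
      have h2 := PLocal.GlaubermanReplacement.card_sup_mul_card_inf (A := zpowers b) (B := zpowers b')
        (fun y hy => centralizer_le_normalizer _ (mem_centralizer_iff.mpr fun z hz => hVab z ((zpowers_le.mpr hb'V) hz) y ((zpowers_le.mpr hbV) hy)))
      rw [hd, card_bot, mul_one, h1, h1'] at h2
      rw [hW, h2]
    have h2 := PLocal.GlaubermanReplacement.card_sup_mul_card_inf (A := W) (B := C)
      (fun y hy => centralizer_le_normalizer _ (mem_centralizer_iff.mpr fun z hz => hVab z hz.1 y (hWV hy)))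
    rw [hWC, card_bot, mul_one] at h2
    refine (Subgroup.eq_of_le_of_card_ge (sup_le hWV inf_le_left) ?_).ge
    rw [h2, ← relIndex_bot_left V, ← relIndex_mul_relIndex ⊥ C V bot_le inf_le_left, relIndex_bot_left, mul_comm]
    exact Nat.mul_le_mul_right _ (hidxC.trans hcardW)
  -- the complement
  set N := L ⊔ V with hN
  set D := N ⊓ Kp with hD
  have hVK : V ≤ Kp := fun v hv => by
    rw [hKp, mem_comap, show QuotientGroup.mk' (pCore p G) v = 1 from (QuotientGroup.eq_one_iff v).mpr (hVcore ▸ hv)]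
    exact one_mem _
  have hVD : V ≤ D := le_inf le_sup_right hVK
  haveI : (V.subgroupOf D).Normal := inferInstance
  have hVcard : ∃ k, Nat.card V = p ^ k := (Components.Hyperplane.isPGroup hV).exists_card_eq
  have hcopD : (Nat.card (V.subgroupOf D)).Coprime (V.subgroupOf D).index := by
    obtain ⟨k, hk⟩ := hVcard
    rw [Nat.card_congr (subgroupOfEquivOfLe hVD).toEquiv, hk]
    refine Nat.Coprime.pow_left k (hpp.coprime_iff_not_dvd.mpr fun hd => ?_)
    let f : ↥D →* G ⧸ pCore p G := (QuotientGroup.mk' (pCore p G)).comp D.subtype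
    have hker : f.ker = V.subgroupOf D := by
      ext g; exact (QuotientGroup.eq_one_iff (g : G)).trans (by rw [hVcore]; rfl)
    rw [← hker, index_ker] at hd
    have hle : f.range ≤ pPrimeCore p (G ⧸ pCore p G) := by
      rintro _ ⟨g, rfl⟩; exact g.2.2
    exact PLocal.Cores.not_dvd_card_pPrimeCore hpp.ne_one (hd.trans (card_dvd_of_le hle))
  obtain ⟨Y₀, hY₀⟩ := Subgroup.exists_right_complement'_of_coprime hcopD
  set Y := Y₀.map D.subtype with hY
  have hYD : Y ≤ D := map_subtype_le _
  have hYV : Y ⊓ V = ⊥ := by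
    rw [eq_bot_iff]
    rintro _ ⟨⟨y, hy, rfl⟩, hyV⟩
    have : y ∈ V.subgroupOf D ⊓ Y₀ := ⟨hyV, hy⟩
    rw [hY₀.disjoint.eq_bot, mem_bot] at this
    rw [this]; exact one_mem _
  have hVY : V ⊔ Y = D := by
    have := congrArg (Subgroup.map D.subtype) hY₀.sup_eq_top
    rwa [Subgroup.map_sup, map_subgroupOf_eq_of_le hVD, ← MonoidHom.range_eq_map, range_subtype] at this
  have hYcop : (Nat.card V).Coprime (Nat.card Y) := by
    rw [hY, card_map_of_injective D.subtype_injective, ← Nat.card_congr (subgroupOfEquivOfLe hVD).toEquiv, ← hY₀.symm.index_eq_card]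
    exact hcopD
  have hVsol : Group.IsSolvable V := by haveI := hV.1; exact Coprime.isSolvable_of_isMulCommutative V
  have hRD : R ≤ D := le_inf ((map_subtype_le _).trans le_sup_left) hRK
  -- `Y` moves `W`
  have hkill : (∀ y ∈ Y, ∀ w ∈ W, y * w = w * y) → False := by
    intro hc
    have hY1 : Y = ⊥ := by
      rw [eq_bot_iff, ← hYV]
      refine le_inf le_rfl fun y hy => ?_
      rw [← hVc, mem_centralizer_iff]
      intro v hv
      obtain ⟨w, hw, c, hc', rfl⟩ := (show v ∈ ((W : Set G) * (C : Set G)) by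
        rw [← Subgroup.coe_mul_of_left_le_normalizer_right W C (fun y hy => centralizer_le_normalizer _
          (mem_centralizer_iff.mpr fun z hz => hVab z hz.1 y (hWV hy)))]
        exact hVWC hv)
      have hcN : c ∈ centralizer (N : Set G) := by
        refine (le_centralizer_iff.mp (sup_le (le_centralizer_iff.mp inf_le_right) ?_) : C ≤ centralizer (N : Set G)) hc'
        intro u hu
        exact mem_centralizer_iff.mpr fun z hz => hVab z hz.1 u hu
      exact (Commute.mul_right (hc y hy w hw) (mem_centralizer_iff.mp hcN y (hYD hy).1)).eq.symm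
    refine hnp ?_
    have hRV : R ≤ V := hRD.trans (by rw [← hVY, hY1, sup_bot_eq])
    have hx1 : x ∈ V := hRV hxR
    -- then every `p'`-element of `L` is trivial
    intro g
    obtain ⟨k, hk⟩ := Transfer.NormalPComplement.pow_pResidual_mem (p := p) g
    have hmem : ((g ^ p ^ k : ↥L) : G) ∈ V := hRV ⟨_, hk, rfl⟩
    refine ⟨k + 1, Subtype.ext ?_⟩
    have h1 := hV.2 _ hmem
    rw [SubgroupClass.coe_pow, ← pow_mul, ← pow_succ] at h1
    exact h1
  -- Frattini
  haveI hDn : (D.subgroupOf N).Normal := by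
    haveI : Kp.Normal := inferInstance
    rw [hD, inf_subgroupOf_left]
    infer_instance
  have hfrat : ∀ g ∈ N, ∃ v ∈ V, v⁻¹ * g ∈ normalizer (Y : Set G) := by
    intro g hg
    have hgD : g ∈ normalizer (D : Set G) := le_normalizer_of_normal_subgroupOf inf_le_left hg
    have heq : V ⊔ Y = V ⊔ Y.map (MulAut.conj g).toMonoidHom := by
      have h1 : D.map (MulAut.conj g).toMonoidHom = D :=
        (Coprime.conj_smul_eq_map g D).symm.trans (Coprime.conj_smul_eq_self_iff.mpr hgD)
      have h2 : V.map (MulAut.conj g).toMonoidHom = V :=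
        (Coprime.conj_smul_eq_map g V).symm.trans (Coprime.conj_smul_eq_self_iff.mpr (le_normalizer_of_normal (mem_top g)))
      rw [hVY, ← h1, ← hVY, Subgroup.map_sup, h2]
    obtain ⟨v, hv, hvY⟩ := Coprime.exists_conj_eq_of_sup_eq (N := V) (H := Y) (K := Y.map (MulAut.conj g).toMonoidHom)
      le_normalizer_of_normal le_normalizer_of_normal heq hYcop
      (by rwa [card_map_of_injective (MulAut.conj g).injective]) (Or.inl hVsol)
    refine ⟨v, hv, Coprime.conj_smul_eq_self_iff.mp ?_⟩
    rw [map_mul, mul_smul, Coprime.conj_smul_eq_map g Y, ← hvY, ← mul_smul, ← map_mul, inv_mul_cancel, map_one, one_smul]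
  obtain ⟨v, hv, hvn⟩ := hfrat a (Subgroup.mem_sup_left haL)
  obtain ⟨w, hw, c, hc', rfl⟩ := (show v ∈ ((W : Set G) * (C : Set G)) by
    rw [← Subgroup.coe_mul_of_left_le_normalizer_right W C (fun y hy => centralizer_le_normalizer _
      (mem_centralizer_iff.mpr fun z hz => hVab z hz.1 y (hWV hy)))]
    exact hVWC hv)
  have hCY : ∀ c ∈ C, c ∈ normalizer (Y : Set G) := fun c hc => centralizer_le_normalizer _ (mem_centralizer_iff.mpr fun y hy => by
    obtain ⟨l, hl, u, hu, rfl⟩ := (show y ∈ ((L : Set G) * (V : Set G)) by rw [← Subgroup.mul_normal]; exact (hYD hy).1)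
    exact (Commute.mul_left (mem_centralizer_iff.mp hc.2 l hl : Commute l c) (hVab u hu c hc.1 : Commute u c)).eq)
  set n := w⁻¹ * a with hn
  have hnY : n ∈ normalizer (Y : Set G) := by
    have := mul_mem (hCY c hc') hvn
    simp only at this
    rwa [show c * ((w * c)⁻¹ * a) = n by
      rw [hn, mul_inv_rev, ← mul_assoc, ← mul_assoc, mul_inv_cancel, one_mul]] at this
  have hnN : n ∈ N := N.mul_mem (N.inv_mem (Subgroup.mem_sup_right (hWV hw))) (Subgroup.mem_sup_left haL)
  have hwV : w ∈ V := hWV hw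
  -- powers of `n`
  set z := a * w⁻¹ * a⁻¹ * w with hz
  have hzb : z ∈ zpowers b := by
    have h1 := (zpowers b).inv_mem (hcomm w⁻¹ (V.inv_mem hwV))
    rwa [show (w⁻¹ * a * w⁻¹⁻¹ * a⁻¹)⁻¹ = a * w⁻¹ * a⁻¹ * w by group] at h1
  have hzV : z ∈ V := (zpowers_le.mpr hbV) hzb
  have haz : a * z = z * a := by
    obtain ⟨i, hi⟩ := hzb
    rw [← (show b ^ i = z from hi)]
    exact (Commute.zpow_right (show Commute a b from hab) i).eq
  have hpow : ∀ k : ℕ, n ^ k = (w ^ k)⁻¹ * z ^ (k.choose 2) * a ^ k := by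
    intro k
    induction k with
    | zero => simp
    | succ k ih =>
      have e1 : a ^ k * w⁻¹ = w⁻¹ * z ^ k * a ^ k := by
        clear ih
        induction k with
        | zero => simp
        | succ k ih2 =>
          rw [pow_succ' a k, mul_assoc, ih2]
          have e2 : a * w⁻¹ = w⁻¹ * z * a := by
            rw [hz, show w⁻¹ * (a * w⁻¹ * a⁻¹ * w) * a = (w⁻¹ * (a * w⁻¹ * a⁻¹)) * w * a by group,
              hVab w⁻¹ (V.inv_mem hwV) _ (Subgroup.Normal.conj_mem inferInstance _ (V.inv_mem hwV) a)]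
            group
          calc a * (w⁻¹ * z ^ k * a ^ k) = (a * w⁻¹) * (z ^ k * a ^ k) := by group
            _ = w⁻¹ * z * (a * z ^ k) * a ^ k := by rw [e2]; group
            _ = w⁻¹ * z * (z ^ k * a) * a ^ k := by rw [((show Commute a z from haz).pow_right k).eq]
            _ = w⁻¹ * z ^ (k + 1) * (a * a ^ k) := by rw [pow_succ' z k]; group
      rw [pow_succ n, ih, hn]
      calc (w ^ k)⁻¹ * z ^ (k.choose 2) * a ^ k * (w⁻¹ * a)
          = (w ^ k)⁻¹ * z ^ (k.choose 2) * (a ^ k * w⁻¹) * a := by group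
        _ = (w ^ k)⁻¹ * (z ^ (k.choose 2) * w⁻¹) * z ^ k * (a ^ k * a) := by rw [e1]; group
        _ = ((w ^ k)⁻¹ * w⁻¹) * (z ^ (k.choose 2) * z ^ k) * (a ^ k * a) := by
            rw [hVab _ (V.pow_mem hzV _) _ (V.inv_mem hwV)]; group
        _ = (w ^ (k + 1))⁻¹ * z ^ ((k + 1).choose 2) * a ^ (k + 1) := by
            rw [← mul_inv_rev, ← pow_succ', ← pow_add, ← pow_succ, Nat.choose_succ_succ', Nat.choose_one_right, add_comm (k.choose 2)]
  have hnp' := hpow p
  rw [hV.2 w hwV, inv_one, one_mul, ← hb] at hnp'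
  have hnb : n ^ p = 1 := by
    by_contra hne
    apply hkill
    have hmem : n ^ p ∈ zpowers b := by rw [hnp']; exact (zpowers b).mul_mem ((zpowers b).pow_mem hzb _) (mem_zpowers b)
    have hbN : b ∈ normalizer (Y : Set G) := by
      obtain ⟨i, hi⟩ := hbord hbn _ hmem hne
      rw [← (show (n ^ p) ^ i = b from hi)]
      exact zpow_mem (pow_mem hnY p) i
    have hby : ∀ y ∈ Y, Commute b y := by
      intro y hy
      have h1 : b * y * b⁻¹ * y⁻¹ ∈ Y ⊓ V := ⟨Y.mul_mem ((mem_normalizer_iff.mp hbN y).mp hy) (Y.inv_mem hy), by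
        rw [show b * y * b⁻¹ * y⁻¹ = b * (y * b⁻¹ * y⁻¹) by group]
        exact V.mul_mem hbV (Subgroup.Normal.conj_mem inferInstance _ (V.inv_mem hbV) y)⟩
      rw [hYV, mem_bot, mul_inv_eq_one, mul_inv_eq_iff_eq_mul] at h1
      exact h1
    intro y hy u hu
    have hWc : W ≤ centralizer (Y : Set G) := by
      refine sup_le (zpowers_le.mpr (mem_centralizer_iff.mpr fun y hy => (hby y hy).eq.symm))
        (zpowers_le.mpr (mem_centralizer_iff.mpr fun y hy => ?_))
      -- `x` permutes the fixed points of `Y` on `V`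
      obtain ⟨u, hu, hxu⟩ := hfrat x ((map_subtype_le _).trans le_sup_left hxR)
      set m := u⁻¹ * x with hm
      have e : b' = m * b * m⁻¹ := by
        have hb'u : u⁻¹ * b' * u = b' := by
          rw [mul_assoc, hVab _ hb'V _ hu, inv_mul_cancel_left]
        rw [← hb'u, hm, hb']; group
      rw [e]
      have h2 := hby (m⁻¹ * y * m) (by simpa using (mem_normalizer_iff.mp (inv_mem hxu) y).mp hy)
      calc y * (m * b * m⁻¹) = m * ((m⁻¹ * y * m) * b) * m⁻¹ := by group
        _ = m * (b * (m⁻¹ * y * m)) * m⁻¹ := by rw [h2.eq]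
        _ = m * b * m⁻¹ * y := by group
    exact mem_centralizer_iff.mp (hWc hu) y hy
  have hp2 : p = 2 := by
    by_contra hne2
    obtain ⟨m, hm⟩ : p ∣ p.choose 2 := hpp.dvd_choose_self (by norm_num) (lt_of_le_of_ne hpp.two_le (Ne.symm hne2))
    rw [hnb, hm, pow_mul, hV.2 z hzV, one_pow, one_mul] at hnp'
    exact hbn hnp'.symm
  refine ⟨hp2, ?_⟩
  subst hp2
  obtain ⟨y, hy, u, hu, hyu⟩ : ∃ y ∈ Y, ∃ u ∈ W, ¬ (n * y * n⁻¹ * y⁻¹) * u = u * (n * y * n⁻¹ * y⁻¹) := by
    by_contra hno
    push Not at hno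
    -- then `n` centralises `Y`, so `R = ⁅R, A⁆` lies in `V`
    have hny : ∀ y ∈ Y, n * y * n⁻¹ * y⁻¹ = 1 := by
      intro y hy
      set c' := n * y * n⁻¹ * y⁻¹
      have hcY : c' ∈ Y := Y.mul_mem ((mem_normalizer_iff.mp hnY y).mp hy) (Y.inv_mem hy)
      have : c' ∈ Y ⊓ V := by
        refine ⟨hcY, ?_⟩
        show c' ∈ V
        rw [← hVc, mem_centralizer_iff]
        intro v hv
        obtain ⟨w', hw', c'', hc'', rfl⟩ := (show v ∈ ((W : Set G) * (C : Set G)) by
          rw [← Subgroup.coe_mul_of_left_le_normalizer_right W C (fun y hy => centralizer_le_normalizer _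
            (mem_centralizer_iff.mpr fun z hz => hVab z hz.1 y (hWV hy)))]
          exact hVWC hv)
        obtain ⟨l, hl, t, ht, hlt⟩ := (show c' ∈ ((L : Set G) * (V : Set G)) by rw [← Subgroup.mul_normal]; exact (hYD hcY).1)
        have h5 : Commute c' c'' := by
          rw [← hlt]; exact Commute.mul_left (mem_centralizer_iff.mp hc''.2 l hl) (hVab t ht c'' hc''.1)
        exact (Commute.mul_right (hno y hy w' hw') h5).eq.symm
      rwa [hYV, mem_bot] at this
    apply hkill
    have hRV : R ≤ V := by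
      set f := QuotientGroup.mk' V
      have hfc : ∀ g ∈ D, f g * f a = f a * f g := by
        intro g hg
        rw [← hVY] at hg
        obtain ⟨t, ht, y, hy, rfl⟩ := mem_sup_of_normal_left.mp hg
        have h1 := hny y hy
        rw [mul_inv_eq_one, mul_inv_eq_iff_eq_mul] at h1
        have e : f a = f n := by
          rw [hn, map_mul, show f w⁻¹ = 1 from (QuotientGroup.eq_one_iff _).mpr (V.inv_mem hwV), one_mul]
        rw [map_mul, show f t = 1 from (QuotientGroup.eq_one_iff _).mpr ht, one_mul, e, ← map_mul, ← map_mul, h1]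
      rw [← hRA, commutator_le]
      intro g hg a₁ ha₁
      obtain ⟨i, rfl⟩ := ha₁
      rw [← QuotientGroup.eq_one_iff]
      show f ⁅g, a ^ i⁆ = 1
      rw [map_commutatorElement, commutatorElement_eq_one_iff_commute, map_zpow]
      exact Commute.zpow_right (hfc g (hRD hg)) i
    exfalso
    refine hnp fun g => ?_
    obtain ⟨k, hk⟩ := Transfer.NormalPComplement.pow_pResidual_mem (p := 2) g
    have hmem : ((g ^ 2 ^ k : ↥L) : G) ∈ V := hRV ⟨_, hk, rfl⟩
    refine ⟨k + 1, Subtype.ext ?_⟩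
    have h1 := hV.2 _ hmem
    rw [SubgroupClass.coe_pow, ← pow_mul, ← pow_succ] at h1
    exact h1
  set t := n * y * n⁻¹ * y⁻¹ with ht
  have htY : t ∈ Y := Y.mul_mem ((mem_normalizer_iff.mp hnY y).mp hy) (Y.inv_mem hy)
  have hnn : n * n = 1 := by rw [← pow_two]; exact hnb
  have hninv : n⁻¹ = n := inv_eq_of_mul_eq_one_right hnn
  have hNW : N ≤ normalizer (W : Set G) := sup_le hLW fun v hv => centralizer_le_normalizer _
    (mem_centralizer_iff.mpr fun z hz => hVab z (hWV hz) v hv)
  have htodd : Odd (orderOf t) := by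
    have h1 : (orderOf t).Coprime 2 := by
      obtain ⟨k, hk⟩ := hVcard
      have hk0 : k ≠ 0 := fun h => hbn (by
        have := card_eq_one.mp (by rw [hk, h, pow_zero] : Nat.card V = 1)
        exact mem_bot.mp (this ▸ hbV))
      have h2 : (2 ^ k).Coprime (orderOf t) := hk ▸ hYcop.coprime_dvd_right (Subgroup.orderOf_dvd_natCard Y htY)
      exact ((Nat.coprime_pow_left_iff (Nat.pos_of_ne_zero hk0) _ _).mp h2).symm
    exact Nat.coprime_two_right.mp h1
  refine PLocal.S4Section.involves_s4 (V := W) (fun u hu v hv => hVab u (hWV hu) v (hWV hv)) (fun v hv => hV.2 v (hWV hv))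
    (a := n) (x := t) hnn ?_ htodd (fun v hv => (mem_normalizer_iff.mp (hNW hnN) v).mp hv)
    (fun v hv => (mem_normalizer_iff.mp (hNW (hYD htY).1) v).mp hv) ?_ hu (fun h => hyu (mul_inv_eq_iff_eq_mul.mp h))
  · rw [ht, hninv]
    calc n * (n * y * n * y⁻¹) * n = (n * n) * y * n * y⁻¹ * n := by group
      _ = y * n⁻¹ * y⁻¹ * n⁻¹ := by rw [hnn, one_mul, hninv]
      _ = _ := by group
  · intro v hv
    set τ : MulAut W := W.normalizerMonoidHom ⟨t, hNW (hYD htY).1⟩ with hτ
    let S := {u : ↥W // u ≠ 1}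
    have h3 : τ ^ 3 = 1 := by
      let π₀ : MulAut W →* Equiv.Perm S :=
        { toFun := fun φ => Equiv.subtypeEquiv φ.toEquiv (fun u => (φ.map_ne_one_iff).symm)
          map_one' := by ext; rfl
          map_mul' := fun φ ψ => by ext; rfl }
      have hπ₀ : Function.Injective π₀ := fun φ ψ h => MulEquiv.ext fun u => by
        by_cases hu1 : u = 1
        · rw [hu1, map_one, map_one]
        · exact congrArg Subtype.val (Equiv.ext_iff.mp h ⟨u, hu1⟩)
      have hd1 : orderOf τ ∣ orderOf t := by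
        rw [hτ]
        exact (orderOf_map_dvd _ _).trans (dvd_of_eq (Subgroup.orderOf_mk _ _))
      have hd2 : orderOf τ ∣ (Nat.card S).factorial := by
        rw [← orderOf_injective π₀ hπ₀, ← Nat.card_perm]
        exact orderOf_dvd_natCard _
      have hcardS : Nat.card S ≤ 3 := by
        have h4 : Nat.card W ≤ 4 := by
          have h1 : Nat.card (zpowers b) = 2 := by rw [Nat.card_zpowers, orderOf_eq_prime hb1 hbn]
          have h2 : Nat.card (zpowers b') ≤ 2 := by
            rw [Nat.card_zpowers]; exact Nat.le_of_dvd two_pos (orderOf_dvd_of_pow_eq_one (hV.2 b' hb'V))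
          have h3 := PLocal.GlaubermanReplacement.card_sup_mul_card_inf (A := zpowers b) (B := zpowers b')
            (fun y hy => centralizer_le_normalizer _ (mem_centralizer_iff.mpr fun z hz => hVab z ((zpowers_le.mpr hb'V) hz) y ((zpowers_le.mpr hbV) hy)))
          have h5 : 0 < Nat.card ↥(zpowers b ⊓ zpowers b') := Nat.card_pos
          rw [hW]
          nlinarith
        have := Fintype.ofFinite ↥W
        have h5 : Nat.card S = Nat.card W - 1 := by
          rw [Nat.card_eq_fintype_card, Nat.card_eq_fintype_card, Fintype.card_subtype_compl, Fintype.card_subtype_eq]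
        omega
      have hd3 : orderOf τ ∣ 6 := hd2.trans ((Nat.factorial_dvd_factorial hcardS).trans (by decide))
      have hodd' : Odd (orderOf τ) := htodd.of_dvd_nat hd1
      refine orderOf_dvd_iff_pow_eq_one.mp ?_
      exact (Nat.coprime_two_right.mpr hodd').dvd_of_dvd_mul_left hd3
    have h6 := congrArg (fun φ : MulAut W => ((φ ⟨v, hv⟩ : W) : G)) h3
    rw [hτ, ← map_pow] at h6
    have h7 : t ^ 3 * v * (t ^ 3)⁻¹ = v := h6
    exact mul_inv_eq_iff_eq_mul.mp h7

end Cfsg.Agent.GenA.CyclicNormal
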