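import Mathlib
import Cfsg.Prelude.Def_Transfer
import Cfsg.Agent.OddLocal.Coprime
import Cfsg.Agent.Lib.CharP.Basic
import Cfsg.Agent.Lib.Coprime.PGroup

/-!
Commutator pairings of class-two sections (for Philip Hall's theorem on groups of symplectic type).
-/

set_option autoImplicit false

namespace Cfsg.Agent.GenA.SymplecticType

open scoped commutatorElement
open Subgroup

variable {G : Type*} [Group G]

theorem comm_mul_left (a b c : G) : ⁅a * b, c⁆ = a * ⁅b, c⁆ * a⁻¹ * ⁅a, c⁆ := by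
  simp only [commutatorElement_def]; group

theorem comm_mul_right (a b c : G) : ⁅a, b * c⁆ = ⁅a, b⁆ * (b * ⁅a, c⁆ * b⁻¹) := by
  simp only [commutatorElement_def]; group

theorem comm_zpow_left {a b z : G} (hz : z ∈ center G) (h : ⁅a, b⁆ = z) (i : ℤ) :
    ⁅a ^ i, b⁆ = z ^ i := by
  have e : b * a * b⁻¹ = z⁻¹ * a := by rw [← h, commutatorElement_def]; group
  have e2 : b * a ^ i * b⁻¹ = (z ^ i)⁻¹ * a ^ i := by
    rw [← conj_zpow, e, (show Commute z⁻¹ a from
      ((show Commute a z from mem_center_iff.mp hz a).inv_right).symm).mul_zpow, inv_zpow]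
  have hzi := mem_center_iff.mp (zpow_mem hz i) (a ^ i)
  calc ⁅a ^ i, b⁆ = a ^ i * (b * a ^ i * b⁻¹)⁻¹ := by rw [commutatorElement_def]; group
    _ = a ^ i * ((a ^ i)⁻¹ * z ^ i) := by rw [e2]; group
    _ = z ^ i := by group

theorem comm_zpow_right {a b z : G} (hz : z ∈ center G) (h : ⁅a, b⁆ = z) (i : ℤ) :
    ⁅a, b ^ i⁆ = z ^ i := by
  have h' : ⁅b, a⁆ = z⁻¹ := by rw [← h, commutatorElement_inv]
  rw [← commutatorElement_inv, comm_zpow_left (inv_mem hz) h' i, ← inv_zpow, inv_inv]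

theorem zpowers_eq {p : ℕ} [hp : Fact p.Prime] {z x : G} (hz : orderOf z = p) (hx : x ∈ zpowers z)
    (h1 : x ≠ 1) : ∃ i : ℤ, x ^ i = z := by
  obtain ⟨k, rfl⟩ := mem_zpowers_iff.mp hx
  have hnd : ¬ (p : ℤ) ∣ k := fun hd => h1 (orderOf_dvd_iff_zpow_eq_one.mp (hz.symm ▸ hd))
  obtain ⟨u, v, huv⟩ := (Nat.prime_iff_prime_int.1 hp.out).coprime_iff_not_dvd.2 hnd
  refine ⟨v, ?_⟩
  rw [← zpow_mul]
  calc z ^ (k * v) = z ^ (u * (p : ℤ)) * z ^ (k * v) := by
        rw [zpow_mul' z u, zpow_natCast, ← hz, pow_orderOf_eq_one, one_zpow, one_mul]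
    _ = z ^ (1 : ℤ) := by rw [← zpow_add, ← huv]; ring_nf
    _ = z := zpow_one z

theorem dvd_of_zpow_eq_one {p : ℕ} {z : G} (hz : orderOf z = p) {i : ℤ} (h : z ^ i = 1) : (p : ℤ) ∣ i :=
  hz ▸ orderOf_dvd_iff_zpow_eq_one.mpr h

/-- `D` is a class two group with centre inside `U`, derived subgroup inside `⟨z⟩`. -/
structure Pairing (p : ℕ) (z : G) (U D : Subgroup G) : Prop where
  U_le : U ≤ D
  zU : z ∈ U
  comm : ∀ a ∈ D, ∀ b ∈ D, ⁅a, b⁆ ∈ zpowers z
  U_cent : ∀ u ∈ U, ∀ a ∈ D, a * u = u * a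
  center : ∀ a ∈ D, (∀ b ∈ D, a * b = b * a) → a ∈ U
  pow : ∀ a ∈ D, a ^ p ∈ U

namespace Pairing

variable {p : ℕ} [hp : Fact p.Prime] {z : G} {U D : Subgroup G}

/-- The part of `D` centralising `a` and `b`. -/
def rest (D : Subgroup G) (a b : G) : Subgroup G :=
  D ⊓ (centralizer ({a} : Set G) ⊓ centralizer ({b} : Set G))

theorem mem_rest {a b x : G} : x ∈ rest D a b ↔ x ∈ D ∧ Commute x a ∧ Commute x b := by
  simp only [rest, Subgroup.mem_inf, mem_centralizer_singleton_iff]
  rfl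

theorem adjust (hz : z ∈ Subgroup.center G) {a b h : G} (hab : ⁅a, b⁆ = z) (ha : ⁅h, a⁆ ∈ zpowers z)
    (hb : ⁅h, b⁆ ∈ zpowers z) : ∃ i j : ℤ, Commute (h * (a ^ i * b ^ j)) a ∧ Commute (h * (a ^ i * b ^ j)) b := by
  obtain ⟨s, hs⟩ := mem_zpowers_iff.mp ha
  obtain ⟨t, ht⟩ := mem_zpowers_iff.mp hb
  refine ⟨-t, s, ?_, ?_⟩
  · rw [← commutatorElement_eq_one_iff_commute]
    have h1 : ⁅a ^ (-t) * b ^ s, a⁆ = z ^ (-s) := by
      rw [comm_mul_left, (commutatorElement_eq_one_iff_commute).mpr ((Commute.refl a).zpow_left (-t)), mul_one,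
        ← commutatorElement_inv (a) (b ^ s), comm_zpow_right hz hab, ← zpow_neg,
        mem_center_iff.mp (zpow_mem hz (-s)) (a ^ (-t)), mul_inv_cancel_right]
    rw [comm_mul_left, h1, ← hs, mem_center_iff.mp (zpow_mem hz (-s)) h, mul_inv_cancel_right,
      ← zpow_add, neg_add_cancel, zpow_zero]
  · rw [← commutatorElement_eq_one_iff_commute]
    have h1 : ⁅a ^ (-t) * b ^ s, b⁆ = z ^ (-t) := by
      rw [comm_mul_left, (commutatorElement_eq_one_iff_commute).mpr ((Commute.refl b).zpow_left s), mul_one,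
        mul_inv_cancel, one_mul, comm_zpow_left hz hab]
    rw [comm_mul_left, h1, ← ht, mem_center_iff.mp (zpow_mem hz (-t)) h, mul_inv_cancel_right,
      ← zpow_add, neg_add_cancel, zpow_zero]

theorem rest_pairing (hz : z ∈ Subgroup.center G) (P : Pairing p z U D) {a b : G} (ha : a ∈ D)
    (hb : b ∈ D) (hab : ⁅a, b⁆ = z) : Pairing p z U (rest D a b) := by
  refine ⟨fun u hu => mem_rest.mpr ⟨P.U_le hu, (P.U_cent u hu a ha).symm, (P.U_cent u hu b hb).symm⟩,
    P.zU, fun x hx y hy => P.comm x (mem_rest.mp hx).1 y (mem_rest.mp hy).1,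
    fun u hu x hx => P.U_cent u hu x (mem_rest.mp hx).1, fun x hx hc => ?_,
    fun x hx => P.pow x (mem_rest.mp hx).1⟩
  obtain ⟨hxD, hxa, hxb⟩ := mem_rest.mp hx
  refine P.center x hxD fun y hy => ?_
  obtain ⟨i, j, h1, h2⟩ := adjust hz hab (P.comm y hy a ha) (P.comm y hy b hb)
  have hw : Commute x (a ^ i * b ^ j) := (hxa.zpow_right i).mul_right (hxb.zpow_right j)
  have h3 : Commute x (y * (a ^ i * b ^ j)) :=
    hc _ (mem_rest.mpr ⟨mul_mem hy (mul_mem (zpow_mem ha i) (zpow_mem hb j)), h1, h2⟩)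
  have := h3.mul_right hw.inv_right
  rwa [mul_inv_cancel_right] at this

theorem exists_pair (hord : orderOf z = p) (P : Pairing p z U D) (hne : ¬ D ≤ U) (hz : z ∈ Subgroup.center G)
    (Q : G → Prop) (hQ : ∀ d ∈ D, ∃ e ∈ D, ∃ u ∈ U, Q e ∧ d = e * u) (hQpow : ∀ e (i : ℤ), Q e → Q (e ^ i)) :
    ∃ a ∈ D, ∃ b ∈ D, Q a ∧ Q b ∧ ⁅a, b⁆ = z := by
  obtain ⟨x, hxD, hxU⟩ := SetLike.not_le_iff_exists.mp hne
  obtain ⟨y, hyD, hxy⟩ : ∃ y ∈ D, ¬ x * y = y * x := by
    by_contra h; push Not at h; exact hxU (P.center x hxD h)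
  obtain ⟨e, he, u, hu, hQe, rfl⟩ := hQ x hxD
  obtain ⟨f, hf, v, hv, hQf, rfl⟩ := hQ y hyD
  have hne1 : ⁅e, f⁆ ≠ 1 := by
    intro h
    apply hxy
    have hc : Commute (e * u) (f * v) :=
      ((show Commute e f from commutatorElement_eq_one_iff_commute.mp h).mul_right (P.U_cent v hv e he)).mul_left
        ((show Commute u f from (P.U_cent u hu f hf).symm).mul_right (show Commute u v from (P.U_cent u hu v (P.U_le hv)).symm))
    exact hc.eq
  obtain ⟨i, hi⟩ := zpowers_eq hord (P.comm e he f hf) hne1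
  have hcz : ⁅e, f⁆ ∈ Subgroup.center G := (zpowers_le.mpr hz) (P.comm e he f hf)
  exact ⟨e ^ i, zpow_mem he i, f, hf, hQpow e i hQe, hQf, by rw [comm_zpow_left hcz rfl, hi]⟩

theorem rest_lt [Finite G] (hord : orderOf z = p) {a b : G} (ha : a ∈ D) (hab : ⁅a, b⁆ = z) :
    Nat.card (rest D a b) < Nat.card D := by
  refine lt_of_le_of_ne (card_le_of_le inf_le_left) fun e => ?_
  have e' : rest D a b = D := eq_of_le_of_card_ge inf_le_left e.ge
  have h : a ∈ rest D a b := by rw [e']; exact ha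
  rw [commutatorElement_eq_one_iff_commute.mpr (mem_rest.mp h).2.2] at hab
  rw [← hab, orderOf_one] at hord
  exact hp.out.ne_one hord.symm

theorem dual [Finite G] (hord : orderOf z = p) (hz : z ∈ Subgroup.center G) : ∀ {D : Subgroup G}, Pairing p z U D →
    ∀ h : G, (∀ d ∈ D, ⁅h, d⁆ ∈ zpowers z) → (∀ u ∈ U, Commute h u) →
      ∃ d ∈ D, ∀ x ∈ D, Commute (h * d) x := by
  intro D
  induction hk : Nat.card D using Nat.strong_induction_on generalizing D with
  | _ k ih =>
    intro P h hh hU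
    subst hk
    by_cases hDU : D ≤ U
    · exact ⟨1, one_mem D, fun x hx => by rw [mul_one]; exact hU x (hDU hx)⟩
    obtain ⟨a, ha, b, hb, -, -, hab⟩ := P.exists_pair hord hDU hz (fun _ => True)
      (fun d hd => ⟨d, hd, 1, one_mem U, trivial, (mul_one d).symm⟩) (fun _ _ _ => trivial)
    obtain ⟨i, j, h1, h2⟩ := adjust hz hab (hh a ha) (hh b hb)
    set w := a ^ i * b ^ j
    have hw : w ∈ D := mul_mem (zpow_mem ha i) (zpow_mem hb j)
    have hh' : ∀ d ∈ rest D a b, ⁅h * w, d⁆ ∈ zpowers z := fun d hd => by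
      obtain ⟨hd1, hda, hdb⟩ := mem_rest.mp hd
      rw [comm_mul_left, commutatorElement_eq_one_iff_commute.mpr ((hda.symm.zpow_left i).mul_left (hdb.symm.zpow_left j)),
        mul_one, mul_inv_cancel, one_mul]
      exact hh d hd1
    obtain ⟨d, hd, hd'⟩ := ih _ (rest_lt hord ha hab) rfl (P.rest_pairing hz ha hb hab) (h * w) hh'
      (fun u hu => (hU u hu).mul_left (P.U_cent u hu w hw))
    obtain ⟨hd1, hda, hdb⟩ := mem_rest.mp hd
    refine ⟨w * d, mul_mem hw hd1, fun x hx => ?_⟩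
    rw [← mul_assoc]
    have hca : Commute (h * w * d) a := h1.mul_left hda
    have hcb : Commute (h * w * d) b := h2.mul_left hdb
    obtain ⟨k, l, h3, h4⟩ := adjust hz hab (P.comm x hx a ha) (P.comm x hx b hb)
    have h5 := hd' _ (mem_rest.mpr ⟨mul_mem hx (mul_mem (zpow_mem ha k) (zpow_mem hb l)), h3, h4⟩)
    have := h5.mul_right ((hca.zpow_right k).mul_right (hcb.zpow_right l)).inv_right
    rwa [mul_inv_cancel_right] at this

/-- If every coset of `U` contains an element of order dividing `p` then `D = E U` with `E ∩ U ≤ ⟨z⟩`. -/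
theorem exists_complement [Finite G] (hord : orderOf z = p) (hz : z ∈ Subgroup.center G) :
    ∀ {D : Subgroup G}, Pairing p z U D →
    (∀ d ∈ D, ∃ e ∈ D, ∃ u ∈ U, e ^ p = 1 ∧ d = e * u) →
    ∃ E : Subgroup G, E ≤ D ∧ (∀ d ∈ D, ∃ e ∈ E, ∃ u ∈ U, d = e * u) ∧
      (∀ x ∈ E, x ∈ U → x ∈ zpowers z) ∧ (¬ D ≤ U → z ∈ E) ∧ (p ≠ 2 → ∀ x ∈ E, x ^ p = 1) := by
  intro D
  induction hk : Nat.card D using Nat.strong_induction_on generalizing D with
  | _ k ih =>
    intro P hS
    subst hk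
    by_cases hDU : D ≤ U
    · exact ⟨⊥, bot_le, fun d hd => ⟨1, one_mem _, d, hDU hd, (one_mul d).symm⟩,
        fun x hx _ => by rw [mem_bot.mp hx]; exact one_mem _, fun h => absurd hDU h,
        fun _ x hx => by rw [mem_bot.mp hx, one_pow]⟩
    obtain ⟨a, ha, b, hb, hap, hbp, hab⟩ := P.exists_pair hord hDU hz (fun e => e ^ p = 1)
      (fun d hd => hS d hd) (fun e i h => by rw [← zpow_natCast, zpow_comm, zpow_natCast, h, one_zpow])
    have hS' : ∀ d ∈ rest D a b, ∃ e ∈ rest D a b, ∃ u ∈ U, e ^ p = 1 ∧ d = e * u := by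
      intro d hd
      obtain ⟨hd1, hda, hdb⟩ := mem_rest.mp hd
      obtain ⟨e, he, u, hu, hep, rfl⟩ := hS d hd1
      refine ⟨e, mem_rest.mpr ⟨he, ?_, ?_⟩, u, hu, hep, rfl⟩
      · have := hda.mul_left (show Commute u a from (P.U_cent u hu a ha).symm).inv_left
        rwa [mul_inv_cancel_right] at this
      · have := hdb.mul_left (show Commute u b from (P.U_cent u hu b hb).symm).inv_left
        rwa [mul_inv_cancel_right] at this
    obtain ⟨E', hE'D, hE'cov, hE'int, -, hE'p⟩ := ih _ (rest_lt hord ha hab) rfl (P.rest_pairing hz ha hb hab) hS'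
    set T := closure ({a, b} : Set G) with hT
    have haT : a ∈ T := subset_closure (Set.mem_insert a _)
    have hbT : b ∈ T := subset_closure (Set.mem_insert_of_mem a rfl)
    have hzT : z ∈ T := by
      rw [← hab, commutatorElement_def]
      exact mul_mem (mul_mem (mul_mem haT hbT) (inv_mem haT)) (inv_mem hbT)
    have hTD : T ≤ D := (closure_le D).mpr (by rintro x (rfl | rfl) <;> assumption)
    have hcomm : ∀ e ∈ E', ∀ t ∈ T, e * t = t * e := by
      intro e he
      obtain ⟨-, hea, heb⟩ := mem_rest.mp (hE'D he)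
      have : T ≤ centralizer ({e} : Set G) := (closure_le _).mpr (by
        rintro x (rfl | rfl)
        · exact mem_centralizer_singleton_iff.mpr hea.eq.symm
        · exact mem_centralizer_singleton_iff.mpr heb.eq.symm)
      exact fun t ht => (mem_centralizer_singleton_iff.mp (this ht)).symm
    -- normal form
    have hform : ∀ t ∈ T, ∃ i j k : ℤ, t = a ^ i * b ^ j * z ^ k := by
      intro t ht
      have hmul : ∀ i j k i' j' k' : ℤ, a ^ i * b ^ j * z ^ k * (a ^ i' * b ^ j' * z ^ k') =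
          a ^ (i + i') * b ^ (j + j') * z ^ (k + k' - j * i') := by
        intro i j k i' j' k'
        have hab' : ⁅a ^ i', b ^ j⁆ = z ^ (j * i') := by
          rw [comm_zpow_right (zpow_mem hz i') (comm_zpow_left hz hab i'), ← zpow_mul, mul_comm]
        have hsw : b ^ j * a ^ i' = (z ^ (j * i'))⁻¹ * (a ^ i' * b ^ j) := by
          rw [← hab', commutatorElement_def]; group
        have hc := fun (n : ℤ) (g : G) => mem_center_iff.mp (zpow_mem hz n) g
        calc a ^ i * b ^ j * z ^ k * (a ^ i' * b ^ j' * z ^ k')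
            = a ^ i * b ^ j * (z ^ k * (a ^ i' * b ^ j')) * z ^ k' := by group
          _ = a ^ i * (b ^ j * a ^ i') * b ^ j' * z ^ (k + k') := by rw [← hc k (a ^ i' * b ^ j')]; group
          _ = a ^ i * (z ^ (-(j * i')) * (a ^ i' * b ^ j)) * b ^ j' * z ^ (k + k') := by rw [hsw, zpow_neg]
          _ = a ^ (i + i') * b ^ (j + j') * z ^ (-(j * i')) * z ^ (k + k') := by
              rw [← hc (-(j * i')) (a ^ i' * b ^ j)]
              rw [show a ^ i * (a ^ i' * b ^ j * z ^ (-(j * i'))) * b ^ j' = a ^ (i + i') * b ^ j * (z ^ (-(j * i')) * b ^ j') by group,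
                ← hc (-(j * i')) (b ^ j')]
              group
          _ = _ := by group
      induction ht using closure_induction with
      | mem x hx =>
        rcases hx with rfl | rfl
        · exact ⟨1, 0, 0, by simp⟩
        · exact ⟨0, 1, 0, by simp⟩
      | one => exact ⟨0, 0, 0, by simp⟩
      | mul x y _ _ hx hy =>
        obtain ⟨i, j, k, rfl⟩ := hx
        obtain ⟨i', j', k', rfl⟩ := hy
        exact ⟨_, _, _, hmul i j k i' j' k'⟩
      | inv x _ hx =>
        obtain ⟨i, j, k, rfl⟩ := hx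
        refine ⟨-i, -j, -k - j * i, inv_eq_of_mul_eq_one_right ?_⟩
        rw [hmul]; ring_nf; simp
    have hnorm : ∀ e ∈ E', e ∈ normalizer (T : Set G) := fun e he => by
      refine mem_normalizer_iff.mpr fun t => ⟨fun ht => ?_, fun ht => ?_⟩
      · rw [hcomm e he t ht, mul_inv_cancel_right]; exact ht
      · have h := hcomm e he _ ht
        have : t = e⁻¹ * ((e * t * e⁻¹) * e) := by group
        rw [this, ← h, inv_mul_cancel_left]
        exact ht
    refine ⟨T ⊔ E', sup_le hTD (hE'D.trans inf_le_left), fun d hd => ?_, fun x hx hxU => ?_,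
      fun _ => mem_sup_left hzT, fun hp2 x hx => ?_⟩
    · obtain ⟨i, j, h1, h2⟩ := adjust hz hab (P.comm d hd a ha) (P.comm d hd b hb)
      set w := a ^ i * b ^ j
      have hw : w ∈ D := mul_mem (zpow_mem ha i) (zpow_mem hb j)
      obtain ⟨e, he, u, hu, heu⟩ := hE'cov _ (mem_rest.mpr ⟨mul_mem hd hw, h1, h2⟩)
      refine ⟨e * w⁻¹, mul_mem (mem_sup_right he) (mem_sup_left (inv_mem (mul_mem (zpow_mem haT i) (zpow_mem hbT j)))),
        u, hu, ?_⟩
      rw [mul_assoc, P.U_cent u hu w⁻¹ (inv_mem hw), ← mul_assoc, ← heu, mul_inv_cancel_right]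
    · rw [← SetLike.mem_coe, coe_mul_of_right_le_normalizer_left T E' (fun e he => ?_)] at hx
      · obtain ⟨t, ht, e, he, rfl⟩ := hx
        obtain ⟨i, j, k, rfl⟩ := hform t ht
        obtain ⟨heD, hea, heb⟩ := mem_rest.mp (hE'D he)
        have hzk : ∀ g : G, Commute (z ^ k) g := fun g => (mem_center_iff.mp (zpow_mem hz k) g).symm
        have hcb : ⁅a ^ i * b ^ j * z ^ k * e, b⁆ = z ^ i := by
          rw [show a ^ i * b ^ j * z ^ k * e = a ^ i * (b ^ j * (z ^ k * e)) by group, comm_mul_left,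
            commutatorElement_eq_one_iff_commute.mpr (((Commute.refl b).zpow_left j).mul_left ((hzk b).mul_left heb)),
            mul_one, mul_inv_cancel, one_mul, comm_zpow_left hz hab]
        have hca : ⁅a, a ^ i * b ^ j * z ^ k * e⁆ = z ^ j := by
          rw [show a ^ i * b ^ j * z ^ k * e = a ^ i * (b ^ j * (z ^ k * e)) by group, comm_mul_right,
            comm_mul_right a (b ^ j), commutatorElement_eq_one_iff_commute.mpr ((hzk a).symm.mul_right hea.symm),
            mul_one, mul_inv_cancel, mul_one, comm_zpow_right hz hab,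
            commutatorElement_eq_one_iff_commute.mpr ((Commute.refl a).zpow_right i), one_mul,
            mem_center_iff.mp (zpow_mem hz j) (a ^ i), mul_inv_cancel_right]
        have h0 : ∀ g ∈ D, ⁅a ^ i * b ^ j * z ^ k * e, g⁆ = 1 := fun g hg =>
          commutatorElement_eq_one_iff_commute.mpr (P.U_cent _ hxU g hg).symm
        have hi : (p : ℤ) ∣ i := dvd_of_zpow_eq_one hord (by rw [← hcb, h0 b hb])
        have hj : (p : ℤ) ∣ j := dvd_of_zpow_eq_one hord (by
          rw [← hca, ← commutatorElement_inv, h0 a ha, inv_one])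
        obtain ⟨i', rfl⟩ := hi
        obtain ⟨j', rfl⟩ := hj
        simp only [zpow_mul, zpow_natCast, hap, hbp, one_zpow, one_mul] at hxU ⊢
        have : e ∈ U := by
          have := mul_mem (inv_mem (zpow_mem P.zU k)) hxU
          rwa [inv_mul_cancel_left] at this
        exact mul_mem (zpow_mem (mem_zpowers z) k) (hE'int e he this)
      · exact hnorm e he
    · rw [← SetLike.mem_coe, coe_mul_of_right_le_normalizer_left T E' hnorm] at hx
      obtain ⟨t, ht, e, he, rfl⟩ := hx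
      obtain ⟨i, j, k, rfl⟩ := hform t ht
      obtain ⟨heD, hea, heb⟩ := mem_rest.mp (hE'D he)
      show (a ^ i * b ^ j * z ^ k * e) ^ p = 1
      have hzk : ∀ g : G, Commute (z ^ k) g := fun g => (mem_center_iff.mp (zpow_mem hz k) g).symm
      rw [(show Commute e (a ^ i * b ^ j * z ^ k) from hcomm e he _ ht).symm.mul_pow, hE'p hp2 e he, mul_one,
        (hzk _).symm.mul_pow, show (z ^ k) ^ p = 1 by rw [← zpow_natCast, zpow_comm, zpow_natCast, ← hord, pow_orderOf_eq_one, one_zpow], mul_one]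
      have hc : ⁅b ^ j, a ^ i⁆ = z ^ (-(i * j)) := by
        rw [← commutatorElement_inv, comm_zpow_right (zpow_mem hz i) (comm_zpow_left hz hab i), zpow_neg, zpow_mul]
      have hconj : b ^ j * a ^ i * (b ^ j)⁻¹ = z ^ (-(i * j)) * a ^ i := by
        rw [← hc, commutatorElement_def]; group
      rw [Cfsg.Agent.OddLocal.Coprime.mul_pow_of_central_commutator hconj
        ((mem_center_iff.mp (zpow_mem hz _) _).symm) ((mem_center_iff.mp (zpow_mem hz _) _).symm) p]
      obtain ⟨m, hm⟩ : p ∣ p.choose 2 := hp.out.dvd_choose_self two_ne_zero (lt_of_le_of_ne hp.out.two_le (Ne.symm hp2))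
      have e1 : (z ^ (-(i * j))) ^ p = 1 := by
        rw [← zpow_natCast, zpow_comm, zpow_natCast, ← hord, pow_orderOf_eq_one, one_zpow]
      have e2 : (a ^ i) ^ p = 1 := by rw [← zpow_natCast, zpow_comm, zpow_natCast, hap, one_zpow]
      have e3 : (b ^ j) ^ p = 1 := by rw [← zpow_natCast, zpow_comm, zpow_natCast, hbp, one_zpow]
      rw [hm, pow_mul, e1, one_pow, e2, e3, one_mul, one_mul]

end Pairing

theorem isExtraspecial [Finite G] {p : ℕ} [hp : Fact p.Prime] (hG : IsPGroup p G) {z : G}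
    (hord : orderOf z = p) (hcen : Subgroup.center G = zpowers z)
    (hc : ∀ a b : G, ⁅a, b⁆ ∈ zpowers z) (hpow : ∀ a : G, a ^ p ∈ zpowers z)
    (hna : ∃ a b : G, ⁅a, b⁆ ≠ 1) : Cfsg.IsExtraspecial p G := by
  haveI := hG.isNilpotent
  have hcard : Nat.card (Subgroup.center G) = p := by rw [hcen, Nat.card_zpowers, hord]
  have hcomm : _root_.commutator G = Subgroup.center G := by
    refine eq_of_le_of_card_ge ?_ ?_
    · rw [commutator_def, commutator_le]
      exact fun a _ b _ => hcen ▸ hc a b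
    · rw [hcard]
      obtain ⟨a, b, hab⟩ := hna
      have hmem : ⁅a, b⁆ ∈ _root_.commutator G := commutator_mem_commutator (mem_top a) (mem_top b)
      obtain ⟨i, hi⟩ := zpowers_eq hord (hc a b) hab
      rw [← hord, ← Nat.card_zpowers]
      exact card_le_of_le (zpowers_le.mpr (hi ▸ zpow_mem hmem i))
  have hfr : frattini G = Subgroup.center G := by
    refine le_antisymm ?_ (hcomm ▸ Cfsg.Agent.Coprime.commutator_le_frattini G)
    refine (Cfsg.Agent.CharP.frattini_le_ker (p := p) (QuotientGroup.mk' (Subgroup.center G)) ?_ ?_).trans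
      (QuotientGroup.ker_mk' _).le
    · intro a b
      show _ = _
      rw [← map_mul, ← map_mul, QuotientGroup.mk'_eq_mk']
      refine ⟨(a * b)⁻¹ * (b * a), ?_, by group⟩
      have e : (a * b)⁻¹ * (b * a) = ⁅b⁻¹, a⁻¹⁆ := by rw [commutatorElement_def]; group
      rw [e, hcen]
      exact hc _ _
    · intro a
      rw [← map_pow, QuotientGroup.mk'_apply, QuotientGroup.eq_one_iff, hcen]
      exact hpow a
  exact ⟨⟨hG, hfr, hcomm⟩, hcard⟩

end Cfsg.Agent.GenA.SymplecticType
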