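import Mathlib
import Cfsg.Prelude.Def_Transfer
import Cfsg.Prelude.Def_CaseTheorems
import Cfsg.Agent.GenA.SymplecticType

/-!
Extraspecial 2-groups: the order is `2^(2n+1)`, the 2-rank is `n` or `n + 1`, and order and rank
determine the isomorphism type.
-/

set_option autoImplicit false

namespace Cfsg.Agent.GenA.ExtraspecialTwo

open scoped commutatorElement
open Subgroup Cfsg.Agent.GenA.SymplecticType

variable {G : Type*} [Group G] {z : G} {D : Subgroup G}

/-- An elementary abelian 2-subgroup of `D`. -/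
def Elem (D A : Subgroup G) : Prop :=
  A ≤ D ∧ (∀ a ∈ A, ∀ b ∈ A, a * b = b * a) ∧ ∀ a ∈ A, a ^ 2 = 1

/-- `D` has an elementary abelian subgroup of order at least `2^(n+1)`. -/
def Plus (D : Subgroup G) (n : ℕ) : Prop := ∃ A, Elem D A ∧ 2 ^ (n + 1) ≤ Nat.card A

theorem mem_zpowers_two (hord : orderOf z = 2) {x : G} (hx : x ∈ zpowers z) : x = 1 ∨ x = z := by
  obtain ⟨k, rfl⟩ := mem_zpowers_iff.mp hx
  have h2 : z ^ (2 : ℤ) = 1 := by rw [zpow_ofNat, ← hord, pow_orderOf_eq_one]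
  rcases Int.even_or_odd k with ⟨m, rfl⟩ | ⟨m, rfl⟩
  · left; rw [← two_mul, zpow_mul, h2, one_zpow]
  · right; rw [zpow_add, zpow_mul, h2, one_zpow, one_mul, zpow_one]

theorem ne_one_of_ord (hord : orderOf z = 2) : z ≠ 1 := fun h => by
  rw [h, orderOf_one] at hord; omega

section
variable (hord : orderOf z = 2) (hz : z ∈ center G) (P : Pairing 2 z (zpowers z) D)

include hord hz P

theorem exists_partner {a : G} (ha : a ∈ D) (haU : a ∉ zpowers z) (ha2 : a ^ 2 = 1) :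
    ∃ b ∈ D, ⁅a, b⁆ = z ∧ b ^ 2 = 1 := by
  obtain ⟨y, hy, hne⟩ : ∃ y ∈ D, ¬ a * y = y * a := by
    by_contra h; push Not at h; exact haU (P.center a ha h)
  have hay : ⁅a, y⁆ = z := (mem_zpowers_two hord (P.comm a ha y hy)).resolve_left
    fun h => hne (commutatorElement_eq_one_iff_mul_comm.mp h)
  rcases mem_zpowers_two hord (P.pow y hy) with h | h
  · exact ⟨y, hy, hay, h⟩
  refine ⟨a * y, mul_mem ha hy, ?_, ?_⟩
  · rw [comm_mul_right, hay, commutatorElement_eq_one_iff_commute.mpr (Commute.refl a), one_mul,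
      mem_center_iff.mp hz a, mul_inv_cancel_right]
  · have hzz : z * z = 1 := by rw [← pow_two, ← hord, pow_orderOf_eq_one]
    have e : a * y = z * (y * a) := by rw [← hay, commutatorElement_def]; group
    calc (a * y) ^ 2 = a * y * (a * y) := pow_two _
      _ = z * (y * a) * (a * y) := congrArg (· * (a * y)) e
      _ = z * (y * a ^ 2 * y) := by rw [pow_two]; group
      _ = z * y ^ 2 := by rw [ha2, mul_one, ← pow_two]
      _ = 1 := by rw [h, hzz]

theorem adjust_two {a b : G} (ha : a ∈ D) (hb : b ∈ D) (hab : ⁅a, b⁆ = z) {h : G} (hh : h ∈ D) :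
    ∃ i j : Fin 2, h * (a ^ (i : ℕ) * b ^ (j : ℕ)) ∈ Pairing.rest D a b := by
  obtain ⟨i, j, h1, h2⟩ := Pairing.adjust hz hab (P.comm h hh a ha) (P.comm h hh b hb)
  have red : ∀ c ∈ D, ∀ i : ℤ, ∃ e : Fin 2, ∃ r ∈ zpowers z, c ^ i = r * c ^ (e : ℕ) := by
    intro c hc i
    rcases Int.even_or_odd i with ⟨m, rfl⟩ | ⟨m, rfl⟩
    · exact ⟨0, (c ^ 2) ^ m, zpow_mem (P.pow c hc) m, by
        rw [Fin.val_zero, pow_zero, mul_one, ← zpow_natCast c, ← zpow_mul]; ring_nf⟩
    · exact ⟨1, (c ^ 2) ^ m, zpow_mem (P.pow c hc) m, by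
        rw [Fin.val_one, pow_one, zpow_add, zpow_one, ← zpow_natCast c, ← zpow_mul]; norm_num⟩
  obtain ⟨e, r, hr, her⟩ := red a ha i
  obtain ⟨f, s, hs, hfs⟩ := red b hb j
  refine ⟨e, f, Pairing.mem_rest.mpr ⟨mul_mem hh (mul_mem (pow_mem ha _) (pow_mem hb _)), ?_⟩⟩
  have hrs : r * s ∈ center G := zpowers_le.mpr hz (mul_mem hr hs)
  have heq : a ^ (e : ℕ) * b ^ (f : ℕ) = (a ^ i * b ^ j) * (r * s)⁻¹ := by
    have hr' := mem_center_iff.mp (zpowers_le.mpr hz hs) (a ^ (e : ℕ))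
    rw [her, hfs, mul_assoc r, ← mul_assoc (a ^ (e : ℕ)) s, hr', ← mul_assoc, ← mul_assoc,
      mul_assoc (r * s), ← mem_center_iff.mp hrs, mul_inv_cancel_right]
  have hc : ∀ g, Commute (r * s)⁻¹ g := fun g => (mem_center_iff.mp (inv_mem hrs) g).symm
  rw [heq, ← mul_assoc]
  exact ⟨h1.mul_left (hc a), h2.mul_left (hc b)⟩

theorem card_rest [Finite G] {a b : G} (ha : a ∈ D) (hb : b ∈ D) (hab : ⁅a, b⁆ = z) :
    Nat.card D = 4 * Nat.card (Pairing.rest D a b) := by
  let F : Pairing.rest D a b × Fin 2 × Fin 2 → D := fun q =>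
    ⟨(q.1 : G) * (a ^ (q.2.1 : ℕ) * b ^ (q.2.2 : ℕ))⁻¹,
      mul_mem (Pairing.mem_rest.mp q.1.2).1 (inv_mem (mul_mem (pow_mem ha _) (pow_mem hb _)))⟩
  have key : ∀ i j : Fin 2, ⁅a ^ (i : ℕ) * b ^ (j : ℕ), b⁆ = z ^ (i : ℕ) ∧ ⁅a, a ^ (i : ℕ) * b ^ (j : ℕ)⁆ = z ^ (j : ℕ) := by
    intro i j
    constructor
    · rw [comm_mul_left, commutatorElement_eq_one_iff_commute.mpr ((Commute.refl b).pow_left _), mul_one,
        mul_inv_cancel, one_mul, ← zpow_natCast, comm_zpow_left hz hab, zpow_natCast]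
    · rw [comm_mul_right, commutatorElement_eq_one_iff_commute.mpr ((Commute.refl a).pow_right _), one_mul,
        ← zpow_natCast b, comm_zpow_right hz hab, zpow_natCast, mem_center_iff.mp (pow_mem hz _) (a ^ (i : ℕ)),
        mul_inv_cancel_right]
  have hF : Function.Bijective F := by
    constructor
    · rintro ⟨x, i, j⟩ ⟨y, i', j'⟩ he
      have he' : (x : G) * (a ^ (i : ℕ) * b ^ (j : ℕ))⁻¹ = (y : G) * (a ^ (i' : ℕ) * b ^ (j' : ℕ))⁻¹ :=
        congrArg Subtype.val he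
      set r := (x : G)⁻¹ * (y : G)
      obtain ⟨-, hra, hrb⟩ := Pairing.mem_rest.mp (mul_mem (inv_mem x.2) y.2 : r ∈ Pairing.rest D a b)
      have hw : a ^ (i' : ℕ) * b ^ (j' : ℕ) = (a ^ (i : ℕ) * b ^ (j : ℕ)) * r := by
        have := congrArg (fun t => t⁻¹ * (y : G)) he'
        simp only [mul_inv_rev, inv_inv, mul_assoc, inv_mul_cancel_left] at this
        simpa [r, mul_assoc] using this.symm
      have h1 : z ^ (i' : ℕ) = z ^ (i : ℕ) := by
        rw [← (key i' j').1, hw, comm_mul_left, commutatorElement_eq_one_iff_commute.mpr hrb, mul_one,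
          mul_inv_cancel, one_mul, (key i j).1]
      have h2 : z ^ (j' : ℕ) = z ^ (j : ℕ) := by
        rw [← (key i' j').2, hw, comm_mul_right, commutatorElement_eq_one_iff_commute.mpr hra.symm, mul_one,
          mul_inv_cancel, mul_one, (key i j).2]
      rw [pow_eq_pow_iff_modEq, hord] at h1 h2
      have hi : i = i' := Fin.ext (by unfold Nat.ModEq at h1; omega)
      have hj : j = j' := Fin.ext (by unfold Nat.ModEq at h2; omega)
      subst hi hj
      exact Prod.ext (Subtype.ext (mul_right_cancel he')) rfl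
    · rintro ⟨d, hd⟩
      obtain ⟨i, j, h⟩ := adjust_two hord hz P ha hb hab hd
      exact ⟨(⟨_, h⟩, i, j), Subtype.ext (mul_inv_cancel_right _ _)⟩
  rw [← Nat.card_congr (Equiv.ofBijective F hF), Nat.card_prod, Nat.card_prod, Nat.card_fin]
  ring

theorem card_pos_case [Finite G] (h : D ≤ zpowers z) : Nat.card D = 2 := by
  rw [le_antisymm h P.U_le, Nat.card_zpowers, hord]

theorem exists_pair' (h : ¬ D ≤ zpowers z) : ∃ a ∈ D, ∃ b ∈ D, ⁅a, b⁆ = z := by
  haveI : Fact (Nat.Prime 2) := ⟨Nat.prime_two⟩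
  obtain ⟨a, ha, b, hb, -, -, hab⟩ := P.exists_pair hord h hz (fun _ => True)
    (fun d hd => ⟨d, hd, 1, one_mem _, trivial, (mul_one d).symm⟩) (fun _ _ _ => trivial)
  exact ⟨a, ha, b, hb, hab⟩

theorem exists_involution (hbig : ∀ a b : G, a ∈ D → b ∈ D → ⁅a, b⁆ = z → ¬ Pairing.rest D a b ≤ zpowers z)
    (h : ¬ D ≤ zpowers z) : ∃ a ∈ D, a ∉ zpowers z ∧ a ^ 2 = 1 := by
  obtain ⟨a, ha, b, hb, hab⟩ := exists_pair' hord hz P h
  obtain ⟨c, hc, hcU⟩ := SetLike.not_le_iff_exists.mp (hbig a b ha hb hab)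
  obtain ⟨hcD, hca, hcb⟩ := Pairing.mem_rest.mp hc
  have hanot : ∀ r, Commute r b → a * r ∉ zpowers z := by
    intro r hr hmem
    have h1 : Commute a b := by
      have := (show Commute (a * r) b from (mem_center_iff.mp (zpowers_le.mpr hz hmem) b).symm).mul_left hr.inv_left
      rwa [mul_inv_cancel_right] at this
    exact ne_one_of_ord hord (hab ▸ commutatorElement_eq_one_iff_commute.mpr h1)
  rcases mem_zpowers_two hord (P.pow a ha) with h1 | h1
  · exact ⟨a, ha, fun h => hanot 1 (Commute.one_left b) (by rwa [mul_one]), h1⟩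
  rcases mem_zpowers_two hord (P.pow c hcD) with h2 | h2
  · exact ⟨c, hcD, hcU, h2⟩
  refine ⟨a * c, mul_mem ha hcD, hanot c hcb, ?_⟩
  rw [hca.symm.mul_pow, h1, h2, ← pow_two, ← hord, pow_orderOf_eq_one]

theorem card_eq [Finite G] : ∃ n, Nat.card D = 2 ^ (2 * n + 1) := by
  haveI : Fact (Nat.Prime 2) := ⟨Nat.prime_two⟩
  induction hk : Nat.card D using Nat.strong_induction_on generalizing D with
  | _ k ih =>
    subst hk
    by_cases h : D ≤ zpowers z
    · exact ⟨0, by rw [card_pos_case hord hz P h]; rfl⟩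
    obtain ⟨a, ha, b, hb, hab⟩ := exists_pair' hord hz P h
    obtain ⟨n, hn⟩ := ih _ (Pairing.rest_lt hord ha hab) (P.rest_pairing hz ha hb hab) rfl
    exact ⟨n + 1, by rw [card_rest hord hz P ha hb hab, hn]; ring⟩

theorem rest_card [Finite G] {n : ℕ} (hn : Nat.card D = 2 ^ (2 * (n + 1) + 1)) {a b : G} (ha : a ∈ D) (hb : b ∈ D)
    (hab : ⁅a, b⁆ = z) : Nat.card (Pairing.rest D a b) = 2 ^ (2 * n + 1) := by
  have := card_rest hord hz P ha hb hab
  rw [hn, show 2 ^ (2 * (n + 1) + 1) = 4 * 2 ^ (2 * n + 1) by ring] at this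
  omega

theorem elem_rest [Finite G] {A : Subgroup G} (hA : Elem D A) {a b : G} (haA : a ∈ A) (hb : b ∈ D)
    (hab : ⁅a, b⁆ = z) :
    ∃ A', Elem (Pairing.rest D a b) A' ∧ Nat.card A ≤ 2 * Nat.card A' := by
  classical
  refine ⟨A ⊓ centralizer ({b} : Set G), ⟨fun x hx => Pairing.mem_rest.mpr ⟨hA.1 hx.1, hA.2.1 x hx.1 a haA,
    mem_centralizer_singleton_iff.mp hx.2⟩, fun x hx y hy => hA.2.1 x hx.1 y hy.1, fun x hx => hA.2.2 x hx.1⟩, ?_⟩
  have hfix : ∀ x ∈ A, ¬ Commute x b → Commute (x * a) b := by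
    intro x hx hne
    rw [← commutatorElement_eq_one_iff_commute, comm_mul_left, hab, mem_center_iff.mp hz x, mul_inv_cancel_right,
      (mem_zpowers_two hord (P.comm x (hA.1 hx) b hb)).resolve_left (fun h => hne (commutatorElement_eq_one_iff_commute.mp h)),
      ← pow_two, ← hord, pow_orderOf_eq_one]
  let F : A → ↥(A ⊓ centralizer ({b} : Set G)) × Bool := fun x =>
    if h : Commute (x : G) b then (⟨x, x.2, mem_centralizer_singleton_iff.mpr h.eq⟩, true)
    else (⟨(x : G) * a, mul_mem x.2 haA, mem_centralizer_singleton_iff.mpr (hfix x x.2 h).eq⟩, false)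
  have hF : Function.Injective F := by
    intro x y he
    simp only [F] at he
    split at he <;> split at he <;> simp only [Prod.mk.injEq, Subtype.mk.injEq, and_true, and_false, mul_left_inj, reduceCtorEq] at he
    all_goals
      apply Subtype.ext
      simpa using congrArg Subtype.val he
  have := Nat.card_le_card_of_injective F hF
  rw [Nat.card_prod, Nat.card_eq_fintype_card (α := Bool), Fintype.card_bool] at this
  omega

theorem elem_extend [Finite G] {a b : G} (ha : a ∈ D) (hab : ⁅a, b⁆ = z) (ha2 : a ^ 2 = 1) {A' : Subgroup G}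
    (hA : Elem (Pairing.rest D a b) A') : ∃ A, Elem D A ∧ 2 * Nat.card A' ≤ Nat.card A := by
  have hca : ∀ x ∈ A', Commute x a := fun x hx => (Pairing.mem_rest.mp (hA.1 hx)).2.1
  have ha2' : a * a = 1 := by rw [← pow_two]; exact ha2
  let A : Subgroup G :=
    { carrier := {x | x ∈ A' ∨ x * a ∈ A'}
      one_mem' := Or.inl (one_mem A')
      mul_mem' := fun {x y} hx hy => by
        rcases hx with hx | hx <;> rcases hy with hy | hy
        · exact Or.inl (mul_mem hx hy)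
        · right; rw [mul_assoc]; exact mul_mem hx hy
        · right
          rw [mul_assoc, (hca y hy).eq, ← mul_assoc]; exact mul_mem hx hy
        · left
          have h := hca (y * a) hy
          have : x * y = (x * a) * (y * a) := by
            calc x * y = x * (y * (a * a)) := by rw [ha2', mul_one]
              _ = x * ((y * a) * a) := by group
              _ = x * (a * (y * a)) := by rw [h.eq]
              _ = _ := by group
          rw [this]; exact mul_mem hx hy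
      inv_mem' := fun {x} hx => by
        rcases hx with hx | hx
        · exact Or.inl (inv_mem hx)
        · right
          have hxa : Commute x a := by
            have := (hca _ hx).mul_left (Commute.refl a).inv_left
            rwa [mul_inv_cancel_right] at this
          rw [show x⁻¹ * a = (x * a)⁻¹ by rw [mul_inv_rev, inv_eq_of_mul_eq_one_right ha2', hxa.inv_left.eq]]
          exact inv_mem hx }
  have hmem : ∀ x ∈ A, ∃ y ∈ A', x = y ∨ x = y * a := by
    rintro x (hx | hx)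
    · exact ⟨x, hx, Or.inl rfl⟩
    · exact ⟨x * a, hx, Or.inr (by rw [mul_assoc, ha2', mul_one])⟩
  refine ⟨A, ⟨?_, ?_, ?_⟩, ?_⟩
  · intro x hx
    obtain ⟨y, hy, rfl | rfl⟩ := hmem x hx
    · exact (Pairing.mem_rest.mp (hA.1 hy)).1
    · exact mul_mem (Pairing.mem_rest.mp (hA.1 hy)).1 ha
  · intro x hx w hw
    obtain ⟨y, hy, hxy⟩ := hmem x hx
    obtain ⟨v, hv, hwv⟩ := hmem w hw
    have c : Commute y v := hA.2.1 y hy v hv
    rcases hxy with rfl | rfl <;> rcases hwv with rfl | rfl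
    · exact c
    · exact (c.mul_right (hca x hy)).eq
    · exact (c.mul_left (hca w hv).symm).eq
    · exact ((c.mul_right (hca y hy)).mul_left ((hca v hv).symm.mul_right (Commute.refl a))).eq
  · intro x hx
    obtain ⟨y, hy, rfl | rfl⟩ := hmem x hx
    · exact hA.2.2 x hy
    · rw [(hca y hy).mul_pow, hA.2.2 y hy, ha2, one_mul]
  · have hnot : ∀ x ∈ A', x * a ∉ A' := by
      intro x hx h
      have : a ∈ A' := by simpa using mul_mem (inv_mem hx) h
      exact ne_one_of_ord hord (hab ▸ commutatorElement_eq_one_iff_commute.mpr (Pairing.mem_rest.mp (hA.1 this)).2.2)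
    let F : A' × Bool → A := fun q => if q.2 then ⟨q.1, Or.inl q.1.2⟩ else
      ⟨(q.1 : G) * a, Or.inr (by rw [mul_assoc, ha2', mul_one]; exact q.1.2)⟩
    have hF : Function.Injective F := by
      rintro ⟨x, i⟩ ⟨y, j⟩ he
      have he' := congrArg Subtype.val he
      cases i <;> cases j <;> simp [F] at he'
      · simp [he']
      · exact absurd (show (x : G) * a ∈ A' from he' ▸ y.2) (hnot x x.2)
      · exact absurd (show (y : G) * a ∈ A' from he' ▸ x.2) (hnot y y.2)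
      · simp [he']
    have := Nat.card_le_card_of_injective F hF
    rw [Nat.card_prod, Nat.card_eq_fintype_card (α := Bool), Fintype.card_bool] at this
    omega

theorem elem_card_le [Finite G] {n : ℕ} (hn : Nat.card D = 2 ^ (2 * n + 1)) {A : Subgroup G} (hA : Elem D A) :
    Nat.card A ≤ 2 ^ (n + 1) := by
  induction n generalizing D A with
  | zero => exact (card_le_of_le hA.1).trans hn.le
  | succ n ih =>
    by_cases hAU : A ≤ zpowers z
    · refine (card_le_of_le hAU).trans ?_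
      rw [Nat.card_zpowers, hord]
      exact Nat.le_self_pow (by omega) 2
    obtain ⟨a, haA, haU⟩ := SetLike.not_le_iff_exists.mp hAU
    obtain ⟨b, hb, hab, -⟩ := exists_partner hord hz P (hA.1 haA) haU (hA.2.2 a haA)
    obtain ⟨A', hA', hle⟩ := elem_rest hord hz P hA haA hb hab
    haveI : Fact (Nat.Prime 2) := ⟨Nat.prime_two⟩
    have := ih (P.rest_pairing hz (hA.1 haA) hb hab) (rest_card hord hz P hn (hA.1 haA) hb hab) hA'
    rw [pow_succ]
    omega

theorem not_le_of_card [Finite G] {n : ℕ} (hn : Nat.card D = 2 ^ (2 * (n + 1) + 1)) : ¬ D ≤ zpowers z := fun h => by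
  rw [card_pos_case hord hz P h] at hn
  have h2 : 2 ^ 1 < 2 ^ (2 * (n + 1) + 1) := Nat.pow_lt_pow_right (by norm_num) (by omega)
  omega

theorem exists_involution' [Finite G] {n : ℕ} (hn : Nat.card D = 2 ^ (2 * (n + 1 + 1) + 1)) :
    ∃ a ∈ D, a ∉ zpowers z ∧ a ^ 2 = 1 := by
  haveI : Fact (Nat.Prime 2) := ⟨Nat.prime_two⟩
  exact exists_involution hord hz P (fun a b ha hb hab =>
    not_le_of_card hord hz (P.rest_pairing hz ha hb hab) (rest_card hord hz P hn ha hb hab)) (not_le_of_card hord hz P hn)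

theorem exists_elem [Finite G] {n : ℕ} (hn : Nat.card D = 2 ^ (2 * n + 1)) :
    ∃ A, Elem D A ∧ 2 ^ n ≤ Nat.card A := by
  haveI : Fact (Nat.Prime 2) := ⟨Nat.prime_two⟩
  induction n generalizing D with
  | zero =>
    exact ⟨⊥, ⟨bot_le, fun a ha b hb => by rw [mem_bot.mp ha, mem_bot.mp hb],
      fun a ha => by rw [mem_bot.mp ha, one_pow]⟩, by simp⟩
  | succ n ih =>
    rcases n with _ | n
    · refine ⟨zpowers z, ⟨P.U_le, fun a ha b hb => ?_, fun a ha => ?_⟩, by rw [Nat.card_zpowers, hord]; rfl⟩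
      · exact (mem_center_iff.mp (zpowers_le.mpr hz ha) b).symm
      · rcases mem_zpowers_two hord ha with rfl | rfl
        · exact one_pow 2
        · rw [← hord, pow_orderOf_eq_one]
    obtain ⟨a, ha, haU, ha2⟩ := exists_involution' hord hz P hn
    obtain ⟨b, hb, hab, -⟩ := exists_partner hord hz P ha haU ha2
    obtain ⟨A', hA', hle⟩ := ih (P.rest_pairing hz ha hb hab) (rest_card hord hz P hn ha hb hab)
    obtain ⟨A, hA, hle'⟩ := elem_extend hord hz P ha hab ha2 hA'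
    refine ⟨A, hA, ?_⟩
    rw [pow_succ]
    omega

theorem sq_eq [Finite G] (hnp : ¬ Plus D (0 + 1)) {x y : G} (hx : x ∈ D) (_hy : y ∈ D)
    (hxy : ⁅x, y⁆ = z ∨ ⁅y, x⁆ = z) : x ^ 2 = z := by
  haveI : Fact (Nat.Prime 2) := ⟨Nat.prime_two⟩
  refine (mem_zpowers_two hord (P.pow x hx)).resolve_left fun hx2 => hnp ?_
  have hxU : x ∉ zpowers z := fun h => by
    have hc : Commute x y := (mem_center_iff.mp (zpowers_le.mpr hz h) y).symm
    rcases hxy with e | e
    · exact ne_one_of_ord hord (e ▸ commutatorElement_eq_one_iff_commute.mpr hc)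
    · exact ne_one_of_ord hord (e ▸ commutatorElement_eq_one_iff_commute.mpr hc.symm)
  obtain ⟨v, hv, hxv, -⟩ := exists_partner hord hz P hx hxU hx2
  have hU : Elem (Pairing.rest D x v) (zpowers z) := ⟨(P.rest_pairing hz hx hv hxv).U_le,
    fun p hp q _ => (mem_center_iff.mp (zpowers_le.mpr hz hp) q).symm, fun p hp => by
      rcases mem_zpowers_two hord hp with rfl | rfl
      · exact one_pow 2
      · rw [← hord, pow_orderOf_eq_one]⟩
  obtain ⟨A, hA, hAc⟩ := elem_extend hord hz P hx hxv hx2 hU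
  rw [Nat.card_zpowers, hord] at hAc
  exact ⟨A, hA, by simpa using hAc⟩

end

section Iso

variable {H : Type*} [Group H] {z' : H} {D' : Subgroup H}

/-- `Γ` is the graph of an isomorphism `D ≃ D'` matching `z` and `z'`. -/
structure Graph (z : G) (z' : H) (D : Subgroup G) (D' : Subgroup H) (Γ : Subgroup (G × H)) : Prop where
  mem : ∀ x ∈ Γ, x.1 ∈ D ∧ x.2 ∈ D'
  surj₁ : ∀ d ∈ D, ∃ x ∈ Γ, x.1 = d
  surj₂ : ∀ d ∈ D', ∃ x ∈ Γ, x.2 = d
  inj₁ : ∀ x ∈ Γ, x.1 = 1 → x = 1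
  inj₂ : ∀ x ∈ Γ, x.2 = 1 → x = 1
  center : (z, z') ∈ Γ

variable (hord : orderOf z = 2) (hz : z ∈ center G) (P : Pairing 2 z (zpowers z) D)
  (hord' : orderOf z' = 2) (hz' : z' ∈ center H) (P' : Pairing 2 z' (zpowers z') D')

include hord hz P hord' hz' P'

theorem glue {a b : G} {a' b' : H} (ha : a ∈ D) (hb : b ∈ D) (hab : ⁅a, b⁆ = z)
    (ha' : a' ∈ D') (hb' : b' ∈ D') (hab' : ⁅a', b'⁆ = z') {Γ : Subgroup (G × H)}
    (hΓ : Graph z z' (Pairing.rest D a b) (Pairing.rest D' a' b') Γ)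
    (ha2 : (a ^ 2, a' ^ 2) ∈ Γ) (hb2 : (b ^ 2, b' ^ 2) ∈ Γ) :
    ∃ Δ, Graph z z' D D' Δ := by
  set A : G × H := (a, a')
  set B : G × H := (b, b')
  have hZ : ((z, z') : G × H) ∈ Subgroup.center (G × H) := mem_center_iff.mpr fun g =>
    Prod.ext (mem_center_iff.mp hz g.1) (mem_center_iff.mp hz' g.2)
  have hAB : ⁅A, B⁆ = (z, z') := by
    show A * B * A⁻¹ * B⁻¹ = _
    exact Prod.ext (by simpa [A, B, commutatorElement_def] using hab) (by simpa [A, B, commutatorElement_def] using hab')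
  have hΓc : ∀ r ∈ Γ, Commute r A ∧ Commute r B := fun r hr => by
    obtain ⟨h1, h2⟩ := hΓ.mem r hr
    obtain ⟨-, e1, e2⟩ := Pairing.mem_rest.mp h1
    obtain ⟨-, f1, f2⟩ := Pairing.mem_rest.mp h2
    exact ⟨Prod.ext e1.eq f1.eq, Prod.ext e2.eq f2.eq⟩
  have hmul : ∀ r r' : G × H, r' ∈ Γ → ∀ i j i' j' : ℤ,
      r * (A ^ i * B ^ j) * (r' * (A ^ i' * B ^ j')) =
        r * r' * (z, z') ^ (-(j * i')) * (A ^ (i + i') * B ^ (j + j')) := by
    intro r r' hr' i j i' j'
    obtain ⟨c1, c2⟩ := hΓc r' hr'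
    have hc : Commute r' (A ^ i * B ^ j) := (c1.zpow_right i).mul_right (c2.zpow_right j)
    have hcz : ∀ (n : ℤ) (g : G × H), g * (z, z') ^ n = (z, z') ^ n * g := fun n g => mem_center_iff.mp (zpow_mem hZ n) g
    have hsw : B ^ j * A ^ i' = (z, z') ^ (-(j * i')) * (A ^ i' * B ^ j) := by
      have h1 : ⁅A ^ i', B ^ j⁆ = (z, z') ^ (j * i') := by
        rw [comm_zpow_right (zpow_mem hZ i') (comm_zpow_left hZ hAB i'), ← zpow_mul, mul_comm]
      rw [zpow_neg, ← h1, commutatorElement_def]; group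
    calc r * (A ^ i * B ^ j) * (r' * (A ^ i' * B ^ j'))
        = r * ((A ^ i * B ^ j) * r') * (A ^ i' * B ^ j') := by group
      _ = r * r' * (A ^ i * (B ^ j * A ^ i') * B ^ j') := by rw [← hc.eq]; group
      _ = r * r' * (A ^ i * (z, z') ^ (-(j * i'))) * (A ^ i' * B ^ j * B ^ j') := by rw [hsw]; group
      _ = r * r' * ((z, z') ^ (-(j * i')) * A ^ i) * (A ^ i' * B ^ j * B ^ j') := by rw [hcz]
      _ = _ := by group
  let Δ : Subgroup (G × H) :=
    { carrier := {x | ∃ r ∈ Γ, ∃ i j : ℤ, x = r * (A ^ i * B ^ j)}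
      one_mem' := ⟨1, one_mem Γ, 0, 0, by simp⟩
      mul_mem' := by
        rintro _ _ ⟨r, hr, i, j, rfl⟩ ⟨r', hr', i', j', rfl⟩
        exact ⟨_, mul_mem (mul_mem hr hr') (zpow_mem hΓ.center _), _, _, hmul r r' hr' i j i' j'⟩
      inv_mem' := by
        rintro _ ⟨r, hr, i, j, rfl⟩
        refine ⟨r⁻¹ * (z, z') ^ (-(j * i)), mul_mem (inv_mem hr) (zpow_mem hΓ.center _), -i, -j,
          inv_eq_of_mul_eq_one_right ?_⟩
        rw [hmul r _ (mul_mem (inv_mem hr) (zpow_mem hΓ.center _)), mul_inv_cancel_left, ← zpow_add, add_neg_cancel,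
          add_neg_cancel, zpow_zero, zpow_zero, mul_one, mul_one, show -(j * i) + -(j * -i) = 0 by ring, zpow_zero] }
  have hkill : ∀ r ∈ Γ, ∀ i j : ℤ, 2 ∣ i → 2 ∣ j → r * (A ^ i * B ^ j) ∈ Γ := by
    rintro r hr _ _ ⟨k, rfl⟩ ⟨l, rfl⟩
    rw [zpow_mul, zpow_mul, zpow_ofNat, zpow_ofNat]
    exact mul_mem hr (mul_mem (zpow_mem ha2 k) (zpow_mem hb2 l))
  refine ⟨Δ, ⟨?_, ?_, ?_, ?_, ?_, ⟨(z, z'), hΓ.center, 0, 0, by simp⟩⟩⟩
  · rintro _ ⟨r, hr, i, j, rfl⟩
    obtain ⟨h1, h2⟩ := hΓ.mem r hr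
    exact ⟨mul_mem (Pairing.mem_rest.mp h1).1 (mul_mem (zpow_mem ha i) (zpow_mem hb j)),
      mul_mem (Pairing.mem_rest.mp h2).1 (mul_mem (zpow_mem ha' i) (zpow_mem hb' j))⟩
  · intro d hd
    obtain ⟨i, j, h⟩ := adjust_two hord hz P ha hb hab hd
    obtain ⟨r, hr, he⟩ := hΓ.surj₁ _ h
    have hAB' : A ^ (i : ℕ) * B ^ (j : ℕ) ∈ Δ := ⟨1, one_mem Γ, (i : ℕ), (j : ℕ), by rw [one_mul, zpow_natCast, zpow_natCast]⟩
    refine ⟨r * (A ^ (i : ℕ) * B ^ (j : ℕ))⁻¹, mul_mem ⟨r, hr, 0, 0, by simp⟩ (inv_mem hAB'), ?_⟩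
    show r.1 * (a ^ (i : ℕ) * b ^ (j : ℕ))⁻¹ = d
    rw [he, mul_inv_cancel_right]
  · intro d hd
    obtain ⟨i, j, h⟩ := adjust_two hord' hz' P' ha' hb' hab' hd
    obtain ⟨r, hr, he⟩ := hΓ.surj₂ _ h
    have hAB' : A ^ (i : ℕ) * B ^ (j : ℕ) ∈ Δ := ⟨1, one_mem Γ, (i : ℕ), (j : ℕ), by rw [one_mul, zpow_natCast, zpow_natCast]⟩
    refine ⟨r * (A ^ (i : ℕ) * B ^ (j : ℕ))⁻¹, mul_mem ⟨r, hr, 0, 0, by simp⟩ (inv_mem hAB'), ?_⟩
    show r.2 * (a' ^ (i : ℕ) * b' ^ (j : ℕ))⁻¹ = d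
    rw [he, mul_inv_cancel_right]
  · rintro _ ⟨r, hr, i, j, rfl⟩ h1
    obtain ⟨-, hra, hrb⟩ := Pairing.mem_rest.mp (hΓ.mem r hr).1
    have h1' : r.1 * (a ^ i * b ^ j) = 1 := h1
    have e1 : ⁅a ^ i * b ^ j, b⁆ = z ^ i := by
      rw [comm_mul_left, commutatorElement_eq_one_iff_commute.mpr ((Commute.refl b).zpow_left _), mul_one,
        mul_inv_cancel, one_mul, comm_zpow_left hz hab]
    have e2 : ⁅a, a ^ i * b ^ j⁆ = z ^ j := by
      rw [comm_mul_right, commutatorElement_eq_one_iff_commute.mpr ((Commute.refl a).zpow_right _), one_mul,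
        comm_zpow_right hz hab, mem_center_iff.mp (zpow_mem hz _) (a ^ i), mul_inv_cancel_right]
    rw [eq_inv_of_mul_eq_one_right h1'] at e1 e2
    rw [commutatorElement_eq_one_iff_commute.mpr hrb.inv_left] at e1
    rw [commutatorElement_eq_one_iff_commute.mpr hra.symm.inv_right] at e2
    exact hΓ.inj₁ _ (hkill r hr i j (dvd_of_zpow_eq_one hord e1.symm) (dvd_of_zpow_eq_one hord e2.symm)) h1
  · rintro _ ⟨r, hr, i, j, rfl⟩ h1
    obtain ⟨-, hra, hrb⟩ := Pairing.mem_rest.mp (hΓ.mem r hr).2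
    have h1' : r.2 * (a' ^ i * b' ^ j) = 1 := h1
    have e1 : ⁅a' ^ i * b' ^ j, b'⁆ = z' ^ i := by
      rw [comm_mul_left, commutatorElement_eq_one_iff_commute.mpr ((Commute.refl b').zpow_left _), mul_one,
        mul_inv_cancel, one_mul, comm_zpow_left hz' hab']
    have e2 : ⁅a', a' ^ i * b' ^ j⁆ = z' ^ j := by
      rw [comm_mul_right, commutatorElement_eq_one_iff_commute.mpr ((Commute.refl a').zpow_right _), one_mul,
        comm_zpow_right hz' hab', mem_center_iff.mp (zpow_mem hz' _) (a' ^ i), mul_inv_cancel_right]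
    rw [eq_inv_of_mul_eq_one_right h1'] at e1 e2
    rw [commutatorElement_eq_one_iff_commute.mpr hrb.inv_left] at e1
    rw [commutatorElement_eq_one_iff_commute.mpr hra.symm.inv_right] at e2
    exact hΓ.inj₂ _ (hkill r hr i j (dvd_of_zpow_eq_one hord' e1.symm) (dvd_of_zpow_eq_one hord' e2.symm)) h1

theorem exists_graph [Finite G] [Finite H] {n : ℕ} (hn : Nat.card D = 2 ^ (2 * n + 1))
    (hn' : Nat.card D' = 2 ^ (2 * n + 1)) (hpm : Plus D n ↔ Plus D' n) : ∃ Γ, Graph z z' D D' Γ := by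
  haveI : Fact (Nat.Prime 2) := ⟨Nat.prime_two⟩
  induction n generalizing D D' with
  | zero =>
    have hD : D = zpowers z := (eq_of_le_of_card_ge P.U_le (by rw [hn, Nat.card_zpowers, hord]; rfl)).symm
    have hD' : D' = zpowers z' := (eq_of_le_of_card_ge P'.U_le (by rw [hn', Nat.card_zpowers, hord']; rfl)).symm
    refine ⟨zpowers (z, z'), ⟨?_, ?_, ?_, ?_, ?_, mem_zpowers _⟩⟩
    · rintro _ ⟨k, rfl⟩; rw [hD, hD']; exact ⟨zpow_mem (mem_zpowers z) k, zpow_mem (mem_zpowers z') k⟩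
    · intro d hd; obtain ⟨k, rfl⟩ := mem_zpowers_iff.mp (hD ▸ hd); exact ⟨_, ⟨k, rfl⟩, rfl⟩
    · intro d hd; obtain ⟨k, rfl⟩ := mem_zpowers_iff.mp (hD' ▸ hd); exact ⟨_, ⟨k, rfl⟩, rfl⟩
    · rintro _ ⟨k, rfl⟩ h
      have hk : (2 : ℤ) ∣ k := dvd_of_zpow_eq_one hord h
      exact Prod.ext h (show z' ^ k = 1 from orderOf_dvd_iff_zpow_eq_one.mp (by rw [hord']; exact hk))
    · rintro _ ⟨k, rfl⟩ h
      have hk : (2 : ℤ) ∣ k := dvd_of_zpow_eq_one hord' h
      exact Prod.ext (show z ^ k = 1 from orderOf_dvd_iff_zpow_eq_one.mp (by rw [hord]; exact hk)) h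
  | succ n ih =>
    have step : ∀ a b a' b', a ∈ D → b ∈ D → ⁅a, b⁆ = z → a' ∈ D' → b' ∈ D' → ⁅a', b'⁆ = z' →
        ((a ^ 2 = 1 ∧ a' ^ 2 = 1 ∧ b ^ 2 = 1 ∧ b' ^ 2 = 1) ∨ (a ^ 2 = z ∧ a' ^ 2 = z' ∧ b ^ 2 = z ∧ b' ^ 2 = z')) →
        (Plus (Pairing.rest D a b) n ↔ Plus (Pairing.rest D' a' b') n) → ∃ Γ, Graph z z' D D' Γ := by
      intro a b a' b' ha hb hab ha' hb' hab' hsq hpl
      obtain ⟨Γ, hΓ⟩ := ih (P.rest_pairing hz ha hb hab) (P'.rest_pairing hz' ha' hb' hab')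
        (rest_card hord hz P hn ha hb hab) (rest_card hord' hz' P' hn' ha' hb' hab') hpl
      rcases hsq with ⟨h1, h2, h3, h4⟩ | ⟨h1, h2, h3, h4⟩
      · exact glue hord hz P hord' hz' P' ha hb hab ha' hb' hab' hΓ (by rw [h1, h2]; exact one_mem Γ) (by rw [h3, h4]; exact one_mem Γ)
      · exact glue hord hz P hord' hz' P' ha hb hab ha' hb' hab' hΓ (by rw [h1, h2]; exact hΓ.center) (by rw [h3, h4]; exact hΓ.center)
    by_cases hplus : Plus D (n + 1)
    · obtain ⟨A, hA, hAc⟩ := hplus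
      obtain ⟨A', hA', hAc'⟩ := hpm.mp ⟨A, hA, hAc⟩
      have key : ∀ {K : Type _} [Group K] {w : K} {X : Subgroup K}, orderOf w = 2 → 2 ^ (n + 1 + 1) ≤ Nat.card X →
          ∀ (_ : Finite K), ¬ X ≤ zpowers w := by
        intro K _ w X hw hX _ hle
        have h1 := card_le_of_le hle
        rw [Nat.card_zpowers, hw] at h1
        have : 2 ^ 1 < 2 ^ (n + 1 + 1) := Nat.pow_lt_pow_right (by norm_num) (by omega)
        omega
      obtain ⟨a, haA, haU⟩ := SetLike.not_le_iff_exists.mp (key hord hAc inferInstance)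
      obtain ⟨a', haA', haU'⟩ := SetLike.not_le_iff_exists.mp (show ¬ A' ≤ zpowers z' from fun hle => by
        have h1 := card_le_of_le hle
        rw [Nat.card_zpowers, hord'] at h1
        have : 2 ^ 1 < 2 ^ (n + 1 + 1) := Nat.pow_lt_pow_right (by norm_num) (by omega)
        omega)
      obtain ⟨b, hb, hab, hb2⟩ := exists_partner hord hz P (hA.1 haA) haU (hA.2.2 a haA)
      obtain ⟨b', hb', hab', hb2'⟩ := exists_partner hord' hz' P' (hA'.1 haA') haU' (hA'.2.2 a' haA')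
      refine step a b a' b' (hA.1 haA) hb hab (hA'.1 haA') hb' hab' (Or.inl ⟨hA.2.2 a haA, hA'.2.2 a' haA', hb2, hb2'⟩) ?_
      obtain ⟨B, hB, hBc⟩ := elem_rest hord hz P hA haA hb hab
      obtain ⟨B', hB', hBc'⟩ := elem_rest hord' hz' P' hA' haA' hb' hab'
      rw [pow_succ] at hAc hAc'
      exact iff_of_true ⟨B, hB, by omega⟩ ⟨B', hB', by omega⟩
    have hplus' : ¬ Plus D' (n + 1) := fun h => hplus (hpm.mpr h)
    rcases n with _ | n
    · -- no involutions outside the centre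
      obtain ⟨a, ha, b, hb, hab⟩ := exists_pair' hord hz P (not_le_of_card hord hz P hn)
      obtain ⟨a', ha', b', hb', hab'⟩ := exists_pair' hord' hz' P' (not_le_of_card hord' hz' P' hn')
      refine step a b a' b' ha hb hab ha' hb' hab' (Or.inr ⟨sq_eq hord hz P hplus ha hb (Or.inl hab), sq_eq hord' hz' P' hplus' ha' hb' (Or.inl hab'),
        sq_eq hord hz P hplus hb ha (Or.inr hab), sq_eq hord' hz' P' hplus' hb' ha' (Or.inr hab')⟩) ?_
      refine iff_of_true ⟨zpowers z, ⟨(P.rest_pairing hz ha hb hab).U_le, ?_, ?_⟩, by rw [Nat.card_zpowers, hord]; rfl⟩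
        ⟨zpowers z', ⟨(P'.rest_pairing hz' ha' hb' hab').U_le, ?_, ?_⟩, by rw [Nat.card_zpowers, hord']; rfl⟩
      · exact fun p hp q _ => (mem_center_iff.mp (zpowers_le.mpr hz hp) q).symm
      · intro p hp; rcases mem_zpowers_two hord hp with rfl | rfl
        · exact one_pow 2
        · rw [← hord, pow_orderOf_eq_one]
      · exact fun p hp q _ => (mem_center_iff.mp (zpowers_le.mpr hz' hp) q).symm
      · intro p hp; rcases mem_zpowers_two hord' hp with rfl | rfl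
        · exact one_pow 2
        · rw [← hord', pow_orderOf_eq_one]
    · obtain ⟨a, ha, haU, ha2⟩ := exists_involution' hord hz P hn
      obtain ⟨a', ha', haU', ha2'⟩ := exists_involution' hord' hz' P' hn'
      obtain ⟨b, hb, hab, hb2⟩ := exists_partner hord hz P ha haU ha2
      obtain ⟨b', hb', hab', hb2'⟩ := exists_partner hord' hz' P' ha' haU' ha2'
      refine step a b a' b' ha hb hab ha' hb' hab' (Or.inl ⟨ha2, ha2', hb2, hb2'⟩) (iff_of_false ?_ ?_)
      · rintro ⟨B, hB, hBc⟩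
        obtain ⟨A, hA, hAc⟩ := elem_extend hord hz P ha hab ha2 hB
        exact hplus ⟨A, hA, by simp only [pow_succ] at hBc ⊢; omega⟩
      · rintro ⟨B, hB, hBc⟩
        obtain ⟨A, hA, hAc⟩ := elem_extend hord' hz' P' ha' hab' ha2' hB
        exact hplus' ⟨A, hA, by simp only [pow_succ] at hBc ⊢; omega⟩

end Iso

section Whole

variable {E : Type*} [Group E] [Finite E]

theorem setup (hE : Cfsg.IsExtraspecial 2 E) :
    ∃ z : E, orderOf z = 2 ∧ z ∈ center E ∧ Pairing 2 z (zpowers z) (⊤ : Subgroup E) := by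
  obtain ⟨⟨hP, hfr, hcomm⟩, hcard⟩ := hE
  haveI : Nontrivial (center E) := Finite.one_lt_card_iff_nontrivial.mp (by omega)
  obtain ⟨⟨z, hz⟩, hz1⟩ := exists_ne (1 : center E)
  have hord : orderOf z = 2 := by
    haveI : Fact (Nat.Prime 2) := ⟨Nat.prime_two⟩
    refine orderOf_eq_prime ?_ fun h => hz1 (Subtype.ext h)
    have := pow_card_eq_one' (x := (⟨z, hz⟩ : center E))
    rw [hcard] at this
    exact congrArg Subtype.val this
  have hcz : center E = zpowers z := (eq_of_le_of_card_ge (zpowers_le.mpr hz) (by rw [hcard, Nat.card_zpowers, hord])).symm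
  refine ⟨z, hord, hz, le_top, mem_zpowers z, fun a _ b _ => ?_, fun u hu a _ => mem_center_iff.mp (zpowers_le.mpr hz hu) a,
    fun a _ h => hcz ▸ mem_center_iff.mpr fun g => (h g (mem_top g)).symm, fun a _ => ?_⟩
  · rw [← hcz, ← hcomm]; exact commutator_mem_commutator (mem_top a) (mem_top b)
  · rw [← hcz, ← hfr]
    show a ^ 2 ∈ Order.radical (Subgroup E)
    rw [Order.radical]
    simp only [mem_iInf]
    intro M hM
    haveI := hP.isNilpotent
    haveI : Fact (Nat.Prime 2) := ⟨Nat.prime_two⟩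
    haveI hMn : M.Normal := NormalizerCondition.normal_of_coatom M normalizerCondition_of_isNilpotent hM
    have hidx : M.index = 2 := by
      haveI : IsSimpleGroup (E ⧸ M) := by
        haveI : Nontrivial (E ⧸ M) := QuotientGroup.nontrivial_iff.mpr hM.1
        refine ⟨fun N hN => ?_⟩
        rcases eq_or_lt_of_le (QuotientGroup.le_comap_mk' M N) with h | h
        · left; rw [← map_comap_eq_self_of_surjective (QuotientGroup.mk'_surjective M) N, ← h, QuotientGroup.map_mk'_self]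
        · right; rw [← map_comap_eq_self_of_surjective (QuotientGroup.mk'_surjective M) N, hM.2 _ h,
            map_top_of_surjective _ (QuotientGroup.mk'_surjective M)]
      haveI : Nontrivial (E ⧸ M) := IsSimpleGroup.toNontrivial
      have hQ := hP.to_quotient M
      have hcomm' : IsMulCommutative (E ⧸ M) := by
        haveI := hQ.center_nontrivial
        have htop : center (E ⧸ M) = ⊤ := (inferInstance : (center (E ⧸ M)).Normal).eq_bot_or_eq_top.resolve_left
          ((Subgroup.nontrivial_iff_ne_bot _).mp inferInstance)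
        exact ⟨⟨fun p q => mem_center_iff.mp (htop ▸ mem_top q) p⟩⟩
      rw [index_eq_card]
      obtain ⟨k, hk⟩ := hQ.exists_card_eq
      letI : CommGroup (E ⧸ M) := { (inferInstance : Group (E ⧸ M)) with mul_comm := hcomm'.is_comm.comm }
      have hp : (Nat.card (E ⧸ M)).Prime := IsSimpleGroup.prime_card
      rw [hk] at hp ⊢
      rw [hp.eq_one_of_pow, pow_one]
    exact M.sq_mem_of_index_two hidx a

theorem card_eq' (hE : Cfsg.IsExtraspecial 2 E) : ∃ n, Nat.card E = 2 ^ (2 * n + 1) := by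
  obtain ⟨z, hord, hz, P⟩ := setup hE
  obtain ⟨n, hn⟩ := card_eq hord hz P
  exact ⟨n, by rw [← hn, card_top]⟩

theorem plus_iff (n : ℕ) (hub : ∀ A : Subgroup E, Elem ⊤ A → Nat.card A ≤ 2 ^ (n + 1)) :
    Plus (⊤ : Subgroup E) n ↔ ¬ Cfsg.PRankLE 2 n E := by
  constructor
  · rintro ⟨A, hA, hc⟩ h
    have := h A ⟨⟨fun a b => Subtype.ext (hA.2.1 a a.2 b b.2)⟩⟩ hA.2.2
    rw [pow_succ] at hc
    have := Nat.two_pow_pos n
    omega
  · intro h
    simp only [Cfsg.PRankLE, not_forall, not_le] at h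
    obtain ⟨A, hA, hA2, hc⟩ := h
    have hEA : Elem ⊤ A := ⟨le_top, fun a ha b hb => congrArg Subtype.val (hA.is_comm.comm (⟨a, ha⟩ : A) ⟨b, hb⟩), hA2⟩
    refine ⟨A, hEA, ?_⟩
    have hP2 : IsPGroup 2 A := fun a => ⟨1, Subtype.ext (by simpa using hA2 a a.2)⟩
    haveI : Fact (Nat.Prime 2) := ⟨Nat.prime_two⟩
    obtain ⟨k, hk⟩ := hP2.exists_card_eq
    rw [hk] at hc ⊢
    exact Nat.pow_le_pow_right (by norm_num) (by
      by_contra hlt
      have : 2 ^ k ≤ 2 ^ n := Nat.pow_le_pow_right (by norm_num) (by omega)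
      omega)

theorem rank_cases {n : ℕ} (hE : Cfsg.IsExtraspecial 2 E) (hn : Nat.card E = 2 ^ (2 * n + 1)) :
    (∀ A : Subgroup E, Elem ⊤ A → Nat.card A ≤ 2 ^ (n + 1)) ∧ Cfsg.PRankLE 2 (n + 1) E ∧
      (1 ≤ n → ¬ Cfsg.PRankLE 2 (n - 1) E) := by
  obtain ⟨z, hord, hz, P⟩ := setup hE
  have hn' : Nat.card (⊤ : Subgroup E) = 2 ^ (2 * n + 1) := by rw [card_top]; exact hn
  refine ⟨fun A hA => elem_card_le hord hz P hn' hA, fun A hA hA2 => elem_card_le hord hz P hn'
    ⟨le_top, fun a ha b hb => congrArg Subtype.val (hA.is_comm.comm (⟨a, ha⟩ : A) ⟨b, hb⟩), hA2⟩, fun h1 h => ?_⟩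
  obtain ⟨A, hA, hc⟩ := exists_elem hord hz P hn'
  have := h A ⟨⟨fun a b => Subtype.ext (hA.2.1 a a.2 b b.2)⟩⟩ hA.2.2
  have h2 : 2 ^ n = 2 ^ (n - 1) * 2 := by rw [← pow_succ]; congr 1; omega
  have := Nat.two_pow_pos (n - 1)
  omega

theorem iso {F : Type*} [Group F] [Finite F] (hE : Cfsg.IsExtraspecial 2 E) (hF : Cfsg.IsExtraspecial 2 F)
    {n : ℕ} (hn : Nat.card E = 2 ^ (2 * n + 1)) (hc : Nat.card F = Nat.card E)
    (h : Cfsg.PRankLE 2 n E ↔ Cfsg.PRankLE 2 n F) : Nonempty (E ≃* F) := by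
  obtain ⟨z, hord, hz, P⟩ := setup hE
  obtain ⟨z', hord', hz', P'⟩ := setup hF
  have hpm : Plus (⊤ : Subgroup E) n ↔ Plus (⊤ : Subgroup F) n := by
    rw [plus_iff n (rank_cases hE hn).1, plus_iff n (rank_cases hF (hc.trans hn)).1, not_iff_not]
    exact h
  obtain ⟨Γ, hΓ⟩ := exists_graph hord hz P hord' hz' P' (by rw [card_top]; exact hn) (by rw [card_top]; exact hc.trans hn) hpm
  have hb1 : Function.Bijective ((MonoidHom.fst E F).comp Γ.subtype) :=
    ⟨(injective_iff_map_eq_one _).mpr fun x hx => Subtype.ext (hΓ.inj₁ x x.2 hx),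
      fun d => by obtain ⟨x, hx, he⟩ := hΓ.surj₁ d (mem_top d); exact ⟨⟨x, hx⟩, he⟩⟩
  have hb2 : Function.Bijective ((MonoidHom.snd E F).comp Γ.subtype) :=
    ⟨(injective_iff_map_eq_one _).mpr fun x hx => Subtype.ext (hΓ.inj₂ x x.2 hx),
      fun d => by obtain ⟨x, hx, he⟩ := hΓ.surj₂ d (mem_top d); exact ⟨⟨x, hx⟩, he⟩⟩
  exact ⟨(MulEquiv.ofBijective _ hb1).symm.trans (MulEquiv.ofBijective _ hb2)⟩

end Whole

end Cfsg.Agent.GenA.ExtraspecialTwo
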