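import Mathlib
import Cfsg.Prelude.Def_Transfer
import Cfsg.Agent.Lib.Coprime.Commutator
import Cfsg.Agent.Lib.Coprime.PGroup
import Cfsg.Agent.Lib.PGroups.ClassThree
import Cfsg.Agent.Solvable.Basics

/-!
The minimal nontrivial coprime action on a `p`-group.
-/

set_option autoImplicit false

namespace Cfsg.Agent.GenA.MinimalAction

open scoped commutatorElement
open Cfsg.Agent.Coprime

variable {X : Type*} [Group X]

theorem normalizer_commutator {A B : Subgroup X} {g : X} (hA : g ∈ Subgroup.normalizer (A : Set X))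
    (hB : g ∈ Subgroup.normalizer (B : Set X)) : g ∈ Subgroup.normalizer ((⁅A, B⁆ : Subgroup X) : Set X) := by
  refine conj_smul_eq_self_iff.mp ?_
  show (⁅A, B⁆).map (MulAut.conj g).toMonoidHom = ⁅A, B⁆
  rw [Subgroup.map_commutator, show A.map (MulAut.conj g).toMonoidHom = A from conj_smul_eq_self_iff.mpr hA,
    show B.map (MulAut.conj g).toMonoidHom = B from conj_smul_eq_self_iff.mpr hB]

theorem normalizer_centralizer {A : Subgroup X} {g : X} (hA : g ∈ Subgroup.normalizer (A : Set X)) :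
    g ∈ Subgroup.normalizer (Subgroup.centralizer (A : Set X) : Set X) := by
  rw [Subgroup.mem_normalizer_iff]
  have key : ∀ h : X, h ∈ Subgroup.normalizer (A : Set X) → ∀ c ∈ Subgroup.centralizer (A : Set X),
      h * c * h⁻¹ ∈ Subgroup.centralizer (A : Set X) := by
    intro h hh c hc
    rw [Subgroup.mem_centralizer_iff]
    intro a ha
    have ha' := (Subgroup.mem_normalizer_iff.mp (inv_mem hh) a).mp ha
    rw [inv_inv] at ha'
    calc a * (h * c * h⁻¹) = h * ((h⁻¹ * a * h) * c) * h⁻¹ := by group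
      _ = h * (c * (h⁻¹ * a * h)) * h⁻¹ := by rw [Subgroup.mem_centralizer_iff.mp hc _ ha']
      _ = h * c * h⁻¹ * a := by group
  refine fun c => ⟨key g hA c, fun hc => ?_⟩
  have := key g⁻¹ (inv_mem hA) _ hc
  simpa [mul_assoc] using this

/-- a subgroup normalised by everything normalising `P` -/
theorem normalizer_map_of_characteristic {P : Subgroup X} (K : Subgroup P) [K.Characteristic] {g : X}
    (hg : g ∈ Subgroup.normalizer (P : Set X)) : g ∈ Subgroup.normalizer ((K.map P.subtype : Subgroup X) : Set X) := by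
  have key : ∀ h ∈ Subgroup.normalizer (P : Set X), ∀ x ∈ K.map P.subtype, h * x * h⁻¹ ∈ K.map P.subtype := by
    rintro h hh _ ⟨x, hx, rfl⟩
    let φ : ↥P ≃* ↥P :=
      { toFun := fun y => ⟨h * y * h⁻¹, (Subgroup.mem_normalizer_iff.mp hh y).mp y.2⟩
        invFun := fun y => ⟨h⁻¹ * y * h, by simpa using (Subgroup.mem_normalizer_iff.mp (inv_mem hh) y).mp y.2⟩
        left_inv := fun y => Subtype.ext (by simp [mul_assoc])
        right_inv := fun y => Subtype.ext (by simp [mul_assoc])
        map_mul' := fun a b => Subtype.ext (by simp [mul_assoc]) }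
    exact ⟨φ x, ((Subgroup.Characteristic.fixed (H := K) inferInstance φ).ge hx), rfl⟩
  refine Subgroup.mem_normalizer_iff.mpr fun x => ⟨key g hg x, fun hx => ?_⟩
  have := key g⁻¹ (inv_mem hg) _ hx
  simpa [mul_assoc] using this

variable [Finite X] {p : ℕ} [Fact p.Prime]

/-- fixed points lie below every invariant subgroup with abelian quotient -/
theorem fixed_le {A P N : Subgroup X} (hAP : A ≤ Subgroup.normalizer (P : Set X))
    (hcop : (Nat.card A).Coprime (Nat.card P)) (hPA : ⁅P, A⁆ = P) (hN : ⁅P, P⁆ ≤ N) (hNP : N ≤ P)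
    (hAN : A ≤ Subgroup.normalizer (N : Set X)) (hPN : P ≤ Subgroup.normalizer (N : Set X)) :
    P ⊓ Subgroup.centralizer (A : Set X) ≤ N := by
  set L := Subgroup.normalizer (N : Set X)
  have hNL : N ≤ L := Subgroup.le_normalizer
  haveI : (N.subgroupOf L).Normal := Subgroup.normal_in_normalizer
  set f := QuotientGroup.mk' (N.subgroupOf L)
  haveI : IsMulCommutative ((P.subgroupOf L).map f) := by
    refine ⟨⟨?_⟩⟩
    rintro ⟨_, a, ha, rfl⟩ ⟨_, b, hb, rfl⟩
    refine Subtype.ext ?_
    show f a * f b = f b * f a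
    rw [← commutatorElement_eq_one_iff_mul_comm, ← map_commutatorElement]
    exact (QuotientGroup.eq_one_iff _).mpr (hN (Subgroup.commutator_mem_commutator ha hb))
  have hn : (A.subgroupOf L).map f ≤ Subgroup.normalizer (((P.subgroupOf L).map f : Subgroup _) : Set (L ⧸ N.subgroupOf L)) := by
    refine le_trans (Subgroup.map_mono ?_) (Subgroup.le_normalizer_map f)
    rw [Subgroup.subgroupOf, Subgroup.subgroupOf]
    exact le_trans (Subgroup.comap_mono hAP) (Subgroup.le_normalizer_comap L.subtype)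
  have hc : (Nat.card ((A.subgroupOf L).map f)).Coprime (Nat.card ((P.subgroupOf L).map f)) := by
    refine Nat.Coprime.coprime_dvd_left ?_ (Nat.Coprime.coprime_dvd_right ?_ hcop)
    · rw [← Nat.card_congr (Subgroup.subgroupOfEquivOfLe hAN).toEquiv]; exact Subgroup.card_map_dvd _ _
    · rw [← Nat.card_congr (Subgroup.subgroupOfEquivOfLe hPN).toEquiv]; exact Subgroup.card_map_dvd _ _
  have h := inf_centralizer_inf_commutator hn hc
  intro x hx
  have hxP : (⟨x, hPN hx.1⟩ : L) ∈ P.subgroupOf L := hx.1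
  have h2 : f ⟨x, hPN hx.1⟩ = 1 := by
    refine Subgroup.mem_bot.mp (h.le (Subgroup.mem_inf.mpr ⟨Subgroup.mem_inf.mpr ⟨Subgroup.mem_map_of_mem f hxP, ?_⟩, ?_⟩))
    · rw [Subgroup.mem_centralizer_iff]
      rintro _ ⟨a, ha, rfl⟩
      rw [← map_mul, ← map_mul]
      exact congrArg f (Subtype.ext (Subgroup.mem_centralizer_iff.mp hx.2 (a : X) ha))
    · rw [← Subgroup.map_commutator]
      refine Subgroup.mem_map_of_mem f ?_
      have e : (⁅P.subgroupOf L, A.subgroupOf L⁆).map L.subtype = P := by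
        rw [Subgroup.map_commutator, Subgroup.map_subgroupOf_eq_of_le hPN, Subgroup.map_subgroupOf_eq_of_le hAN, hPA]
      obtain ⟨y, hy, hyx⟩ := e.ge hx.1
      rwa [show (⟨x, hPN hx.1⟩ : L) = y from Subtype.ext hyx.symm]
  exact (QuotientGroup.eq_one_iff (⟨x, hPN hx.1⟩ : L)).mp h2

theorem reduction (B A P : Subgroup X) (hP : IsPGroup p P) (hBP : B ≤ Subgroup.normalizer (P : Set X)) (hAB : A ≤ B)
    (hAn : B ≤ Subgroup.normalizer (A : Set X)) (hAp : (Nat.card A).Coprime p) (hnt : ⁅P, A⁆ ≠ ⊥)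
    (hmin : ∀ U : Subgroup X, U < P → B ≤ Subgroup.normalizer (U : Set X) → ⁅U, A⁆ = ⊥) :
    ⁅P, A⁆ = P ∧ (Cfsg.IsElementaryAbelian p P ∨ Cfsg.IsSpecial p ↥P) ∧
      (∀ U : Subgroup X, (frattini ↥P).map P.subtype ≤ U → U ≤ P → B ≤ Subgroup.normalizer (U : Set X) →
        U = (frattini ↥P).map P.subtype ∨ U = P) ∧
      (p ≠ 2 → ∀ x ∈ P, x ^ p = 1) := by
  have hAP : A ≤ Subgroup.normalizer (P : Set X) := hAB.trans hBP
  obtain ⟨k, hk⟩ := IsPGroup.iff_card.mp hP
  have hcop : (Nat.card A).Coprime (Nat.card P) := by rw [hk]; exact hAp.pow_right k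
  haveI : Group.IsNilpotent P := hP.isNilpotent
  have hsolv : Group.IsSolvable A ∨ Group.IsSolvable P := Or.inr inferInstance
  have hPA : ⁅P, A⁆ = P := by
    by_contra hne
    refine hnt ?_
    rw [← commutator_commutator_eq hAP hcop hsolv]
    exact hmin _ (lt_of_le_of_ne (commutator_le_of_le_normalizer hAP) hne) fun b hb => normalizer_commutator (hBP hb) (hAn hb)
  set Φ := (frattini ↥P).map P.subtype with hΦ
  have hΦP : Φ ≤ P := Subgroup.map_subtype_le _
  have hne : P ≠ ⊥ := fun h => hnt (by rw [h, Subgroup.commutator_bot_left])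
  haveI : Nontrivial P := (Subgroup.nontrivial_iff_ne_bot P).mpr hne
  have hΦlt : Φ < P := by
    refine lt_of_le_of_ne hΦP fun h => ?_
    have h2 : frattini ↥P = ⊤ := by
      rw [← Subgroup.map_subtype_inj, ← MonoidHom.range_eq_map, Subgroup.range_subtype]; exact h
    have := frattini_nongenerating (G := ↥P) (K := ⊥) (by rw [bot_sup_eq, h2])
    exact bot_ne_top this
  have hΦB : B ≤ Subgroup.normalizer (Φ : Set X) := fun b hb => normalizer_map_of_characteristic _ (hBP hb)
  have hPP : ⁅P, P⁆ ≤ Φ := by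
    rw [← Subgroup.map_subtype_commutator]; exact Subgroup.map_mono (commutator_le_frattini ↥P)
  -- proper invariant normal subgroups are central
  have hcen : ∀ U : Subgroup X, U < P → B ≤ Subgroup.normalizer (U : Set X) → ⁅P, U⁆ ≤ U → ∀ u ∈ U, ∀ x ∈ P, x * u = u * x := by
    intro U hU hUB hPU
    have h1 : ⁅⁅U, P⁆, A⁆ = ⊥ := le_bot_iff.mp ((Subgroup.commutator_mono (by rw [Subgroup.commutator_comm]; exact hPU) le_rfl).trans (hmin U hU hUB).le)
    have h2 : ⁅⁅A, U⁆, P⁆ = ⊥ := by
      rw [Subgroup.commutator_comm A U, hmin U hU hUB, Subgroup.commutator_bot_left]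
    have h3 : ⁅⁅P, A⁆, U⁆ = ⊥ := Subgroup.commutator_commutator_eq_bot_of_rotate h2 h1
    rw [hPA] at h3
    intro u hu x hx
    exact commutatorElement_eq_one_iff_mul_comm.mp (Subgroup.mem_bot.mp (h3 ▸ Subgroup.commutator_mem_commutator hx hu))
  have hnorm : ∀ U : Subgroup X, Φ ≤ U → U ≤ P → ⁅P, U⁆ ≤ U := fun U h1 h2 =>
    ((Subgroup.commutator_mono le_rfl h2).trans hPP).trans h1
  set C := P ⊓ Subgroup.centralizer (A : Set X) with hC
  have hcl : ∀ U : Subgroup X, U < P → B ≤ Subgroup.normalizer (U : Set X) → U ≤ C := fun U hU hUB =>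
    le_inf hU.le (Subgroup.le_centralizer_iff.mp (commutator_eq_bot_iff_le_centralizer'.mp (hmin U hU hUB)))
  have hPΦ : P ≤ Subgroup.normalizer (Φ : Set X) := fun x hx => normalizer_map_of_characteristic _ (Subgroup.le_normalizer hx)
  have hCΦ : C ≤ Φ := fixed_le hAP hcop hPA hPP hΦP (hAB.trans hΦB) hPΦ
  have hΦz : ∀ u ∈ Φ, ∀ x ∈ P, x * u = u * x := hcen Φ hΦlt hΦB (hnorm Φ le_rfl hΦP)
  have hΦc : frattini ↥P ≤ Subgroup.center ↥P := fun u hu => Subgroup.mem_center_iff.mpr fun x =>
    Subtype.ext (hΦz u (Subgroup.mem_map_of_mem _ hu) x x.2)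
  have hirr : ∀ U : Subgroup X, Φ ≤ U → U ≤ P → B ≤ Subgroup.normalizer (U : Set X) → U = Φ ∨ U = P := by
    intro U h1 h2 h3
    rcases eq_or_lt_of_le h2 with h | h
    · exact Or.inr h
    · exact Or.inl (le_antisymm ((hcl U h h3).trans hCΦ) h1)
  refine ⟨hPA, ?_, hirr, ?_⟩
  · by_cases hab : IsMulCommutative ↥P
    · left
      refine ⟨hab, fun x hx => ?_⟩
      have hbot : C ≤ ⊥ := fixed_le hAP hcop hPA (le_bot_iff.mpr ?_ |> fun h => h) bot_le
        (fun a _ => by rw [Subgroup.mem_normalizer_iff]; intro y; simp)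
        (fun a _ => by rw [Subgroup.mem_normalizer_iff]; intro y; simp)
      swap
      · rw [Subgroup.commutator_eq_bot_iff_le_centralizer]
        exact fun a ha => Subgroup.mem_centralizer_iff.mpr fun b hb => congrArg Subtype.val (IsMulCommutative.is_comm.comm (⟨b, hb⟩ : ↥P) ⟨a, ha⟩)
      have h1 : ((⟨x, hx⟩ : ↥P) ^ p : ↥P) ∈ frattini ↥P := Cfsg.Agent.Solvable.Basics.pow_mem_frattini hP _
      have h2 := hbot (hcl Φ hΦlt hΦB (Subgroup.mem_map_of_mem P.subtype h1))
      exact Subgroup.mem_bot.mp h2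
    · right
      set Zm := (Subgroup.center ↥P).map P.subtype
      have hZlt : Zm < P := by
        refine lt_of_le_of_ne (Subgroup.map_subtype_le _) fun h => hab ?_
        have h2 : Subgroup.center ↥P = ⊤ := by
          rw [← Subgroup.map_subtype_inj, ← MonoidHom.range_eq_map, Subgroup.range_subtype]; exact h
        exact ⟨⟨fun a b => Subgroup.mem_center_iff.mp (h2 ▸ Subgroup.mem_top b) a⟩⟩
      have hZΦ : Subgroup.center ↥P ≤ frattini ↥P := by
        rw [← Subgroup.map_subtype_le_map_subtype]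
        exact (hcl Zm hZlt fun b hb => normalizer_map_of_characteristic _ (hBP hb)).trans hCΦ
      refine ⟨hP, le_antisymm hΦc hZΦ, le_antisymm ((commutator_le_frattini ↥P).trans hΦc) ?_⟩
      rw [← Subgroup.map_subtype_le_map_subtype]
      refine (Subgroup.map_mono hZΦ).trans ((hcl Φ hΦlt hΦB).trans ?_)
      rw [Subgroup.map_subtype_commutator]
      exact fixed_le hAP hcop hPA le_rfl (Subgroup.commutator_le.mpr fun a ha b hb => by
          rw [commutatorElement_def]; exact P.mul_mem (P.mul_mem (P.mul_mem ha hb) (P.inv_mem ha)) (P.inv_mem hb))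
        (fun a ha => normalizer_commutator (hAP ha) (hAP ha))
        (fun a ha => normalizer_commutator (Subgroup.le_normalizer ha) (Subgroup.le_normalizer ha))
  · intro hp2
    have hpow : ∀ a b : ↥P, (a * b) ^ p = a ^ p * b ^ p := by
      intro a b
      set c := b⁻¹ * (a⁻¹ * b * a)
      have hcc : ∀ z : ↥P, Commute c z := by
        intro z
        have hmem : c ∈ commutator ↥P := by
          rw [commutator_def]
          have : c = ⁅b⁻¹, a⁻¹⁆ := by show b⁻¹ * (a⁻¹ * b * a) = _; rw [commutatorElement_def]; group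
          rw [this]; exact Subgroup.commutator_mem_commutator (Subgroup.mem_top _) (Subgroup.mem_top _)
        exact (Subgroup.mem_center_iff.mp (hΦc (commutator_le_frattini ↥P hmem)) z).symm
      have hc1 : c ^ p = 1 := by
        have e : a⁻¹ * b * a = b * c := by simp [c]
        have e2 : a⁻¹ * b ^ p * a = b ^ p * c ^ p := by
          rw [show a⁻¹ * b ^ p * a = (a⁻¹ * b * a) ^ p by rw [show a⁻¹ * b * a = a⁻¹ * b * a⁻¹⁻¹ by rw [inv_inv], conj_pow, inv_inv],
            e, (hcc b).symm.mul_pow]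
        rw [mul_assoc, (Subgroup.mem_center_iff.mp (hΦc (Cfsg.Agent.Solvable.Basics.pow_mem_frattini hP b)) a).symm,
          inv_mul_cancel_left] at e2
        exact left_eq_mul.mp e2
      have h := Cfsg.Agent.PGroups.ClassThree.mul_pow_formula (x := a) (y := b) (a := c) (b := 1) (e := 1)
        (by simp [c]) (by rw [mul_one, mul_assoc, (hcc a).eq, inv_mul_cancel_left])
        (by rw [mul_one, mul_assoc, (hcc b).eq, inv_mul_cancel_left]) (fun z => Commute.one_left z)
        (fun z => Commute.one_left z) p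
      rw [one_pow, one_pow, mul_one, mul_one] at h
      rw [h]
      obtain ⟨m, hm⟩ : p ∣ p.choose 2 := Nat.Prime.dvd_choose_self (Fact.out) (by norm_num)
        (lt_of_le_of_ne (Fact.out : p.Prime).two_le (Ne.symm hp2))
      rw [hm, pow_mul, hc1, one_pow, mul_one]
    let f : ↥P →* ↥P := MonoidHom.mk' (fun x => x ^ p) hpow
    intro x hx
    have hle : ⁅P, A⁆ ≤ f.ker.map P.subtype := by
      rw [Subgroup.commutator_le]
      intro y hy a ha
      have hy' : a * y⁻¹ * a⁻¹ ∈ P := (Subgroup.mem_normalizer_iff.mp (hAP ha) _).mp (P.inv_mem hy)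
      refine ⟨⟨y, hy⟩ * ⟨_, hy'⟩, ?_, by rw [Subgroup.coe_subtype, Subgroup.coe_mul, commutatorElement_def]; group⟩
      rw [SetLike.mem_coe, MonoidHom.mem_ker, map_mul]
      refine Subtype.ext ?_
      show (y : X) ^ p * (a * y⁻¹ * a⁻¹) ^ p = 1
      have hyp : (y : X) ^ p ∈ C := hcl Φ hΦlt hΦB (Subgroup.mem_map_of_mem P.subtype (Cfsg.Agent.Solvable.Basics.pow_mem_frattini hP (⟨y, hy⟩ : ↥P)))
      rw [conj_pow, inv_pow, Subgroup.mem_centralizer_iff.mp (inv_mem hyp.2) a ha, mul_inv_cancel_right, mul_inv_cancel]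
    obtain ⟨y, hy, rfl⟩ := hle (hPA.ge hx)
    exact congrArg Subtype.val (MonoidHom.mem_ker.mp hy)

end Cfsg.Agent.GenA.MinimalAction
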