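import Mathlib
import Cfsg.Agent.OddLocal.FrobeniusCoprime
import Cfsg.Agent.OddLocal.ExtraspecialFixed
import Cfsg.Agent.GenA.MinimalAction
import Cfsg.Agent.Lib.Components.Hyperplane

/-!
A group `X` of prime order `r` acting on a `q`-group `Q`, both acting on an elementary abelian
`p`-group `V` on which `X` has no fixed points, has `⁅Q, X⁆` centralising `V`, unless `q = 2` and
`r` is a Fermat prime (and `Q` is not abelian).
-/

set_option autoImplicit false

namespace Cfsg.Agent.GenA.FixedPointFreeModule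

open Cfsg Subgroup
open Cfsg.Agent.Coprime
open scoped commutatorElement Pointwise

universe u

/-- The conclusion, for all configurations with `|Q| < n`. -/
def Upto (p q r n : ℕ) : Prop :=
  ∀ {G : Type u} [Group G] [Finite G] (X Q V : Subgroup G), Nat.card Q < n → Nat.card X = r → IsPGroup q Q →
    X ≤ normalizer (Q : Set G) → IsElementaryAbelian p V → X ≤ normalizer (V : Set G) →
    Q ≤ normalizer (V : Set G) → V ⊓ centralizer (X : Set G) = ⊥ →
    (q = 2 → (∃ k : ℕ, r = 2 ^ k + 1) → IsMulCommutative Q) → ⁅Q, X⁆ ≤ centralizer (V : Set G)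

variable {p q r : ℕ} {G : Type u} [Group G] [Finite G]

theorem disjoint_of_coprime (hp : p.Prime) (hq : q.Prime) (hpq : p ≠ q) {V Q : Subgroup G}
    (hV : IsElementaryAbelian p V) (hQ : IsPGroup q Q) {x : G} (hxV : x ∈ V) (hxQ : x ∈ Q) : x = 1 := by
  haveI := Fact.mk hq
  obtain ⟨k, hk⟩ := hQ.exists_card_eq
  have h1 : orderOf x ∣ p := orderOf_dvd_of_pow_eq_one (hV.2 x hxV)
  have h2 : orderOf x ∣ q ^ k := hk ▸ Subgroup.orderOf_dvd_natCard Q hxQ
  exact orderOf_eq_one_iff.mp (Nat.eq_one_of_dvd_coprimes (Nat.Coprime.pow_right k ((Nat.coprime_primes hp hq).mpr hpq)) h1 h2)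

/-- Dividing out a nontrivial kernel. -/
theorem pass (hp : p.Prime) (hq : q.Prime) (hr : r.Prime) (hpq : p ≠ q) (hqr : q ≠ r) {n : ℕ}
    (IH : Upto.{u} p q r n) (X Q V : Subgroup G) (hle : Nat.card Q ≤ n) (hX : Nat.card X = r) (hQ : IsPGroup q Q)
    (hXQ : X ≤ normalizer (Q : Set G)) (hV : IsElementaryAbelian p V) (hXV : X ≤ normalizer (V : Set G))
    (hQV : Q ≤ normalizer (V : Set G)) (hCV : V ⊓ centralizer (X : Set G) = ⊥)
    (hexc : q = 2 → (∃ k : ℕ, r = 2 ^ k + 1) → IsMulCommutative Q)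
    (hD : Q ⊓ centralizer (V : Set G) ≠ ⊥) : ⁅Q, X⁆ ≤ centralizer (V : Set G) := by
  set D := Q ⊓ centralizer (V : Set G) with hDdef
  set L := normalizer (D : Set G) with hL
  have hXD : X ≤ L := fun x hx => Subgroup.mem_normalizer_iff.mpr fun d => by
      have h1 := Subgroup.mem_normalizer_iff.mp (hXQ hx) d
      have h2 := Subgroup.mem_normalizer_iff.mp (MinimalAction.normalizer_centralizer (hXV hx)) d
      exact ⟨fun h => ⟨h1.mp h.1, h2.mp h.2⟩, fun h => ⟨h1.mpr h.1, h2.mpr h.2⟩⟩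
  have hQD : Q ≤ L := fun x hx => Subgroup.mem_normalizer_iff.mpr fun d => by
      have h1 := Subgroup.mem_normalizer_iff.mp (Subgroup.le_normalizer hx) d
      have h2 := Subgroup.mem_normalizer_iff.mp (MinimalAction.normalizer_centralizer (hQV hx)) d
      exact ⟨fun h => ⟨h1.mp h.1, h2.mp h.2⟩, fun h => ⟨h1.mpr h.1, h2.mpr h.2⟩⟩
  have hVD : V ≤ L := by
    refine le_trans ?_ (centralizer_le_normalizer _)
    exact le_centralizer_iff.mp inf_le_right
  haveI : (D.subgroupOf L).Normal := Subgroup.normal_in_normalizer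
  set f := QuotientGroup.mk' (D.subgroupOf L) with hf
  have hker : ∀ g : L, f g = 1 ↔ (g : G) ∈ D := fun g => (QuotientGroup.eq_one_iff g).trans Iff.rfl
  let im : Subgroup G → Subgroup (L ⧸ D.subgroupOf L) := fun S => (S.subgroupOf L).map f
  have himN : ∀ S T : Subgroup G, S ≤ L → S ≤ normalizer (T : Set G) → im S ≤ normalizer (im T : Set (L ⧸ D.subgroupOf L)) := by
    intro S T hSL hST
    refine le_trans (Subgroup.map_mono ?_) (Subgroup.le_normalizer_map f)
    exact le_trans (Subgroup.comap_mono hST) (Subgroup.le_normalizer_comap L.subtype)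
  have hcardim : ∀ S : Subgroup G, S ≤ L → Nat.card (im S) ∣ Nat.card S := fun S hS => by
    rw [← Nat.card_congr (Subgroup.subgroupOfEquivOfLe hS).toEquiv]; exact Subgroup.card_map_dvd _ _
  have hXim : Nat.card (im X) = r := by
    rcases hr.eq_one_or_self_of_dvd _ (hX ▸ hcardim X hXD) with h | h
    · exfalso
      have hle' : X ≤ D := by
        intro x hx
        have : f ⟨x, hXD hx⟩ ∈ im X := Subgroup.mem_map_of_mem f hx
        rw [Subgroup.card_eq_one.mp h, Subgroup.mem_bot, hker] at this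
        exact this
      haveI := Fact.mk hq
      obtain ⟨k, hk⟩ := hQ.exists_card_eq
      have : r ∣ q ^ k := hk ▸ hX ▸ Subgroup.card_dvd_of_le (hle'.trans inf_le_left)
      exact hqr ((Nat.prime_dvd_prime_iff_eq hr hq).mp (hr.dvd_of_dvd_pow this)).symm
    · exact h
  have hlt : Nat.card (im Q) < n := by
    refine lt_of_lt_of_le ?_ hle
    have h1 := (D.subgroupOf Q).card_mul_index
    have h2 : Nat.card (im Q) ∣ (D.subgroupOf Q).index := by
      let φ : ↥Q →* L ⧸ D.subgroupOf L := f.comp (Subgroup.inclusion hQD)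
      have hφk : D.subgroupOf Q ≤ φ.ker := fun g hg => (hker _).mpr hg
      have hr' : φ.range = im Q := by
        ext y
        constructor
        · rintro ⟨g, rfl⟩; exact Subgroup.mem_map_of_mem f g.2
        · rintro ⟨g, hg, rfl⟩; exact ⟨⟨g, hg⟩, rfl⟩
      rw [← hr', ← Subgroup.index_ker]
      exact Subgroup.index_dvd_of_le hφk
    have h3 : 1 < Nat.card (D.subgroupOf Q) := by
      rw [Nat.card_congr (Subgroup.subgroupOfEquivOfLe (inf_le_left : D ≤ Q)).toEquiv]
      exact (Subgroup.one_lt_card_iff_ne_bot _).mpr hD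
    have h4 : 0 < (D.subgroupOf Q).index := Nat.pos_of_ne_zero Subgroup.index_ne_zero_of_finite
    calc Nat.card (im Q) ≤ (D.subgroupOf Q).index := Nat.le_of_dvd h4 h2
      _ < Nat.card (D.subgroupOf Q) * (D.subgroupOf Q).index := lt_mul_left h4 h3
      _ = Nat.card Q := h1
  have hVim : IsElementaryAbelian p (im V) := by
    refine ⟨⟨⟨?_⟩⟩, ?_⟩
    · rintro ⟨_, a, ha, rfl⟩ ⟨_, b, hb, rfl⟩
      refine Subtype.ext ?_
      show f a * f b = f b * f a
      rw [← map_mul, ← map_mul]
      exact congrArg f (Subtype.ext (congrArg Subtype.val (hV.1.is_comm.comm (⟨_, ha⟩ : V) ⟨_, hb⟩) :))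
    · rintro _ ⟨a, ha, rfl⟩
      rw [← map_pow, show a ^ p = 1 from Subtype.ext (hV.2 _ ha), map_one]
  have hVone : ∀ x ∈ V, x ∈ D → x = 1 := fun x h1 h2 => disjoint_of_coprime hp hq hpq hV hQ h1 h2.1
  have hfix : im V ⊓ centralizer (im X : Set (L ⧸ D.subgroupOf L)) = ⊥ := by
    rw [eq_bot_iff]
    rintro _ ⟨⟨v, hv, rfl⟩, hc⟩
    rw [Subgroup.mem_bot]
    have : (v : G) ∈ V ⊓ centralizer (X : Set G) := by
      refine ⟨hv, Subgroup.mem_centralizer_iff.mpr fun x hx => ?_⟩
      have h1 := Subgroup.mem_centralizer_iff.mp hc (f ⟨x, hXD hx⟩) (Subgroup.mem_map_of_mem f hx)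
      rw [← map_mul, ← map_mul] at h1
      have h2 : ((⟨x, hXD hx⟩ : L) * v * (⟨x, hXD hx⟩)⁻¹ * v⁻¹ : L).1 ∈ D := by
        rw [← hker, map_mul, map_mul, map_inv, map_inv, h1, map_mul]; group
      have h3 : (x * v * x⁻¹ * (v : G)⁻¹ : G) ∈ V :=
        V.mul_mem ((Subgroup.mem_normalizer_iff.mp (hXV hx) _).mp hv) (V.inv_mem hv)
      have h4 := hVone _ h3 h2
      rw [mul_inv_eq_one, mul_inv_eq_iff_eq_mul] at h4
      exact h4
    rw [hCV, Subgroup.mem_bot] at this
    rw [show v = 1 from Subtype.ext this, map_one]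
  have hexc' : q = 2 → (∃ k : ℕ, r = 2 ^ k + 1) → IsMulCommutative (im Q) := by
    intro h1 h2
    haveI := hexc h1 h2
    refine ⟨⟨?_⟩⟩
    rintro ⟨_, a, ha, rfl⟩ ⟨_, b, hb, rfl⟩
    refine Subtype.ext ?_
    show f a * f b = f b * f a
    rw [← map_mul, ← map_mul]
    exact congrArg f (Subtype.ext (congrArg Subtype.val ((hexc h1 h2).is_comm.comm (⟨_, ha⟩ : Q) ⟨_, hb⟩) :))
  have h := IH (im X) (im Q) (im V) hlt hXim (hQ.comap_subtype.map f) (himN _ _ hXD hXQ) hVim (himN _ _ hXD hXV)
    (himN _ _ hQD hQV) hfix hexc'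
  rw [Subgroup.commutator_le]
  intro a ha x hx
  have h1 := h (Subgroup.commutator_mem_commutator (Subgroup.mem_map_of_mem f (show (⟨a, hQD ha⟩ : L) ∈ Q.subgroupOf L from ha))
    (Subgroup.mem_map_of_mem f (show (⟨x, hXD hx⟩ : L) ∈ X.subgroupOf L from hx)))
  rw [← map_commutatorElement] at h1
  have hcQ : (⁅a, x⁆ : G) ∈ Q :=
    commutator_le_of_le_normalizer hXQ (Subgroup.commutator_mem_commutator ha hx)
  rw [Subgroup.mem_centralizer_iff]
  intro v hv
  have h2 := Subgroup.mem_centralizer_iff.mp h1 (f ⟨v, hVD hv⟩) (Subgroup.mem_map_of_mem f (show (⟨v, hVD hv⟩ : L) ∈ V.subgroupOf L from hv))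
  set c : G := ⁅a, x⁆ with hc
  have h3 : c * v * c⁻¹ * v⁻¹ ∈ D := by
    have h5 : f (⁅(⟨a, hQD ha⟩ : L), ⟨x, hXD hx⟩⁆ * ⟨v, hVD hv⟩ * (⁅(⟨a, hQD ha⟩ : L), ⟨x, hXD hx⟩⁆)⁻¹ * (⟨v, hVD hv⟩ : L)⁻¹) = 1 := by
      rw [map_mul, map_mul, map_mul, map_inv, map_inv, ← h2]; group
    exact (hker _).mp h5
  have h4 : c * v * c⁻¹ * v⁻¹ ∈ V := V.mul_mem ((Subgroup.mem_normalizer_iff.mp (hQV hcQ) _).mp hv) (V.inv_mem hv)
  have h6 := hVone _ h4 h3
  rw [mul_inv_eq_one, mul_inv_eq_iff_eq_mul] at h6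
  exact h6.symm

theorem all (hp : p.Prime) (hq : q.Prime) (hr : r.Prime) (hpq : p ≠ q) (hpr : p ≠ r) (hqr : q ≠ r) :
    ∀ n : ℕ, Upto.{u} p q r n := by
  intro n
  induction n with
  | zero => intro G _ _ X Q V h; omega
  | succ n ih =>
  intro G _ _ X Q V hlt hX hQ hXQ hV hXV hQV hCV hexc
  haveI := Fact.mk hq
  haveI := Fact.mk hp
  haveI := Fact.mk hr
  haveI := hV.1
  by_cases hD : Q ⊓ centralizer (V : Set G) = ⊥
  swap
  · exact pass hp hq hr hpq hqr ih X Q V (by omega) hX hQ hXQ hV hXV hQV hCV hexc hD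
  by_cases hnt : ⁅Q, X⁆ = ⊥
  · rw [hnt]; exact bot_le
  exfalso
  obtain ⟨k, hk⟩ := hQ.exists_card_eq
  have hrq : (Nat.card X).Coprime q := by rw [hX]; exact (Nat.coprime_primes hr hq).mpr hqr.symm
  have hcop : (Nat.card X).Coprime (Nat.card Q) := by rw [hk]; exact hrq.pow_right k
  obtain ⟨hQX, hkind, -, -⟩ := MinimalAction.reduction (p := q) X X Q hQ hXQ le_rfl le_normalizer hrq hnt (by
    intro U hU hUX
    have h1 := ih X U V (by
      have : Nat.card U < Nat.card Q := lt_of_le_of_ne (Subgroup.card_le_of_le hU.le)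
        (fun e => hU.ne (Subgroup.eq_of_le_of_card_ge hU.le e.ge))
      omega) hX (hQ.to_le hU.le) hUX hV hXV (hU.le.trans hQV) hCV (fun h2 h3 => by
        haveI := hexc h2 h3
        exact ⟨⟨fun a b => Subtype.ext (congrArg Subtype.val ((hexc h2 h3).is_comm.comm (⟨a, hU.le a.2⟩ : Q) ⟨b, hU.le b.2⟩) :)⟩⟩)
    rw [eq_bot_iff, ← hD]
    exact le_inf ((commutator_le_of_le_normalizer hUX).trans hU.le) h1)
  have hQ1 : Q ≠ ⊥ := fun h => hnt (by rw [h, Subgroup.commutator_bot_left])
  haveI : IsCyclic X := isCyclic_of_prime_card hX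
  have hgen : ∀ a ∈ X, a ≠ 1 → Subgroup.zpowers a = X := by
    intro a ha ha1
    refine Subgroup.eq_of_le_of_card_ge (Subgroup.zpowers_le.mpr ha) ?_
    rcases hr.eq_one_or_self_of_dvd _ (hX ▸ Subgroup.card_dvd_of_le (Subgroup.zpowers_le.mpr ha)) with h | h
    · exact absurd (orderOf_eq_one_iff.mp ((Nat.card_zpowers a).symm.trans h)) ha1
    · rw [h, hX]
  rcases hkind with hel | hsp
  · -- the abelian case
    haveI := hel.1
    have hC : Q ⊓ centralizer (X : Set G) = ⊥ := by
      rw [eq_bot_iff]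
      refine MinimalAction.fixed_le hXQ hcop hQX (le_of_eq ?_) bot_le (fun a _ => by rw [mem_normalizer_iff]; simp)
        (fun a _ => by rw [mem_normalizer_iff]; simp)
      rw [Subgroup.commutator_eq_bot_iff_le_centralizer]
      exact le_centralizer Q
    obtain ⟨l, hl⟩ := (Cfsg.Agent.Components.Hyperplane.isPGroup hV).exists_card_eq
    have hcopV : (Nat.card Q).Coprime (Nat.card V) := by
      rw [hk, hl]; exact ((Nat.coprime_primes hq hp).mpr hpq.symm).pow _ _
    set W := ⁅V, Q⁆ with hW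
    have hWV : W ≤ V := commutator_le_of_le_normalizer hQV
    have hWel : IsElementaryAbelian p W :=
      ⟨⟨⟨fun a b => Subtype.ext (congrArg Subtype.val (hV.1.is_comm.comm (⟨a, hWV a.2⟩ : V) ⟨b, hWV b.2⟩) :)⟩⟩,
        fun a ha => hV.2 a (hWV ha)⟩
    have h := (Cfsg.Agent.OddLocal.FrobeniusCoprime.core_abelian hp hWel
      (fun a ha => MinimalAction.normalizer_commutator (hQV ha) (le_normalizer ha))
      (fun a ha => MinimalAction.normalizer_commutator (hXV ha) (hXQ ha)) hXQ
      (fun a ha b hb => congrArg Subtype.val (hel.1.is_comm.comm (⟨a, ha⟩ : Q) ⟨b, hb⟩))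
      (fun a ha ha1 z hz e => Subgroup.mem_bot.mp (hC.le (Subgroup.mem_inf.mpr ⟨hz,
        Subgroup.mem_centralizer_iff.mpr fun y hy => by
          rw [← hgen a ha ha1] at hy
          obtain ⟨i, rfl⟩ := hy
          exact (Commute.zpow_left e i).eq⟩)))
      (eq_bot_iff.mpr fun w hw => (inf_centralizer_inf_commutator hQV hcopV).le ⟨⟨hWV hw.1, hw.2⟩, hw.1⟩)
      (by rw [hk]; exact fun hd => hpq ((Nat.prime_dvd_prime_iff_eq hp hq).mp (hp.dvd_of_dvd_pow hd)))
      (by rw [hX]; exact fun hd => hpr ((Nat.prime_dvd_prime_iff_eq hp hr).mp hd))).1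
    rw [eq_bot_iff.mpr (show W ⊓ centralizer (X : Set G) ≤ ⊥ from (inf_le_inf_right _ hWV).trans hCV.le),
      Subgroup.card_bot, one_pow] at h
    have h2 : W = ⊥ := Subgroup.card_eq_one.mp h
    rw [hW, commutator_eq_bot_iff_le_centralizer'] at h2
    exact hQ1 (eq_bot_iff.mpr ((le_inf le_rfl h2).trans hD.le))
  · -- the special case
    obtain ⟨-, hfr, hcomm⟩ := id hsp
    set Z := (center Q).map Q.subtype with hZ
    have hZQ : Z ≤ Q := map_subtype_le _
    have hΦ : ⁅Q, Q⁆ = Z := by rw [← map_subtype_commutator, hcomm]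
    have hXZn : X ≤ normalizer (Z : Set G) := fun x hx => MinimalAction.normalizer_map_of_characteristic _ (hXQ hx)
    have hQZn : Q ≤ normalizer (Z : Set G) := fun x hx => MinimalAction.normalizer_map_of_characteristic _ (le_normalizer hx)
    have hCle : Q ⊓ centralizer (X : Set G) ≤ Z :=
      MinimalAction.fixed_le hXQ hcop hQX hΦ.le hZQ hXZn hQZn
    have hZc : ∀ z ∈ Z, ∀ a ∈ Q, a * z = z * a := by
      rintro _ ⟨z, hz, rfl⟩ a ha
      exact congrArg Subtype.val (mem_center_iff.mp hz ⟨a, ha⟩)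
    have hZ1 : Z ≠ ⊥ := by
      intro h
      haveI : Group.IsNilpotent Q := hQ.isNilpotent
      haveI : Nontrivial Q := (Subgroup.nontrivial_iff_ne_bot Q).mpr hQ1
      have hc0 : center Q = ⊥ := (Subgroup.map_eq_bot_iff_of_injective _ Q.subtype_injective).mp h
      haveI : Nontrivial (center Q) := hQ.center_nontrivial
      exact (Subgroup.nontrivial_iff_ne_bot (center Q)).mp inferInstance hc0
    have hZlt : Z < Q := by
      refine lt_of_le_of_ne hZQ fun h => ?_
      have h2 : center Q = ⊤ := by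
        rw [← Subgroup.map_subtype_inj, ← MonoidHom.range_eq_map, Subgroup.range_subtype]; exact h
      have h3 : commutator ↥Q = ⊥ := (commutator_eq_bot_iff_center_eq_top ↥Q).mpr h2
      rw [h2, h3] at hcomm
      exact hQ1 (by rw [← Q.range_subtype, MonoidHom.range_eq_map, ← hcomm, Subgroup.map_bot])
    have hZX : Z ≤ centralizer (X : Set G) := by
      have h1 := ih X Z V (by
        have : Nat.card Z < Nat.card Q := lt_of_le_of_ne (Subgroup.card_le_of_le hZlt.le)
          (fun e => hZlt.ne (Subgroup.eq_of_le_of_card_ge hZlt.le e.ge))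
        omega) hX (hQ.to_le hZQ) hXZn hV hXV (hZQ.trans hQV) hCV
        (fun _ _ => ⟨⟨fun a b => Subtype.ext (hZc b b.2 a (hZQ a.2))⟩⟩)
      have h2 : ⁅Z, X⁆ = ⊥ := by
        rw [eq_bot_iff, ← hD]
        exact le_inf ((commutator_le_of_le_normalizer hXZn).trans hZQ) h1
      exact le_centralizer_iff.mp (commutator_eq_bot_iff_le_centralizer'.mp h2)
    have hZel : IsElementaryAbelian q Z := by
      refine ⟨⟨⟨fun a b => Subtype.ext (hZc b b.2 a (hZQ a.2))⟩⟩, ?_⟩
      intro z hz
      rw [← hΦ] at hz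
      -- the commutator map is bilinear and `Q / Z` has exponent `q`
      have hgenZ : ⁅Q, Q⁆ ≤ ({ carrier := {z | z ∈ Z ∧ z ^ q = 1}
                               one_mem' := ⟨one_mem _, one_pow _⟩
                               mul_mem' := fun {a b} ha hb => ⟨mul_mem ha.1 hb.1, by
                                 rw [(show Commute a b from hZc b hb.1 a (hZQ ha.1)).mul_pow, ha.2, hb.2, one_mul]⟩
                               inv_mem' := fun {a} ha => ⟨inv_mem ha.1, by rw [inv_pow, ha.2, inv_one]⟩ } : Subgroup G) := by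
        rw [Subgroup.commutator_le]
        intro a ha b hb
        refine ⟨hΦ ▸ Subgroup.commutator_mem_commutator ha hb, ?_⟩
        have hc : ⁅a, b⁆ ∈ Z := hΦ ▸ Subgroup.commutator_mem_commutator ha hb
        have hb' : b ^ q ∈ Z := ⟨⟨b, hb⟩ ^ q, hfr ▸ Cfsg.Agent.Solvable.Basics.pow_mem_frattini hQ ⟨b, hb⟩, by simp⟩
        have e : a * b * a⁻¹ = ⁅a, b⁆ * b := by rw [commutatorElement_def]; group
        have e2 : a * b ^ q * a⁻¹ = ⁅a, b⁆ ^ q * b ^ q := by
          rw [← conj_pow, e, (show Commute ⁅a, b⁆ b from (hZc _ hc b hb).symm).mul_pow]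
        rw [hZc _ hb' a ha, mul_inv_cancel_right] at e2
        exact mul_eq_right.mp e2.symm
      exact (hgenZ hz).2
    by_cases hbig : q ^ 2 ≤ Nat.card Z
    · obtain ⟨l, hl⟩ := (Cfsg.Agent.Components.Hyperplane.isPGroup hV).exists_card_eq
      have hgenV := Cfsg.Agent.Components.Hyperplane.eq_iSup_hyperplane hZel hbig (K := V)
        (by rw [hl]; exact fun hd => hpq ((Nat.prime_dvd_prime_iff_eq hq hp).mp (hq.dvd_of_dvd_pow hd)).symm)
        (hZQ.trans hQV)
      have hZV : V ≤ centralizer (Z : Set G) := by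
        rw [hgenV]
        refine iSup_le ?_
        rintro ⟨D', hD'Z, hD'i⟩
        set W := V ⊓ centralizer (D' : Set G)
        have hD'1 : D' ≠ ⊥ := by
          intro h
          rw [h, Subgroup.relIndex_bot_left] at hD'i
          nlinarith [hq.two_le]
        have hnW : ∀ g : G, g ∈ normalizer (V : Set G) → g ∈ centralizer (D' : Set G) → g ∈ normalizer (W : Set G) := by
          intro g hg hgD
          refine Subgroup.mem_normalizer_iff.mpr fun v => ?_
          have h1 := Subgroup.mem_normalizer_iff.mp hg v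
          have h2 := Subgroup.mem_normalizer_iff.mp (le_normalizer hgD) v
          exact ⟨fun h => ⟨h1.mp h.1, h2.mp h.2⟩, fun h => ⟨h1.mpr h.1, h2.mpr h.2⟩⟩
        have hQD' : Q ≤ centralizer (D' : Set G) := fun a ha =>
          Subgroup.mem_centralizer_iff.mpr fun z hz => (hZc z (hD'Z hz) a ha).symm
        have h1 := pass hp hq hr hpq hqr ih X Q W (by omega) hX hQ hXQ
          ⟨⟨⟨fun a b => Subtype.ext (congrArg Subtype.val (hV.1.is_comm.comm (⟨a, a.2.1⟩ : V) ⟨b, b.2.1⟩) :)⟩⟩,
            fun a ha => hV.2 a ha.1⟩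
          (fun x hx => hnW x (hXV hx) (le_centralizer_iff.mp (hD'Z.trans hZX) hx))
          (fun x hx => hnW x (hQV hx) (hQD' hx))
          (eq_bot_iff.mpr ((inf_le_inf_right _ inf_le_left).trans hCV.le)) hexc
          (fun h => hD'1 (eq_bot_iff.mpr fun d hd => h.le ⟨hZQ (hD'Z hd), Subgroup.mem_centralizer_iff.mpr
            fun w hw => (Subgroup.mem_centralizer_iff.mp hw.2 d hd).symm⟩))
        rw [hQX] at h1
        exact le_centralizer_iff.mp (hZQ.trans h1)
      exact hZ1 (eq_bot_iff.mpr ((le_inf hZQ (le_centralizer_iff.mp hZV)).trans hD.le))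
    · have hcardZ : Nat.card Z = q := by
        obtain ⟨j, hj⟩ := (hQ.to_le hZQ).exists_card_eq
        rw [hj] at hbig
        rcases j with _ | _ | j
        · exact absurd (Subgroup.card_eq_one.mp hj) hZ1
        · rw [hj, zero_add, pow_one]
        · exact absurd (Nat.pow_le_pow_right hq.pos (by omega)) hbig
      have hex : IsExtraspecial q Q := ⟨hsp, by
        rw [← hcardZ]; exact (Nat.card_congr ((center Q).equivMapOfInjective _ Q.subtype_injective).toEquiv)⟩
      have hCQ : Q ⊓ centralizer (X : Set G) = Z := le_antisymm hCle (le_inf hZQ hZX)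
      have hfaith : (X ⊔ Q) ⊓ centralizer (V : Set G) = ⊥ := by
        rw [eq_bot_iff]
        rintro g ⟨hg, hgV⟩
        have hg' : g ∈ ((X : Set G) * (Q : Set G)) := by
          rw [← Subgroup.coe_mul_of_left_le_normalizer_right X Q hXQ]; exact hg
        obtain ⟨x, hx, a, ha, rfl⟩ := hg'
        by_cases hx1 : x = 1
        · subst hx1
          simp only [one_mul] at hgV ⊢
          exact hD.le ⟨ha, hgV⟩
        exfalso
        have hcent : ∀ u ∈ Q, (x * a) * u = u * (x * a) := by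
          intro u hu
          have h1 : (x * a) * u * (x * a)⁻¹ * u⁻¹ ∈ Q ⊓ centralizer (V : Set G) := by
            have hgN : x * a ∈ normalizer (Q : Set G) := mul_mem (hXQ hx) (le_normalizer ha)
            refine ⟨Q.mul_mem ((Subgroup.mem_normalizer_iff.mp hgN u).mp hu) (Q.inv_mem hu), ?_⟩
            have h2 : u * (x * a)⁻¹ * u⁻¹ ∈ centralizer (V : Set G) :=
              (Subgroup.mem_normalizer_iff.mp (MinimalAction.normalizer_centralizer (hQV hu)) _).mp (inv_mem hgV)
            have := mul_mem hgV h2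
            simpa [mul_assoc] using this
          rw [hD, Subgroup.mem_bot, mul_inv_eq_one, mul_inv_eq_iff_eq_mul] at h1
          exact h1
        have hle : ⁅Q, X⁆ ≤ Z := by
          have hxc : ∀ u ∈ Q, ⁅x, u⁆ ∈ Z := by
            intro u hu
            have hv : a⁻¹ * u * a ∈ Q := Q.mul_mem (Q.mul_mem (Q.inv_mem ha) hu) ha
            have e : x * u = a⁻¹ * u * a * x :=
              calc x * u = x * a * (a⁻¹ * u * a) * a⁻¹ := by group
                _ = (a⁻¹ * u * a) * (x * a) * a⁻¹ := by rw [hcent _ hv]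
                _ = a⁻¹ * u * a * x := by group
            have e1 : ⁅x, u⁆ = ⁅a⁻¹, u⁆ := by
              rw [commutatorElement_def, commutatorElement_def, e]; group
            rw [e1]
            exact hΦ ▸ Subgroup.commutator_mem_commutator (Q.inv_mem ha) hu
          rw [Subgroup.commutator_le]
          intro u hu y hy
          rw [← hgen x hx hx1] at hy
          obtain ⟨i, rfl⟩ := mem_powers_iff_mem_zpowers.mpr hy
          rw [← commutatorElement_inv]
          refine inv_mem ?_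
          induction i generalizing u with
          | zero => simp
          | succ i ihi =>
            show ⁅x ^ (i + 1), u⁆ ∈ Z
            rw [pow_succ', commutatorElement_mul_left_eq_conj_mul]
            refine mul_mem ?_ (hxc u hu)
            exact (Subgroup.mem_normalizer_iff.mp (hXZn hx) _).mp (ihi u hu (Subgroup.npow_mem_zpowers x i))
        rw [hQX] at hle
        exact hZlt.not_ge hle
      obtain ⟨rfl, k', hk', -⟩ := Cfsg.Agent.OddLocal.ExtraspecialFixed.fixed_exception hp hq hr hpq hpr hqr X Q V hX hex hXQ hCQ hV hXV hQV hfaith hCV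
      haveI := hexc rfl ⟨k', hk'⟩
      have : center Q = ⊤ := eq_top_iff.mpr fun a _ => mem_center_iff.mpr fun b => (hexc rfl ⟨k', hk'⟩).is_comm.comm b a
      exact hZlt.ne (by rw [hZ, this, ← MonoidHom.range_eq_map, Q.range_subtype])

/-- A group of prime order without fixed points on `V` centralises `Q` modulo the kernel on `V`. -/
theorem commutator_le_centralizer (hp : p.Prime) (hq : q.Prime) (hr : r.Prime) (hpq : p ≠ q) (hpr : p ≠ r)
    (hqr : q ≠ r) (X Q V : Subgroup G) (hX : Nat.card X = r) (hQ : IsPGroup q Q)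
    (hXQ : X ≤ normalizer (Q : Set G)) (hV : IsElementaryAbelian p V) (hXV : X ≤ normalizer (V : Set G))
    (hQV : Q ≤ normalizer (V : Set G)) (hCV : V ⊓ centralizer (X : Set G) = ⊥)
    (hexc : q = 2 → (∃ k : ℕ, r = 2 ^ k + 1) → IsMulCommutative Q) : ⁅Q, X⁆ ≤ centralizer (V : Set G) :=
  all hp hq hr hpq hpr hqr (Nat.card Q + 1) X Q V (Nat.lt_succ_self _) hX hQ hXQ hV hXV hQV hCV hexc

end Cfsg.Agent.GenA.FixedPointFreeModule
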