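import Mathlib
import Cfsg.Agent.GenA.MinimalAction

/-!
Tools for fixed-point-free `3`-elements acting on `2`-groups of small rank: counting of free
orbits, and involutions outside a small central subgroup containing all squares.
-/

set_option autoImplicit false
open scoped commutatorElement

namespace Cfsg.Agent.GenA.FourRank

variable {X : Type*} [Group X] [Finite X]

theorem card_dvd_of_free (B : Subgroup X) (S : Set X) (hinv : ∀ b ∈ B, ∀ x ∈ S, b * x * b⁻¹ ∈ S)
    (hfree : ∀ b ∈ B, b ≠ 1 → ∀ x ∈ S, b * x ≠ x * b) : Nat.card B ∣ Nat.card S := by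
  letI : MulAction B S :=
    { smul := fun b x => ⟨(b : X) * (x : X) * (b : X)⁻¹, hinv _ b.2 _ x.2⟩
      one_smul := fun x => Subtype.ext (by show ((1 : B) : X) * (x : X) * ((1 : B) : X)⁻¹ = x; simp)
      mul_smul := fun a b x => Subtype.ext (by
        show ((a * b : B) : X) * (x : X) * ((a * b : B) : X)⁻¹ = (a : X) * ((b : X) * (x : X) * (b : X)⁻¹) * (a : X)⁻¹
        rw [Subgroup.coe_mul]; group) }
  have hs : ∀ x : S, MulAction.stabilizer B x = ⊥ := by
    intro x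
    rw [eq_bot_iff]
    intro b hb
    rw [Subgroup.mem_bot]
    by_contra hne
    have h1 : (b : X) * (x : X) * (b : X)⁻¹ = x := congrArg Subtype.val (MulAction.mem_stabilizer_iff.mp hb)
    exact hfree b b.2 (fun h => hne (Subtype.ext h)) x x.2 (by
      calc (b : X) * (x : X) = ((b : X) * (x : X) * (b : X)⁻¹) * (b : X) := by group
        _ = (x : X) * b := by rw [h1])
  haveI := Fintype.ofFinite (MulAction.orbitRel.Quotient B S)
  rw [Nat.card_congr (MulAction.selfEquivSigmaOrbits B S), Nat.card_sigma]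
  refine Finset.dvd_sum fun o _ => ?_
  rw [Nat.card_congr (MulAction.orbitEquivQuotientStabilizer B o.out), hs, ← Subgroup.index_eq_card, Subgroup.index_bot]

theorem six_le {k : ℕ} (hk : 1 ≤ k) (h : 9 ∣ 2 ^ k - 1) : 6 ≤ k := by
  by_contra hc
  interval_cases k <;> omega

theorem nine_dvd {Q Z : Subgroup X} (hZQ : Z ≤ Q) (hQ : IsPGroup 2 Q) (hne : Z ≠ Q)
    (h : 9 ∣ Nat.card ↥{x : X | x ∈ Q ∧ x ∉ Z}) : 64 * Nat.card Z ≤ Nat.card Q := by
  classical
  obtain ⟨q, hq⟩ := IsPGroup.iff_card.mp hQ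
  obtain ⟨z, hz⟩ := IsPGroup.iff_card.mp (hQ.to_le hZQ)
  have hcard : Nat.card ↥{x : X | x ∈ Q ∧ x ∉ Z} = Nat.card Q - Nat.card Z := by
    have h1 : {x : X | x ∈ Q ∧ x ∉ Z} = (Q : Set X) \ (Z : Set X) := rfl
    rw [h1, Nat.card_coe_set_eq, Set.ncard_sdiff (show (Z : Set X) ⊆ Q from hZQ), ← Nat.card_coe_set_eq, ← Nat.card_coe_set_eq]
    rfl
  have hzq : z ≤ q := (Nat.pow_le_pow_iff_right (show 1 < 2 by norm_num)).mp (hq ▸ hz ▸ Subgroup.card_le_of_le hZQ)
  have hzne : z ≠ q := fun e => hne (Subgroup.eq_of_le_of_card_ge hZQ (by rw [hq, hz, e]))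
  rw [hcard, hq, hz] at h
  obtain ⟨k, rfl⟩ := Nat.exists_eq_add_of_le hzq
  have h2 : 9 ∣ 2 ^ z * (2 ^ k - 1) := by rwa [Nat.mul_sub, mul_one, ← pow_add]
  have h3 := (Nat.Coprime.pow_right z (show Nat.Coprime 9 2 by norm_num)).dvd_of_dvd_mul_left h2
  have h4 := six_le (by omega) h3
  rw [hq, hz, pow_add, mul_comm 64]
  exact Nat.mul_le_mul_left _ (le_trans (by norm_num) (Nat.pow_le_pow_right (by norm_num) h4))

/-- A group with a central subgroup of order at most four containing all squares, of index at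
least 64, has an involution outside that subgroup. -/
theorem exists_involution {P : Type*} [Group P] [Finite P] (Z : Subgroup P) (hcen : Z ≤ Subgroup.center P)
    (h2 : ∀ z ∈ Z, z ^ 2 = 1) (hsq : ∀ x : P, x ^ 2 ∈ Z) (hZ : Nat.card Z ≤ 4)
    (hbig : 64 * Nat.card Z ≤ Nat.card P) : ∃ x : P, x ∉ Z ∧ x ^ 2 = 1 := by
  classical
  by_contra hno
  push Not at hno
  have hZ0 : 0 < Nat.card Z := Nat.card_pos
  have hcm : ∀ z ∈ Z, ∀ u : P, u * z = z * u := fun z hz u => Subgroup.mem_center_iff.mp (hcen hz) u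
  have hZn : Z.Normal := ⟨fun z hz u => by rw [hcm z hz u, mul_inv_cancel_right]; exact hz⟩
  have hcomm : ∀ a b : P, ⁅a, b⁆ ∈ Z := by
    intro a b
    have h : ⁅a, b⁆ = (a * b) ^ 2 * (b⁻¹ * a⁻¹ * b) ^ 2 * (b⁻¹) ^ 2 := by
      rw [commutatorElement_def, sq, sq, sq]; group
    rw [h]; exact mul_mem (mul_mem (hsq _) (hsq _)) (hsq _)
  let φ : P → P →* P := fun x =>
    { toFun := fun y => ⁅x, y⁆
      map_one' := commutatorElement_one_right x
      map_mul' := fun a b => by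
        have e : ⁅x, a * b⁆ = ⁅x, a⁆ * (a * ⁅x, b⁆ * a⁻¹) := by simp only [commutatorElement_def]; group
        rw [e, hcm _ (hcomm x b) a, mul_inv_cancel_right] }
  have hrange : ∀ x, (φ x).range ≤ Z := by
    rintro x _ ⟨y, rfl⟩; exact hcomm x y
  have hker : ∀ (x : P) (K : Subgroup P), Nat.card P ≤ ((K.comap (φ x)) : Subgroup P).index * Nat.card ↥(K.comap (φ x)) :=
    fun x K => by rw [mul_comm, Subgroup.card_mul_index]
  -- x with square z
  obtain ⟨x, hx⟩ : ∃ x, x ∉ Z := by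
    by_contra h; push Not at h
    have : Z = ⊤ := eq_top_iff.mpr fun y _ => h y
    rw [this, Subgroup.card_top] at hbig
    have := Nat.card_pos (α := P); omega
  have hz1 : x ^ 2 ≠ 1 := hno x hx
  set C := ((⊥ : Subgroup P).comap (φ x)) with hCdef
  have hC : ∀ u ∈ C, x * u = u * x := fun u hu => commutatorElement_eq_one_iff_mul_comm.mp (Subgroup.mem_bot.mp hu)
  have hCidx : C.index ≤ Nat.card Z := by
    rw [hCdef, MonoidHom.comap_bot, Subgroup.index_ker]
    exact Subgroup.card_le_of_le (hrange x)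
  have hCbig : 16 * Nat.card Z ≤ Nat.card C := by
    have h1 : Nat.card P = C.index * Nat.card C := by rw [mul_comm, Subgroup.card_mul_index]
    have h2 : Nat.card P ≤ 4 * Nat.card C := h1 ▸ Nat.mul_le_mul_right _ (hCidx.trans hZ)
    omega
  -- small unions of cosets
  have hcos : ∀ (T : Finset P) (K : Subgroup P), T.card * Nat.card Z < Nat.card K → ∃ u ∈ K, ∀ t ∈ T, t⁻¹ * u ∉ Z := by
    intro T K hlt
    by_contra h
    push Not at h
    have hf : ∀ u : K, ∃ tz : T × Z, (tz.1 : P) * (tz.2 : P) = u := fun u => by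
      obtain ⟨t, ht, hu⟩ := h u u.2
      exact ⟨(⟨t, ht⟩, ⟨_, hu⟩), mul_inv_cancel_left _ _⟩
    choose f hf using hf
    have hinj : Function.Injective f := fun a b e => Subtype.ext (by rw [← hf a, ← hf b, e])
    have := Nat.card_le_card_of_injective f hinj
    rw [Nat.card_prod, Nat.card_eq_finsetCard] at this
    omega
  obtain ⟨y, hyC, hy⟩ := hcos {1, x} C (by
    have : ({1, x} : Finset P).card ≤ 2 := Finset.card_le_two
    nlinarith)
  have hy0 : y ∉ Z := by simpa using hy 1 (by simp)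
  have hyx : x⁻¹ * y ∉ Z := hy x (by simp)
  have hxsq : ∀ u : P, x⁻¹ * u ∉ Z → x * u ∉ Z := fun u hu h => hu (by
    have : x⁻¹ * u = (x ^ 2)⁻¹ * (x * u) := by rw [sq]; group
    rw [this]; exact mul_mem (inv_mem (hsq x)) h)
  set z := x ^ 2 with hz
  set w := y ^ 2 with hw
  have hw1 : w ≠ 1 := hno y hy0
  have hmulsq : ∀ u : P, x * u = u * x → (x * u) ^ 2 = z * u ^ 2 := fun u hu => (show Commute x u from hu).mul_pow 2
  have hz2 : z * z = 1 := by rw [← sq]; exact h2 z (hsq x)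
  have hwz : w ≠ z := fun e => hno (x * y) (hxsq y hyx) (by rw [hmulsq y (hC y hyC), ← hw, e, hz2])
  have hfour : ∀ v ∈ Z, v = 1 ∨ v = z ∨ v = w ∨ v = z * w := by
    intro v hv
    by_contra h
    push Not at h
    obtain ⟨a, b, c, d⟩ := h
    have hzw1 : z * w ≠ 1 := fun e => hwz (mul_left_cancel (e.trans hz2.symm))
    have hzwz : z * w ≠ z := fun e => hw1 (mul_eq_left.mp e)
    have hzww : z * w ≠ w := fun e => hz1 (mul_eq_right.mp e)
    have hsub : ({1, z, w, z * w, v} : Finset P).card ≤ Nat.card Z := by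
      rw [← Nat.card_eq_finsetCard]
      refine Nat.card_le_card_of_injective (fun t => ⟨(t : P), ?_⟩) fun s t e => Subtype.ext (Subtype.mk.inj e)
      have ht := t.2
      simp only [Finset.mem_insert, Finset.mem_singleton] at ht
      rcases ht with h | h | h | h | h <;> rw [h]
      · exact one_mem Z
      · exact hsq x
      · exact hsq y
      · exact mul_mem (hsq x) (hsq y)
      · exact hv
    have h5 : ({1, z, w, z * w, v} : Finset P).card = 5 := by
      rw [Finset.card_insert_of_notMem, Finset.card_insert_of_notMem, Finset.card_insert_of_notMem,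
        Finset.card_pair d.symm] <;> simp [Ne.symm hz1, Ne.symm hw1, Ne.symm hwz, Ne.symm hzw1, Ne.symm hzwz, Ne.symm hzww, Ne.symm a, Ne.symm b, Ne.symm c]
    omega
  -- D
  set Z1 := Subgroup.zpowers z
  have hZ1 : ∀ v ∈ Z1, v = 1 ∨ v = z := by
    intro v hv
    obtain ⟨i, rfl⟩ := Subgroup.mem_zpowers_iff.mp hv
    rcases Int.even_or_odd i with ⟨j, rfl⟩ | ⟨j, rfl⟩
    · left; rw [← two_mul, zpow_mul, zpow_ofNat, sq, hz2, one_zpow]
    · right; rw [zpow_add_one, zpow_mul, zpow_ofNat, sq, hz2, one_zpow, one_mul]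
  set D' := Z1.comap (φ y) with hD'
  have hD'idx : D'.index ≤ 2 := by
    rw [hD', Subgroup.index_comap]
    have h1 : Nat.card Z1 = 2 := by rw [Nat.card_zpowers, orderOf_eq_prime (h2 z (hsq x)) hz1]
    set R := (φ y).range
    have h3 : Z1 ≤ Z := Subgroup.zpowers_le.mpr (hsq x)
    calc Z1.relIndex R ≤ Z1.relIndex Z := Subgroup.relIndex_le_of_le_right (hrange y) Subgroup.index_ne_zero_of_finite
      _ ≤ 2 := by
        have : Z1.relIndex Z * 2 ≤ 4 := by
          have h5 := Subgroup.card_mul_index (Z1.subgroupOf Z)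
          rw [Nat.card_congr (Subgroup.subgroupOfEquivOfLe h3).toEquiv] at h5
          change _ * Z1.relIndex Z = _ at h5
          rw [h1] at h5; omega
        omega
  set D := C ⊓ D'
  have hDbig : 4 * Nat.card Z < Nat.card D := by
    have h1 : Nat.card C ≤ D'.index * Nat.card D := by
      have h := Subgroup.card_mul_index (D.subgroupOf C)
      rw [Nat.card_congr (Subgroup.subgroupOfEquivOfLe (inf_le_left : D ≤ C)).toEquiv] at h
      rw [← h, mul_comm]
      refine Nat.mul_le_mul_right _ ?_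
      show D.relIndex C ≤ _
      rw [Subgroup.inf_relIndex_left]
      rw [← Subgroup.relIndex_top_right]; exact Subgroup.relIndex_le_of_le_right le_top Subgroup.index_ne_zero_of_finite
    have h2 : Nat.card C ≤ 2 * Nat.card D := h1.trans (Nat.mul_le_mul_right _ hD'idx)
    omega
  obtain ⟨u, hu, hcu⟩ := hcos {1, x, y, x * y} D (lt_of_le_of_lt (Nat.mul_le_mul_right _ Finset.card_le_four) hDbig)
  have hu0 : u ∉ Z := by simpa using hcu 1 (by simp)
  have hu2 : u ^ 2 ≠ z := fun e => hno (x * u) (hxsq u (hcu x (by simp))) (by rw [hmulsq u (hC u hu.1), e, hz2])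
  have hyu : y * u ∉ Z := fun h => hcu y (by simp) (by
    have : y⁻¹ * u = (y ^ 2)⁻¹ * (y * u) := by rw [sq]; group
    rw [this]; exact mul_mem (inv_mem (hsq y)) h)
  have hyu' : x⁻¹ * (y * u) ∉ Z := fun h => hcu (x * y) (by simp) (by
    have e : x⁻¹ * y = y * x⁻¹ := ((show Commute x y from hC y hyC).inv_left).eq
    have : (x * y)⁻¹ * u = (y ^ 2)⁻¹ * (x⁻¹ * (y * u)) := by rw [← mul_assoc x⁻¹, e, sq]; group
    rw [this]; exact mul_mem (inv_mem (hsq y)) h)
  have hzfix : (y * u) ^ 2 ≠ 1 ∧ (y * u) ^ 2 ≠ z := by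
    refine ⟨hno _ hyu, fun e => ?_⟩
    have hc : x * (y * u) = y * u * x := ((show Commute x y from hC y hyC).mul_right (hC u hu.1)).eq
    exact hno (x * (y * u)) (hxsq _ hyu') (by rw [hmulsq _ hc, e, hz2])
  have hcyu : ⁅u, y⁆ = 1 ∨ ⁅u, y⁆ = z := by
    have h : ⁅y, u⁆ ∈ Z1 := hu.2
    exact hZ1 _ (by rw [← commutatorElement_inv]; exact inv_mem h)
  have hprod : (y * u) ^ 2 = ⁅u, y⁆ * (y ^ 2 * u ^ 2) := by
    have e : (y * u) ^ 2 = y * (⁅u, y⁆ * y * u) * u := by rw [sq, commutatorElement_def]; group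
    rw [e, show y * (⁅u, y⁆ * y * u) * u = (y * ⁅u, y⁆) * (y * u * u) by group, hcm _ (hcomm u y) y, sq, sq]
    group
  rcases hfour (u ^ 2) (hsq u) with h | h | h | h
  · exact hno u hu0 h
  · exact hu2 h
  · rw [h, hw.symm, ← sq w, h2 w (hsq y), mul_one] at hprod
    rcases hcyu with hc | hc <;> rw [hc] at hprod
    exacts [hzfix.1 hprod, hzfix.2 hprod]
  · rw [h, hw.symm, hcm w (hsq y) z, ← mul_assoc w w z, ← sq w, h2 w (hsq y), one_mul] at hprod
    rcases hcyu with hc | hc <;> rw [hc] at hprod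
    · rw [one_mul] at hprod; exact hzfix.2 hprod
    · rw [hz2] at hprod; exact hzfix.1 hprod

theorem elementary_sup {A B : Subgroup X} (hA : IsMulCommutative A ∧ ∀ a ∈ A, a ^ 2 = 1)
    (hB : IsMulCommutative B ∧ ∀ b ∈ B, b ^ 2 = 1) (hc : ∀ a ∈ A, ∀ b ∈ B, a * b = b * a) :
    IsMulCommutative ↥(A ⊔ B) ∧ ∀ x ∈ A ⊔ B, x ^ 2 = 1 := by
  have hmem : ∀ x ∈ A ⊔ B, ∃ a ∈ A, ∃ b ∈ B, a * b = x := by
    intro x hx
    have hBA : A ≤ Subgroup.normalizer (B : Set X) := by
      intro a ha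
      rw [Subgroup.mem_normalizer_iff]
      intro b
      constructor
      · intro hb; rwa [hc a ha b hb, mul_inv_cancel_right]
      · intro hb
        have e : a * b * a⁻¹ = b := by
          have h := hc a ha _ hb
          calc a * b * a⁻¹ = a⁻¹ * (a * (a * b * a⁻¹)) := by group
            _ = a⁻¹ * ((a * b * a⁻¹) * a) := by rw [h]
            _ = b := by group
        rwa [e] at hb
    have hx' : x ∈ ((A ⊔ B : Subgroup X) : Set X) := hx
    rw [Subgroup.coe_mul_of_left_le_normalizer_right A B hBA] at hx'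
    obtain ⟨a, ha, b, hb, e⟩ := hx'
    exact ⟨a, ha, b, hb, e⟩
  have hAc : ∀ a ∈ A, ∀ a' ∈ A, Commute a a' := fun a ha a' ha' => congrArg Subtype.val (hA.1.is_comm.comm ⟨a, ha⟩ ⟨a', ha'⟩)
  have hBc : ∀ a ∈ B, ∀ a' ∈ B, Commute a a' := fun a ha a' ha' => congrArg Subtype.val (hB.1.is_comm.comm ⟨a, ha⟩ ⟨a', ha'⟩)
  refine ⟨⟨⟨fun x y => Subtype.ext ?_⟩⟩, fun x hx => ?_⟩
  · obtain ⟨a, ha, b, hb, e⟩ := hmem x x.2
    obtain ⟨a', ha', b', hb', e'⟩ := hmem y y.2
    show (x : X) * y = y * x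
    rw [← e, ← e']
    exact (((hAc a ha a' ha').mul_right (hc a ha b' hb')).mul_left
      ((show Commute b a' from (hc a' ha' b hb).symm).mul_right (hBc b hb b' hb'))).eq
  · obtain ⟨a, ha, b, hb, e⟩ := hmem x hx
    rw [← e, (show Commute a b from hc a ha b hb).mul_pow, hA.2 a ha, hB.2 b hb, one_mul]

theorem elementary_zpowers {x : X} (hx : x ^ 2 = 1) :
    IsMulCommutative ↥(Subgroup.zpowers x) ∧ ∀ y ∈ Subgroup.zpowers x, y ^ 2 = 1 := by
  refine ⟨inferInstance, fun y hy => ?_⟩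
  obtain ⟨i, rfl⟩ := Subgroup.mem_zpowers_iff.mp hy
  rw [← zpow_natCast, ← zpow_mul, mul_comm, zpow_mul, zpow_natCast, hx, one_zpow]

/-- The shape of a minimal `2`-group on which the odd group `A` acts non-trivially. -/
theorem core (B A Q : Subgroup X) (hQ : IsPGroup 2 Q) (hBQ : B ≤ Subgroup.normalizer (Q : Set X)) (hAB : A ≤ B)
    (hAn : B ≤ Subgroup.normalizer (A : Set X)) (hA : (Nat.card A).Coprime 2) (hnt : ⁅Q, A⁆ ≠ ⊥)
    (hmin : ∀ U : Subgroup X, U < Q → B ≤ Subgroup.normalizer (U : Set X) → ⁅U, A⁆ = ⊥) :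
    ∃ Z : Subgroup X, Z ≤ Q ∧ Z ≠ Q ∧ B ≤ Subgroup.normalizer (Z : Set X) ∧ (∀ z ∈ Z, z ^ 2 = 1) ∧
      (∀ z ∈ Z, ∀ x ∈ Q, x * z = z * x) ∧ (∀ x ∈ Q, x ^ 2 ∈ Z) ∧ Q ⊓ Subgroup.centralizer (A : Set X) ≤ Z := by
  obtain ⟨-, hES, hirr, -⟩ := Cfsg.Agent.GenA.MinimalAction.reduction B A Q hQ hBQ hAB hAn hA hnt hmin
  set Z := (frattini ↥Q).map Q.subtype
  have hlt : frattini ↥Q ≠ ⊤ := fun h => by
    have h1 := frattini_nongenerating (G := ↥Q) (K := ⊥) (by rw [bot_sup_eq, h])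
    haveI : Nontrivial Q := (Subgroup.nontrivial_iff_ne_bot Q).mpr fun h2 => hnt (by rw [h2, Subgroup.commutator_bot_left])
    exact bot_ne_top h1
  have hZc : ∀ z ∈ frattini ↥Q, z ∈ Subgroup.center ↥Q ∧ z ^ 2 = 1 := by
    intro z hz
    rcases hES with hel | ⟨-, hfz, hcz⟩
    · exact ⟨Subgroup.mem_center_iff.mpr fun y => hel.1.is_comm.comm y z, Subtype.ext (hel.2 z z.2)⟩
    refine ⟨hfz ▸ hz, ?_⟩
    rw [hfz, ← hcz, commutator_eq_closure] at hz
    induction hz using Subgroup.closure_induction with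
    | mem c hc =>
      obtain ⟨u, v, rfl⟩ := hc
      have hcm : ⁅u, v⁆ ∈ Subgroup.center ↥Q := hcz ▸ Subgroup.commutator_mem_commutator (Subgroup.mem_top u) (Subgroup.mem_top v)
      have h1 : u ^ 2 ∈ Subgroup.center ↥Q := hfz ▸ Cfsg.Agent.Solvable.Basics.pow_mem_frattini hQ u
      have h2 : ⁅u ^ 2, v⁆ = 1 := by
        rw [commutatorElement_eq_one_iff_mul_comm]; exact (Subgroup.mem_center_iff.mp h1 v).symm
      have h3 : ⁅u ^ 2, v⁆ = u * ⁅u, v⁆ * u⁻¹ * ⁅u, v⁆ := by rw [sq, commutatorElement_def, commutatorElement_def]; group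
      rw [Subgroup.mem_center_iff.mp hcm u, mul_inv_cancel_right] at h3
      rw [sq, ← h3, h2]
    | one => simp
    | mul a b ha hb h1 h2 =>
      have hab : Commute a b := by
        have : a ∈ Subgroup.center ↥Q := by rw [← hcz, commutator_eq_closure]; exact ha
        exact (Subgroup.mem_center_iff.mp this b).symm
      rw [hab.mul_pow, h1, h2, one_mul]
    | inv a ha h1 => rw [inv_pow, h1, inv_one]
  have hBZ : B ≤ Subgroup.normalizer (Z : Set X) := fun b hb =>
    Cfsg.Agent.GenA.MinimalAction.normalizer_map_of_characteristic _ (hBQ hb)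
  refine ⟨Z, Subgroup.map_subtype_le _, ?_, hBZ, ?_, ?_, ?_, ?_⟩
  · intro h; exact hlt (Subgroup.map_subtype_inj.mp (h.trans (by rw [← MonoidHom.range_eq_map, Subgroup.range_subtype])))
  · rintro _ ⟨z, hz, rfl⟩; exact congrArg Subtype.val (hZc z hz).2
  · rintro _ ⟨z, hz, rfl⟩ x hx; exact congrArg Subtype.val (Subgroup.mem_center_iff.mp (hZc z hz).1 ⟨x, hx⟩)
  · intro x hx; exact ⟨⟨x, hx⟩ ^ 2, Cfsg.Agent.Solvable.Basics.pow_mem_frattini hQ _, rfl⟩
  · set U := (Q ⊓ Subgroup.centralizer (A : Set X)) ⊔ Z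
    have hU : B ≤ Subgroup.normalizer (U : Set X) := by
      intro b hb
      have hC := Cfsg.Agent.GenA.MinimalAction.normalizer_centralizer (hAn hb)
      rw [Subgroup.mem_normalizer_iff_map_conj_eq] at hC ⊢
      rw [Subgroup.map_sup, Subgroup.map_inf _ _ _ (MulEquiv.injective _), hC,
        Subgroup.mem_normalizer_iff_map_conj_eq.mp (hBQ hb), Subgroup.mem_normalizer_iff_map_conj_eq.mp (hBZ hb)]
    rcases hirr U le_sup_right (sup_le inf_le_left (Subgroup.map_subtype_le _)) hU with h | h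
    · exact le_sup_left.trans h.le
    · exfalso; apply hnt
      have hK : (Subgroup.centralizer (A : Set X)).subgroupOf Q ⊔ frattini ↥Q = ⊤ := by
        rw [← Subgroup.map_subtype_inj, Subgroup.map_sup, Subgroup.subgroupOf_map_subtype, inf_comm,
          ← MonoidHom.range_eq_map, Subgroup.range_subtype]
        exact h
      have h2 := frattini_nongenerating hK
      rw [Subgroup.commutator_eq_bot_iff_le_centralizer]
      exact Subgroup.subgroupOf_eq_top.mp h2

/-- Free action outside `Z` forces `|Q| ≥ 64|Z|`, hence an involution outside `Z`. -/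
theorem involution_of_nine {Q Z : Subgroup X} (hQ : IsPGroup 2 Q) (hZQ : Z ≤ Q) (hne : Z ≠ Q) (h2 : ∀ z ∈ Z, z ^ 2 = 1)
    (hc : ∀ z ∈ Z, ∀ x ∈ Q, x * z = z * x) (hsq : ∀ x ∈ Q, x ^ 2 ∈ Z) (hZ : Nat.card Z ≤ 4)
    (h9 : 9 ∣ Nat.card ↥{x : X | x ∈ Q ∧ x ∉ Z}) : ∃ x ∈ Q, x ∉ Z ∧ x ^ 2 = 1 := by
  have hb := nine_dvd hZQ hQ hne h9
  have e := Nat.card_congr (Subgroup.subgroupOfEquivOfLe hZQ).toEquiv
  obtain ⟨x, hx, hx2⟩ := exists_involution (Z.subgroupOf Q)
    (fun z hz => Subgroup.mem_center_iff.mpr fun y => Subtype.ext (hc z hz y y.2))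
    (fun z hz => Subtype.ext (h2 z hz)) (fun x => hsq x x.2) (by rw [e]; exact hZ) (by rw [e]; exact hb)
  exact ⟨x, x.2, hx, congrArg Subtype.val hx2⟩

end Cfsg.Agent.GenA.FourRank
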