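import Mathlib
import Cfsg.Agent.Lib.Classical.SylowSL2
import Cfsg.Agent.Lib.Hall.Solvable

/-!
Finite groups without Hall `π`-subgroups, for every set of primes `π` with at least two members
omitting some prime: symmetric groups when `2 ∈ π`, `SL₂(ℓ)` otherwise.
-/

set_option autoImplicit false

namespace Cfsg.Agent.GenA.HallFail

open Cfsg
open scoped MatrixGroups

variable {G : Type*} [Group G] [Finite G]

theorem z2_sq : ∀ t : Multiplicative (ZMod 2), t ^ 2 = 1 := by decide
theorem z2_ne : ∀ u v : ZMod 2, u ≠ v → u = 1 + v := by decide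
theorem z2_twice : ∀ v : ZMod 2, 1 + (1 + v) = v := by decide

theorem isPiHall_conj {π : Set ℕ} {H : Subgroup G} (hH : IsPiHall π H) (g : G) :
    IsPiHall π (H.map (MulAut.conj g).toMonoidHom) := by
  refine ⟨fun p hp h => hH.1 p hp ?_, fun p hp hπ h => hH.2 p hp hπ ?_⟩
  · rwa [Subgroup.card_map_of_injective (MulAut.conj g).injective] at h
  · rwa [show (H.map (MulAut.conj g).toMonoidHom).index = H.index from Subgroup.index_map_equiv H (MulAut.conj g)] at h

/-- A Hall subgroup contains a conjugate of every `p`-subgroup, `p ∈ π`. -/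
theorem exists_conj_le {π : Set ℕ} {H : Subgroup G} (hH : IsPiHall π H) {p : ℕ} [hp : Fact p.Prime]
    (hpπ : p ∈ π) {U : Subgroup G} (hU : IsPGroup p U) :
    ∃ g : G, U ≤ H.map (MulAut.conj g).toMonoidHom := by
  obtain ⟨S⟩ : Nonempty (Sylow p H) := inferInstance
  have hidx : ¬ p ∣ ((S : Subgroup H).map H.subtype).index := by
    rw [Subgroup.index_map_subtype]
    rw [hp.out.dvd_mul]
    rintro (h | h)
    · exact S.not_dvd_index h
    · exact hH.2 p hp.out hpπ h
  let S' : Sylow p G := (S.isPGroup'.map H.subtype).toSylow hidx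
  obtain ⟨T, hT⟩ := hU.exists_le_sylow
  obtain ⟨g, hg⟩ := MulAction.exists_smul_eq G S' T
  refine ⟨g, hT.trans ?_⟩
  rw [← hg, Sylow.coe_subgroup_smul]
  rintro _ ⟨x, hx, rfl⟩
  exact ⟨x, Subgroup.map_subtype_le _ hx, rfl⟩

/-- A subgroup of `Perm (ZMod n)` containing the translation and an involution with one fixed
point whose transpositions it contains is everything. -/
theorem eq_top_of_pairs {n : ℕ} [NeZero n] (hn : Odd n) (H : Subgroup (Equiv.Perm (ZMod n)))
    (htr : Equiv.addRight (1 : ZMod n) ∈ H) (e : Equiv.Perm (ZMod n)) (he : e ^ 2 = 1) (x₀ : ZMod n)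
    (hx₀ : ∀ x, e x = x → x = x₀) (hpair : ∀ x, e x ≠ x → Equiv.swap x (e x) ∈ H) : H = ⊤ := by
  classical
  have hshift : ∀ (k : ℕ) (a b : ZMod n), Equiv.swap a b ∈ H → Equiv.swap (a + k) (b + k) ∈ H := by
    intro k
    induction k with
    | zero => intro a b h; simpa using h
    | succ k ih =>
      intro a b h
      have h1 := ih a b h
      have h2 := mul_mem (mul_mem htr h1) (inv_mem htr)
      rw [← Equiv.swap_apply_apply] at h2
      simpa [add_assoc] using h2
  have hsh : ∀ (c a b : ZMod n), Equiv.swap a b ∈ H → Equiv.swap (a + c) (b + c) ∈ H := fun c a b h => by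
    have := hshift c.val a b h
    rwa [ZMod.natCast_zmod_val] at this
  let D : AddSubgroup (ZMod n) :=
    { carrier := {d | Equiv.swap 0 d ∈ H}
      zero_mem' := by show Equiv.swap (0 : ZMod n) 0 ∈ H; rw [Equiv.swap_self]; exact one_mem H
      add_mem' := by
        intro a b ha hb
        show Equiv.swap 0 (a + b) ∈ H
        rcases eq_or_ne b 0 with rfl | hb0
        · rwa [add_zero]
        rcases eq_or_ne a 0 with rfl | ha0
        · rwa [zero_add]
        rcases eq_or_ne (a + b) 0 with h0 | h0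
        · rw [h0, Equiv.swap_self]; exact one_mem H
        have h1 := hsh a 0 b hb
        rw [zero_add, add_comm b a] at h1
        have h2 := mul_mem (mul_mem (show Equiv.swap 0 a ∈ H from ha) h1) (inv_mem (show Equiv.swap 0 a ∈ H from ha))
        rw [← Equiv.swap_apply_apply, Equiv.swap_apply_right,
          Equiv.swap_apply_of_ne_of_ne h0 (by simpa using hb0)] at h2
        exact h2
      neg_mem' := by
        intro a ha
        show Equiv.swap 0 (-a) ∈ H
        have h1 := hsh (-a) 0 a ha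
        rwa [zero_add, add_neg_cancel, Equiv.swap_comm] at h1 }
  have hD : D = ⊤ := by
    by_contra hD
    have hodd : ¬ 2 ∣ Fintype.card D := by
      rw [← Nat.card_eq_fintype_card]
      intro h
      have h2 : 2 ∣ n := by
        have := h.trans (AddSubgroup.card_addSubgroup_dvd_card D)
        rwa [Nat.card_zmod] at this
      exact Nat.not_even_iff_odd.mpr hn (even_iff_two_dvd.mpr h2)
    have hstep : ∀ x, e x - x ∈ D := by
      intro x
      rcases eq_or_ne (e x) x with h | h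
      · rw [h, sub_self]; exact zero_mem D
      · have h1 := hsh (-x) x (e x) (hpair x h)
        rwa [add_neg_cancel, ← sub_eq_add_neg] at h1
    apply hD
    rw [eq_top_iff]
    intro c _
    have hfix : ∀ a : ZMod n, x₀ - a ∈ D := by
      intro a
      let f : D → D := fun d => ⟨e (a + d) - a, by
        have h1 := D.add_mem (hstep (a + d)) d.2
        rwa [show e (a + (d : ZMod n)) - (a + d) + d = e (a + d) - a by abel] at h1⟩
      have hff : Function.Involutive f := fun d => by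
        apply Subtype.ext
        show e (a + (e (a + d) - a)) - a = (d : ZMod n)
        rw [add_sub_cancel, show e (e (a + d)) = a + d by rw [← Equiv.Perm.mul_apply, ← sq, he]; rfl,
          add_sub_cancel_left]
      have hσ : hff.toPerm f ^ 2 ^ 1 = 1 := by
        ext d
        rw [pow_one, sq, Equiv.Perm.mul_apply, Equiv.Perm.one_apply]
        exact congrArg _ (hff d)
      haveI : Fact (Nat.Prime 2) := ⟨Nat.prime_two⟩
      obtain ⟨d, hd⟩ := Equiv.Perm.exists_fixed_point_of_prime hodd hσ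
      have h1 : e (a + d) - a = (d : ZMod n) := congrArg Subtype.val hd
      have h2 : e (a + d) = a + d := by
        calc e (a + (d : ZMod n)) = (e (a + d) - a) + a := by abel
          _ = a + d := by rw [h1, add_comm]
      rw [← hx₀ _ h2, add_sub_cancel_left]
      exact d.2
    have := D.sub_mem (hfix 0) (hfix c)
    simpa using this
  rw [eq_top_iff, ← Equiv.Perm.closure_isSwap, Subgroup.closure_le]
  rintro σ ⟨a, b, -, rfl⟩
  have h1 : Equiv.swap 0 (b - a) ∈ H := (hD.symm ▸ AddSubgroup.mem_top (b - a) : b - a ∈ D)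
  have := hsh a 0 (b - a) h1
  simpa using this

/-- A symmetric group without Hall `π`-subgroup, `2 ∈ π`. -/
theorem exists_no_hall_two {π : Set ℕ} (h2 : 2 ∈ π) {p r : ℕ} (hp : p.Prime) (hp2 : p ≠ 2) (hpπ : p ∈ π)
    (hr : r.Prime) (hrπ : r ∉ π) : ∃ n : ℕ, ¬ Cfsg.IsEPiGroup π (Equiv.Perm (ZMod (n + 1))) := by
  classical
  haveI : Fact p.Prime := ⟨hp⟩
  haveI : Fact (Nat.Prime 2) := ⟨Nat.prime_two⟩
  have hpr : 0 < p ^ r := pow_pos hp.pos r
  obtain ⟨m, hm⟩ : ∃ m, p ^ r = m + 1 := ⟨p ^ r - 1, by omega⟩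
  have hodd : Odd (m + 1) := hm ▸ (hp.odd_of_ne_two hp2).pow
  refine ⟨m, ?_⟩
  rintro ⟨H₀, hH₀⟩
  -- the translation
  set τ := Equiv.addRight (1 : ZMod (m + 1))
  have hτk : ∀ k : ℕ, ∀ x, (τ ^ k) x = x + k := by
    intro k
    induction k with
    | zero => intro x; simp
    | succ k ih => intro x; rw [pow_succ', Equiv.Perm.mul_apply, ih]; simp [τ, add_assoc]
  have hτP : IsPGroup p (Subgroup.zpowers τ) := by
    have h1 : τ ^ (p ^ r) = 1 := by ext x; rw [hτk, hm, ZMod.natCast_self]; simp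
    obtain ⟨i, -, hi⟩ := (Nat.dvd_prime_pow hp).mp (orderOf_dvd_of_pow_eq_one h1)
    exact IsPGroup.of_card (n := i) (by rw [Nat.card_zpowers, hi])
  obtain ⟨g, hg⟩ := exists_conj_le hH₀ hpπ hτP
  set H := H₀.map (MulAut.conj g).toMonoidHom
  have hH := isPiHall_conj hH₀ g
  -- the 2-subgroup of disjoint transpositions
  obtain ⟨h, hh⟩ := hodd
  let sh : Multiplicative (ZMod 2) →* Equiv.Perm (ZMod 2) :=
    { toFun := fun t => Equiv.addLeft t.toAdd
      map_one' := by ext x; simp
      map_mul' := fun a b => by ext x; simp [add_assoc] }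
  let σ : (Fin h → Multiplicative (ZMod 2)) →* Equiv.Perm ((_ : Fin h) × ZMod 2) :=
    { toFun := fun f => Equiv.sigmaCongrRight fun i => sh (f i)
      map_one' := by ext ⟨i, x⟩ <;> simp
      map_mul' := fun f g => by ext ⟨i, x⟩ <;> simp }
  obtain ⟨ι⟩ : Nonempty (((_ : Fin h) × ZMod 2) ↪ ZMod (m + 1)) := Function.Embedding.nonempty_of_card_le (by
    rw [Fintype.card_sigma, ZMod.card]; simp; omega)
  let φ := (Equiv.Perm.viaEmbeddingHom ι).comp σ
  have hE : IsPGroup 2 φ.range := fun ⟨x, f, hf⟩ => ⟨1, Subtype.ext (by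
    show x ^ 2 ^ 1 = 1
    rw [← hf, ← map_pow]
    convert map_one φ using 2
    funext i
    show (f i) ^ 2 ^ 1 = 1
    rw [pow_one]; exact z2_sq (f i))⟩
  obtain ⟨b, hb⟩ := exists_conj_le hH (p := 2) h2 hE
  have hmem : ∀ f, b⁻¹ * φ f * b ∈ H := by
    intro f
    obtain ⟨y, hy, e⟩ := hb ⟨f, rfl⟩
    have : b⁻¹ * φ f * b = y := by rw [← e]; simp [mul_assoc]
    rw [this]; exact hy
  let one2 : Multiplicative (ZMod 2) := Multiplicative.ofAdd 1
  set e := b⁻¹ * φ (fun _ => one2) * b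
  have hφin : ∀ f i (x : ZMod 2), φ f (ι ⟨i, x⟩) = ι ⟨i, (f i).toAdd + x⟩ := fun f i x =>
    Equiv.Perm.viaEmbedding_apply _ ι ⟨i, x⟩
  have hφout : ∀ f y, y ∉ Set.range ι → φ f y = y := fun f y hy =>
    Equiv.Perm.viaEmbedding_apply_of_notMem _ ι y hy
  obtain ⟨y₀, hy₀⟩ : ∃ y₀, ∀ y, y ∉ Set.range ι → y = y₀ := by
    have hcard : (Finset.univ.map ι)ᶜ.card ≤ 1 := by
      rw [Finset.card_compl, Finset.card_map, Finset.card_univ, Fintype.card_sigma, ZMod.card]; simp; omega
    rcases Finset.eq_empty_or_nonempty ((Finset.univ.map ι)ᶜ) with h0 | ⟨y₀, hy⟩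
    · exact ⟨0, fun y hy => absurd (h0 ▸ (by simpa [Finset.mem_compl] using hy : y ∈ (Finset.univ.map ι)ᶜ)) (Finset.notMem_empty y)⟩
    · exact ⟨y₀, fun y hy' => Finset.card_le_one.mp hcard y (by simpa [Finset.mem_compl] using hy') y₀ hy⟩
  have htop : H = ⊤ := by
    refine eq_top_of_pairs ⟨h, hh⟩ H (hg (Subgroup.mem_zpowers τ)) e ?_ (b⁻¹ y₀) ?_ ?_
    · have : φ (fun _ => one2) ^ 2 = 1 := by
        rw [← map_pow]; convert map_one φ using 2
        funext i; exact z2_sq one2
      calc e ^ 2 = b⁻¹ * φ (fun _ => one2) ^ 2 * b := by simp only [e, sq]; group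
        _ = 1 := by rw [this]; group
    · intro x hx
      have h1 : φ (fun _ => one2) (b x) = b x := by
        have h' := congrArg b hx
        rwa [Equiv.Perm.mul_apply, Equiv.Perm.mul_apply, show ∀ z, b (b⁻¹ z) = z from fun z => b.apply_symm_apply z] at h'
      by_cases hr : b x ∈ Set.range ι
      · obtain ⟨⟨i, a⟩, ha⟩ := hr
        rw [← ha, hφin] at h1
        have := ι.injective h1
        simp [one2] at this
      · rw [← hy₀ _ hr]; simp
    · intro x hx
      by_cases hr : b x ∈ Set.range ι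
      · obtain ⟨⟨i, a⟩, ha⟩ := hr
        have hsingle : φ (Function.update 1 i one2) = Equiv.swap (ι ⟨i, a⟩) (ι ⟨i, 1 + a⟩) := by
          ext y
          by_cases hy : y ∈ Set.range ι
          · obtain ⟨⟨j, c⟩, rfl⟩ := hy
            rw [hφin]
            rcases eq_or_ne j i with rfl | hji
            · rw [Function.update_self]
              rcases eq_or_ne c a with rfl | hca
              · rw [Equiv.swap_apply_left]; rfl
              · have hc : c = 1 + a := z2_ne c a hca
                rw [hc, Equiv.swap_apply_right]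
                exact congrArg (fun t => ι ⟨j, t⟩) (z2_twice a)
            · rw [Function.update_of_ne hji, Equiv.swap_apply_of_ne_of_ne] <;> simp [hji]
          · rw [hφout _ _ hy, Equiv.swap_apply_of_ne_of_ne] <;> rintro rfl <;> exact hy ⟨_, rfl⟩
        have hex : e x = b⁻¹ (ι ⟨i, 1 + a⟩) := by
          simp only [e, Equiv.Perm.mul_apply, ← ha, hφin]; rfl
        have h2' := hmem (Function.update 1 i one2)
        rw [hsingle] at h2'
        have h3 : b⁻¹ * Equiv.swap (ι ⟨i, a⟩) (ι ⟨i, 1 + a⟩) * b⁻¹⁻¹ ∈ H := by rwa [inv_inv]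
        rw [← Equiv.swap_apply_apply] at h3
        rwa [hex, show x = b⁻¹ (ι ⟨i, a⟩) by rw [ha]; simp]
      · exfalso; apply hx
        simp only [e, Equiv.Perm.mul_apply]
        rw [hφout _ _ hr]; simp
  refine hrπ (hH.1 r hr ?_)
  show r ∣ Nat.card H
  rw [htop, Subgroup.card_top, Nat.card_eq_fintype_card, Fintype.card_perm, ZMod.card, ← hm]
  exact Nat.dvd_factorial hr.pos (Nat.lt_pow_self hp.one_lt).le

theorem cyclic_prime_subgroups_eq {p : ℕ} [Fact p.Prime] {C A B : Subgroup G} (hC : IsCyclic C)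
    (hA : A ≤ C) (hB : B ≤ C) (hAc : Nat.card A = p) (hBc : Nat.card B = p) : A = B := by
  classical
  haveI := Fintype.ofFinite C
  have hle := IsCyclic.card_pow_eq_one_le (α := C) (Fact.out : p.Prime).pos
  have hset : ∀ D : Subgroup G, Nat.card D = p → D ≤ C → D.subgroupOf C = ⊤ ⊓ D.subgroupOf C ∧
      ((Finset.univ.filter fun a : C => a ∈ D.subgroupOf C) = Finset.univ.filter fun a : C => a ^ p = 1) := by
    intro D hD hDC
    refine ⟨(top_inf_eq _).symm, Finset.eq_of_subset_of_card_le ?_ (hle.trans ?_)⟩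
    · intro a ha
      simp only [Finset.mem_filter, Finset.mem_univ, true_and] at ha ⊢
      exact Subtype.ext (orderOf_dvd_iff_pow_eq_one.mp (hD ▸ D.orderOf_dvd_natCard ha))
    · rw [← Fintype.card_subtype, ← Nat.card_eq_fintype_card]
      exact (hD.symm.trans (Nat.card_congr (Subgroup.subgroupOfEquivOfLe hDC).symm.toEquiv)).le
  have h := (hset A hAc hA).2.trans (hset B hBc hB).2.symm
  ext x
  constructor <;> intro hx
  · have : (⟨x, hA hx⟩ : C) ∈ Finset.univ.filter fun a : C => a ∈ B.subgroupOf C := h ▸ by simp [Subgroup.mem_subgroupOf, hx]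
    simpa [Subgroup.mem_subgroupOf] using this
  · have : (⟨x, hB hx⟩ : C) ∈ Finset.univ.filter fun a : C => a ∈ A.subgroupOf C := h.symm ▸ by simp [Subgroup.mem_subgroupOf, hx]
    simpa [Subgroup.mem_subgroupOf] using this

/-- `SL₂(ℓ)` without Hall `π`-subgroup, `2 ∉ π`. -/
theorem exists_no_hall_odd {π : Set ℕ} (h2 : 2 ∉ π) {p q : ℕ} (hp : p.Prime) (hq : q.Prime) (hpπ : p ∈ π)
    (hqπ : q ∈ π) (hqp : q < p) :
    ∃ ℓ : ℕ, ℓ.Prime ∧ ¬ Cfsg.IsEPiGroup π (Matrix.SpecialLinearGroup (Fin 2) (ZMod ℓ)) := by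
  classical
  haveI : Fact p.Prime := ⟨hp⟩
  haveI : Fact q.Prime := ⟨hq⟩
  have hp2 : p ≠ 2 := fun h => h2 (h ▸ hpπ)
  have hq2 : q ≠ 2 := fun h => h2 (h ▸ hqπ)
  have hco : p.Coprime q := (Nat.coprime_primes hp hq).mpr hqp.ne'
  obtain ⟨a, ha1, ha2⟩ := Nat.chineseRemainder hco 1 (q - 1)
  have hu : IsUnit (a : ZMod (p * q)) := by
    rw [ZMod.isUnit_iff_coprime]
    refine Nat.Coprime.mul_right ?_ ?_
    · exact (Nat.ModEq.gcd_eq ha1).trans (Nat.gcd_one_left p)
    · exact (Nat.ModEq.gcd_eq ha2).trans ((Nat.coprime_self_sub_left (Nat.one_le_of_lt hq.one_lt)).mpr (Nat.coprime_one_left q))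
  haveI : NeZero (p * q) := ⟨mul_ne_zero hp.ne_zero hq.ne_zero⟩
  obtain ⟨ℓ, hℓgt, hℓ, hℓa⟩ := Nat.forall_exists_prime_gt_and_eq_mod hu (p * q)
  refine ⟨ℓ, hℓ, ?_⟩
  haveI : Fact ℓ.Prime := ⟨hℓ⟩
  rw [ZMod.natCast_eq_natCast_iff] at hℓa
  have hℓp : ℓ ≡ 1 [MOD p] := (Nat.ModEq.of_mul_right q hℓa).trans ha1
  have hℓq : ℓ ≡ q - 1 [MOD q] := (Nat.ModEq.of_mul_left p hℓa).trans ha2
  have hpdvd : p ∣ ℓ - 1 := (Nat.modEq_iff_dvd' hℓ.one_le).mp hℓp.symm
  have hqdvd : q ∣ ℓ + 1 := by
    have := hℓq.add_right 1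
    rw [Nat.sub_add_cancel hq.one_le] at this
    exact (Nat.modEq_zero_iff_dvd.mp (this.trans (Nat.modEq_zero_iff_dvd.mpr dvd_rfl)))
  have hpℓ : p < ℓ := lt_of_le_of_lt (Nat.le_mul_of_pos_right p hq.pos) hℓgt
  rintro ⟨H, hH⟩
  have hcard : Nat.card SL(2, ZMod ℓ) = ℓ * ((ℓ - 1) * (ℓ + 1)) := by
    rw [Cfsg.Agent.Classical.GL2.natCard_SL_two, ZMod.card]
  have hHodd : ¬ 2 ∣ Nat.card H := fun h => h2 (hH.1 2 Nat.prime_two h)
  -- H is a Z-group
  haveI hZ : IsZGroup H := by
    refine ⟨fun r hr R => ?_⟩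
    haveI : Fact r.Prime := ⟨hr⟩
    obtain ⟨k, hk⟩ := IsPGroup.iff_card.mp R.2
    rcases Nat.eq_zero_or_pos k with rfl | hk0
    · haveI : Subsingleton (R : Subgroup H) := by
        rw [← Finite.card_le_one_iff_subsingleton]; exact le_of_eq (by simpa using hk)
      exact isCyclic_of_subsingleton
    have hrH : r ∣ Nat.card H := (hk ▸ dvd_pow_self r hk0.ne').trans (Subgroup.card_subgroup_dvd_card _)
    have hr2 : r ≠ 2 := fun h => hHodd (h ▸ hrH)
    rcases eq_or_ne r ℓ with rfl | hrℓ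
    · refine isCyclic_of_card_dvd_prime (p := r) ?_
      have h1 : r ^ k ∣ r * ((r - 1) * (r + 1)) := by
        rw [← hcard, ← hk]
        exact (Subgroup.card_subgroup_dvd_card (R : Subgroup H)).trans (Subgroup.card_subgroup_dvd_card H)
      rcases k with _ | _ | k
      · omega
      · rw [hk, zero_add, pow_one]
      · exfalso
        have h2' : r * r ∣ r * ((r - 1) * (r + 1)) := (dvd_trans (by rw [← sq]; exact pow_dvd_pow r (by omega)) h1)
        rcases hr.dvd_mul.mp (Nat.dvd_of_mul_dvd_mul_left hr.pos h2') with h3 | h3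
        · exact absurd (Nat.le_of_dvd (by have := hr.two_le; omega) h3) (by omega)
        · have := (Nat.dvd_add_right dvd_rfl).mp h3
          exact absurd (Nat.dvd_one.mp this) hr.ne_one
    · obtain ⟨T, hT⟩ := (R.2.map H.subtype).exists_le_sylow
      haveI := Cfsg.Agent.Classical.SylowSL2.isCyclic_sylow (F := ZMod ℓ) ℓ r hr2 hrℓ T
      haveI := Subgroup.isCyclic_of_le hT
      exact isCyclic_of_surjective _ (Subgroup.equivMapOfInjective (R : Subgroup H) H.subtype H.subtype_injective).symm.surjective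
  haveI : Group.IsSolvable H := inferInstance
  obtain ⟨K, hK⟩ := Cfsg.Agent.Hall.exists_hall ({p, q} : Set ℕ) H
  have hdvdK : ∀ r : ℕ, r.Prime → r ∈ ({p, q} : Set ℕ) → r ∈ π → r ∣ Nat.card SL(2, ZMod ℓ) → r ∣ Nat.card K := by
    intro r hr hr' hrπ hrd
    have h1 : r ∣ Nat.card H := by
      rw [← Subgroup.card_mul_index H] at hrd
      exact (hr.dvd_mul.mp hrd).resolve_right (hH.2 r hr hrπ)
    rw [← Subgroup.card_mul_index K] at h1
    exact (hr.dvd_mul.mp h1).resolve_right (hK.2 r hr hr')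
  have hpK : p ∣ Nat.card K := hdvdK p hp (Or.inl rfl) hpπ (hcard ▸ (hpdvd.mul_right _).mul_left _)
  have hqK : q ∣ Nat.card K := hdvdK q hq (Or.inr rfl) hqπ (hcard ▸ (hqdvd.mul_left _).mul_left _)
  -- q is the smallest prime
  obtain ⟨Q⟩ : Nonempty (Sylow q K) := inferInstance
  have hmin : (Nat.card K).minFac = q := by
    have hne : Nat.card K ≠ 1 := fun h => hq.ne_one (Nat.dvd_one.mp (h ▸ hqK))
    have h1 := Nat.minFac_prime hne
    rcases hK.1 _ h1 (Nat.minFac_dvd _) with h | h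
    · exfalso
      have h3 := Nat.minFac_le_of_dvd hq.two_le hqK
      omega
    · exact h
  set P := (MonoidHom.transferSylow Q (IsCyclic.normalizer_le_centralizer hmin inferInstance)).ker
  have hcompl : Subgroup.IsComplement' P Q := MonoidHom.ker_transferSylow_isComplement' Q _
  have hPidx : Nat.card P = (Q : Subgroup K).index :=
    mul_right_cancel₀ (Nat.card_pos (α := (Q : Subgroup K))).ne'
      (hcompl.card_mul_card.trans ((Q : Subgroup K).index_mul_card).symm)
  have hPdvd : p ∣ Nat.card P := by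
    rw [← hcompl.card_mul_card] at hpK
    rcases hp.dvd_mul.mp hpK with h | h
    · exact h
    · exfalso
      obtain ⟨j, hj⟩ := IsPGroup.iff_card.mp Q.2
      rw [hj] at h
      exact hqp.ne' ((Nat.prime_dvd_prime_iff_eq hp hq).mp (hp.dvd_of_dvd_pow h))
  have hPp : IsPGroup p P := by
    refine IsPGroup.of_card (n := (Nat.card P).primeFactorsList.length) (Nat.eq_prime_pow_of_unique_prime_dvd Nat.card_pos.ne' ?_)
    intro d hd hdP
    rcases hK.1 d hd (hdP.trans (Subgroup.card_subgroup_dvd_card _)) with h | h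
    · exact h
    · exact absurd (h ▸ hPidx ▸ hdP) Q.not_dvd_index
  haveI : IsCyclic P := hPp.isCyclic_of_isZGroup
  obtain ⟨a₀, ha₀⟩ := exists_prime_orderOf_dvd_card' p hPdvd
  obtain ⟨b₀, hb₀⟩ := exists_prime_orderOf_dvd_card' q hqK
  let j : K →* SL(2, ZMod ℓ) := H.subtype.comp K.subtype
  have hj : Function.Injective j := H.subtype_injective.comp K.subtype_injective
  set x := j a₀
  set y := j b₀
  have hx : orderOf x = p := (orderOf_injective j hj _).trans ((Subgroup.orderOf_coe a₀).trans ha₀)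
  have hy : orderOf y = q := (orderOf_injective j hj _).trans hb₀
  have hnorm : y * x * y⁻¹ ∈ Subgroup.zpowers x := by
    have hz : (Subgroup.zpowers (a₀ : K)).map (MulAut.conj b₀).toMonoidHom = Subgroup.zpowers (a₀ : K) := by
      have hle : Subgroup.zpowers (a₀ : K) ≤ P := Subgroup.zpowers_le.mpr a₀.2
      refine cyclic_prime_subgroups_eq (p := p) (C := P) inferInstance ?_ hle ?_ ?_
      · rintro _ ⟨z, hz, rfl⟩; exact Subgroup.Normal.conj_mem inferInstance z (hle hz) b₀
      · rw [Subgroup.card_map_of_injective (MulAut.conj b₀).injective, Nat.card_zpowers, Subgroup.orderOf_coe, ha₀]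
      · rw [Nat.card_zpowers, Subgroup.orderOf_coe, ha₀]
    have h1 : b₀ * (a₀ : K) * b₀⁻¹ ∈ Subgroup.zpowers (a₀ : K) := hz.le ⟨a₀, Subgroup.mem_zpowers _, rfl⟩
    obtain ⟨i, hi⟩ := Subgroup.mem_zpowers_iff.mp h1
    exact Subgroup.mem_zpowers_iff.mpr ⟨i, by simpa only [map_zpow, map_mul, map_inv] using congrArg j hi⟩
  -- conjugate x into the diagonal torus
  obtain ⟨t, ht⟩ := exists_prime_orderOf_dvd_card' p (G := (ZMod ℓ)ˣ) (by
    rw [Nat.card_eq_fintype_card, ZMod.card_units]; exact hpdvd)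
  set D := (Cfsg.Agent.Classical.Torus.diagHom (F := ZMod ℓ)) t
  have hD : orderOf D = p := (orderOf_injective _ Cfsg.Agent.Classical.Torus.diagHom_injective t).trans ht
  obtain ⟨S₁, hS₁⟩ := (IsPGroup.of_card (n := 1) (by rw [Nat.card_zpowers, hx, pow_one]) : IsPGroup p (Subgroup.zpowers x)).exists_le_sylow
  obtain ⟨S₂, hS₂⟩ := (IsPGroup.of_card (n := 1) (by rw [Nat.card_zpowers, hD, pow_one]) : IsPGroup p (Subgroup.zpowers D)).exists_le_sylow
  obtain ⟨g, hg⟩ := MulAction.exists_smul_eq SL(2, ZMod ℓ) S₁ S₂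
  have hx' : Subgroup.zpowers (g * x * g⁻¹) = Subgroup.zpowers D := by
    refine cyclic_prime_subgroups_eq (p := p) (C := (S₂ : Subgroup SL(2, ZMod ℓ))) ?_ ?_ hS₂ ?_ ?_
    · exact Cfsg.Agent.Classical.SylowSL2.isCyclic_sylow (F := ZMod ℓ) ℓ p hp2 hpℓ.ne S₂
    · rw [Subgroup.zpowers_le, ← hg, Sylow.coe_subgroup_smul]
      exact ⟨x, hS₁ (Subgroup.mem_zpowers x), rfl⟩
    · rw [Nat.card_zpowers, ← MulAut.conj_apply, MulEquiv.orderOf_eq, hx]
    · rw [Nat.card_zpowers, hD]
  set w := g * y * g⁻¹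
  have hw : orderOf w = q := by
    show orderOf (MulAut.conj g y) = q
    rw [MulEquiv.orderOf_eq, hy]
  obtain ⟨i, hi⟩ : ∃ i : ℤ, D ^ i = w * D * w⁻¹ := by
    rw [← Subgroup.mem_zpowers_iff]
    obtain ⟨k, hk⟩ := Subgroup.mem_zpowers_iff.mp (hx'.ge (Subgroup.mem_zpowers D))
    obtain ⟨l, hl⟩ := Subgroup.mem_zpowers_iff.mp hnorm
    rw [← hx', ← hk, conj_zpow]
    have e : w * (g * x ^ k * g⁻¹) * w⁻¹ = g * (y * x * y⁻¹) ^ k * g⁻¹ := by rw [conj_zpow]; simp only [w]; group
    rw [e, ← hl, ← zpow_mul, ← conj_zpow]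
    exact zpow_mem (Subgroup.mem_zpowers _) _
  rw [← map_zpow] at hi
  set u := t ^ i
  have hmat := congrArg (fun z : SL(2, ZMod ℓ) => (z * w).1) hi
  simp only [inv_mul_cancel_right, Matrix.SpecialLinearGroup.coe_mul] at hmat
  have hval : ∀ v : (ZMod ℓ)ˣ, (Cfsg.Agent.Classical.Torus.diagHom v).1 = !![(v : ZMod ℓ), 0; 0, ((v⁻¹ : (ZMod ℓ)ˣ) : ZMod ℓ)] :=
    fun v => rfl
  rw [hval u, show D.1 = !![(t : ZMod ℓ), 0; 0, ((t⁻¹ : (ZMod ℓ)ˣ) : ZMod ℓ)] from hval t] at hmat
  set W := w.1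
  have e00 := congrFun (congrFun hmat 0) 0
  have e01 := congrFun (congrFun hmat 0) 1
  have e10 := congrFun (congrFun hmat 1) 0
  have e11 := congrFun (congrFun hmat 1) 1
  simp only [Matrix.mul_apply, Fin.sum_univ_two, Matrix.of_apply, Matrix.cons_val', Matrix.cons_val_zero, Matrix.cons_val_one, Matrix.cons_val_fin_one, zero_mul, mul_zero, add_zero, zero_add] at e00 e01 e10 e11
  have ht2 : (t : ZMod ℓ) ≠ ((t⁻¹ : (ZMod ℓ)ˣ) : ZMod ℓ) := fun h => by
    have h' : t = t⁻¹ := Units.ext h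
    have h'' : t ^ 2 = 1 := by rw [sq]; nth_rewrite 2 [h']; exact mul_inv_cancel t
    have := orderOf_dvd_of_pow_eq_one h''
    rw [ht] at this
    exact hp2 ((Nat.prime_dvd_prime_iff_eq hp Nat.prime_two).mp this)
  have hdet : W 0 0 * W 1 1 - W 0 1 * W 1 0 = 1 := by rw [← Matrix.det_fin_two]; exact w.2
  have hwfour : (w : SL(2, ZMod ℓ)) ^ (4 * (ℓ - 1)) = 1 := by
    rcases eq_or_ne (W 0 0) 0 with h00 | h00
    · have h01 : W 0 1 ≠ 0 := fun h => by rw [h00, h] at hdet; simp at hdet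
      have hut : (u : ZMod ℓ) = ((t⁻¹ : (ZMod ℓ)ˣ) : ZMod ℓ) := mul_left_cancel₀ h01 (by linear_combination e01)
      have hut' : u = t⁻¹ := Units.ext hut
      rw [hut', inv_inv] at e11
      have h11 : W 1 1 = 0 := by
        by_contra h
        exact ht2 (mul_left_cancel₀ h (by linear_combination e11))
      have hsq : (w * w).1 = -1 := by
        show W * W = -1
        ext i j
        fin_cases i <;> fin_cases j <;> simp [Matrix.mul_apply, Fin.sum_univ_two, h00, h11]
        all_goals rw [h00, h11] at hdet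
        all_goals linear_combination -hdet
      have h4 : w ^ 4 = 1 := by
        rw [show 4 = 2 * 2 from rfl, pow_mul, sq, sq]
        apply Subtype.ext
        show (w * w).1 * (w * w).1 = 1
        rw [hsq]; simp
      rw [pow_mul, h4, one_pow]
    · have hut : u = t := Units.ext (mul_left_cancel₀ h00 (by linear_combination e00))
      rw [hut] at e01 e10
      have h01 : W 0 1 = 0 := by
        by_contra h
        exact ht2 (mul_left_cancel₀ h (by linear_combination e01))
      have h10 : W 1 0 = 0 := by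
        by_contra h
        exact ht2 (mul_left_cancel₀ h (by linear_combination -e10))
      rw [h01] at hdet
      let v : (ZMod ℓ)ˣ := ⟨W 0 0, W 1 1, by linear_combination hdet, by linear_combination hdet⟩
      have hwv : w = Cfsg.Agent.Classical.Torus.diagHom v := by
        apply Subtype.ext
        rw [hval]
        show W = _
        ext i j
        fin_cases i <;> fin_cases j <;> simp [h01, h10, v]
      rw [hwv, ← map_pow, mul_comm, pow_mul, ← ZMod.card_units, ← Nat.card_eq_fintype_card, pow_card_eq_one', one_pow, map_one]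
  have := orderOf_dvd_of_pow_eq_one hwfour
  rw [hw] at this
  rcases hq.dvd_mul.mp this with h | h
  · exact hq2 ((Nat.prime_dvd_prime_iff_eq hq Nat.prime_two).mp (hq.dvd_of_dvd_pow (m := 2) (n := 2) h))
  · have := Nat.dvd_sub hqdvd h
    rw [show ℓ + 1 - (ℓ - 1) = 2 by have := hℓ.two_le; omega] at this
    exact hq2 ((Nat.prime_dvd_prime_iff_eq hq Nat.prime_two).mp this)

end Cfsg.Agent.GenA.HallFail
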