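import Cfsg.Agent.Base.RecEqns
import Mathlib
import Cfsg.Prelude.Def_Local
import Cfsg.Agent.Lib.Cores.Basic

/-!
The upper `p`-series: maximality of its terms, bounding the `p`-length by a normal chain, derived length.
-/

set_option autoImplicit false

namespace Cfsg.Agent.GenA.UpperPSeries

open Subgroup

variable {G : Type*} [Group G] {p : ℕ}

/-- `S p n`: the term of the upper `p`-series. -/
abbrev S (p : ℕ) (G : Type*) [Group G] (n : ℕ) : Subgroup G := (Cfsg.upperPSeries p G n).1

theorem succ_even {n : ℕ} (hn : Even n) :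
    S p G (n + 1) = (Cfsg.pPrimeCore p (G ⧸ S p G n)).comap (QuotientGroup.mk' _) := by
  show (Cfsg.upperPSeries p G (n + 1)).1 = _
  rw [Cfsg.upperPSeries.eq_2]
  simp [hn]

theorem succ_odd {n : ℕ} (hn : ¬ Even n) :
    S p G (n + 1) = (Cfsg.pCore p (G ⧸ S p G n)).comap (QuotientGroup.mk' _) := by
  show (Cfsg.upperPSeries p G (n + 1)).1 = _
  rw [Cfsg.upperPSeries.eq_2]
  simp [hn]

theorem le_succ (n : ℕ) : S p G n ≤ S p G (n + 1) := by
  by_cases hn : Even n
  · rw [succ_even hn]; exact QuotientGroup.le_comap_mk' _ _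
  · rw [succ_odd hn]; exact QuotientGroup.le_comap_mk' _ _

theorem mono {m n : ℕ} (h : m ≤ n) : S p G m ≤ S p G n := monotone_nat_of_le_succ le_succ h

theorem card_map_mk' [Finite G] (U B : Subgroup G) [U.Normal] :
    Nat.card ↥(B.map (QuotientGroup.mk' U)) = U.relIndex B := by
  rw [← relIndex_bot_left, ← relIndex_comap, MonoidHom.comap_bot, QuotientGroup.ker_mk']

theorem le_comap_pPrimeCore [Finite G] (U B : Subgroup G) [U.Normal] [B.Normal] (h : (U.relIndex B).Coprime p) :
    B ≤ (Cfsg.pPrimeCore p (G ⧸ U)).comap (QuotientGroup.mk' U) := by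
  rw [← map_le_iff_le_comap]
  haveI := (inferInstance : B.Normal).map (QuotientGroup.mk' U) (QuotientGroup.mk'_surjective U)
  exact Cores.le_pPrimeCore (by rw [card_map_mk']; exact h)

theorem le_comap_pCore [Finite G] (U B : Subgroup G) [U.Normal] [B.Normal] {k : ℕ} (h : U.relIndex B = p ^ k) :
    B ≤ (Cfsg.pCore p (G ⧸ U)).comap (QuotientGroup.mk' U) := by
  rw [← map_le_iff_le_comap]
  haveI := (inferInstance : B.Normal).map (QuotientGroup.mk' U) (QuotientGroup.mk'_surjective U)
  exact Cores.le_pCore (IsPGroup.of_card (by rw [card_map_mk', h]))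

theorem relIndex_comap_pPrimeCore_coprime [Finite G] (U : Subgroup G) [U.Normal] :
    (U.relIndex ((Cfsg.pPrimeCore p (G ⧸ U)).comap (QuotientGroup.mk' U))).Coprime p := by
  rw [← card_map_mk', map_comap_eq_self_of_surjective (QuotientGroup.mk'_surjective U)]
  exact Cores.pPrimeCore_card_coprime p

theorem relIndex_comap_pCore [Finite G] [Fact p.Prime] (U : Subgroup G) [U.Normal] :
    ∃ k, U.relIndex ((Cfsg.pCore p (G ⧸ U)).comap (QuotientGroup.mk' U)) = p ^ k := by
  rw [← card_map_mk', map_comap_eq_self_of_surjective (QuotientGroup.mk'_surjective U)]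
  exact IsPGroup.iff_card.mp (Cores.pCore_isPGroup p)

theorem relIndex_sup_dvd [Finite G] (A B U : Subgroup G) [A.Normal] [B.Normal] [U.Normal] (hAB : A ≤ B) (hAU : A ≤ U) :
    U.relIndex (U ⊔ B) ∣ A.relIndex B := by
  rw [sup_comm, relIndex_sup_right]
  exact relIndex_dvd_of_le_left B hAU

/-- a `p'`-step stays inside the same odd term -/
theorem step_coprime [Finite G] {A B : Subgroup G} [A.Normal] [B.Normal] (hAB : A ≤ B) (hco : (A.relIndex B).Coprime p)
    {m : ℕ} (hA : A ≤ S p G (2 * m + 1)) : B ≤ S p G (2 * m + 1) := by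
  have h2 : S p G (2 * m + 1) = (Cfsg.pPrimeCore p (G ⧸ S p G (2 * m))).comap (QuotientGroup.mk' _) :=
    succ_even (even_two_mul m)
  set U := S p G (2 * m + 1) with hU
  refine le_trans (le_sup_right : B ≤ U ⊔ B) ?_
  have h1 : ((S p G (2 * m)).relIndex (U ⊔ B)).Coprime p := by
    rw [← relIndex_mul_relIndex (S p G (2 * m)) U (U ⊔ B) (le_succ _) le_sup_left]
    refine Nat.Coprime.mul_left ?_ (hco.coprime_dvd_left (relIndex_sup_dvd A B U hAB hA))
    rw [h2]; exact relIndex_comap_pPrimeCore_coprime _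
  haveI : U.Normal := inferInstance
  exact (le_comap_pPrimeCore (S p G (2 * m)) (U ⊔ B) h1).trans h2.ge

/-- a `p`-step raises the index by two -/
theorem step_pPower [Finite G] [Fact p.Prime] {A B : Subgroup G} [A.Normal] [B.Normal] (hAB : A ≤ B) {k : ℕ}
    (hp : A.relIndex B = p ^ k) {m : ℕ} (hA : A ≤ S p G (2 * m + 1)) : B ≤ S p G (2 * (m + 1) + 1) := by
  refine le_trans ?_ (mono (show 2 * m + 1 + 1 ≤ 2 * (m + 1) + 1 by omega))
  have h2 : S p G (2 * m + 1 + 1) = (Cfsg.pCore p (G ⧸ S p G (2 * m + 1))).comap (QuotientGroup.mk' _) :=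
    succ_odd (by simp [parity_simps])
  rw [h2]
  obtain ⟨j, -, hj⟩ := (Nat.dvd_prime_pow (Fact.out : p.Prime)).mp (hp ▸ relIndex_sup_dvd A B (S p G (2 * m + 1)) hAB hA)
  exact le_sup_right.trans (le_comap_pCore (S p G (2 * m + 1)) (S p G (2 * m + 1) ⊔ B) hj)

/-- all prime divisors of `n` equal `p` -/
theorem exists_eq_pow {n : ℕ} (hn : n ≠ 0) (h : ∀ s, s.Prime → s ∣ n → s = p) : ∃ k, n = p ^ k :=
  ⟨_, Nat.eq_prime_pow_of_unique_prime_dvd hn fun {d} hd hdn => h d hd hdn⟩

/-- refinement of an interval by the `q`-series for the primes in a list -/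
theorem interval_le [Finite G] [hp : Fact p.Prime] (L : List (ℕ × ℕ))
    (hL : ∀ x ∈ L, x.1.Prime ∧ x.1 ≠ p ∧ Cfsg.PLengthLE x.1 x.2 G) :
    ∀ A B : Subgroup G, A.Normal → B.Normal → A ≤ B →
      (∀ s, s.Prime → s ∣ A.relIndex B → s = p ∨ ∃ x ∈ L, x.1 = s) →
      ∀ m, A ≤ S p G (2 * m + 1) → B ≤ S p G (2 * (m + (L.map fun x => 1 + x.2).prod) + 1) := by
  induction L with
  | nil =>
    intro A B hA hB hAB hs m hm
    haveI := hA; haveI := hB
    obtain ⟨k, hk⟩ := exists_eq_pow (p := p) index_ne_zero_of_finite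
      (fun s hs' hd => (hs s hs' hd).resolve_right (by simp))
    simpa using step_pPower hAB hk hm
  | cons x L ih =>
    intro A B hA hB hAB hs m hm
    haveI := hA; haveI := hB
    obtain ⟨hq, hqp, hlen⟩ := hL x List.mem_cons_self
    haveI : Fact x.1.Prime := ⟨hq⟩
    set W := (L.map fun y => 1 + y.2).prod with hW
    let X : ℕ → Subgroup G := fun j => A ⊔ (B ⊓ S x.1 G j)
    have hXn : ∀ j, (X j).Normal := fun j => by
      show (A ⊔ (B ⊓ S x.1 G j)).Normal
      infer_instance
    have hXm : ∀ j, X j ≤ X (j + 1) := fun j => sup_le_sup_left (inf_le_inf_left B (le_succ j)) A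
    have hd1 : ∀ j, (X j).relIndex (X (j + 1)) ∣ A.relIndex B := fun j =>
      (relIndex_dvd_of_le_left (X (j + 1)) (le_sup_left : A ≤ X j)).trans
        (Dvd.intro _ (relIndex_mul_relIndex A (X (j + 1)) B le_sup_left (sup_le hAB inf_le_left)))
    have hd2 : ∀ j, (X j).relIndex (X (j + 1)) ∣ (S x.1 G j).relIndex (S x.1 G (j + 1)) := fun j => by
      haveI := hXn j
      have e : X (j + 1) = (B ⊓ S x.1 G (j + 1)) ⊔ X j :=
        le_antisymm (sup_le (le_sup_of_le_right le_sup_left) le_sup_left) (sup_le le_sup_right (hXm j))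
      rw [e, relIndex_sup_right]
      refine (relIndex_dvd_of_le_left _ (le_sup_right : B ⊓ S x.1 G j ≤ X j)).trans ?_
      have h1 : (B ⊓ S x.1 G j).relIndex (B ⊓ S x.1 G (j + 1)) = (S x.1 G j).relIndex (B ⊓ S x.1 G (j + 1)) := by
        rw [← inf_relIndex_right (S x.1 G j)]
        congr 1
        refine le_antisymm (le_inf inf_le_right (inf_le_inf_left B (le_succ j))) ?_
        exact le_inf (inf_le_right.trans inf_le_left) inf_le_left
      rw [h1, ← relIndex_subgroupOf (inf_le_right : B ⊓ S x.1 G (j + 1) ≤ S x.1 G (j + 1))]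
      exact relIndex_dvd_index_of_normal _ _
    have main : ∀ i, X (2 * i + 1) ≤ S p G (2 * (m + (i + 1) * W) + 1) := by
      intro i
      induction i with
      | zero =>
        haveI := hXn 1
        have h0 : X 0 = A := by
          show A ⊔ (B ⊓ (⊥ : Subgroup G)) = A
          simp
        refine (ih (fun y hy => hL y (List.mem_cons_of_mem _ hy)) (X 0) (X 1) (hXn 0) (hXn 1) (hXm 0) ?_ m (h0.symm ▸ hm)).trans (by simp)
        intro s hs' hd
        rcases hs s hs' (hd.trans (hd1 0)) with h | ⟨y, hy, hys⟩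
        · exact Or.inl h
        · rcases List.mem_cons.mp hy with rfl | hy'
          · exfalso
            have hco : ((S y.1 G 0).relIndex (S y.1 G 1)).Coprime y.1 := by
              rw [succ_even (p := y.1) (n := 0) Even.zero]; exact relIndex_comap_pPrimeCore_coprime _
            have := Nat.eq_one_of_dvd_coprimes hco ((hd.trans (hd2 0))) (hys ▸ dvd_rfl)
            exact hs'.ne_one this
          · exact Or.inr ⟨y, hy', hys⟩
      | succ i ihi =>
        haveI := hXn (2 * i + 1); haveI := hXn (2 * i + 2)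
        have hstep : X (2 * i + 2) ≤ S p G (2 * (m + (i + 1) * W) + 1) := by
          refine step_coprime (hXm (2 * i + 1)) ?_ ihi
          obtain ⟨k, hk⟩ := relIndex_comap_pCore (p := x.1) (S x.1 G (2 * i + 1))
          have hd := hd2 (2 * i + 1)
          rw [succ_odd (p := x.1) (n := 2 * i + 1) (by simp [parity_simps]), hk] at hd
          exact (Nat.Coprime.pow_left k ((Nat.coprime_primes hq hp.out).mpr hqp)).coprime_dvd_left hd
        refine (ih (fun y hy => hL y (List.mem_cons_of_mem _ hy)) (X (2 * i + 2)) (X (2 * (i + 1) + 1)) (hXn _) (hXn _)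
          (hXm _) ?_ _ hstep).trans (mono (by rw [add_mul (i + 1) 1, one_mul]; omega))
        intro s hs' hd
        rcases hs s hs' (hd.trans (hd1 _)) with h | ⟨y, hy, hys⟩
        · exact Or.inl h
        · rcases List.mem_cons.mp hy with rfl | hy'
          · exfalso
            have hco : ((S y.1 G (2 * i + 2)).relIndex (S y.1 G (2 * i + 2 + 1))).Coprime y.1 := by
              rw [succ_even (p := y.1) (n := 2 * i + 2) (by simp [parity_simps])]; exact relIndex_comap_pPrimeCore_coprime _
            exact hs'.ne_one (Nat.eq_one_of_dvd_coprimes hco (hd.trans (hd2 _)) (hys ▸ dvd_rfl))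
          · exact Or.inr ⟨y, hy', hys⟩
    have hlast : B ≤ X (2 * x.2 + 1) := by
      show B ≤ A ⊔ (B ⊓ S x.1 G (2 * x.2 + 1))
      rw [show S x.1 G (2 * x.2 + 1) = ⊤ from hlen, inf_top_eq]
      exact le_sup_right
    refine hlast.trans ((main x.2).trans (le_of_eq ?_))
    rw [List.map_cons, List.prod_cons, ← hW, add_comm 1 x.2]

theorem derivedSeries_add_le {H K : Type*} [Group H] [Group K] (f : K →* H) {a : ℕ}
    (h : derivedSeries H a ≤ f.range) : ∀ b, derivedSeries H (a + b) ≤ (derivedSeries K b).map f := by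
  intro b
  induction b with
  | zero => rwa [add_zero, derivedSeries_zero, ← MonoidHom.range_eq_map]
  | succ b ih =>
    rw [← add_assoc, derivedSeries_succ, derivedSeries_succ, map_commutator]
    exact commutator_mono ih ih

/-- derived length in terms of `q`-lengths and derived lengths of Sylow subgroups -/
theorem derived_le [Finite G] (r : ℕ) (q : Fin r → ℕ) (hq : ∀ i, (q i).Prime)
    (hcover : ∀ s : ℕ, s.Prime → s ∣ Nat.card G → ∃ i, q i = s) (d l : Fin r → ℕ)
    (hd : ∀ i, ∀ P : Sylow (q i) G, derivedSeries ↥(P : Subgroup G) (d i) = ⊥)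
    (hl : ∀ i, Cfsg.PLengthLE (q i) (l i) G) :
    ∀ N (c : Fin r → ℕ) (A : Subgroup G), A.Normal → (∀ i, c i ≤ l i) → (∑ i, (l i - c i)) = N →
      (∀ i, S (q i) G (2 * c i) ≤ A) → derivedSeries G (∑ i, d i * (l i - c i)) ≤ A := by
  classical
  intro N
  induction N using Nat.strong_induction_on with
  | _ N ih =>
    intro c A hA hc hN hS
    haveI := hA
    set D := derivedSeries G (∑ i, d i * (l i - c i)) with hD
    have hD' : ∀ i, D ≤ (Cfsg.pPrimeCore (q i) (G ⧸ A)).comap (QuotientGroup.mk' A) := by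
      intro i
      haveI : Fact (q i).Prime := ⟨hq i⟩
      have hco : ((S (q i) G (2 * c i)).relIndex (S (q i) G (2 * c i + 1))).Coprime (q i) := by
        rw [succ_even (p := q i) (even_two_mul (c i))]; exact relIndex_comap_pPrimeCore_coprime _
      have hAi : S (q i) G (2 * c i + 1) ≤ (Cfsg.pPrimeCore (q i) (G ⧸ A)).comap (QuotientGroup.mk' A) :=
        le_sup_right.trans (le_comap_pPrimeCore A (A ⊔ S (q i) G (2 * c i + 1))
          (hco.coprime_dvd_left (relIndex_sup_dvd _ _ A (le_succ _) (hS i))))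
      rcases (hc i).eq_or_lt with h | h
      · exact le_trans le_top ((hl i).ge.trans (h ▸ hAi))
      set Ai := (Cfsg.pPrimeCore (q i) (G ⧸ A)).comap (QuotientGroup.mk' A) with hAidef
      haveI : Ai.Normal := inferInstance
      set Bi := (Cfsg.pCore (q i) (G ⧸ Ai)).comap (QuotientGroup.mk' Ai) with hBidef
      have hA_Ai : A ≤ Ai := QuotientGroup.le_comap_mk' _ _
      have hAi_Bi : Ai ≤ Bi := QuotientGroup.le_comap_mk' _ _
      obtain ⟨k, hk⟩ := relIndex_comap_pCore (p := q i) (S (q i) G (2 * c i + 1))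
      rw [← succ_odd (p := q i) (n := 2 * c i + 1) (by simp [parity_simps])] at hk
      obtain ⟨j, -, hj⟩ := (Nat.dvd_prime_pow (hq i)).mp (hk ▸ relIndex_sup_dvd _ _ Ai (le_succ _) hAi)
      have hBi : S (q i) G (2 * c i + 1 + 1) ≤ Bi :=
        le_sup_right.trans (le_comap_pCore Ai (Ai ⊔ S (q i) G (2 * c i + 1 + 1)) hj)
      set c' := Function.update c i (c i + 1) with hc'
      have hsum : ∑ j, (l j - c' j) + 1 = ∑ j, (l j - c j) := by
        rw [← Finset.add_sum_erase _ _ (Finset.mem_univ i), ← Finset.add_sum_erase _ _ (Finset.mem_univ i)]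
        have : ∑ x ∈ Finset.univ.erase i, (l x - c' x) = ∑ x ∈ Finset.univ.erase i, (l x - c x) :=
          Finset.sum_congr rfl fun x hx => by rw [hc', Function.update_of_ne (Finset.ne_of_mem_erase hx)]
        rw [this, hc', Function.update_self]
        omega
      have hsum' : ∑ j, d j * (l j - c j) = ∑ j, d j * (l j - c' j) + d i := by
        rw [← Finset.add_sum_erase _ _ (Finset.mem_univ i), ← Finset.add_sum_erase (f := fun j => d j * (l j - c' j)) _ (Finset.mem_univ i)]
        have : ∑ x ∈ Finset.univ.erase i, d x * (l x - c' x) = ∑ x ∈ Finset.univ.erase i, d x * (l x - c x) :=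
          Finset.sum_congr rfl fun x hx => by rw [hc', Function.update_of_ne (Finset.ne_of_mem_erase hx)]
        rw [this, hc', Function.update_self, show l i - c i = l i - (c i + 1) + 1 by omega, mul_add, mul_one]
        ring
      have hle := ih (∑ j, (l j - c' j)) (by omega) c' Bi inferInstance (fun j => by
          by_cases hji : j = i
          · subst hji; rw [hc', Function.update_self]; omega
          · rw [hc', Function.update_of_ne hji]; exact hc j) rfl (fun j => by
          by_cases hji : j = i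
          · subst hji; rw [hc', Function.update_self]; exact hBi
          · rw [hc', Function.update_of_ne hji]; exact (hS j).trans (hA_Ai.trans hAi_Bi))
      obtain ⟨P⟩ : Nonempty (Sylow (q i) G) := inferInstance
      set π := QuotientGroup.mk' Ai with hπ
      have hsurj := QuotientGroup.mk'_surjective Ai
      have h1 : derivedSeries (G ⧸ Ai) (∑ j, d j * (l j - c' j)) ≤ (π.comp (P : Subgroup G).subtype).range := by
        rw [← map_derivedSeries_eq hsurj, MonoidHom.range_comp, Subgroup.range_subtype]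
        refine (Subgroup.map_mono hle).trans ?_
        rw [map_comap_eq_self_of_surjective hsurj]
        exact Cores.pCore_le_sylow (P.mapSurjective hsurj)
      have h2 := derivedSeries_add_le _ h1 (d i)
      rw [hd i P, Subgroup.map_bot, le_bot_iff, ← hsum', ← map_derivedSeries_eq hsurj, Subgroup.map_eq_bot_iff,
        QuotientGroup.ker_mk'] at h2
      exact h2
    have hone : Nat.card ↥(D.map (QuotientGroup.mk' A)) = 1 := by
      by_contra hne
      obtain ⟨s, hs, hsd⟩ := Nat.exists_prime_and_dvd hne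
      obtain ⟨i, hi⟩ := hcover s hs (hsd.trans ((Subgroup.card_subgroup_dvd_card _).trans
        (by rw [← index_eq_card]; exact A.index_dvd_card)))
      have h1 : Nat.card ↥(D.map (QuotientGroup.mk' A)) ∣ Nat.card ↥(Cfsg.pPrimeCore (q i) (G ⧸ A)) :=
        Subgroup.card_dvd_of_le (map_le_iff_le_comap.mpr (hD' i))
      exact hs.ne_one (Nat.eq_one_of_dvd_coprimes (Cores.pPrimeCore_card_coprime (q i)) (hsd.trans h1) (hi ▸ dvd_rfl))
    have := Subgroup.card_eq_one.mp hone
    rwa [Subgroup.map_eq_bot_iff, QuotientGroup.ker_mk'] at this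

end Cfsg.Agent.GenA.UpperPSeries
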