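import Mathlib
import Cfsg.Prelude.Def_Local
import Cfsg.Agent.Lib.PLocal.TheoremB.Reduction
import Cfsg.Agent.Lib.PLocal.Quadratic
import Cfsg.Agent.Lib.PLocal.PSolvable
import Cfsg.Agent.Lib.Coprime.Commutator
import Cfsg.Agent.GenA.UpperPSeries
import Cfsg.Agent.OddLocal.PLength
import Cfsg.Agent.Lib.PLocal.RegularOrbit

/-!
`p`-length: the layer `O_{p',p}` as a module for the group above it, and Theorem B as a statement
on `p`-th powers.
-/

set_option autoImplicit false

namespace Cfsg.Agent.GenA.HallHigmanReduction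

open Cfsg Subgroup
open Module (End)

universe u

variable {p : ℕ} [hp : Fact p.Prime]

/-- Centralizer of `O_p` modulo its Frattini subgroup, when `O_{p'} = 1`. -/
theorem frattini_quotient {M : Type u} [Group M] [Finite M] (hsol : IsPSolvable p M)
    (hO : pPrimeCore p M = ⊥) (F : Subgroup M) [F.Normal]
    (hF : F = (frattini ↥(pCore p M)).map (pCore p M).subtype) (V : Subgroup (M ⧸ F))
    (hV : V = (pCore p M).map (QuotientGroup.mk' F)) :
    IsElementaryAbelian p V ∧ centralizer (V : Set (M ⧸ F)) = V ∧ pCore p (M ⧸ F) = V ∧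
      ∀ d, QuotientGroup.mk' F d ∈ V ↔ d ∈ pCore p M := by
  classical
  subst hV
  set Q := pCore p M with hQd
  have hQp : IsPGroup p Q := PLocal.Cores.isPGroup_pCore
  have hFQ : F ≤ Q := hF ▸ map_subtype_le _
  set f := QuotientGroup.mk' F with hfd
  have hfs : Function.Surjective f := QuotientGroup.mk'_surjective F
  have hker : f.ker = F := QuotientGroup.ker_mk' F
  set V := Q.map f with hVd
  haveI : V.Normal := Subgroup.Normal.map inferInstance f hfs
  have hV : IsElementaryAbelian p V := by
    subst hF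
    exact PLocal.Quadratic.frattini_quotient_elementary hQp
  have hVcore : pCore p (M ⧸ F) = V :=
    (PLocal.Cores.map_pCore_of_ker_isPGroup hfs (by rw [hker]; exact hQp.to_le hFQ)).symm
  have hmem : ∀ d, f d ∈ V ↔ d ∈ Q := fun d => ⟨fun hd => by
    have : d ∈ (Q.map f).comap f := hd
    rwa [comap_map_eq, hker, sup_eq_left.mpr hFQ] at this, fun hd => mem_map_of_mem f hd⟩
  refine ⟨hV, ?_, hVcore, hmem⟩
  refine le_antisymm ?_ fun v hv => mem_centralizer_iff.mpr fun u hu => congrArg Subtype.val (hV.1.is_comm.comm (⟨u, hu⟩ : V) ⟨v, hv⟩)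
  set C := (centralizer (V : Set (M ⧸ F))).comap f with hC
  have hpp : p.Prime := hp.out
  have hCp : IsPGroup p C := by
    refine IsPGroup.of_card (n := (Nat.card C).primeFactorsList.length)
      (Nat.eq_prime_pow_of_unique_prime_dvd Nat.card_pos.ne' fun {r} hr hrd => ?_)
    by_contra hrp
    haveI : Fact r.Prime := ⟨hr⟩
    obtain ⟨y, hy⟩ := exists_prime_orderOf_dvd_card' (p := r) hrd
    have hyo : orderOf (y : M) = r := (Subgroup.orderOf_coe y).trans hy
    have hcop : ∀ n, (Nat.card (zpowers (y : M))).Coprime (p ^ n) := fun n => by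
      rw [Nat.card_zpowers, hyo]
      exact Nat.Coprime.pow_right n ((Nat.coprime_primes hr hpp).mpr hrp)
    have hle : zpowers (y : M) ≤ centralizer (Q : Set M) := by
      obtain ⟨n, hn⟩ := (hQp.to_subgroup (frattini Q)).exists_card_eq
      refine Coprime.le_centralizer_of_frattini (K := Q) le_normalizer_of_normal (by rw [hn]; exact hcop n) ?_
      intro z hz q hq
      have hzC : f z ∈ centralizer (V : Set (M ⧸ F)) := (zpowers_le.mpr y.2 : zpowers (y : M) ≤ C) hz
      have h1 := mem_centralizer_iff.mp hzC (f q) ⟨q, hq, rfl⟩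
      rw [← hF, ← hker, MonoidHom.mem_ker, map_mul, map_mul, map_mul, map_inv, map_inv, ← h1]
      group
    have hyQ : (y : M) ∈ Q := PLocal.PSolvable.centralizer_pCore_le hO (PLocal.PSolvable.subgroup hsol _) (hle (mem_zpowers _))
    obtain ⟨n, hn⟩ := hQp.exists_card_eq
    have h2 : orderOf (y : M) ∣ p ^ n := hn ▸ Subgroup.orderOf_dvd_natCard Q hyQ
    rw [hyo] at h2
    exact hrp ((Nat.prime_dvd_prime_iff_eq hr hpp).mp (hr.dvd_of_dvd_pow h2))
  intro c hc
  obtain ⟨d, rfl⟩ := hfs c
  exact mem_map_of_mem f (PLocal.Cores.le_pCore hCp (show d ∈ C from hc))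

/-- Continuation form of the module attached to `O_{p',p}(G)`. -/
theorem reduction {G : Type u} [Group G] [Finite G] (hsol : IsPSolvable p G) {motive : Prop}
    (h : ∀ (M : Type u) [Group M] [Finite M] (φ : G →* M), Function.Surjective φ → IsPSolvable p M →
      ∀ (V : Subgroup M) [V.Normal], IsElementaryAbelian p V → centralizer (V : Set M) = V →
        pCore p M = V → (∀ g, φ g ∈ V ↔ g ∈ pPrimePCore p G) → motive) : motive := by
  set π := QuotientGroup.mk' (pPrimeCore p G) with hπ
  have hs : Function.Surjective π := QuotientGroup.mk'_surjective _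
  set F := (frattini ↥(pCore p (G ⧸ pPrimeCore p G))).map (pCore p (G ⧸ pPrimeCore p G)).subtype with hF
  set f := QuotientGroup.mk' F
  have hsM := PLocal.PSolvable.quotient hsol (pPrimeCore p G)
  obtain ⟨hV, hVc, hcore, hmem⟩ := frattini_quotient hsM PLocal.Cores.pPrimeCore_quotient_pPrimeCore F hF _ rfl
  haveI : ((pCore p (G ⧸ pPrimeCore p G)).map f).Normal :=
    Subgroup.Normal.map inferInstance f (QuotientGroup.mk'_surjective F)
  exact h _ (f.comp π) ((QuotientGroup.mk'_surjective F).comp hs) (PLocal.PSolvable.quotient hsM F) _ hV hVc hcore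
    fun g => hmem (π g)

/-- The exceptional primes of Theorem B. -/
def Exceptional (p : ℕ) (G : Type*) [Group G] : Prop :=
  ∃ q n₀ k : ℕ, q.Prime ∧ 1 ≤ n₀ ∧ 1 ≤ k ∧ p ^ n₀ - 1 = q ^ k ∧ ∀ S : Sylow q G, ¬ IsMulCommutative S

theorem Exceptional.of_surjective {G H : Type*} [Group G] [Group H] [Finite G] {f : G →* H}
    (hf : Function.Surjective f) (h : Exceptional p H) : Exceptional p G := by
  obtain ⟨q, n₀, k, hq, h1, h2, h3, h4⟩ := h
  haveI := Fact.mk hq
  refine ⟨q, n₀, k, hq, h1, h2, h3, fun S hS => h4 (S.mapSurjective hf) ⟨⟨?_⟩⟩⟩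
  rintro ⟨_, a, ha, rfl⟩ ⟨_, b, hb, rfl⟩
  refine Subtype.ext ?_
  show f a * f b = f b * f a
  rw [← map_mul, ← map_mul]
  exact congrArg f (congrArg Subtype.val (hS.is_comm.comm (⟨a, ha⟩ : S) ⟨b, hb⟩))

/-- Theorem B in power form. -/
theorem exists_pow_ne {M : Type u} [Group M] [Finite M] (hsol : IsPSolvable p M) (V : Subgroup M) [V.Normal]
    (hV : IsElementaryAbelian p V) (hVc : centralizer (V : Set M) = V) (hcore : pCore p M = V)
    (g : M) {m : ℕ} (hm : 1 ≤ m) (hg : g ^ p ^ m ∈ V) (hg' : g ^ p ^ (m - 1) ∉ V) :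
    (∃ v ∈ V, (v * g) ^ p ^ m ≠ g ^ p ^ m) ∨ Exceptional p M := by
  classical
  by_cases hex : Exceptional p M
  · exact Or.inr hex
  refine Or.inl ?_
  by_contra hno
  push Not at hno
  let : CommGroup V := { (inferInstance : Group V) with mul_comm := hV.1.is_comm.comm }
  have hpV : ∀ v : Additive V, p • v = 0 := fun v => by
    apply Additive.toMul.injective
    rw [toMul_nsmul, toMul_zero]
    exact Subtype.ext (by simpa using hV.2 _ (Additive.toMul v).2)
  have : Module (ZMod p) (Additive V) := AddCommGroup.zmodModule hpV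
  haveI : Module.Finite (ZMod p) (Additive V) := Module.Finite.of_finite
  let φ : M →* MulAut V := MulAut.conjNormal
  have hφ : ∀ (h : M) (v : V), (φ h v : M) = h * v * h⁻¹ := fun h v => MulAut.conjNormal_apply h v
  let f₀ : M → End (ZMod p) (Additive V) := fun h => (MonoidHom.toAdditive (φ h).toMonoidHom).toZModLinearMap p
  have hf1 : f₀ 1 = 1 := LinearMap.ext fun v => by
    apply Additive.toMul.injective
    show φ 1 (Additive.toMul v) = Additive.toMul v
    rw [map_one, MulAut.one_apply]
  have hf2 : ∀ a b, f₀ (a * b) = f₀ a * f₀ b := fun a b => LinearMap.ext fun v => by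
    apply Additive.toMul.injective
    show φ (a * b) (Additive.toMul v) = φ a (φ b (Additive.toMul v))
    rw [map_mul, MulAut.mul_apply]
  let ρ₀ : M →* End (ZMod p) (Additive V) := { toFun := f₀, map_one' := hf1, map_mul' := hf2 }
  have hker : ∀ h : M, ρ₀ h = 1 ↔ h ∈ V := by
    intro h
    constructor
    · intro hh
      rw [← hVc, mem_centralizer_iff]
      intro v hv
      have e : (φ h ⟨v, hv⟩ : M) = v :=
        congrArg Subtype.val (congrArg Additive.toMul (LinearMap.congr_fun hh (Additive.ofMul (⟨v, hv⟩ : V))))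
      rw [hφ] at e
      exact (mul_inv_eq_iff_eq_mul.mp e).symm
    · intro hh
      refine LinearMap.ext fun v => ?_
      apply Additive.toMul.injective
      show φ h (Additive.toMul v) = Additive.toMul v
      refine Subtype.ext ?_
      rw [hφ]
      exact mul_inv_eq_iff_eq_mul.mpr (congrArg Subtype.val (hV.1.is_comm.comm (⟨h, hh⟩ : V) (Additive.toMul v)))
  let ρ : M ⧸ V →* End (ZMod p) (Additive V) := QuotientGroup.lift V ρ₀ fun h hh => (hker h).mpr hh
  have hρ : Function.Injective ρ := by
    intro a b hab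
    obtain ⟨a, rfl⟩ := QuotientGroup.mk'_surjective V a
    obtain ⟨b, rfl⟩ := QuotientGroup.mk'_surjective V b
    refine QuotientGroup.eq.mpr ((hker _).mp ?_)
    have hab' : ρ₀ a = ρ₀ b := hab
    rw [map_mul, ← hab', ← map_mul, inv_mul_cancel, map_one]
  have hOp : pCore p (M ⧸ V) = ⊥ := by
    subst hcore
    exact PLocal.Cores.pCore_quotient_pCore
  haveI : Nontrivial (Additive V) := by
    by_contra hcon
    rw [not_nontrivial_iff_subsingleton] at hcon
    refine hg' ((hker _).mp (LinearMap.ext fun v => Subsingleton.elim _ _))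
  have hx : orderOf (QuotientGroup.mk' V g) = p ^ m := by
    obtain ⟨k, rfl⟩ : ∃ k, m = k + 1 := ⟨m - 1, by omega⟩
    refine orderOf_eq_prime_pow ?_ ?_
    · rw [← map_pow]; exact fun h => hg' ((QuotientGroup.eq_one_iff _).mp h)
    · rw [← map_pow]; exact (QuotientGroup.eq_one_iff _).mpr hg
  haveI : CharP (End (ZMod p) (Additive V)) p :=
    charP_of_injective_algebraMap (algebraMap (ZMod p) (End (ZMod p) (Additive V))).injective p
  have hsum : (ρ (QuotientGroup.mk' V g) - 1) ^ (p ^ m - 1) = 0 := by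
    rw [PLocal.RegularOrbit.sub_one_pow_eq_geom]
    refine LinearMap.ext fun v => ?_
    have hgv : ∀ i, (ρ (QuotientGroup.mk' V g)) ^ i = ρ₀ (g ^ i) := fun i => by
      rw [map_pow]; rfl
    have key : ∀ N : ℕ, (((Additive.toMul v : V) : M) * g) ^ N =
        ((Additive.toMul ((∑ i ∈ Finset.range N, ρ₀ (g ^ i)) v) : V) : M) * g ^ N := by
      intro N
      induction N with
      | zero => simp
      | succ N ih =>
        rw [pow_succ, ih, Finset.sum_range_succ, LinearMap.add_apply, toMul_add, Subgroup.coe_mul,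
          show ((Additive.toMul (ρ₀ (g ^ N) v) : V) : M) = g ^ N * ((Additive.toMul v : V) : M) * (g ^ N)⁻¹ from hφ _ _,
          pow_succ]
        group
    have h1 := hno _ (Additive.toMul v).2
    rw [key, mul_eq_right] at h1
    rw [LinearMap.zero_apply]
    simp only [hgv]
    exact Additive.toMul.injective (Subtype.ext (h1.trans (by simp)))
  obtain ⟨q, hq, hb⟩ := PLocal.TheoremB.bound_faithful ρ hρ (PLocal.PSolvable.quotient hsol V) hOp hm hx _ hsum
  rcases hb with h | ⟨n₀, k, h1, -, h2, h3, h4, -⟩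
  · have := Nat.one_le_pow m p hp.out.pos
    omega
  · exact hex (Exceptional.of_surjective (QuotientGroup.mk'_surjective V) ⟨q, n₀, k, hq, h1, h2, h3, h4⟩)

/-- A bound for the quotient by `O_{p',p}` gives one more for the group. -/
theorem pLengthLE_succ {G : Type u} [Group G] [Finite G] {k : ℕ}
    (h : PLengthLE p k (G ⧸ pPrimePCore p G)) : PLengthLE p (k + 1) G := by
  set U := pPrimePCore p G with hU
  set π := QuotientGroup.mk' U
  have hπ : Function.Surjective π := QuotientGroup.mk'_surjective U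
  let T : ℕ → Subgroup G := fun i => (UpperPSeries.S p (G ⧸ U) i).comap π
  haveI : ∀ i, (T i).Normal := fun i => Normal.comap inferInstance π
  have hmono : ∀ i, T i ≤ T (i + 1) := fun i => comap_mono (UpperPSeries.le_succ i)
  have hrel : ∀ i, (T i).relIndex (T (i + 1)) =
      (UpperPSeries.S p (G ⧸ U) i).relIndex (UpperPSeries.S p (G ⧸ U) (i + 1)) := fun i => by
    rw [relIndex_comap, map_comap_eq_self_of_surjective hπ]
  have hclaim : ∀ j, T (2 * j + 1) ≤ UpperPSeries.S p G (2 * (j + 1) + 1) := by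
    intro j
    induction j with
    | zero =>
      refine UpperPSeries.step_coprime (hmono 0) ?_ (m := 1) ?_
      · rw [hrel, UpperPSeries.succ_even (by norm_num)]
        exact UpperPSeries.relIndex_comap_pPrimeCore_coprime _
      · refine le_trans (le_of_eq ?_) ((UpperPSeries.le_succ 2) : UpperPSeries.S p G 2 ≤ UpperPSeries.S p G 3)
        show (UpperPSeries.S p (G ⧸ U) 0).comap π = (upperPSeries p G 2).1
        rw [OddLocal.upperPSeries_two]
        exact (MonoidHom.comap_bot π).trans (QuotientGroup.ker_mk' U)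
    | succ j ih =>
      have h2 : T (2 * j + 1 + 1) ≤ UpperPSeries.S p G (2 * (j + 1 + 1) + 1) := by
        obtain ⟨e, he⟩ := UpperPSeries.relIndex_comap_pCore (p := p) (UpperPSeries.S p (G ⧸ U) (2 * j + 1))
        refine UpperPSeries.step_pPower (hmono _) (k := e) ?_ ih
        rw [hrel, UpperPSeries.succ_odd (n := 2 * j + 1) (by simp [parity_simps])]
        exact he
      refine UpperPSeries.step_coprime (hmono (2 * j + 1 + 1)) ?_ h2
      rw [hrel, UpperPSeries.succ_even (n := 2 * j + 1 + 1) ⟨j + 1, by omega⟩]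
      exact UpperPSeries.relIndex_comap_pPrimeCore_coprime _
  show UpperPSeries.S p G (2 * (k + 1) + 1) = ⊤
  refine top_le_iff.mp (le_trans ?_ (hclaim k))
  show ⊤ ≤ (upperPSeries p (G ⧸ U) (2 * k + 1)).1.comap π
  rw [show (upperPSeries p (G ⧸ U) (2 * k + 1)).1 = ⊤ from h, comap_top]

/-- Without exceptional primes the exponent drops in the layer above `O_{p',p}`. -/
theorem exponent_step {G : Type u} [Group G] [Finite G] (hsol : IsPSolvable p G) (hex : ¬ Exceptional p G) {n : ℕ}
    (hexp : ∀ S : Sylow p G, ∀ x ∈ (S : Subgroup G), x ^ p ^ (n + 1) = 1) :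
    ∀ S : Sylow p G, ∀ x ∈ (S : Subgroup G), x ^ p ^ n ∈ pPrimePCore p G := by
  intro S x hx
  refine reduction hsol fun M _ _ φ hφ hM V _ hV hVc hcore hmem => ?_
  rw [← hmem, map_pow]
  by_contra hne
  have hg : φ x ^ p ^ (n + 1) = 1 := by rw [← map_pow, hexp S x hx, map_one]
  rcases exists_pow_ne hM V hV hVc hcore (φ x) (m := n + 1) (Nat.succ_pos n) (hg ▸ one_mem V)
    (by simpa using hne) with ⟨v, hv, hvne⟩ | h
  · refine hvne ?_
    have hvS : v ∈ (S.mapSurjective hφ : Subgroup M) :=
      PLocal.Cores.pCore_le_sylow (S.mapSurjective hφ) (hcore.symm ▸ hv)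
    obtain ⟨y, hy, rfl⟩ := hvS
    rw [hg, ← map_mul, ← map_pow, hexp S _ (mul_mem hy hx), map_one]
  · exact hex (h.of_surjective hφ)

/-- Without exceptional primes the `p`-length is bounded by the exponent. -/
theorem pLengthLE_exponent (n : ℕ) : ∀ {G : Type u} [Group G] [Finite G], IsPSolvable p G → ¬ Exceptional p G →
    (∀ S : Sylow p G, ∀ x ∈ (S : Subgroup G), x ^ p ^ n = 1) → PLengthLE p n G := by
  induction n with
  | zero =>
    intro G _ _ _ _ hexp
    obtain ⟨S⟩ : Nonempty (Sylow p G) := inferInstance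
    have hS : (S : Subgroup G) = ⊥ := by
      refine eq_bot_iff.mpr fun x hx => mem_bot.mpr ?_
      simpa using hexp S x hx
    have hd : ¬ p ∣ Nat.card G := by
      have h := S.not_dvd_index
      rwa [hS, index_bot] at h
    show (upperPSeries p G (2 * 0 + 1)).1 = ⊤
    rw [OddLocal.upperPSeries_one]
    exact top_le_iff.mp (PLocal.Cores.le_pPrimeCore (by
      rw [card_top]; exact (hp.out.coprime_iff_not_dvd.mpr hd).symm))
  | succ n ih =>
    intro G _ _ hsol hex hexp
    set π := QuotientGroup.mk' (pPrimePCore p G)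
    have hπ : Function.Surjective π := QuotientGroup.mk'_surjective _
    refine pLengthLE_succ (ih (PLocal.PSolvable.quotient hsol _) (fun h => hex (h.of_surjective hπ)) ?_)
    intro T x hx
    obtain ⟨S, rfl⟩ := Sylow.mapSurjective_surjective hπ p T
    obtain ⟨y, hy, rfl⟩ := hx
    rw [← map_pow]
    exact (QuotientGroup.eq_one_iff _).mpr (exponent_step hsol hex hexp S y hy)

end Cfsg.Agent.GenA.HallHigmanReduction
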