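import Cfsg.Agent.OddLocal.OmegaQuotient
import Cfsg.Agent.Lib.Cores.Nilpotent
import Cfsg.Agent.Solvable.Basics
import Cfsg.Prelude.Def_OddOrderLocal

/-! Huppert's criterion: for odd `p` a `p`-group `R` with `|R : ℧₁(R)| ≤ p²` is metacyclic. -/

set_option autoImplicit false
set_option linter.unusedSectionVars false

namespace Cfsg.Agent.GenA.HuppertCriterion

open Cfsg Subgroup

universe u

variable {p : ℕ} [hp : Fact p.Prime]

theorem metacyclic_of_commutator_card {R : Type u} [Group R] [Finite R] (h2 : p ≠ 2)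
    (hR : IsPGroup p R) (hder : commutator R ≤ center R) (hcard : Nat.card (commutator R) ∣ p)
    (hO : (closure (Set.range fun x : R => x ^ p)).index ≤ p ^ 2) : IsMetacyclic R := by
  have hc : ∀ x y : R, (y⁻¹ * x⁻¹ * y * x) ^ p = 1 := by
    intro x y
    have h := commutator_mem_commutator (mem_top y⁻¹) (mem_top x⁻¹)
    have h' : y⁻¹ * x⁻¹ * y * x ∈ commutator R := by
      rw [_root_.commutator_def]
      simpa [commutatorElement_def, mul_assoc] using h
    exact orderOf_dvd_iff_pow_eq_one.mp ((orderOf_dvd_natCard _ h').trans hcard)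
  have hsc : PGroups.ClassThree.SmallClass p R := PGroups.ClassThree.smallClass_of_commutator
    (Or.inl ⟨h2, by
      rw [commutator_eq_bot_iff_le_centralizer]
      exact fun u hu => center_le_centralizer _ (hder hu)⟩)
  let f : R →* R :=
    { toFun := fun x => x ^ p
      map_one' := one_pow p
      map_mul' := fun x y => PGroups.ClassThree.mul_pow_prime h2 hsc (hc x y) }
  set P := f.range with hP
  have hPn : P.Normal := ⟨fun x hx g => by
    obtain ⟨y, rfl⟩ := hx
    exact ⟨g * y * g⁻¹, show (g * y * g⁻¹) ^ p = _ from conj_pow⟩⟩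
  have hPfr : P ≤ frattini R := by
    rintro _ ⟨x, rfl⟩
    exact Solvable.Basics.pow_mem_frattini hR x
  have hPQ : Nat.card (R ⧸ P) ≤ p ^ 2 := by
    have e : closure (Set.range fun x : R => x ^ p) = P := le_antisymm
      ((closure_le _).mpr (Set.range_subset_iff.mpr fun x => ⟨x, rfl⟩))
      (by rintro _ ⟨x, rfl⟩; exact subset_closure ⟨x, rfl⟩)
    rw [← index_eq_card, ← e]
    exact hO
  -- a root of a generator of the derived group outside `P`
  obtain ⟨h, hh, hhP⟩ : ∃ h : R, commutator R ≤ zpowers h ∧ (h ∉ P ∨ P = ⊤) := by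
    by_cases hPtop : P = ⊤
    · have : Subsingleton R := by
        have h := frattini_nongenerating (G := R) (K := ⊥) (by
          rw [bot_sup_eq]; exact top_le_iff.mp (hPtop ▸ hPfr))
        exact Subgroup.subsingleton_iff.mp (subsingleton_of_bot_eq_top h)
      refine ⟨1, fun x _ => ?_, Or.inr hPtop⟩
      rw [Subsingleton.elim x 1]; exact one_mem _
    rcases eq_or_ne (commutator R) ⊥ with hb | hb
    · obtain ⟨h, hh⟩ := SetLike.not_le_iff_exists.mp fun hle => hPtop (top_le_iff.mp hle)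
      exact ⟨h, hb.le.trans bot_le, Or.inl hh.2⟩
    obtain ⟨n, hn, hn1⟩ := (bot_or_exists_ne_one _).resolve_left hb
    have hgen : commutator R ≤ zpowers n := by
      refine ((eq_of_le_of_card_ge (zpowers_le.mpr hn) ?_).ge)
      rw [Nat.card_zpowers]
      rcases (Nat.dvd_prime hp.out).mp hcard with h | h
      · rw [h]; exact orderOf_pos n
      · rw [h, orderOf_eq_prime (orderOf_dvd_iff_pow_eq_one.mp
          ((orderOf_dvd_natCard _ hn).trans hcard)) hn1]
    have key : ∀ m : ℕ, (∃ h : R, h ∉ P ∧ n ∈ zpowers h) ∨ ∃ h : R, h ^ p ^ m = n := by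
      intro m
      induction m with
      | zero => exact Or.inr ⟨n, by rw [pow_zero, pow_one]⟩
      | succ m ih =>
        rcases ih with h | ⟨h, hm⟩
        · exact Or.inl h
        by_cases hh : h ∈ P
        · obtain ⟨g, rfl⟩ := hh
          refine Or.inr ⟨g, ?_⟩
          rw [← hm, pow_succ', pow_mul]
          rfl
        · exact Or.inl ⟨h, hh, hm ▸ pow_mem (mem_zpowers h) _⟩
    obtain ⟨e, he⟩ := hR.exists_card_eq
    rcases key e with ⟨h, hh, hn'⟩ | ⟨h, hm⟩
    · exact ⟨h, hgen.trans (zpowers_le.mpr hn'), Or.inl hh⟩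
    · exact absurd (hm ▸ (he ▸ pow_card_eq_one' : h ^ p ^ e = 1)) hn1
  set C := zpowers h with hC
  have hCn : C.Normal := Normal.of_commutator_le R hh
  refine ⟨C, hCn, inferInstance, ?_⟩
  -- `C P` has index at most `p`
  have hK : (C ⊔ P).index ≤ p := by
    rcases hhP with hnot | htop
    · have hlt : P < C ⊔ P := lt_of_le_of_ne le_sup_right fun e =>
        hnot (e ▸ mem_sup_left (mem_zpowers h))
      have h2 : P.relIndex (C ⊔ P) * (C ⊔ P).index = Nat.card (R ⧸ P) := by
        rw [relIndex_mul_index hlt.le, index_eq_card]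
      obtain ⟨e, he⟩ := (hR.to_quotient P).exists_card_eq
      obtain ⟨i, hi, hic⟩ := (Nat.dvd_prime_pow hp.out).mp
        (he ▸ Dvd.intro_left _ h2 : (C ⊔ P).index ∣ p ^ e)
      have hrel : 1 < P.relIndex (C ⊔ P) := by
        refine Nat.one_lt_iff_ne_zero_and_ne_one.mpr ⟨index_ne_zero_of_finite, fun e => ?_⟩
        exact hlt.not_ge (relIndex_eq_one.mp e)
      rw [hic]
      by_contra hgt
      have hi2 : 2 ≤ i := by
        by_contra hi2
        exact hgt ((Nat.pow_le_pow_right hp.out.pos (by omega : i ≤ 1)).trans (pow_one p).le)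
      have : p ^ 2 < Nat.card (R ⧸ P) := by
        rw [← h2, hic]
        calc p ^ 2 ≤ p ^ i := Nat.pow_le_pow_right hp.out.pos hi2
          _ < P.relIndex (C ⊔ P) * p ^ i := lt_mul_of_one_lt_left (pow_pos hp.out.pos i) hrel
      omega
    · rw [htop, sup_top_eq, index_top]
      exact hp.out.one_lt.le
  have hKn : (C ⊔ P).Normal := Normal.of_commutator_le R (hh.trans le_sup_left)
  have hKcyc : IsCyclic (R ⧸ (C ⊔ P)) := by
    obtain ⟨j, hj⟩ := (hR.to_quotient (C ⊔ P)).exists_card_eq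
    rw [index_eq_card, hj] at hK
    have : j ≤ 1 := (Nat.pow_le_pow_iff_right hp.out.one_lt).mp (hK.trans (pow_one p).ge)
    interval_cases j
    · have : Subsingleton (R ⧸ (C ⊔ P)) := (Nat.card_eq_one_iff_unique.mp (by simpa using hj)).1
      infer_instance
    · exact isCyclic_of_prime_card (p := p) (by simpa using hj)
  obtain ⟨q, hq⟩ := hKcyc.exists_generator
  obtain ⟨y, rfl⟩ := QuotientGroup.mk'_surjective _ q
  have htop : C ⊔ zpowers y = ⊤ := by
    refine frattini_nongenerating (eq_top_iff.mpr fun z _ => ?_)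
    obtain ⟨i, hi⟩ := mem_zpowers_iff.mp (hq (QuotientGroup.mk' _ z))
    rw [← map_zpow] at hi
    have hmem : (y ^ i)⁻¹ * z ∈ C ⊔ P := QuotientGroup.eq.mp hi
    have hle : C ⊔ P ≤ C ⊔ zpowers y ⊔ frattini R :=
      sup_le (le_sup_left.trans le_sup_left) (hPfr.trans le_sup_right)
    have e : z = y ^ i * ((y ^ i)⁻¹ * z) := by group
    rw [e]
    exact mul_mem (mem_sup_left (mem_sup_right (mem_zpowers_iff.mpr ⟨i, rfl⟩))) (hle hmem)
  refine ⟨⟨QuotientGroup.mk' C y, fun x => ?_⟩⟩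
  obtain ⟨z, rfl⟩ := QuotientGroup.mk'_surjective C x
  obtain ⟨c, hc', w, hw, rfl⟩ := mem_sup_of_normal_left.mp (htop ▸ mem_top z : z ∈ C ⊔ zpowers y)
  obtain ⟨i, rfl⟩ := mem_zpowers_iff.mp hw
  exact mem_zpowers_iff.mpr ⟨i, by
    rw [map_mul, map_zpow, show QuotientGroup.mk' C c = 1 from (QuotientGroup.eq_one_iff c).mpr hc',
      one_mul]⟩

theorem index_pow_closure_quotient {R : Type u} [Group R] [Finite R] (N : Subgroup R) [N.Normal] :
    (closure (Set.range fun x : R ⧸ N => x ^ p)).index ≤ (closure (Set.range fun x : R => x ^ p)).index := by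
  have e : (closure (Set.range fun x : R => x ^ p)).map (QuotientGroup.mk' N) = closure (Set.range fun x : R ⧸ N => x ^ p) := by
    rw [MonoidHom.map_closure]
    congr 1
    ext q
    constructor
    · rintro ⟨_, ⟨x, rfl⟩, rfl⟩
      exact ⟨QuotientGroup.mk' N x, by simp⟩
    · rintro ⟨q, rfl⟩
      obtain ⟨x, rfl⟩ := QuotientGroup.mk'_surjective N q
      exact ⟨x ^ p, ⟨x, rfl⟩, by simp⟩
  rw [← e]
  exact Nat.le_of_dvd (Nat.pos_of_ne_zero index_ne_zero_of_finite) (index_map_dvd _ (QuotientGroup.mk'_surjective N))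

theorem metacyclic (h2 : p ≠ 2) : ∀ (n : ℕ) {R : Type u} [Group R] [Finite R], Nat.card R = n →
    IsPGroup p R → (closure (Set.range fun x : R => x ^ p)).index ≤ p ^ 2 → IsMetacyclic R := by
  intro n
  induction n using Nat.strong_induction_on with
  | _ n ih => ?_
  intro R _ _ hn hR hO
  by_cases hsmall : commutator R ≤ center R ∧ Nat.card (commutator R) ∣ p
  · exact metacyclic_of_commutator_card h2 hR hsmall.1 hsmall.2 hO
  have := hR.isNilpotent
  have hD : commutator R ≠ ⊥ := fun h => hsmall ⟨h ▸ bot_le, by rw [h, card_bot]; exact one_dvd p⟩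
  obtain ⟨w, hw, hw1⟩ := (bot_or_exists_ne_one _).resolve_left (Cfsg.Agent.Cores.inf_center_ne_bot hD)
  obtain ⟨k, hk0, hk⟩ := ((hR.to_subgroup (commutator R ⊓ center R)).nontrivial_iff_card).mp
    ((nontrivial_iff_ne_bot _).mpr fun h => hw1 (mem_bot.mp (h ▸ hw)))
  obtain ⟨⟨n₀, hn₀⟩, hno⟩ := exists_prime_orderOf_dvd_card' p (hk ▸ dvd_pow_self p hk0.ne' :
    p ∣ Nat.card (commutator R ⊓ center R : Subgroup R))
  rw [orderOf_mk] at hno
  set N := zpowers n₀ with hN
  have hNle : N ≤ commutator R ⊓ center R := zpowers_le.mpr hn₀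
  have hNn : N.Normal := ⟨fun x hx g => by
    rw [mem_center_iff.mp (hNle hx).2 g, mul_inv_cancel_right]; exact hx⟩
  have hNcard : Nat.card N = p := by rw [hN, Nat.card_zpowers, hno]
  set π := QuotientGroup.mk' N with hπ
  have hlt : Nat.card (R ⧸ N) < n := by
    rw [← hn, ← N.card_mul_index, hNcard, ← index_eq_card]
    exact lt_mul_of_one_lt_left (Nat.pos_of_ne_zero index_ne_zero_of_finite) hp.out.one_lt
  obtain ⟨Cb, hCbn, hCbc, hQc⟩ := ih _ hlt rfl (hR.to_quotient N)
    (le_trans (index_pow_closure_quotient N) hO)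
  set C := Cb.comap π with hC
  have hCn : C.Normal := hCbn.comap π
  let g : R →* (R ⧸ N) ⧸ Cb := (QuotientGroup.mk' Cb).comp π
  have hgker : g.ker = C := by
    ext x
    exact QuotientGroup.eq_one_iff _
  have hgs : Function.Surjective g :=
    (QuotientGroup.mk'_surjective Cb).comp (QuotientGroup.mk'_surjective N)
  have hQC : IsCyclic (R ⧸ C) := by
    let e := (QuotientGroup.quotientMulEquivOfEq hgker).symm.trans
      (QuotientGroup.quotientKerEquivOfSurjective g hgs)
    exact isCyclic_of_surjective e.symm.toMonoidHom e.symm.surjective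
  -- a generator of `C` modulo `N`
  obtain ⟨ab, hab⟩ := hCbc.exists_generator
  obtain ⟨a, ha⟩ := QuotientGroup.mk'_surjective N (ab : R ⧸ N)
  have haC : a ∈ C := by rw [hC, mem_comap, hπ, ha]; exact ab.2
  have hNC : N ≤ C := fun x hx => by
    rw [hC, mem_comap, show π x = 1 from (QuotientGroup.eq_one_iff x).mpr hx]
    exact one_mem _
  have hCdec : ∀ x ∈ C, ∃ i : ℤ, (a ^ i)⁻¹ * x ∈ N := by
    intro x hx
    obtain ⟨i, hi⟩ := mem_zpowers_iff.mp (hab ⟨π x, hx⟩)
    refine ⟨i, QuotientGroup.eq.mp ?_⟩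
    have h := congrArg Subtype.val hi
    simp only [coe_zpow] at h
    rw [← ha, ← map_zpow] at h
    exact h
  by_cases hna : N ≤ zpowers a
  · refine ⟨C, hCn, ?_, hQC⟩
    have : C = zpowers a := le_antisymm (fun x hx => by
      obtain ⟨i, hi⟩ := hCdec x hx
      have e : x = a ^ i * ((a ^ i)⁻¹ * x) := by group
      rw [e]
      exact mul_mem (mem_zpowers_iff.mpr ⟨i, rfl⟩) (hna hi)) (zpowers_le.mpr haC)
    rw [this]
    infer_instance
  exfalso
  have hNcen : ∀ m ∈ N, ∀ y : R, y * m = m * y := fun m hm y => mem_center_iff.mp (hNle hm).2 y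
  have hCab : ∀ x ∈ C, ∀ y ∈ C, x * y = y * x := by
    intro x hx y hy
    obtain ⟨i, hi⟩ := hCdec x hx
    obtain ⟨j, hj⟩ := hCdec y hy
    set m := (a ^ i)⁻¹ * x
    set m' := (a ^ j)⁻¹ * y
    have ex : x = a ^ i * m := by simp [m]
    have ey : y = a ^ j * m' := by simp [m']
    rw [ex, ey]
    have c1 : Commute (a ^ i) (a ^ j) := Commute.zpow_zpow_self a i j
    have c2 : ∀ z, Commute m z := fun z => (hNcen m hi z).symm
    have c3 : ∀ z, Commute m' z := fun z => (hNcen m' hj z).symm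
    exact ((c1.mul_right (c3 _).symm).mul_left (c2 _)).eq
  obtain ⟨qb, hqb⟩ := hQC.exists_generator
  obtain ⟨b, rfl⟩ := QuotientGroup.mk'_surjective C qb
  have hCtop : C ⊔ zpowers b = ⊤ := top_le_iff.mp fun x _ => by
    obtain ⟨i, hi⟩ := mem_zpowers_iff.mp (hqb (QuotientGroup.mk' C x))
    rw [← map_zpow] at hi
    have e : x = b ^ i * ((b ^ i)⁻¹ * x) := by group
    rw [e]
    exact mul_mem (mem_sup_right (mem_zpowers_iff.mpr ⟨i, rfl⟩)) (mem_sup_left (QuotientGroup.eq.mp hi))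
  let θ : C →* R :=
    { toFun := fun c => (c : R) * b * (c : R)⁻¹ * b⁻¹
      map_one' := by simp
      map_mul' := fun c d => by
        have hdC : (d : R) * b * (d : R)⁻¹ * b⁻¹ ∈ C := by
          rw [show (d : R) * b * (d : R)⁻¹ * b⁻¹ = d * (b * (d : R)⁻¹ * b⁻¹) by group]
          exact mul_mem d.2 (hCn.conj_mem _ (inv_mem d.2) b)
        have hcC : (c : R) * b * (c : R)⁻¹ * b⁻¹ ∈ C := by
          rw [show (c : R) * b * (c : R)⁻¹ * b⁻¹ = c * (b * (c : R)⁻¹ * b⁻¹) by group]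
          exact mul_mem c.2 (hCn.conj_mem _ (inv_mem c.2) b)
        show ((c : R) * d) * b * ((c : R) * d)⁻¹ * b⁻¹ = _
        calc ((c : R) * d) * b * ((c : R) * d)⁻¹ * b⁻¹
            = (c : R) * ((d : R) * b * (d : R)⁻¹ * b⁻¹) * (b * (c : R)⁻¹ * b⁻¹) := by group
          _ = ((d : R) * b * (d : R)⁻¹ * b⁻¹) * c * (b * (c : R)⁻¹ * b⁻¹) := by
            rw [hCab c c.2 _ hdC]
          _ = ((d : R) * b * (d : R)⁻¹ * b⁻¹) * ((c : R) * b * (c : R)⁻¹ * b⁻¹) := by group
          _ = _ := hCab _ hdC _ hcC }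
  set u := θ ⟨a, haC⟩ with hu
  have hθ : ∀ c : C, θ c ∈ zpowers u := by
    intro c
    obtain ⟨i, hi⟩ := hCdec c c.2
    have e : c = (⟨a, haC⟩ : C) ^ i * ⟨(a ^ i)⁻¹ * c, hNC hi⟩ := Subtype.ext (by simp)
    rw [e, map_mul, map_zpow]
    have h1 : θ ⟨(a ^ i)⁻¹ * c, hNC hi⟩ = 1 := by
      show ((a ^ i)⁻¹ * (c : R)) * b * ((a ^ i)⁻¹ * (c : R))⁻¹ * b⁻¹ = 1
      rw [← hNcen _ hi b, mul_inv_cancel_right, mul_inv_cancel]
    rw [h1, mul_one]
    exact mem_zpowers_iff.mpr ⟨i, rfl⟩
  set U := zpowers u with hU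
  have huC : u ∈ C := by
    show a * b * a⁻¹ * b⁻¹ ∈ C
    rw [show a * b * a⁻¹ * b⁻¹ = a * (b * a⁻¹ * b⁻¹) by group]
    exact mul_mem haC (hCn.conj_mem _ (inv_mem haC) b)
  have hUn : U.Normal := by
    refine normalizer_eq_top_iff.mp (top_le_iff.mp (hCtop ▸ sup_le (fun x hx => ?_) (zpowers_le.mpr ?_)))
    · refine centralizer_le_normalizer _ (mem_centralizer_iff.mpr fun y hy => ?_)
      obtain ⟨i, rfl⟩ := mem_zpowers_iff.mp hy
      exact hCab _ (zpow_mem huC i) _ hx
    · refine mem_normalizer_fintype (S := (U : Set R)) fun y hy => ?_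
      obtain ⟨i, rfl⟩ := mem_zpowers_iff.mp hy
      have hbC : b * a * b⁻¹ ∈ C := hCn.conj_mem a haC b
      have : b * u * b⁻¹ = θ ⟨b * a * b⁻¹, hbC⟩ := by
        show b * (a * b * a⁻¹ * b⁻¹) * b⁻¹ = (b * a * b⁻¹) * b * (b * a * b⁻¹)⁻¹ * b⁻¹
        group
      rw [← conj_zpow, this]
      exact zpow_mem (hθ _) i
  have hDU : commutator R ≤ U := by
    set f := QuotientGroup.mk' U
    have hcb : ∀ c ∈ C, Commute (f c) (f b) := fun c hc => by
      rw [← commutatorElement_eq_one_iff_commute, ← map_commutatorElement]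
      exact (QuotientGroup.eq_one_iff _).mpr (hθ ⟨c, hc⟩)
    rw [_root_.commutator_def, commutator_le]
    intro x _ y _
    obtain ⟨c, hc, v, hv, rfl⟩ := mem_sup_of_normal_left.mp (hCtop ▸ mem_top x : x ∈ C ⊔ zpowers b)
    obtain ⟨d, hd, w', hw', rfl⟩ := mem_sup_of_normal_left.mp (hCtop ▸ mem_top y : y ∈ C ⊔ zpowers b)
    obtain ⟨i, rfl⟩ := mem_zpowers_iff.mp hv
    obtain ⟨j, rfl⟩ := mem_zpowers_iff.mp hw'
    rw [← QuotientGroup.eq_one_iff, ← QuotientGroup.mk'_apply, map_commutatorElement,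
      commutatorElement_eq_one_iff_commute, map_mul, map_mul, map_zpow, map_zpow]
    have h1 : Commute (f c) (f d) := (show Commute c d from hCab c hc d hd).map f
    exact (h1.mul_right ((hcb c hc).zpow_right j)).mul_left
      (((hcb d hd).symm.zpow_left i).mul_right (Commute.zpow_zpow_self _ i j))
  have hUD : U ≤ commutator R := zpowers_le.mpr
    (commutator_mem_commutator (mem_top a) (mem_top b))
  -- `N ≤ ⟨u⟩`
  obtain ⟨i, hi⟩ := hCdec u huC
  set m₀ := (a ^ i)⁻¹ * u with hm₀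
  obtain ⟨k', hk'⟩ := mem_zpowers_iff.mp (hDU (hNle (mem_zpowers n₀)).1)
  have hexp : m₀ ^ p = 1 :=
    orderOf_dvd_iff_pow_eq_one.mp ((N.orderOf_dvd_natCard hi).trans hNcard.dvd)
  have heq : n₀ = a ^ (i * k') * m₀ ^ k' := by
    rw [← hk', show u = a ^ i * m₀ by simp [hm₀], Commute.mul_zpow (hNcen m₀ hi _), ← zpow_mul]
  rcases eq_or_ne (((k' : ℤ) : ZMod p)) 0 with hz | hz
  · obtain ⟨t, ht⟩ := (ZMod.intCast_zmod_eq_zero_iff_dvd k' p).mp hz
    refine hna (zpowers_le.mpr ?_)
    rw [heq, show m₀ ^ k' = 1 by rw [ht, zpow_mul, zpow_natCast, hexp, one_zpow], mul_one]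
    exact mem_zpowers_iff.mpr ⟨_, rfl⟩
  · -- then `⟨u⟩ = N`
    have hUN : u ∈ N := by
      have hcop : Int.gcd k' (orderOf u) = 1 := by
        obtain ⟨e, he⟩ := IsPGroup.iff_orderOf.mp hR u
        rw [he]
        have hnd : ¬ (p : ℤ) ∣ k' := fun h => hz ((ZMod.intCast_zmod_eq_zero_iff_dvd k' p).mpr h)
        rw [Int.gcd_def, Int.natAbs_natCast]
        exact ((hp.out.coprime_iff_not_dvd.mpr fun h => hnd (Int.natCast_dvd.mpr h)).symm).pow_right e
      obtain ⟨r, s, hrs⟩ : ∃ r s : ℤ, r * k' + s * (orderOf u) = 1 :=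
        ⟨k'.gcdA (orderOf u), k'.gcdB (orderOf u), by
          have := Int.gcd_eq_gcd_ab k' (orderOf u)
          rw [hcop] at this
          push_cast at this
          linarith⟩
      have : u = n₀ ^ r := by
        rw [← hk', ← zpow_mul]
        conv_lhs => rw [← zpow_one u, ← hrs, zpow_add, zpow_mul' u s, zpow_natCast,
          pow_orderOf_eq_one, one_zpow, mul_one, mul_comm]
      rw [this]
      exact zpow_mem (mem_zpowers n₀) r
    have hDN : commutator R ≤ N := hDU.trans (zpowers_le.mpr hUN)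
    exact hsmall ⟨hDN.trans (hNle.trans inf_le_right),
      (card_dvd_of_le hDN).trans hNcard.dvd⟩

end Cfsg.Agent.GenA.HuppertCriterion
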