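import Mathlib
import Cfsg.Prelude.Def_OddOrderLocal
import Cfsg.Agent.Lib.Coprime.Action
import Cfsg.Agent.Lib.Hall.Solvable
import Cfsg.Agent.Lib.Cores.Basic

/-!
Hall subgroups of a solvable group invariant under a coprime operator group.
-/

set_option autoImplicit false

namespace Cfsg.Agent.GenA.InvariantHall

open scoped Pointwise commutatorElement
open Cfsg

variable {X : Type*} [Group X] [Finite X]

theorem relIndex_sup {Y R : Subgroup X} (h : Y ≤ Subgroup.normalizer (R : Set X)) :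
    Y.relIndex (Y ⊔ R) = Y.relIndex R ∧ R.relIndex (Y ⊔ R) = R.relIndex Y := by
  set L := Y ⊔ R
  haveI : (R.subgroupOf L).Normal :=
    (Subgroup.normal_subgroupOf_iff_le_normalizer le_sup_right).mpr (sup_le h Subgroup.le_normalizer)
  have e2 : R.relIndex L = R.relIndex Y := by
    rw [← Subgroup.relIndex_subgroupOf (le_refl L), ← Subgroup.relIndex_subgroupOf (le_sup_left : Y ≤ L),
      Subgroup.subgroupOf_sup le_sup_left le_sup_right, Subgroup.relIndex_sup_right]
  refine ⟨?_, e2⟩
  have h1 := Subgroup.relIndex_mul_relIndex (Y ⊓ R) R L inf_le_right le_sup_right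
  have h2 := Subgroup.relIndex_mul_relIndex (Y ⊓ R) Y L inf_le_left le_sup_left
  rw [Subgroup.inf_relIndex_right, e2] at h1
  rw [Subgroup.inf_relIndex_left] at h2
  rw [← h2, mul_comm] at h1
  exact (Nat.eq_of_mul_eq_mul_left (Nat.pos_of_ne_zero (Subgroup.index_ne_zero_of_finite (H := R.subgroupOf Y))) h1).symm

omit [Finite X] in
theorem card_mul_relIndex {A B : Subgroup X} (h : A ≤ B) : Nat.card A * A.relIndex B = Nat.card B := by
  rw [← Subgroup.relIndex_bot_left, ← Subgroup.relIndex_bot_left]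
  exact Subgroup.relIndex_mul_relIndex ⊥ A B bot_le h

omit [Finite X] in
theorem isPiHall_subgroupOf {π : Set ℕ} {H G : Subgroup X} (h : IsPiHallOf π H G) :
    IsPiHall π (H.subgroupOf G) :=
  ⟨fun p hp hd => h.2.1 p hp (by rwa [Nat.card_congr (Subgroup.subgroupOfEquivOfLe h.1).toEquiv] at hd), h.2.2⟩

/-- Hall subgroups of a solvable subgroup are conjugate inside it. -/
theorem conj_of_hall {π : Set ℕ} {H₁ H₂ G : Subgroup X} (hs : Group.IsSolvable G) (h₁ : IsPiHallOf π H₁ G)
    (h₂ : IsPiHallOf π H₂ G) : ∃ g ∈ G, MulAut.conj g • H₁ = H₂ := by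
  haveI := hs
  obtain ⟨g, hg⟩ := Cfsg.Agent.Hall.exists_conj_eq_of_isPiHall (isPiHall_subgroupOf h₁) (isPiHall_subgroupOf h₂)
  refine ⟨g, g.2, ?_⟩
  have h := congrArg (Subgroup.map G.subtype) hg
  rw [Subgroup.map_subgroupOf_eq_of_le h₂.1] at h
  rw [← h]
  ext x
  rw [Cfsg.Agent.Coprime.mem_conj_smul]
  constructor
  · intro hx
    refine ⟨⟨x, ?_⟩, ?_, rfl⟩
    · have := G.mul_mem (G.mul_mem g.2 (h₁.1 hx)) (G.inv_mem g.2)
      simpa [mul_assoc] using this
    · rw [SetLike.mem_coe, Cfsg.Agent.Coprime.mem_conj_smul]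
      exact hx
  · rintro ⟨y, hy, rfl⟩
    rw [SetLike.mem_coe, Cfsg.Agent.Coprime.mem_conj_smul] at hy
    exact hy

theorem isPiHallOf_conj {π : Set ℕ} {H G : Subgroup X} (h : IsPiHallOf π H G) {c : X}
    (hc : c ∈ Subgroup.normalizer (G : Set X)) : IsPiHallOf π (MulAut.conj c • H) G := by
  have hle : MulAut.conj c • H ≤ G := by
    rw [← Cfsg.Agent.Coprime.conj_smul_eq_self_iff.mpr hc]
    exact Subgroup.pointwise_smul_le_pointwise_smul_iff.mpr h.1
  refine ⟨hle, fun p hp hd => h.2.1 p hp (by rwa [Cfsg.Agent.Coprime.card_conj_smul] at hd), fun p hp hπ hd => h.2.2 p hp hπ ?_⟩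
  have e1 := card_mul_relIndex hle
  rw [Cfsg.Agent.Coprime.card_conj_smul, ← card_mul_relIndex h.1] at e1
  rwa [Nat.eq_of_mul_eq_mul_left Nat.card_pos e1] at hd

/-- existence -/
theorem exists_invariant {π : Set ℕ} (A G : Subgroup X) (hAG : A ≤ Subgroup.normalizer (G : Set X))
    (hcop : (Nat.card A).Coprime (Nat.card G)) (hs : Group.IsSolvable G) :
    ∃ H : Subgroup X, IsPiHallOf π H G ∧ A ≤ Subgroup.normalizer (H : Set X) := by
  haveI := hs
  obtain ⟨K, hK⟩ := Cfsg.Agent.Hall.exists_hall π ↥G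
  have hH : IsPiHallOf π (K.map G.subtype) G := by
    refine ⟨Subgroup.map_subtype_le K, fun p hp hd => hK.1 p hp (by rwa [Subgroup.card_subtype] at hd), fun p hp hπ hd => hK.2 p hp hπ ?_⟩
    rwa [Subgroup.relIndex, Subgroup.subgroupOf, Subgroup.comap_map_eq_self_of_injective G.subtype_injective K] at hd
  obtain ⟨k, hk, hinv⟩ := Cfsg.Agent.Coprime.exists_conj_invariant hAG hcop (Or.inr hs) (H := K.map G.subtype)
    (fun a ha => by
      obtain ⟨g, hg, e⟩ := conj_of_hall hs hH (isPiHallOf_conj hH (hAG ha))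
      exact ⟨g, hg, e.symm⟩)
  exact ⟨_, isPiHallOf_conj hH (Subgroup.le_normalizer hk), hinv⟩

/-- transitivity of the fixed points -/
theorem exists_conj {π : Set ℕ} (A G : Subgroup X) (hAG : A ≤ Subgroup.normalizer (G : Set X))
    (hcop : (Nat.card A).Coprime (Nat.card G)) (hs : Group.IsSolvable G) {H₁ H₂ : Subgroup X}
    (h₁ : IsPiHallOf π H₁ G) (a₁ : A ≤ Subgroup.normalizer (H₁ : Set X))
    (h₂ : IsPiHallOf π H₂ G) (a₂ : A ≤ Subgroup.normalizer (H₂ : Set X)) :
    ∃ c ∈ G ⊓ Subgroup.centralizer (A : Set X), MulAut.conj c • H₁ = H₂ := by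
  obtain ⟨g, hg, e⟩ := conj_of_hall hs h₁ h₂
  exact Cfsg.Agent.Coprime.exists_centralizer_conj_eq hAG hcop (Or.inr hs) a₁ a₂ hg e

/-- a subgroup with abelian `q`-quotient -/
theorem exists_smaller {R : Subgroup X} {q : ℕ} (hq : q.Prime) (hdvd : q ∣ (⁅R, R⁆).relIndex R) :
    ∃ S : Subgroup X, S < R ∧ (∀ g ∈ Subgroup.normalizer (R : Set X), g ∈ Subgroup.normalizer (S : Set X)) ∧
      ∃ k, S.relIndex R = q ^ k := by
  haveI : Fact q.Prime := ⟨hq⟩
  set P : Subgroup X := Subgroup.closure {z | ∃ x ∈ R, x ^ q = z}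
  set S : Subgroup X := ⁅R, R⁆ ⊔ P
  have hSR : S ≤ R := sup_le (Subgroup.commutator_le.mpr fun a ha b hb => by
      rw [commutatorElement_def]; exact R.mul_mem (R.mul_mem (R.mul_mem ha hb) (R.inv_mem ha)) (R.inv_mem hb))
    ((Subgroup.closure_le _).mpr fun z ⟨x, hx, e⟩ => e ▸ R.pow_mem hx q)
  have hnorm : ∀ g ∈ Subgroup.normalizer (R : Set X), g ∈ Subgroup.normalizer (S : Set X) := by
    intro g hg
    refine Cfsg.Agent.Coprime.conj_smul_eq_self_iff.mp (le_antisymm ?_ ?_)
    · intro y hy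
      rw [Cfsg.Agent.Coprime.mem_conj_smul] at hy
      have key : ∀ z ∈ S, g * z * g⁻¹ ∈ S := by
        intro z hz
        have : S ≤ S.comap (MulAut.conj g).toMonoidHom := by
          refine sup_le (Subgroup.commutator_le.mpr fun a ha b hb => ?_) ((Subgroup.closure_le _).mpr ?_)
          · rw [Subgroup.mem_comap, map_commutatorElement]
            exact Subgroup.mem_sup_left (Subgroup.commutator_mem_commutator
              ((Subgroup.mem_normalizer_iff.mp hg a).mp ha) ((Subgroup.mem_normalizer_iff.mp hg b).mp hb))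
          · rintro z ⟨x, hx, rfl⟩
            rw [SetLike.mem_coe, Subgroup.mem_comap, map_pow]
            exact Subgroup.mem_sup_right (Subgroup.subset_closure ⟨_, (Subgroup.mem_normalizer_iff.mp hg x).mp hx, rfl⟩)
        exact this hz
      simpa [mul_assoc] using key _ hy
    · intro y hy
      rw [Cfsg.Agent.Coprime.mem_conj_smul]
      have : S ≤ S.comap (MulAut.conj g⁻¹).toMonoidHom := by
        refine sup_le (Subgroup.commutator_le.mpr fun a ha b hb => ?_) ((Subgroup.closure_le _).mpr ?_)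
        · rw [Subgroup.mem_comap, map_commutatorElement]
          exact Subgroup.mem_sup_left (Subgroup.commutator_mem_commutator
            ((Subgroup.mem_normalizer_iff.mp (inv_mem hg) a).mp ha) ((Subgroup.mem_normalizer_iff.mp (inv_mem hg) b).mp hb))
        · rintro z ⟨x, hx, rfl⟩
          rw [SetLike.mem_coe, Subgroup.mem_comap, map_pow]
          exact Subgroup.mem_sup_right (Subgroup.subset_closure ⟨_, (Subgroup.mem_normalizer_iff.mp (inv_mem hg) x).mp hx, rfl⟩)
      simpa using this hy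
  refine ⟨S, lt_of_le_of_ne hSR fun e => ?_, hnorm, ?_⟩
  · -- `q`-th powers are onto the abelianisation
    have hcomm : (⁅R, R⁆).subgroupOf R = commutator ↥R := by
      rw [← Subgroup.map_subtype_commutator, Subgroup.subgroupOf, Subgroup.comap_map_eq_self_of_injective R.subtype_injective]
    have hsurj : ∀ u : Abelianization ↥R, ∃ v, v ^ q = u := by
      intro u
      obtain ⟨⟨x, hx⟩, rfl⟩ := QuotientGroup.mk_surjective u
      have hle : S ≤ ((powMonoidHom q : Abelianization ↥R →* _).range.comap Abelianization.of).map R.subtype := by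
        refine sup_le (Subgroup.commutator_le.mpr fun a ha b hb => ?_) ((Subgroup.closure_le _).mpr ?_)
        · refine ⟨⁅(⟨a, ha⟩ : ↥R), ⟨b, hb⟩⁆, ?_, rfl⟩
          refine ⟨1, ?_⟩
          rw [map_one, map_commutatorElement, commutatorElement_eq_one_iff_mul_comm.mpr (mul_comm _ _)]
        · rintro z ⟨y, hy, rfl⟩
          exact ⟨⟨y, hy⟩ ^ q, ⟨Abelianization.of ⟨y, hy⟩, (map_pow _ _ _).symm⟩, rfl⟩
      obtain ⟨w, ⟨v, hv⟩, hwx⟩ := hle (e.ge hx)
      refine ⟨v, ?_⟩
      rw [show w = ⟨x, hx⟩ from Subtype.ext hwx] at hv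
      exact hv
    haveI : Finite (Abelianization ↥R) := Quotient.finite _
    have hdvd' : q ∣ Nat.card (Abelianization ↥R) := by
      rw [Subgroup.relIndex, hcomm, Subgroup.index_eq_card] at hdvd
      exact hdvd
    obtain ⟨v, hv⟩ := exists_prime_orderOf_dvd_card' q hdvd'
    have hinj : Function.Injective (fun u : Abelianization ↥R => u ^ q) := Finite.injective_iff_surjective.mpr hsurj
    have : v = 1 := hinj (by simp only [one_pow]; rw [← hv, pow_orderOf_eq_one])
    rw [this, orderOf_one] at hv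
    exact hq.ne_one hv.symm
  · have hn : (S.subgroupOf R).Normal :=
      (Subgroup.normal_subgroupOf_iff_le_normalizer hSR).mpr fun g hg => hnorm g (Subgroup.le_normalizer hg)
    haveI := hn
    have hp : IsPGroup q (↥R ⧸ S.subgroupOf R) := by
      intro u
      obtain ⟨x, rfl⟩ := QuotientGroup.mk_surjective u
      refine ⟨1, ?_⟩
      rw [pow_one, ← QuotientGroup.mk_pow, QuotientGroup.eq_one_iff]
      exact Subgroup.mem_sup_right (Subgroup.subset_closure ⟨x, x.2, rfl⟩)
    obtain ⟨k, hk⟩ := IsPGroup.iff_card.mp hp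
    exact ⟨k, by rw [Subgroup.relIndex, Subgroup.index_eq_card, hk]⟩

/-- invariant `π`-subgroups lie in invariant Hall subgroups -/
theorem exists_ge {π : Set ℕ} (A : Subgroup X) : ∀ (n : ℕ) (G U : Subgroup X), Nat.card G ≤ n →
    A ≤ Subgroup.normalizer (G : Set X) → (Nat.card A).Coprime (Nat.card G) → Group.IsSolvable G →
    U ≤ G → A ≤ Subgroup.normalizer (U : Set X) → (∀ p : ℕ, p.Prime → p ∣ Nat.card U → p ∈ π) →
    ∃ H : Subgroup X, IsPiHallOf π H G ∧ A ≤ Subgroup.normalizer (H : Set X) ∧ U ≤ H := by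
  intro n
  induction n with
  | zero => intro G U hn; exact absurd (Nat.le_zero.mp hn) Nat.card_pos.ne'
  | succ n ih =>
    intro G U hn hAG hcop hs hUG hAU hU
    obtain ⟨R, ⟨hRG, hAR, hGR, hRπ⟩, hRmin⟩ := Set.Finite.exists_minimal
      (Set.toFinite {R : Subgroup X | R ≤ G ∧ A ≤ Subgroup.normalizer (R : Set X) ∧
        G ≤ Subgroup.normalizer (R : Set X) ∧ ∀ p : ℕ, p.Prime → p ∣ R.relIndex G → p ∈ π})
      ⟨G, le_rfl, hAG, Subgroup.le_normalizer, fun p hp hd => by
        rw [Subgroup.relIndex_self, Nat.dvd_one] at hd; exact absurd hd hp.ne_one⟩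
    have hinv : ∀ {Y : Subgroup X}, Y ≤ G → U ≤ Y → A ≤ Subgroup.normalizer (Y : Set X) → Y ≠ G →
        ∃ H : Subgroup X, IsPiHallOf π H Y ∧ A ≤ Subgroup.normalizer (H : Set X) ∧ U ≤ H := by
      intro Y hYG hUY hAY hne
      refine ih Y U ?_ hAY (hcop.coprime_dvd_right (Subgroup.card_dvd_of_le hYG))
        (Cfsg.Agent.Coprime.isSolvable_of_le hYG hs) hUY hAU hU
      have : Nat.card Y < Nat.card G := by
        by_contra hc
        exact hne (Subgroup.eq_of_le_of_card_ge hYG (not_lt.mp hc))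
      omega
    have hUR : A ≤ Subgroup.normalizer ((U ⊔ R : Subgroup X) : Set X) :=
      fun a ha => Subgroup.normalizer_inf_normalizer_le_normalizer_sup _ _ (Subgroup.mem_inf.mpr ⟨hAU ha, hAR ha⟩)
    by_cases htop : U ⊔ R = G
    · -- descend to `U R'`
      set R' := ⁅R, R⁆
      have hR'R : R' ≤ R := Subgroup.commutator_le.mpr fun a ha b hb => by
        rw [commutatorElement_def]; exact R.mul_mem (R.mul_mem (R.mul_mem ha hb) (R.inv_mem ha)) (R.inv_mem hb)
      have hR'n : ∀ g ∈ Subgroup.normalizer (R : Set X), g ∈ Subgroup.normalizer (R' : Set X) := by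
        intro g hg
        refine Cfsg.Agent.Coprime.conj_smul_eq_self_iff.mp ?_
        have e := Cfsg.Agent.Coprime.conj_smul_eq_self_iff.mpr hg
        show (⁅R, R⁆).map (MulAut.conj g).toMonoidHom = ⁅R, R⁆
        rw [Subgroup.map_commutator, show R.map (MulAut.conj g).toMonoidHom = R from e]
      have hπ' : ∀ q : ℕ, q.Prime → q ∣ R'.relIndex R → q ∉ π := by
        intro q hq hd hqπ
        obtain ⟨S, hS, hSn, k, hk⟩ := exists_smaller hq hd
        refine absurd (hRmin ⟨hS.le.trans hRG, fun a ha => hSn a (hAR ha), fun g hg => hSn g (hGR hg), fun p hp hpd => ?_⟩ hS.le) (not_le_of_gt hS)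
        rw [← Subgroup.relIndex_mul_relIndex S R G hS.le hRG, hk] at hpd
        rcases hp.dvd_mul.mp hpd with h | h
        · rwa [(Nat.prime_dvd_prime_iff_eq hp hq).mp (hp.dvd_of_dvd_pow h)]
        · exact hRπ p hp h
      have hUR' : U ≤ Subgroup.normalizer (R' : Set X) := fun u hu => hR'n u (hGR (hUG hu))
      by_cases hY : U ⊔ R' = G
      · -- then `R = 1` and `G` is a `π`-group
        have hR : R' = R := by
          refine le_antisymm hR'R (Subgroup.relIndex_eq_one.mp ?_)
          by_contra hne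
          obtain ⟨q, hq, hqd⟩ := Nat.exists_prime_and_dvd hne
          refine hπ' q hq hqd (hU q hq ?_)
          have h1 : R'.relIndex R ∣ R'.relIndex G :=
            Dvd.intro _ (Subgroup.relIndex_mul_relIndex R' R G hR'R hRG)
          rw [← hY, (relIndex_sup hUR').2] at h1
          exact hqd.trans (h1.trans (Subgroup.relIndex_dvd_card R' U))
        have hbot : R = ⊥ := by
          by_contra hne
          haveI : Group.IsSolvable R := Cfsg.Agent.Coprime.isSolvable_of_le hRG hs
          haveI : Nontrivial R := (Subgroup.nontrivial_iff_ne_bot R).mpr hne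
          refine (Group.IsSolvable.commutator_lt_top_of_nontrivial ↥R).ne ?_
          rw [← Subgroup.map_subtype_inj, Subgroup.map_subtype_commutator, ← MonoidHom.range_eq_map, Subgroup.range_subtype]
          exact hR
        rw [hbot, sup_bot_eq] at htop
        exact ⟨U, ⟨hUG, hU, fun p hp _ hd => hp.ne_one (Nat.dvd_one.mp (by rwa [htop, Subgroup.relIndex_self] at hd))⟩, hAU, le_rfl⟩
      · obtain ⟨H, hH, hAH, hUH⟩ := hinv (sup_le hUG (hR'R.trans hRG)) le_sup_left
          (fun a ha => Subgroup.normalizer_inf_normalizer_le_normalizer_sup _ _ (Subgroup.mem_inf.mpr ⟨hAU ha, hR'n a (hAR ha)⟩)) hY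
        refine ⟨H, ⟨hH.1.trans (sup_le hUG (hR'R.trans hRG)), hH.2.1, fun p hp hπ hd => ?_⟩, hAH, hUH⟩
        rw [← Subgroup.relIndex_mul_relIndex H (U ⊔ R') G hH.1 (sup_le hUG (hR'R.trans hRG))] at hd
        rcases hp.dvd_mul.mp hd with h | h
        · exact hH.2.2 p hp hπ h
        · refine hπ' p hp (h.trans ?_) hπ
          have e : (U ⊔ R') ⊔ R = G := by rw [sup_assoc, sup_eq_right.mpr hR'R, htop]
          conv_lhs => arg 2; rw [← e]
          rw [(relIndex_sup ((sup_le hUG (hR'R.trans hRG)).trans hGR)).1]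
          exact Subgroup.relIndex_dvd_of_le_left R le_sup_right
    · -- inside `U R`
      obtain ⟨HY, hHY, hAHY, hUHY⟩ := hinv (sup_le hUG hRG) le_sup_left hUR htop
      obtain ⟨H, hH, hAH⟩ := exists_invariant (π := π) A G hAG hcop hs
      set Y := U ⊔ R
      have hYG : Y ≤ G := sup_le hUG hRG
      have hHR : H ⊔ R = G := by
        refine le_antisymm (sup_le hH.1 hRG) (Subgroup.relIndex_eq_one.mp ?_)
        by_contra hne
        obtain ⟨q, hq, hqd⟩ := Nat.exists_prime_and_dvd hne
        have h1 := Subgroup.relIndex_dvd_of_le_left G (le_sup_left : H ≤ H ⊔ R)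
        have h2 := Subgroup.relIndex_dvd_of_le_left G (le_sup_right : R ≤ H ⊔ R)
        exact hH.2.2 q hq (hRπ q hq (hqd.trans h2)) (hqd.trans h1)
      have hYd : (H ⊓ Y) ⊔ R = Y := by
        refine le_antisymm (sup_le inf_le_right le_sup_right) fun y hy => ?_
        obtain ⟨r, hr, h, hh, e⟩ := (Cfsg.Agent.Coprime.mem_sup_of_le_normalizer (N := R) (H := H) (hH.1.trans hGR)).mp
          (show y ∈ R ⊔ H by rw [sup_comm, hHR]; exact hYG hy)
        subst e
        have hhY : h ∈ Y := by simpa using mul_mem (inv_mem (show r ∈ Y from (le_sup_right : R ≤ Y) hr)) hy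
        exact Subgroup.mul_mem _ (Subgroup.mem_sup_right hr) (Subgroup.mem_sup_left ⟨hh, hhY⟩)
      have hHYh : IsPiHallOf π (H ⊓ Y) Y := by
        refine ⟨inf_le_right, fun p hp hd => hH.2.1 p hp (hd.trans (Subgroup.card_dvd_of_le inf_le_left)), fun p hp hπ hd => hH.2.2 p hp hπ ?_⟩
        have e1 := (relIndex_sup (Y := H ⊓ Y) (R := R) ((inf_le_left.trans hH.1).trans hGR)).1
        rw [hYd] at e1
        have e2 := (relIndex_sup (Y := H) (R := R) (hH.1.trans hGR)).1
        rw [hHR] at e2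
        have e3 : (H ⊓ Y).relIndex R = H.relIndex R := by
          rw [← Subgroup.inf_relIndex_right (H ⊓ Y) R, inf_assoc, inf_eq_right.mpr (le_sup_right : R ≤ Y), Subgroup.inf_relIndex_right]
        rwa [e1, e3, ← e2] at hd
      obtain ⟨c, hc, hceq⟩ := exists_conj A Y hUR (hcop.coprime_dvd_right (Subgroup.card_dvd_of_le hYG))
        (Cfsg.Agent.Coprime.isSolvable_of_le hYG hs) hHYh
        (fun a ha => Subgroup.inf_normalizer_le_normalizer_inf (Subgroup.mem_inf.mpr ⟨hAH ha, hUR ha⟩)) hHY hAHY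
      refine ⟨MulAut.conj c • H, isPiHallOf_conj hH (Subgroup.le_normalizer (hYG hc.1)), fun a ha => ?_, ?_⟩
      · rw [← Cfsg.Agent.Coprime.conj_smul_normalizer, Cfsg.Agent.Coprime.mem_conj_smul]
        have e : c⁻¹ * a * c = a := by
          rw [mul_assoc, Subgroup.mem_centralizer_iff.mp hc.2 a ha, inv_mul_cancel_left]
        rw [e]; exact hAH ha
      · refine hUHY.trans ?_
        rw [← hceq]
        exact Subgroup.pointwise_smul_le_pointwise_smul_iff.mpr inf_le_left

end Cfsg.Agent.GenA.InvariantHall
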