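import Mathlib

/-!
A finite group generated by the odd order elements inverted by an involutory automorphism has
order bounded in terms of their number.
-/

set_option autoImplicit false

open scoped commutatorElement

namespace Cfsg.Agent.GenA.InvertedBound

variable {G : Type*} [Group G]

/-- The map `g ↦ g (α g)⁻¹`. -/
def com (α : MulAut G) (g : G) : G := g * (α g)⁻¹

/-- The elements of odd order inverted by `α`. -/
def Inv (α : MulAut G) : Set G := {g | Odd (orderOf g) ∧ α g = g⁻¹}

theorem com_of_inverted (α : MulAut G) {c : G} (h : α c = c⁻¹) : com α c = c * c := by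
  simp [com, h]

theorem iterate_com (α : MulAut G) {c : G} (h : α c = c⁻¹) (j : ℕ) : (com α)^[j] c = c ^ 2 ^ j := by
  induction j with
  | zero => simp
  | succ j ih =>
    rw [Function.iterate_succ_apply', ih, com_of_inverted α (by rw [map_pow, h, inv_pow]), ← pow_two,
      ← pow_mul, pow_succ]

theorem com_inverted {α : MulAut G} (hα : ∀ x, α (α x) = x) (g : G) : α (com α g) = (com α g)⁻¹ := by
  simp [com, hα]

theorem iterate_com_mem [Finite G] {α : MulAut G} (hα : ∀ x, α (α x) = x) (g : G) :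
    (com α)^[Nat.card G] (com α g) ∈ Inv α := by
  rw [iterate_com α (com_inverted hα g)]
  refine ⟨?_, by rw [map_pow, com_inverted hα, inv_pow]⟩
  obtain ⟨e, o, ho, he⟩ := Nat.exists_eq_two_pow_mul_odd (orderOf_pos (com α g)).ne'
  refine Odd.of_dvd_nat ho (orderOf_dvd_of_pow_eq_one ?_)
  rw [← pow_mul, ← orderOf_dvd_iff_pow_eq_one, he]
  refine Nat.mul_dvd_mul_right (pow_dvd_pow 2 ?_) o
  have h1 : 2 ^ e ≤ orderOf (com α g) := he ▸ Nat.le_mul_of_pos_right _ ho.pos
  have h2 : orderOf (com α g) ≤ Nat.card G := Nat.le_of_dvd Nat.card_pos (orderOf_dvd_natCard _)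
  have h3 : e < 2 ^ e := Nat.lt_two_pow_self
  omega

theorem inv_generates [Finite G] {α : MulAut G} (hα : ∀ x, α (α x) = x)
    (h : ∀ k : ℕ, 1 ≤ k → Subgroup.closure (Set.range ((com α)^[k])) = ⊤) :
    Subgroup.closure (Inv α) = ⊤ := by
  refine eq_top_iff.mpr ((h (Nat.card G + 1) (by omega)).ge.trans ((Subgroup.closure_le _).mpr ?_))
  rintro _ ⟨g, rfl⟩
  rw [Function.iterate_succ_apply]
  exact Subgroup.subset_closure (iterate_com_mem hα g)

theorem exists_root [Finite G] {x : G} (hx : Odd (orderOf x)) (j : ℕ) :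
    ∃ t : ℕ, (x ^ t) ^ 2 ^ j = x := by
  rcases eq_or_ne (orderOf x) 1 with h | h
  · exact ⟨0, by rw [orderOf_eq_one_iff.mp h]; simp⟩
  obtain ⟨t, -, ht⟩ := Nat.exists_mul_mod_eq_one_of_coprime
    ((Nat.coprime_two_left.mpr hx).pow_left j) (by have := orderOf_pos x; omega)
  exact ⟨t, by rw [← pow_mul, ← pow_mod_orderOf, mul_comm t, ht, pow_one]⟩

/-- Inverted odd elements lift along equivariant surjections. -/
theorem ncard_inv_le [Finite G] {Q : Type*} [Group Q] [Finite Q] {α : MulAut G} (hα : ∀ x, α (α x) = x)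
    (β : MulAut Q) (π : G →* Q) (hπ : Function.Surjective π) (hβ : ∀ g, β (π g) = π (α g)) :
    (Inv β).ncard ≤ (Inv α).ncard := by
  have hsub : Inv β ⊆ π '' Inv α := by
    intro x hx
    obtain ⟨t, ht⟩ := exists_root hx.1 (Nat.card G + 1)
    obtain ⟨y, hy⟩ := hπ (x ^ t)
    refine ⟨_, iterate_com_mem hα y, ?_⟩
    have key : ∀ (j : ℕ) (w : G), π ((com α)^[j] w) = (com β)^[j] (π w) := fun j => by
      induction j with
      | zero => intro w; rfl
      | succ j ih =>
        intro w
        rw [Function.iterate_succ_apply', Function.iterate_succ_apply', ← ih]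
        simp [com, hβ]
    rw [← Function.iterate_succ_apply, key, hy, iterate_com β (by rw [map_pow, hx.2, inv_pow]), ht]
  exact (Set.ncard_le_ncard hsub (Set.toFinite _)).trans (Set.ncard_image_le (Set.toFinite _))

theorem inv_generates_of_surjective [Finite G] {Q : Type*} [Group Q] {α : MulAut G} (β : MulAut Q)
    (π : G →* Q) (hπ : Function.Surjective π) (hβ : ∀ g, β (π g) = π (α g))
    (h : Subgroup.closure (Inv α) = ⊤) : Subgroup.closure (Inv β) = ⊤ := by
  rw [eq_top_iff, ← Subgroup.map_top_of_surjective π hπ, ← h, MonoidHom.map_closure]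
  refine Subgroup.closure_mono ?_
  rintro _ ⟨x, hx, rfl⟩
  exact ⟨hx.1.of_dvd_nat (orderOf_map_dvd π x), by rw [hβ, hx.2, map_inv]⟩

/-- Classes modulo the centre of elements `v` with central `com α v` are determined by their
action on `Inv α`. -/
theorem ncard_le_of_com_central [Finite G] {α : MulAut G} (h : Subgroup.closure (Inv α) = ⊤)
    {m : ℕ} (hm : (Inv α).ncard ≤ m) (hm1 : 1 ≤ m) (P : Set (G ⧸ Subgroup.center G))
    (hP : ∀ q ∈ P, ∃ v : G, (v : G ⧸ Subgroup.center G) = q ∧ com α v ∈ Subgroup.center G) :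
    P.ncard ≤ m ^ m := by
  classical
  choose v hv hz using hP
  have hconj : ∀ q (hq : q ∈ P), ∀ x ∈ Inv α, v q hq * x * (v q hq)⁻¹ ∈ Inv α := by
    intro q hq x hx
    have hzc := Subgroup.mem_center_iff.mp (hz q hq)
    set w := v q hq
    set z := com α w with hzdef
    have hαw : α w = z⁻¹ * w := by simp [hzdef, com, mul_assoc]
    refine ⟨?_, ?_⟩
    · rw [show orderOf (w * x * w⁻¹) = orderOf x from (MulAut.conj w).orderOf_eq x]; exact hx.1
    · rw [map_mul, map_mul, map_inv, hx.2, hαw]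
      calc z⁻¹ * w * x⁻¹ * (z⁻¹ * w)⁻¹ = z⁻¹ * ((w * x⁻¹ * w⁻¹) * z) := by group
        _ = (w * x * w⁻¹)⁻¹ := by rw [hzc]; group
  let F : P → (Inv α → Inv α) := fun q x => ⟨_, hconj q.1 q.2 x.1 x.2⟩
  have hF : Function.Injective F := by
    intro q r hqr
    apply Subtype.ext
    rw [← hv q.1 q.2, ← hv r.1 r.2, QuotientGroup.eq]
    have hle : Subgroup.closure (Inv α) ≤ Subgroup.centralizer {(v q.1 q.2)⁻¹ * v r.1 r.2} := by
      refine (Subgroup.closure_le _).mpr fun x hx => Subgroup.mem_centralizer_singleton_iff.mpr ?_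
      have := congrArg Subtype.val (congrFun hqr ⟨x, hx⟩)
      simp only [F] at this
      set a := v q.1 q.2
      set b := v r.1 r.2
      calc x * (a⁻¹ * b) = a⁻¹ * (a * x * a⁻¹) * b := by group
        _ = a⁻¹ * b * x := by rw [this]; group
    rw [h] at hle
    exact Subgroup.mem_center_iff.mpr fun g =>
      Subgroup.mem_centralizer_singleton_iff.mp (hle (Subgroup.mem_top g))
  have h1 := Nat.card_le_card_of_injective F hF
  rw [Nat.card_fun, Nat.card_coe_set_eq, Nat.card_coe_set_eq] at h1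
  exact h1.trans ((Nat.pow_le_pow_left hm _).trans (Nat.pow_le_pow_right hm1 hm))

/-- A bound for the commutator subgroup in terms of the index of the centre. -/
def comBound (B : ℕ) : ℕ := (Finset.range (B * B + 1)).sup Subgroup.cardCommutatorBound

theorem card_commutator_le [Finite G] {B : ℕ} (hB : (Subgroup.center G).index ≤ B) :
    Nat.card (commutator G) ≤ comBound B := by
  refine (Subgroup.card_commutator_le_of_finite_commutatorSet G).trans (Finset.le_sup (Finset.mem_range.mpr ?_))
  let F : (G ⧸ Subgroup.center G) × (G ⧸ Subgroup.center G) → commutatorSet G := fun p =>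
    ⟨⁅p.1.out, p.2.out⁆, commutator_mem_commutatorSet _ _⟩
  have hF : Function.Surjective F := by
    rintro ⟨_, a, b, rfl⟩
    refine ⟨((a : G ⧸ Subgroup.center G), (b : G ⧸ Subgroup.center G)), Subtype.ext ?_⟩
    obtain ⟨z, hz⟩ := QuotientGroup.mk_out_eq_mul (Subgroup.center G) a
    obtain ⟨w, hw⟩ := QuotientGroup.mk_out_eq_mul (Subgroup.center G) b
    show ⁅_, _⁆ = ⁅a, b⁆
    rw [hz, hw]
    have hzc := Subgroup.mem_center_iff.mp z.2
    have hwc := Subgroup.mem_center_iff.mp w.2
    simp only [commutatorElement_def, mul_inv_rev]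
    calc a * z * (b * w) * ((z : G)⁻¹ * a⁻¹) * ((w : G)⁻¹ * b⁻¹)
        = a * (z * b) * (w * ((z : G)⁻¹ * a⁻¹)) * (w : G)⁻¹ * b⁻¹ := by group
      _ = a * (b * z) * (((z : G)⁻¹ * a⁻¹) * w) * (w : G)⁻¹ * b⁻¹ := by rw [hzc b, hwc]
      _ = a * b * a⁻¹ * b⁻¹ := by group
  have h1 := Nat.card_le_card_of_surjective F hF
  rw [Nat.card_prod, ← Subgroup.index_eq_card] at h1
  have := Nat.mul_le_mul hB hB
  omega

theorem index_commutator_le [Finite G] {α : MulAut G} (hα : ∀ x, α (α x) = x)
    (h : Subgroup.closure (Inv α) = ⊤) {m : ℕ} (hm : (Inv α).ncard ≤ m) :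
    (commutator G).index ≤ m := by
  classical
  set π := Abelianization.of (G := G)
  have hker : ∀ a b : G, π (a * b) = π a * π b := map_mul π
  have hinv : ∀ g, π (α g) = (π g)⁻¹ := by
    intro g
    have hg : g ∈ Subgroup.closure (Inv α) := h ▸ Subgroup.mem_top g
    induction hg using Subgroup.closure_induction with
    | mem x hx => rw [hx.2, map_inv]
    | one => simp
    | mul a b _ _ ha hb => rw [map_mul, hker, hker, ha, hb, ← mul_inv]
    | inv a _ ha => rw [map_inv, map_inv, map_inv, ha]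
  have hodd : ∀ g, Odd (orderOf (π g)) := by
    intro g
    have hg : g ∈ Subgroup.closure (Inv α) := h ▸ Subgroup.mem_top g
    induction hg using Subgroup.closure_induction with
    | mem x hx => exact hx.1.of_dvd_nat (orderOf_map_dvd π x)
    | one => simp
    | mul a b _ _ ha hb =>
      rw [hker]
      exact (ha.mul hb).of_dvd_nat (orderOf_dvd_of_pow_eq_one (by
        rw [mul_pow, pow_mul, pow_orderOf_eq_one, one_pow, mul_comm (orderOf (π a)), pow_mul,
          pow_orderOf_eq_one, one_pow, one_mul]))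
    | inv a _ ha => rw [map_inv, orderOf_inv]; exact ha
  have hcom : ∀ (j : ℕ) (w : G), π ((com α)^[j] w) = π w ^ 2 ^ j := fun j => by
    induction j with
    | zero => intro w; simp
    | succ j ih =>
      intro w
      rw [Function.iterate_succ_apply', com, hker, map_inv, hinv, inv_inv, ih, pow_succ, pow_mul, pow_two]
  have hsurj : Function.Surjective (fun x : Inv α => π x.1) := by
    intro q
    obtain ⟨g, rfl⟩ := QuotientGroup.mk_surjective q
    obtain ⟨t, ht⟩ := exists_root (hodd g) (Nat.card G + 1)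
    refine ⟨⟨_, iterate_com_mem hα (g ^ t)⟩, ?_⟩
    show π ((com α)^[Nat.card G] (com α (g ^ t))) = π g
    rw [← Function.iterate_succ_apply, hcom, map_pow, ht]
  have h1 := Nat.card_le_card_of_surjective _ hsurj
  rw [Nat.card_coe_set_eq] at h1
  rw [Subgroup.index_eq_card]
  exact h1.trans hm

/-- The index of the centralizer of an element. -/
noncomputable def idx (g : G) : ℕ := (Subgroup.centralizer ({g} : Set G)).index

theorem idx_mul (a b : G) : idx (a * b) ≤ idx a * idx b ∨ idx a = 0 ∨ idx b = 0 := by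
  by_cases ha : idx a = 0
  · exact Or.inr (Or.inl ha)
  by_cases hb : idx b = 0
  · exact Or.inr (Or.inr hb)
  left
  haveI : (Subgroup.centralizer ({a} : Set G)).FiniteIndex := ⟨ha⟩
  haveI : (Subgroup.centralizer ({b} : Set G)).FiniteIndex := ⟨hb⟩
  refine le_trans ?_ Subgroup.index_inf_le
  refine Subgroup.index_antitone (fun x hx => Subgroup.mem_centralizer_singleton_iff.mpr ?_)
  have h1 := Subgroup.mem_centralizer_singleton_iff.mp hx.1
  have h2 := Subgroup.mem_centralizer_singleton_iff.mp hx.2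
  rw [← mul_assoc, h1, mul_assoc, h2, mul_assoc]

theorem idx_pos [Finite G] (g : G) : 0 < idx g := Nat.pos_of_ne_zero Subgroup.index_ne_zero_of_finite

theorem idx_mul_le [Finite G] (a b : G) : idx (a * b) ≤ idx a * idx b :=
  (idx_mul a b).resolve_right (by have := idx_pos a; have := idx_pos b; omega)

theorem idx_inv (a : G) : idx a⁻¹ = idx a := by
  unfold idx
  congr 1
  ext x
  simp only [Subgroup.mem_centralizer_singleton_iff]
  exact ⟨fun h => by simpa using (show Commute x a⁻¹ from h).inv_right.eq, fun h => ((show Commute x a from h).inv_right).eq⟩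

theorem idx_one : idx (1 : G) = 1 := by
  unfold idx
  rw [Subgroup.index_eq_one, eq_top_iff]
  intro x _
  simp [Subgroup.mem_centralizer_singleton_iff]

/-- The elements of a subgroup generated by a large set of elements with small classes have
boundedly small classes. -/
theorem idx_le_of_mem_closure [Finite G] (X : Finset G) (K : ℕ) (hX : ∀ x ∈ X, idx x ≤ K)
    (hbig : Nat.card G ≤ K * X.card) {h : G} (hh : h ∈ Subgroup.closure (X : Set G)) :
    idx h ≤ K ^ (3 * K + 3) := by
  classical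
  haveI := Fintype.ofFinite G
  have hK : 0 < K := by
    rcases Nat.eq_zero_or_pos K with rfl | h
    · have := Nat.card_pos (α := G); omega
    · exact h
  let good : Finset (Finset G) := Finset.univ.powerset.filter fun T =>
    (∀ t ∈ T, idx t ≤ K ^ (3 * T.card)) ∧ ∀ t ∈ T, ∀ t' ∈ T, ∀ a ∈ X, ∀ b ∈ X, t * a = t' * b → t = t'
  obtain ⟨T, hT, hTmax⟩ := good.exists_max_image Finset.card ⟨∅, by simp [good]⟩
  simp only [good, Finset.mem_filter, Finset.mem_powerset, Finset.subset_univ, true_and] at hT hTmax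
  have hTK : T.card ≤ K := by
    have hinj : Set.InjOn (fun p : G × G => p.1 * p.2) (T ×ˢ X : Finset (G × G)) := by
      rintro ⟨t, a⟩ hp ⟨t', b⟩ hq he
      simp only [Finset.coe_product, Set.mem_prod, Finset.mem_coe] at hp hq
      have := hT.2 t hp.1 t' hq.1 a hp.2 b hq.2 he
      subst this
      exact Prod.ext rfl (mul_left_cancel he)
    have h1 := Finset.card_le_card_of_injOn _ (t := Finset.univ) (fun p _ => Finset.mem_univ _) hinj
    rw [Finset.card_product, Finset.card_univ, ← Nat.card_eq_fintype_card] at h1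
    have h2 : 0 < X.card := by
      rcases Nat.eq_zero_or_pos X.card with h | h
      · rw [h, mul_zero] at hbig; have := Nat.card_pos (α := G); omega
      · exact h
    exact Nat.le_of_mul_le_mul_right (h1.trans hbig) h2
  have key : ∀ y : G, idx y ≤ K ^ (3 * (T.card + 1)) → ∃ t ∈ T, ∃ a ∈ X, ∃ b ∈ X, y * b = t * a := by
    intro y hy
    by_contra hno
    push Not at hno
    have hyT : y ∉ T := fun hy' => by
      obtain ⟨x, hx⟩ : X.Nonempty := Finset.card_pos.mp (by
        rcases Nat.eq_zero_or_pos X.card with h | h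
        · rw [h, mul_zero] at hbig; have := Nat.card_pos (α := G); omega
        · exact h)
      exact hno y hy' x hx x hx rfl
    have hc : (insert y T).card = T.card + 1 := Finset.card_insert_of_notMem hyT
    have := hTmax (insert y T) ⟨?_, ?_⟩
    · omega
    · intro t ht
      rw [hc]
      rcases Finset.mem_insert.mp ht with rfl | ht
      · exact hy
      · exact (hT.1 t ht).trans (Nat.pow_le_pow_right hK (by omega))
    · intro t ht t' ht' a ha b hb he
      rcases Finset.mem_insert.mp ht with h1 | h1 <;> rcases Finset.mem_insert.mp ht' with h2 | h2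
      · exact h1.trans h2.symm
      · exact absurd he (h1 ▸ hno t' h2 b hb a ha)
      · exact absurd he.symm (h2 ▸ hno t h1 a ha b hb)
      · exact hT.2 t h1 t' h2 a ha b hb he
  have step : ∀ x y : G, idx x ≤ K → (∃ t ∈ T, ∃ a ∈ X, ∃ b ∈ X, y * b = t * a) →
      idx (x * y) ≤ K ^ (3 * (T.card + 1)) := by
    rintro x y hx ⟨t, ht, a, ha, b, hb, he⟩
    rw [eq_mul_inv_of_mul_eq he]
    calc idx (x * (t * a * b⁻¹)) ≤ idx x * (idx t * idx a * idx b⁻¹) :=
          (idx_mul_le _ _).trans (Nat.mul_le_mul_left _ ((idx_mul_le _ _).trans (Nat.mul_le_mul_right _ (idx_mul_le _ _))))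
      _ ≤ K * (K ^ (3 * T.card) * K * K) := by
          rw [idx_inv]
          exact Nat.mul_le_mul hx (Nat.mul_le_mul (Nat.mul_le_mul (hT.1 t ht) (hX a ha)) (hX b hb))
      _ = K ^ (3 * (T.card + 1)) := by ring
  have hcov : ∃ t ∈ T, ∃ a ∈ X, ∃ b ∈ X, h * b = t * a := by
    induction hh using Subgroup.closure_induction_left with
    | one => exact key 1 (by rw [idx_one]; exact Nat.one_le_pow _ _ hK)
    | mul_left x hx y _ ih => exact key _ (step x y (hX x (Finset.mem_coe.mp hx)) ih)
    | inv_mul_cancel x hx y _ ih => exact key _ (step x⁻¹ y (by rw [idx_inv]; exact hX x (Finset.mem_coe.mp hx)) ih)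
  have := step 1 h (by rw [idx_one]; exact hK) hcov
  rw [one_mul] at this
  exact this.trans (Nat.pow_le_pow_right hK (by omega))

/-- The bound for the index of the centre. -/
def centreBound (m c : ℕ) : ℕ :=
  let K := 2 * (c * c)
  ((K * (K ^ (3 * K + 3)) ^ (K * m)).factorial ^ 2) * (c ^ m * m ^ m)

theorem index_center_le [Finite G] {α : MulAut G} (hα : ∀ x, α (α x) = x)
    (h : Subgroup.closure (Inv α) = ⊤) {m c : ℕ} (hm : (Inv α).ncard ≤ m)
    (hc : {g : G | α g = g}.ncard ≤ c) : (Subgroup.center G).index ≤ centreBound m c := by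
  classical
  haveI := Fintype.ofFinite G
  have hm1 : 1 ≤ m := le_trans (Nat.one_le_iff_ne_zero.mpr
    (Set.ncard_ne_zero_of_mem (show (1 : G) ∈ Inv α from ⟨by simp, by simp⟩) (Set.toFinite _))) hm
  have hc1 : 1 ≤ c := le_trans (Nat.one_le_iff_ne_zero.mpr
    (Set.ncard_ne_zero_of_mem (show (1 : G) ∈ {g : G | α g = g} from map_one α) (Set.toFinite _))) hc
  set K := 2 * (c * c) with hKdef
  -- the inverted values
  set S : Finset G := Finset.univ.image (com α)
  have hS : Nat.card G ≤ c * S.card := by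
    rw [Nat.card_eq_fintype_card, ← Finset.card_univ]
    refine Finset.card_le_mul_card_image _ c fun s hs => ?_
    obtain ⟨g₀, -, rfl⟩ := Finset.mem_image.mp hs
    refine le_trans ?_ hc
    rw [Set.ncard_eq_toFinset_card']
    refine Finset.card_le_card_of_injOn (fun g => g₀⁻¹ * g) (fun g hg => ?_) (fun a _ b _ he => mul_left_cancel he)
    simp only [Finset.coe_filter, Finset.mem_univ, true_and, Set.mem_setOf_eq] at hg
    simp only [com] at hg
    simp only [Set.coe_toFinset, Set.mem_setOf_eq, map_mul, map_inv]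
    have : α g = α g₀ * g₀⁻¹ * g := by
      have := congrArg (fun z => z⁻¹ * g) hg
      simpa [mul_assoc] using this
    rw [this]; group
  set C : G → ℕ := fun g => Nat.card ↥(Subgroup.centralizer ({g} : Set G))
  have hsum : S.card * S.card ≤ ∑ g : G, C g := by
    rw [← Finset.card_product, Finset.card_eq_sum_card_fiberwise (f := fun p : G × G => p.1 * p.2)
      (t := Finset.univ) (fun p _ => Finset.mem_univ _)]
    refine Finset.sum_le_sum fun g _ => ?_
    rcases Finset.eq_empty_or_nonempty ((S ×ˢ S).filter fun p => p.1 * p.2 = g) with he | ⟨⟨s₀, t₀⟩, h₀⟩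
    · rw [he]; simp
    have conjg : ∀ p ∈ (S ×ˢ S).filter (fun p => p.1 * p.2 = g), α g = p.1⁻¹ * g⁻¹ * p.1 := by
      rintro ⟨s, t⟩ hp
      simp only [Finset.mem_filter, Finset.mem_product, S, Finset.mem_image, Finset.mem_univ, true_and] at hp
      obtain ⟨⟨⟨a, rfl⟩, ⟨b, rfl⟩⟩, he⟩ := hp
      rw [← he, map_mul, com_inverted hα, com_inverted hα]
      group
    show _ ≤ Nat.card ↥(Subgroup.centralizer ({g} : Set G))
    rw [← SetLike.coe_sort_coe, Nat.card_coe_set_eq, Set.ncard_eq_toFinset_card']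
    refine Finset.card_le_card_of_injOn (fun p => p.1 * s₀⁻¹) (fun p hp => ?_) ?_
    · simp only [Set.coe_toFinset, SetLike.mem_coe, Subgroup.mem_centralizer_singleton_iff]
      have e : Commute (p.1 * s₀⁻¹) g⁻¹ := by
        show p.1 * s₀⁻¹ * g⁻¹ = g⁻¹ * (p.1 * s₀⁻¹)
        calc p.1 * s₀⁻¹ * g⁻¹ = p.1 * (s₀⁻¹ * g⁻¹ * s₀) * s₀⁻¹ := by group
          _ = p.1 * (p.1⁻¹ * g⁻¹ * p.1) * s₀⁻¹ := by rw [← conjg _ h₀, ← conjg p (Finset.mem_coe.mp hp)]
          _ = _ := by group
      simpa using e.inv_right.eq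
    · rintro ⟨s, t⟩ hp ⟨s', t'⟩ hq he
      simp only [Finset.coe_filter, Set.mem_setOf_eq] at hp hq
      have hs : s = s' := mul_right_cancel he
      subst hs
      exact Prod.ext rfl (mul_left_cancel (hp.2.trans hq.2.symm))
  set X : Finset G := Finset.univ.filter fun g => Nat.card G ≤ K * C g with hXdef
  have hX : Nat.card G ≤ K * X.card := by
    set N := Nat.card G
    have h1 : N * N ≤ c * c * ∑ g : G, C g :=
      (Nat.mul_le_mul hS hS).trans (by rw [show c * S.card * (c * S.card) = c * c * (S.card * S.card) by ring]; exact Nat.mul_le_mul_left _ hsum)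
    have h2 : K * ∑ g : G, C g ≤ K * X.card * N + N * N := by
      rw [← Finset.sum_filter_add_sum_filter_not Finset.univ (fun g => N ≤ K * C g), mul_add, Finset.mul_sum, Finset.mul_sum]
      refine Nat.add_le_add ?_ ?_
      · refine (Finset.sum_le_card_nsmul _ _ (K * N) fun g _ => Nat.mul_le_mul_left _ (Subgroup.card_le_card_group _)).trans (le_of_eq ?_)
        simp only [smul_eq_mul, ← hXdef]; ring
      · refine (Finset.sum_le_card_nsmul _ _ N fun g hg => ?_).trans (Nat.mul_le_mul_right _ ?_)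
        · simp only [Finset.mem_filter, Finset.mem_univ, true_and, not_le] at hg; exact hg.le
        · exact (Finset.card_le_univ _).trans (Nat.card_eq_fintype_card).ge
    have h3 : N * N ≤ K * X.card * N := by
      rw [hKdef] at h2 ⊢
      nlinarith
    exact Nat.le_of_mul_le_mul_right h3 Nat.card_pos
  have hidx : ∀ x ∈ X, idx x ≤ K := by
    intro x hx
    simp only [X, Finset.mem_filter, Finset.mem_univ, true_and] at hx
    have h1 := (Subgroup.centralizer ({x} : Set G)).card_mul_index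
    refine Nat.le_of_mul_le_mul_left ?_ (Nat.card_pos (α := ↥(Subgroup.centralizer ({x} : Set G))))
    rw [idx, h1, mul_comm]
    exact hx
  set Hs := Subgroup.closure (X : Set G) with hHs
  have hHsidx : Hs.index ≤ K := by
    have h1 : X.card ≤ Nat.card Hs := by
      rw [← Set.ncard_coe_finset, ← Nat.card_coe_set_eq]
      exact Nat.card_le_card_of_injective (Set.inclusion Subgroup.subset_closure) (Set.inclusion_injective _)
    refine Nat.le_of_mul_le_mul_left ?_ (Nat.card_pos (α := ↥Hs))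
    rw [Hs.card_mul_index, mul_comm]
    exact hX.trans (Nat.mul_le_mul_left _ h1)
  set B := K ^ (3 * K + 3)
  have hB1 : 1 ≤ B := Nat.one_le_pow _ _ (by rw [hKdef]; positivity)
  obtain ⟨T, hTcard, hT⟩ := Subgroup.exists_finset_card_le_mul Hs (S := (Inv α).toFinset) (by rw [Set.coe_toFinset]; exact h)
  set A := Hs ⊓ ⨅ t : T, Subgroup.centralizer ({((t : Hs) : G)} : Set G) with hA
  have hAidx : A.index ≤ K * B ^ (K * m) := by
    refine Subgroup.index_inf_le.trans (Nat.mul_le_mul hHsidx ((Subgroup.index_iInf_le _).trans ?_))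
    refine (Finset.prod_le_pow_card _ _ B fun t _ => ?_).trans ?_
    · exact idx_le_of_mem_closure X K hidx hX (SetLike.coe_mem _)
    · refine Nat.pow_le_pow_right hB1 ?_
      rw [Finset.card_univ, Fintype.card_coe]
      refine hTcard.trans (Nat.mul_le_mul hHsidx ?_)
      rwa [← Set.ncard_eq_toFinset_card']
  have hAcomm : ∀ a ∈ A, ∀ b ∈ Hs, a * b = b * a := by
    intro a ha b hb
    have hb' : (⟨b, hb⟩ : Hs) ∈ Subgroup.closure (T : Set Hs) := hT ▸ Subgroup.mem_top _
    have hle : Subgroup.closure (T : Set Hs) ≤ (Subgroup.centralizer ({a} : Set G)).comap Hs.subtype := by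
      refine (Subgroup.closure_le _).mpr fun t ht => ?_
      rw [SetLike.mem_coe, Subgroup.mem_comap, Subgroup.mem_centralizer_singleton_iff]
      exact (Subgroup.mem_centralizer_singleton_iff.mp (Subgroup.mem_iInf.mp ha.2 ⟨t, ht⟩)).symm
    exact (Subgroup.mem_centralizer_singleton_iff.mp (hle hb')).symm
  set A₀ := A.normalCore
  have hA₀idx : A₀.index ≤ (K * B ^ (K * m)).factorial := by
    refine le_trans (Nat.le_of_dvd (Nat.factorial_pos _) ?_) (Nat.factorial_le hAidx)
    show A.normalCore.index ∣ _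
    rw [Subgroup.normalCore_eq_ker, Subgroup.index_ker, Subgroup.index_eq_card, ← Nat.card_perm]
    exact Subgroup.card_subgroup_dvd_card _
  set A₁ := A₀ ⊓ A₀.comap (α : G →* G) with hA₁
  have hA₁idx : A₁.index ≤ (K * B ^ (K * m)).factorial ^ 2 := by
    rw [sq]
    refine Subgroup.index_inf_le.trans (Nat.mul_le_mul hA₀idx ?_)
    rw [Subgroup.index_comap_of_surjective _ (f := (α : G →* G)) α.surjective]
    exact hA₀idx
  have hA₁α : ∀ a ∈ A₁, α a ∈ A₁ := fun a ha => ⟨ha.2, by
    show α (α a) ∈ A₀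
    rw [hα]; exact ha.1⟩
  have hA₁n : A₁.Normal := by
    rw [hA₁]
    haveI : (A₀.comap (α : G →* G)).Normal := Subgroup.Normal.comap inferInstance _
    infer_instance
  have hA₁c : ∀ a ∈ A₁, ∀ b ∈ A₁, a * b = b * a := fun a ha b hb =>
    hAcomm a (A.normalCore_le ha.1) b (A.normalCore_le hb.1).1
  -- the classes of `A₁` modulo the centre
  let P : Set (G ⧸ Subgroup.center G) := (↑) '' (A₁ : Set G)
  let P₀ : Set (G ⧸ Subgroup.center G) := (↑) '' {a | a ∈ A₁ ∧ com α a ∈ Subgroup.center G}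
  have hP₀ : P₀.ncard ≤ m ^ m := ncard_le_of_com_central h hm hm1 P₀ (by
    rintro _ ⟨a, ha, rfl⟩; exact ⟨a, rfl, ha.2⟩)
  have hfix : ∀ a ∈ A₁, ∀ x ∈ Inv α,
      (x * com α a * x⁻¹) * (x⁻¹ * com α a * x)⁻¹ ∈ {g : G | α g = g} := by
    intro a ha x hx
    have hw : com α a ∈ A₁ := mul_mem ha (inv_mem (hA₁α a ha))
    set w := com α a with hwdef
    have h1 : α w = w⁻¹ := com_inverted hα a
    have h2 : x * w * x⁻¹ ∈ A₁ := hA₁n.conj_mem _ hw x
    have h3 : x⁻¹ * w * x ∈ A₁ := by simpa using hA₁n.conj_mem _ hw x⁻¹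
    show α _ = _
    rw [map_mul, map_mul, map_mul, map_inv, map_inv, map_mul, map_mul, map_inv, hx.2, h1]
    rw [hA₁c _ h2 _ (inv_mem h3)]
    group
  let Ψ : A₁ → (Inv α → {g : G | α g = g}) := fun a x => ⟨_, hfix a.1 a.2 x.1 x.2⟩
  have hΨ : ∀ a b : A₁, Ψ a = Ψ b → com α ((a : G) * (b : G)⁻¹) ∈ Subgroup.center G := by
    intro a b hab
    have hwa : com α (a : G) ∈ A₁ := mul_mem a.2 (inv_mem (hA₁α _ a.2))
    have hwb : com α (b : G) ∈ A₁ := mul_mem b.2 (inv_mem (hA₁α _ b.2))
    have hw : com α ((a : G) * (b : G)⁻¹) = com α (a : G) * (com α (b : G))⁻¹ := by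
      have hαa := hA₁α _ a.2
      have hαb := hA₁α _ b.2
      simp only [com, map_mul, map_inv, mul_inv_rev, inv_inv]
      calc (a : G) * (b : G)⁻¹ * (α (b : G) * (α (a : G))⁻¹)
          = (a : G) * (((b : G)⁻¹ * α (b : G)) * (α (a : G))⁻¹) := by group
        _ = (a : G) * ((α (a : G))⁻¹ * ((b : G)⁻¹ * α (b : G))) := by
            rw [hA₁c _ (mul_mem (inv_mem b.2) hαb) _ (inv_mem hαa)]
        _ = _ := by rw [hA₁c _ (inv_mem b.2) _ hαb]; group
    set w := com α ((a : G) * (b : G)⁻¹) with hwdef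
    have hwA : w ∈ A₁ := hw ▸ mul_mem hwa (inv_mem hwb)
    have hle : Subgroup.closure (Inv α) ≤ Subgroup.centralizer {w} := by
      refine (Subgroup.closure_le _).mpr fun x hx => Subgroup.mem_centralizer_singleton_iff.mpr ?_
      have e := congrArg Subtype.val (congrFun hab ⟨x, hx⟩)
      simp only [Ψ] at e
      set u := com α (a : G)
      set v := com α (b : G)
      have hx2 : x * w * x⁻¹ = x⁻¹ * w * x := by
        have c1 : (x * u * x⁻¹) * (x⁻¹ * v * x) = (x⁻¹ * u * x) * (x * v * x⁻¹) := by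
          have hxu : x * u * x⁻¹ ∈ A₁ := hA₁n.conj_mem _ hwa x
          have hxv : x * v * x⁻¹ ∈ A₁ := hA₁n.conj_mem _ hwb x
          have hux : x⁻¹ * u * x ∈ A₁ := by simpa using hA₁n.conj_mem _ hwa x⁻¹
          have hvx : x⁻¹ * v * x ∈ A₁ := by simpa using hA₁n.conj_mem _ hwb x⁻¹
          calc (x * u * x⁻¹) * (x⁻¹ * v * x)
              = (x * u * x⁻¹) * (x⁻¹ * u * x)⁻¹ * ((x⁻¹ * u * x) * (x⁻¹ * v * x)) := by group
            _ = (x * v * x⁻¹) * (x⁻¹ * v * x)⁻¹ * ((x⁻¹ * v * x) * (x⁻¹ * u * x)) := by rw [e, hA₁c _ hux _ hvx]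
            _ = (x * v * x⁻¹) * (x⁻¹ * u * x) := by group
            _ = _ := hA₁c _ hxv _ hux
        rw [hw]
        calc x * (u * v⁻¹) * x⁻¹
            = (x * u * x⁻¹) * (x⁻¹ * v * x) * (x⁻¹ * v * x)⁻¹ * (x * v * x⁻¹)⁻¹ := by group
          _ = (x⁻¹ * u * x) * ((x * v * x⁻¹) * (x⁻¹ * v * x)⁻¹) * (x * v * x⁻¹)⁻¹ := by rw [c1]; group
          _ = (x⁻¹ * u * x) * ((x⁻¹ * v * x)⁻¹ * (x * v * x⁻¹)) * (x * v * x⁻¹)⁻¹ := by
              rw [hA₁c _ (hA₁n.conj_mem _ hwb x) _ (inv_mem (by simpa using hA₁n.conj_mem _ hwb x⁻¹))]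
          _ = x⁻¹ * (u * v⁻¹) * x := by group
      have hc2 : Commute (x ^ 2) w := by
        show x ^ 2 * w = w * x ^ 2
        calc x ^ 2 * w = x * (x * w * x⁻¹) * x := by rw [pow_two]; group
          _ = x * (x⁻¹ * w * x) * x := by rw [hx2]
          _ = _ := by rw [pow_two]; group
      obtain ⟨k, hk⟩ := hx.1
      have : Commute ((x ^ 2) ^ (k + 1)) w := hc2.pow_left _
      rw [← pow_mul, show 2 * (k + 1) = orderOf x + 1 by omega, pow_succ, pow_orderOf_eq_one, one_mul] at this
      exact this.eq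
    rw [h] at hle
    exact Subgroup.mem_center_iff.mpr fun g => Subgroup.mem_centralizer_singleton_iff.mp (hle (Subgroup.mem_top g))
  have hP : P.ncard ≤ c ^ m * m ^ m := by
    have hrep : ∀ q : P, ∃ a : A₁, ((a : G) : G ⧸ Subgroup.center G) = q := by
      rintro ⟨_, a, ha, rfl⟩; exact ⟨⟨a, ha⟩, rfl⟩
    choose rep hrep using hrep
    let b : (Inv α → {g : G | α g = g}) → A₁ := fun ψ => if hψ : ∃ a, Ψ a = ψ then hψ.choose else 1
    have hb : ∀ a, Ψ (b (Ψ a)) = Ψ a := fun a => by
      simp only [b, dif_pos (⟨a, rfl⟩ : ∃ a', Ψ a' = Ψ a)]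
      exact (⟨a, rfl⟩ : ∃ a', Ψ a' = Ψ a).choose_spec
    let F : P → (Inv α → {g : G | α g = g}) × P₀ := fun q =>
      (Ψ (rep q), ⟨(((rep q : G) * (b (Ψ (rep q)) : G)⁻¹ : G) : G ⧸ Subgroup.center G),
        _, ⟨mul_mem (rep q).2 (inv_mem (b _).2), hΨ _ _ (hb (rep q)).symm⟩, rfl⟩)
    have hF : Function.Injective F := by
      intro q r he
      obtain ⟨h1, h2⟩ := Prod.mk.injEq _ _ _ _ ▸ he
      have h3 := congrArg Subtype.val h2
      simp only [h1] at h3
      rw [QuotientGroup.mk_mul, QuotientGroup.mk_mul, mul_left_inj, hrep, hrep] at h3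
      exact Subtype.ext h3
    have h1 := Nat.card_le_card_of_injective F hF
    rw [Nat.card_prod, Nat.card_fun, Nat.card_coe_set_eq, Nat.card_coe_set_eq, Nat.card_coe_set_eq, Nat.card_coe_set_eq] at h1
    exact h1.trans (Nat.mul_le_mul ((Nat.pow_le_pow_left hc _).trans (Nat.pow_le_pow_right hc1 hm)) hP₀)
  let F : (G ⧸ Subgroup.center G) → (G ⧸ A₁) × P := fun q =>
    ((q.out : G ⧸ A₁), ⟨((((q.out : G ⧸ A₁)).out⁻¹ * q.out : G) : G ⧸ Subgroup.center G), _, by
      rw [SetLike.mem_coe, ← QuotientGroup.eq, QuotientGroup.out_eq'], rfl⟩)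
  have hF : Function.Injective F := by
    intro q r he
    have h1 := congrArg Prod.fst he
    have h2 := congrArg (fun p => (p.2 : G ⧸ Subgroup.center G)) he
    simp only [F] at h1 h2
    rw [QuotientGroup.mk_mul, QuotientGroup.mk_mul, h1, mul_right_inj, QuotientGroup.out_eq', QuotientGroup.out_eq'] at h2
    exact h2
  have h1 := Nat.card_le_card_of_injective F hF
  rw [Nat.card_prod, Nat.card_coe_set_eq, ← Subgroup.index_eq_card, ← Subgroup.index_eq_card] at h1
  exact h1.trans (Nat.mul_le_mul hA₁idx hP)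

/-- The order bound. -/
def orderBound (m : ℕ) : ℕ := m * comBound (m * comBound (centreBound m (m ^ m)))

theorem card_le [Finite G] {α : MulAut G} (hα : ∀ x, α (α x) = x)
    (h : Subgroup.closure (Inv α) = ⊤) : Nat.card G ≤ orderBound (Inv α).ncard := by
  set m := (Inv α).ncard with hm
  have hm1 : 1 ≤ m := Nat.one_le_iff_ne_zero.mpr
    (Set.ncard_ne_zero_of_mem (show (1 : G) ∈ Inv α from ⟨by simp, by simp⟩) (Set.toFinite _))
  have hαZ : ∀ x ∈ Subgroup.center G, α x ∈ Subgroup.center G := fun x hx =>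
    Subgroup.mem_center_iff.mpr fun g => by
      rw [← hα g, ← map_mul, ← map_mul, Subgroup.mem_center_iff.mp hx]
  have hmap : (Subgroup.center G).map (α : G →* G) = Subgroup.center G := by
    refine le_antisymm (by rintro _ ⟨x, hx, rfl⟩; exact hαZ x hx) fun x hx => ⟨α x, hαZ x hx, hα x⟩
  let β : MulAut (G ⧸ Subgroup.center G) := QuotientGroup.congr _ _ α hmap
  let π := QuotientGroup.mk' (Subgroup.center G)
  have hπ : Function.Surjective π := QuotientGroup.mk'_surjective _
  have hβ : ∀ g, β (π g) = π (α g) := fun g => rfl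
  have hβ2 : ∀ q, β (β q) = q := fun q => by
    obtain ⟨g, rfl⟩ := hπ q
    rw [hβ, hβ, hα]
  have hm' := ncard_inv_le hα β π hπ hβ
  have h' := inv_generates_of_surjective β π hπ hβ h
  have hc : {q | β q = q}.ncard ≤ m ^ m := ncard_le_of_com_central h le_rfl hm1 _ (by
    intro q hq
    obtain ⟨g, rfl⟩ := hπ q
    refine ⟨g, rfl, (QuotientGroup.eq_one_iff _).mp ?_⟩
    show π (com α g) = 1
    rw [com, map_mul, map_inv, ← hβ, hq, mul_inv_cancel])
  have hQ : (Subgroup.center G).index ≤ m * comBound (centreBound m (m ^ m)) := by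
    rw [Subgroup.index_eq_card, ← (commutator (G ⧸ Subgroup.center G)).card_mul_index, mul_comm]
    exact Nat.mul_le_mul (index_commutator_le hβ2 h' hm')
      (card_commutator_le (index_center_le hβ2 h' hm' hc))
  rw [← (commutator G).card_mul_index, mul_comm]
  exact Nat.mul_le_mul (index_commutator_le hα h le_rfl) (card_commutator_le hQ)

end Cfsg.Agent.GenA.InvertedBound
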