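import Mathlib
import Cfsg.Prelude.Def_LocalStructure
import Cfsg.Agent.S4700
import Cfsg.Agent.Lib.Coprime.Sylow
import Cfsg.Agent.Lib.Coprime.PGroup
import Cfsg.Agent.Lib.Classical.GL2
import Cfsg.Agent.Lib.Classical.SmallIso

/-!
The least order of a finite group with non-normal Sylow `p`-subgroups.
-/

set_option autoImplicit false

namespace Cfsg.Agent.GenA.LeastNonClosed

open Cfsg Subgroup

universe u

variable {H : Type u} [Group H] [Finite H] {p : ℕ} [hp : Fact p.Prime]

theorem exists_not_normal (h : ¬ IsPClosed p H) : ∃ P : Sylow p H, ¬ (P : Subgroup H).Normal :=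
  not_forall.mp h

/-- A reduction: some prime power `≡ 1 (mod p)` times `p`, or all normal subgroups are trivial. -/
theorem normal_case (hnc : ¬ IsPClosed p H) (hsub : ∀ K : Subgroup H, K ≠ ⊤ → IsPClosed p ↥K)
    (hquo : ∀ (N : Subgroup H) [N.Normal], N ≠ ⊥ → IsPClosed p (H ⧸ N))
    {N : Subgroup H} [N.Normal] (hN0 : N ≠ ⊥) (hN1 : N ≠ ⊤) :
    ∃ k : ℕ, IsPrimePow k ∧ k % p = 1 ∧ p * k ≤ Nat.card H := by
  obtain ⟨P, hP⟩ := exists_not_normal hnc
  have key : ∀ M : Subgroup H, (P : Subgroup H) ≤ M → M.Normal → M = ⊤ := by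
    intro M hPM hM
    by_contra hMt
    haveI := hM
    haveI := hsub M hMt (P.subtype hPM)
    haveI := (P.subtype hPM).characteristic_of_normal inferInstance
    refine hP ?_
    have := (inferInstance : (((P.subtype hPM : Sylow p M) : Subgroup M).map M.subtype).Normal)
    rwa [Sylow.coe_subtype, subgroupOf_map_subtype, inf_of_le_left hPM] at this
  have hPN : (P : Subgroup H) ⊔ N = ⊤ := by
    refine key _ le_sup_left ?_
    haveI := hquo N hN0 (P.mapSurjective (QuotientGroup.mk'_surjective N))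
    rw [← QuotientGroup.ker_mk' N, ← comap_map_eq]
    rw [Sylow.coe_mapSurjective] at this
    exact this.comap _
  have hpN : ¬ p ∣ Nat.card N := by
    intro hd
    obtain ⟨R⟩ : Nonempty (Sylow p N) := inferInstance
    haveI := hsub N hN1 R
    haveI := R.characteristic_of_normal inferInstance
    set R' := (R : Subgroup N).map N.subtype with hR
    haveI hR'n : R'.Normal := by rw [hR]; infer_instance
    have hR0 : R' ≠ ⊥ := by
      rw [hR, Ne, map_eq_bot_iff_of_injective _ N.subtype_injective]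
      exact R.ne_bot_of_dvd_card hd
    haveI := hquo R' hR0 (P.mapSurjective (QuotientGroup.mk'_surjective R'))
    rw [Sylow.coe_mapSurjective] at this
    refine hP ?_
    have h1 := this.comap (QuotientGroup.mk' R')
    rwa [comap_map_eq, QuotientGroup.ker_mk',
      sup_eq_left.mpr ((R.isPGroup'.map N.subtype).le_sylow_of_normal P)] at h1
  have hp' : p.Prime := hp.out
  obtain ⟨a, ha⟩ := P.isPGroup'.exists_card_eq
  have hcop : (Nat.card (P : Subgroup H)).Coprime (Nat.card N) := by
    rw [ha]; exact (hp'.coprime_iff_not_dvd.mpr hpN).pow_left a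
  have hPnorm : (P : Subgroup H) ≤ normalizer (N : Set H) := by
    rw [normalizer_eq_top_iff.mpr inferInstance]; exact le_top
  haveI : Group.IsNilpotent (P : Subgroup H) := P.isPGroup'.isNilpotent
  -- some invariant Sylow subgroup of `N` is not centralized
  obtain ⟨q, hq, Q, hQN, hQq, hPQ, hQc⟩ : ∃ (q : ℕ) (_ : q.Prime) (Q : Subgroup H), Q ≤ N ∧ IsPGroup q Q ∧
      (P : Subgroup H) ≤ normalizer (Q : Set H) ∧ ¬ Q ≤ centralizer ((P : Subgroup H) : Set H) := by
    by_contra hcon
    push_neg at hcon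
    refine hP ?_
    have hNc : N ≤ centralizer ((P : Subgroup H) : Set H) := by
      set C := centralizer ((P : Subgroup H) : Set H) with hC
      refine relIndex_eq_one.mp (Nat.eq_one_iff_not_exists_prime_dvd.mpr fun q hq hd => ?_)
      haveI := Fact.mk hq
      obtain ⟨S, hS⟩ := Coprime.exists_invariant_sylow q hPnorm hcop (Or.inl inferInstance)
      have hSC := hcon q hq _ (map_subtype_le _) (S.isPGroup'.map _) hS
      have h1 : C.relIndex N ∣ ((S : Subgroup N).map N.subtype).relIndex N := relIndex_dvd_of_le_left N hSC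
      rw [show ((S : Subgroup N).map N.subtype).relIndex N = (S : Subgroup N).index by
        rw [relIndex, subgroupOf, comap_map_eq_self_of_injective N.subtype_injective]] at h1
      exact S.not_dvd_index (hd.trans h1)
    rw [← normalizer_eq_top_iff, eq_top_iff, ← hPN]
    exact sup_le le_normalizer fun x hx => mem_normalizer_iff.mpr fun y =>
      ⟨fun hy => by
        rw [← mem_centralizer_iff.mp (hNc hx) y hy, mul_inv_cancel_right]; exact hy,
      fun hy => by
        have h1 := mem_centralizer_iff.mp (hNc (inv_mem hx)) _ hy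
        have h2 : y = x * y * x⁻¹ := by
          calc y = x⁻¹ * (x * y * x⁻¹) * x := by group
            _ = _ := by rw [← h1]; group
        rw [h2]; exact hy⟩
  haveI := Fact.mk hq
  have hK : (P : Subgroup H) ⊔ Q = ⊤ := by
    by_contra hK
    haveI hn := hsub _ hK (P.subtype le_sup_left)
    rw [Sylow.coe_subtype, normal_subgroupOf_iff_le_normalizer le_sup_left] at hn
    refine hQc fun x hx => mem_centralizer_iff.mpr fun y hy => ?_
    have hd : Disjoint (P : Subgroup H) Q :=
      disjoint_iff.mpr (inf_eq_bot_of_coprime (hcop.coprime_dvd_right (card_dvd_of_le hQN)))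
    have h1 : y * x * y⁻¹ * x⁻¹ ∈ (P : Subgroup H) ⊓ Q := by
      refine ⟨?_, Q.mul_mem ((mem_normalizer_iff.mp (hPQ hy) x).mp hx) (Q.inv_mem hx)⟩
      rw [mul_assoc, mul_assoc, ← mul_assoc x]
      exact mul_mem hy ((mem_normalizer_iff.mp (hn (mem_sup_right hx)) _).mp ((P : Subgroup H).inv_mem hy))
    rw [hd.eq_bot, mem_bot, mul_inv_eq_one, mul_inv_eq_iff_eq_mul] at h1
    exact h1
  haveI hQn : Q.Normal := by
    rw [← normalizer_eq_top_iff, eq_top_iff, ← hK]
    exact sup_le hPQ le_normalizer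
  obtain ⟨b, hb⟩ := hQq.exists_card_eq
  have hidx : (P : Subgroup H).index ∣ Nat.card Q := by
    have h1 : Q.relIndex P = Q.index := by
      rw [← relIndex_sup_right (K := Q) (H := (P : Subgroup H)), hK, relIndex_top_right]
    have h2 : Q.index = Nat.card (P : Subgroup H) := by
      rw [← h1, ← inf_relIndex_right,
        inf_eq_bot_of_coprime ((hcop.coprime_dvd_right (card_dvd_of_le hQN)).symm), relIndex_bot_left]
    have h3 := Q.card_mul_index
    have h4 := (P : Subgroup H).card_mul_index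
    rw [← h3, h2, mul_comm] at h4
    exact (Nat.eq_of_mul_eq_mul_right Nat.card_pos h4).dvd
  obtain ⟨i, -, hi⟩ := (Nat.dvd_prime_pow hq).mp (hb ▸ P.card_dvd_index.trans hidx)
  have hi0 : i ≠ 0 := fun h => by
    subst h
    haveI : Subsingleton (Sylow p H) := Finite.card_le_one_iff_subsingleton.mp (by rw [hi, pow_zero])
    exact hP (Sylow.normal_of_subsingleton P)
  refine ⟨q ^ i, hq.isPrimePow.pow hi0, ?_, ?_⟩
  · have h := card_sylow_modEq_one p H
    rwa [hi, Nat.ModEq, Nat.one_mod_eq_one.mpr hp'.ne_one] at h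
  · rw [← hi, ← (P : Subgroup H).card_mul_index]
    refine Nat.mul_le_mul ?_ (Nat.le_of_dvd (Nat.pos_of_ne_zero index_ne_zero_of_finite) P.card_dvd_index)
    rw [ha]
    refine Nat.le_self_pow (fun h => hP ?_) p
    have : (P : Subgroup H) = ⊥ := eq_bot_of_card_eq _ (by rw [ha, h, pow_zero])
    rw [this]; infer_instance

/-- The bound for a simple group. -/
theorem simple_case (hp2 : p ≠ 2) [IsSimpleGroup H] (hna : ¬ IsMulCommutative H) (hd : p ∣ Nat.card H) :
    p * (p ^ 2 - 1) / 2 ≤ Nat.card H ∨ ∃ k : ℕ, IsPrimePow k ∧ k % p = 1 ∧ p * k ≤ Nat.card H := by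
  have hp' : p.Prime := hp.out
  have hp3 : 3 ≤ p := by have := hp'.two_le; omega
  obtain ⟨P⟩ : Nonempty (Sylow p H) := inferInstance
  obtain ⟨a, ha⟩ := P.isPGroup'.exists_card_eq
  have hn1 := SmallSimple.Basic.one_lt_card_sylow hna hd
  have hmod : Nat.card (Sylow p H) % p = 1 := by
    have h := card_sylow_modEq_one p H
    rwa [Nat.ModEq, Nat.one_mod_eq_one.mpr hp'.ne_one] at h
  obtain ⟨k, hk⟩ : ∃ k, Nat.card (Sylow p H) = 1 + k * p :=
    ⟨Nat.card (Sylow p H) / p, by have := Nat.mod_add_div (Nat.card (Sylow p H)) p; rw [hmod] at this; linarith⟩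
  have hN := SmallSimple.Basic.card_normalizer_mul P
  have hPd := SmallSimple.Basic.sylow_dvd_normalizer P
  rcases Nat.lt_or_ge a 2 with ha2 | ha2
  · have ha1 : a = 1 := by
      rcases Nat.eq_zero_or_pos a with h | h
      · exact absurd (eq_bot_of_card_eq _ (by rw [ha, h, pow_zero])) (SmallSimple.Basic.sylow_ne_bot hd P)
      · omega
    rw [ha1, pow_one] at ha
    have he : 2 * p ≤ Nat.card (normalizer ((P : Subgroup H) : Set H)) := by
      obtain ⟨e, he⟩ := hPd
      rw [ha] at he
      rcases Nat.lt_or_ge e 2 with h2 | h2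
      · exfalso
        refine SmallSimple.Basic.not_normalizer_le_centralizer hna hd P ?_
        have heq : (P : Subgroup H) = normalizer ((P : Subgroup H) : Set H) := by
          refine eq_of_le_of_card_ge le_normalizer ?_
          rw [ha, he]; interval_cases e <;> simp
        haveI : IsCyclic (P : Subgroup H) := isCyclic_of_prime_card ha
        haveI : IsMulCommutative (P : Subgroup H) := IsCyclic.commutative
        exact heq ▸ le_centralizer (P : Subgroup H)
      · rw [he, mul_comm 2]; exact Nat.mul_le_mul_left p h2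
    have hperf : commutator H = ⊤ := by
      rcases (inferInstance : (commutator H).Normal).eq_bot_or_eq_top with h | h
      · refine absurd ⟨⟨fun x y => ?_⟩⟩ hna
        exact commutatorElement_eq_one_iff_mul_comm.mp (mem_bot.mp
          (h ▸ commutator_mem_commutator (mem_top x) (mem_top y)))
      · exact h
    have hq : Nat.card (H ⧸ pPrimeCore p H) ≤ Nat.card H := Nat.le_of_dvd Nat.card_pos (card_quotient_dvd_card _)
    rcases Cfsg.Agent.S4700.result hperf p P ha k hk with h | h | h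
    · obtain ⟨F, _, _, hF, -, ⟨e⟩⟩ := h
      refine Or.inl (le_trans ?_ (le_of_eq_of_le (Nat.card_congr e.toEquiv).symm hq))
      have h1 := Classical.SmallIso.natCard_pslTwo F
      rw [Classical.GL2.natCard_SL_two, hF] at h1
      have hg : Nat.gcd 2 (p - 1) = 2 := Nat.gcd_eq_left (by
        rcases hp'.odd_of_ne_two hp2 with ⟨c, hc⟩; omega)
      rw [hg] at h1
      refine Nat.div_le_of_le_mul ?_
      rw [h1, mul_comm (p - 1), ← Nat.sq_sub_sq, one_pow]
    · obtain ⟨m, F, _, _, hF, hpm, h3p, ⟨e⟩⟩ := h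
      refine Or.inl (le_trans ?_ (le_of_eq_of_le (Nat.card_congr e.toEquiv).symm hq))
      rw [Classical.GL2.natCard_SL_two, hF, show 2 ^ m = p - 1 by omega]
      refine Nat.div_le_of_le_mul ?_
      obtain ⟨c, rfl⟩ : ∃ c, p = c + 3 := ⟨p - 3, by omega⟩
      have h2 : (c + 3) ^ 2 - 1 = c * c + 6 * c + 8 := by ring_nf; omega
      rw [h2, show c + 3 - 1 = c + 2 by omega, show c + 2 - 1 = c + 1 by omega]
      have hc : 2 ≤ c := by
        by_contra h; push_neg at h
        interval_cases c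
        · omega
        · exact absurd hp' (by norm_num)
      calc (c + 3) * (c * c + 6 * c + 8) = (c + 2) * ((c + 4) * (c + 3)) := by ring
        _ ≤ (c + 2) * ((2 * (c + 1)) * (c + 3)) :=
          Nat.mul_le_mul_left _ (Nat.mul_le_mul_right _ (by omega))
        _ = _ := by ring
    · obtain ⟨h, u, hh, hu, hku⟩ := h
      left
      rw [← hN, hk]
      refine Nat.div_le_of_le_mul ?_
      have h1 : p ≤ 2 * k := by
        have h2 : u * p ≤ h * u * p := Nat.mul_le_mul_right p (le_mul_of_one_le_left (Nat.zero_le u) hh)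
        by_contra hlt
        nlinarith
      have h3 : p ^ 2 - 1 ≤ 2 * (1 + k * p) * 2 := by
        have : p * p ≤ 2 * (k * p) := by rw [← mul_assoc]; exact Nat.mul_le_mul_right p h1
        rw [sq]; omega
      calc p * (p ^ 2 - 1) ≤ p * (2 * (1 + k * p) * 2) := Nat.mul_le_mul_left p h3
        _ = 2 * (2 * p * (1 + k * p)) := by ring
        _ ≤ _ := Nat.mul_le_mul_left 2 (Nat.mul_le_mul_right _ he)
  · left
    rw [← hN, hk]
    have hk1 : 1 ≤ k := by
      by_contra h; push_neg at h; interval_cases k; omega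
    have h1 : p ^ 2 ≤ Nat.card (normalizer ((P : Subgroup H) : Set H)) :=
      le_trans (by rw [ha]; exact Nat.pow_le_pow_right hp'.pos ha2) (Nat.le_of_dvd Nat.card_pos hPd)
    refine (Nat.div_le_self _ _).trans ?_
    calc p * (p ^ 2 - 1) ≤ p * p ^ 2 := Nat.mul_le_mul_left p (Nat.sub_le _ _)
      _ = p ^ 2 * p := mul_comm _ _
      _ ≤ _ := Nat.mul_le_mul h1 (by nlinarith)

/-- The lower bound. -/
theorem bound (hp2 : p ≠ 2) : ∀ (n : ℕ) (H : Type u) [Group H] [Finite H], Nat.card H = n → ¬ IsPClosed p H →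
    p * (p ^ 2 - 1) / 2 ≤ n ∨ ∃ k : ℕ, IsPrimePow k ∧ k % p = 1 ∧ p * k ≤ n := by
  intro n
  induction n using Nat.strong_induction_on with
  | _ n ih =>
    intro H _ _ hn hnc
    have mono : ∀ {c : ℕ}, c ≤ n →
        (p * (p ^ 2 - 1) / 2 ≤ c ∨ ∃ k : ℕ, IsPrimePow k ∧ k % p = 1 ∧ p * k ≤ c) →
        p * (p ^ 2 - 1) / 2 ≤ n ∨ ∃ k : ℕ, IsPrimePow k ∧ k % p = 1 ∧ p * k ≤ n := fun hc h =>
      h.imp (fun h => h.trans hc) fun ⟨k, h1, h2, h3⟩ => ⟨k, h1, h2, h3.trans hc⟩
    by_cases hsub : ∀ K : Subgroup H, K ≠ ⊤ → IsPClosed p ↥K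
    swap
    · push_neg at hsub
      obtain ⟨K, hK, hKc⟩ := hsub
      have hlt : Nat.card K < n := hn ▸ lt_of_le_of_ne (Nat.le_of_dvd Nat.card_pos (card_subgroup_dvd_card K))
        fun e => hK ((card_eq_iff_eq_top K).mp e)
      exact mono hlt.le (ih _ hlt K rfl hKc)
    by_cases hquo : ∀ (N : Subgroup H) [N.Normal], N ≠ ⊥ → IsPClosed p (H ⧸ N)
    swap
    · push_neg at hquo
      obtain ⟨N, hN, hN0, hNc⟩ := hquo
      have hlt : Nat.card (H ⧸ N) < n := by
        rw [← hn, ← N.card_mul_index, ← index_eq_card]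
        exact lt_mul_of_one_lt_left (Nat.pos_of_ne_zero index_ne_zero_of_finite) (N.one_lt_card_iff_ne_bot.mpr hN0)
      exact mono hlt.le (ih _ hlt (H ⧸ N) rfl hNc)
    by_cases hs : ∃ N : Subgroup H, N.Normal ∧ N ≠ ⊥ ∧ N ≠ ⊤
    · obtain ⟨N, hN, h0, h1⟩ := hs
      exact Or.inr (hn ▸ normal_case hnc hsub hquo h0 h1)
    obtain ⟨P, hP⟩ := exists_not_normal hnc
    haveI : Nontrivial H := by
      by_contra h
      haveI := not_nontrivial_iff_subsingleton.mp h
      exact hP ⟨fun x hx g => by rwa [Subsingleton.elim (g * x * g⁻¹) x]⟩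
    haveI : IsSimpleGroup H := ⟨fun N hN => by by_contra hc; push_neg at hc; exact hs ⟨N, hN, hc.1, hc.2⟩⟩
    refine hn ▸ simple_case hp2 (fun hc => hP ⟨fun x hx g => by
      rw [hc.is_comm.comm g x, mul_inv_cancel_right]; exact hx⟩) ?_
    by_contra hd
    refine hP ?_
    rw [show (P : Subgroup H) = ⊥ from eq_bot_of_card_eq _ (by
      rw [P.card_eq_multiplicity, Nat.factorization_eq_zero_of_not_dvd hd, pow_zero])]
    infer_instance

omit hp in
theorem commutator_inr_inl {N K : Type*} [Group N] [Group K] (φ : K →* MulAut N) (z : K) (x : N) :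
    (SemidirectProduct.inr z : N ⋊[φ] K) * SemidirectProduct.inl x * (SemidirectProduct.inr z)⁻¹ *
      (SemidirectProduct.inl x)⁻¹ = SemidirectProduct.inl (φ z x * x⁻¹) := by
  rw [map_mul, SemidirectProduct.inl_aut, map_inv, map_inv]

omit hp in
/-- A field with a unit of prime order `p`, coprime to its cardinality, gives a non-`p`-closed group. -/
theorem exists_semidirect' [Fact p.Prime] (F : Type) [Field F] [Finite F] {ζ : Fˣ} (hζ : orderOf ζ = p)
    (hcop : (Nat.card F).Coprime p) :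
    ∃ (H : Type) (_ : Group H) (_ : Finite H), Nat.card H = p * Nat.card F ∧ ¬ IsPClosed p H := by
  have hp : p.Prime := Fact.out
  let φ : zpowers ζ →* MulAut (Multiplicative F) :=
    { toFun := fun z => AddEquiv.toMultiplicative (DistribMulAction.toAddEquiv F (z : Fˣ))
      map_one' := MulEquiv.ext fun x => one_smul Fˣ (Multiplicative.toAdd x)
      map_mul' := fun a b => MulEquiv.ext fun x => mul_smul (a : Fˣ) (b : Fˣ) (Multiplicative.toAdd x) }
  refine ⟨Multiplicative F ⋊[φ] zpowers ζ, inferInstance, Finite.of_equiv _ SemidirectProduct.equivProd.symm, ?_, ?_⟩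
  · rw [Nat.card_congr SemidirectProduct.equivProd, Nat.card_prod, Nat.card_zpowers, hζ,
      Nat.card_congr Multiplicative.toAdd, mul_comm]
  intro hc
  haveI : Finite (Multiplicative F ⋊[φ] zpowers ζ) := Finite.of_equiv _ SemidirectProduct.equivProd.symm
  set g : Multiplicative F ⋊[φ] zpowers ζ := SemidirectProduct.inr ⟨ζ, mem_zpowers ζ⟩
  set n : Multiplicative F ⋊[φ] zpowers ζ := SemidirectProduct.inl (Multiplicative.ofAdd (1 : F))
  have hg : IsPGroup p (zpowers g) := IsPGroup.of_card (n := 1) (by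
    rw [Nat.card_zpowers, orderOf_injective _ SemidirectProduct.inr_injective, Subgroup.orderOf_mk, hζ, pow_one])
  obtain ⟨P, hP⟩ := hg.exists_le_sylow
  have h1 : g * n * g⁻¹ * n⁻¹ ∈ (P : Subgroup _) := by
    rw [mul_assoc, mul_assoc, ← mul_assoc n]
    exact mul_mem (hP (mem_zpowers g)) ((hc P).conj_mem _ (inv_mem (hP (mem_zpowers g))) n)
  set v : Multiplicative F := φ ⟨ζ, mem_zpowers ζ⟩ (Multiplicative.ofAdd 1) * (Multiplicative.ofAdd (1 : F))⁻¹
  have h2 : g * n * g⁻¹ * n⁻¹ = SemidirectProduct.inl v := commutator_inr_inl φ _ _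
  rw [h2] at h1
  have h3 : v = 1 := by
    obtain ⟨j, hj⟩ := IsPGroup.iff_orderOf.mp P.isPGroup' ⟨_, h1⟩
    rw [Subgroup.orderOf_mk, orderOf_injective _ SemidirectProduct.inl_injective] at hj
    refine orderOf_eq_one_iff.mp (Nat.eq_one_of_dvd_coprimes ?_ (orderOf_dvd_natCard v) hj.dvd)
    rw [Nat.card_congr Multiplicative.toAdd]
    exact hcop.pow_right j
  have h4 : (ζ : F) * 1 + -1 = 0 := congrArg Multiplicative.toAdd h3
  rw [mul_one, add_neg_eq_zero] at h4
  have : ζ = 1 := Units.ext h4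
  rw [this, orderOf_one] at hζ
  exact hp.ne_one hζ.symm

omit hp in
/-- A prime power `≡ 1 (mod p)` gives a non-`p`-closed group. -/
theorem exists_semidirect (hp : p.Prime) {m : ℕ} (hm : IsPrimePow m) (hm1 : m % p = 1) :
    ∃ (H : Type) (_ : Group H) (_ : Finite H), Nat.card H = p * m ∧ ¬ IsPClosed p H := by
  obtain ⟨r, a, hr, ha, rfl⟩ := (isPrimePow_nat_iff m).mp hm
  haveI := Fact.mk hr
  haveI := Fact.mk hp
  haveI : Finite (GaloisField r a) := Module.finite_of_finite (ZMod r)
  have hF : Nat.card (GaloisField r a) = r ^ a := GaloisField.card r a ha.ne'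
  obtain ⟨ζ, hζ⟩ := exists_prime_orderOf_dvd_card' (G := (GaloisField r a)ˣ) p (by
    rw [Nat.card_units, hF]
    exact (Nat.modEq_iff_dvd' (pow_pos hr.pos a)).mp (by rw [Nat.ModEq, hm1, Nat.one_mod_eq_one.mpr hp.ne_one]))
  obtain ⟨H, i1, i2, h1, h2⟩ := exists_semidirect' (GaloisField r a) hζ (by
    rw [hF]
    refine ((Nat.coprime_primes hr hp).mpr ?_).pow_left a
    rintro rfl
    rw [Nat.mod_eq_zero_of_dvd (dvd_pow_self r ha.ne')] at hm1
    exact zero_ne_one hm1)
  exact ⟨H, i1, i2, h1.trans (by rw [hF]), h2⟩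

omit hp in
/-- `PSL(2, p)` is not `p`-closed. -/
theorem exists_psl (hp : p.Prime) (hp2 : p ≠ 2) :
    ∃ (H : Type) (_ : Group H) (_ : Finite H), Nat.card H = p * (p ^ 2 - 1) / 2 ∧ ¬ IsPClosed p H := by
  haveI := Fact.mk hp
  let S := Matrix.SpecialLinearGroup (Fin 2) (ZMod p)
  refine ⟨Matrix.ProjectiveSpecialLinearGroup (Fin 2) (ZMod p), inferInstance, inferInstance, ?_, ?_⟩
  · have h1 := Classical.SmallIso.natCard_pslTwo (ZMod p)
    rw [Classical.GL2.natCard_SL_two, ZMod.card, mul_comm (p - 1), ← Nat.sq_sub_sq,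
      Nat.gcd_eq_left (show 2 ∣ p - 1 by rcases hp.odd_of_ne_two hp2 with ⟨c, hc⟩; omega), one_pow] at h1
    exact (Nat.div_eq_of_eq_mul_right two_pos h1.symm).symm
  intro hc
  set π : S →* Matrix.ProjectiveSpecialLinearGroup (Fin 2) (ZMod p) := QuotientGroup.mk' _ with hπ
  obtain ⟨P⟩ : Nonempty (Sylow p (Matrix.ProjectiveSpecialLinearGroup (Fin 2) (ZMod p))) := inferInstance
  haveI := hc P
  haveI := Sylow.unique_of_normal P inferInstance
  let u : S := ⟨!![1, 1; 0, 1], by simp [Matrix.det_fin_two]⟩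
  let l : S := ⟨!![1, 0; 1, 1], by simp [Matrix.det_fin_two]⟩
  have hmem : ∀ x : S, x ^ p = 1 → π x ∈ (P : Subgroup _) := by
    intro x hx
    have hxg : IsPGroup p (zpowers (π x)) := by
      obtain ⟨i, -, hi⟩ := (Nat.dvd_prime_pow hp (m := 1) (i := orderOf (π x))).mp (by
        rw [pow_one]; exact orderOf_dvd_of_pow_eq_one (by rw [← map_pow, hx, map_one]))
      exact IsPGroup.of_card (n := i) (by rw [Nat.card_zpowers, hi])
    obtain ⟨R, hR⟩ := hxg.exists_le_sylow
    exact (Subsingleton.elim R P) ▸ hR (mem_zpowers (π x))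
  have hu : u ^ p = 1 := by
    have h : ∀ i : ℕ, ((u ^ i : S) : Matrix (Fin 2) (Fin 2) (ZMod p)) = !![1, (i : ZMod p); 0, 1] := by
      intro i
      induction i with
      | zero => simp [Matrix.one_fin_two]
      | succ i ih => rw [pow_succ, Matrix.SpecialLinearGroup.coe_mul, ih]; simp [u, add_comm]
    refine Subtype.ext ?_
    rw [h, ZMod.natCast_self]; exact Matrix.one_fin_two.symm
  have hl : l ^ p = 1 := by
    have h : ∀ i : ℕ, ((l ^ i : S) : Matrix (Fin 2) (Fin 2) (ZMod p)) = !![1, 0; (i : ZMod p), 1] := by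
      intro i
      induction i with
      | zero => simp [Matrix.one_fin_two]
      | succ i ih => rw [pow_succ, Matrix.SpecialLinearGroup.coe_mul, ih]; simp [l, add_comm]
    refine Subtype.ext ?_
    rw [h, ZMod.natCast_self]; exact Matrix.one_fin_two.symm
  have hPc : Nat.card (P : Subgroup (Matrix.ProjectiveSpecialLinearGroup (Fin 2) (ZMod p))) ∣ p := by
    have h1 : Nat.card (P : Subgroup (Matrix.ProjectiveSpecialLinearGroup (Fin 2) (ZMod p))) ∣
        Nat.card (Matrix.SpecialLinearGroup (Fin 2) (ZMod p)) :=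
      (card_subgroup_dvd_card _).trans (card_quotient_dvd_card _)
    obtain ⟨i, hi⟩ := P.isPGroup'.exists_card_eq
    rw [hi, Classical.GL2.natCard_SL_two, ZMod.card] at h1
    rw [hi]
    refine (Nat.Coprime.dvd_of_dvd_mul_right (Nat.Coprime.pow_left i ?_) h1)
    refine Nat.Coprime.mul_right ?_ ?_ <;> refine (hp.coprime_iff_not_dvd).mpr fun h => ?_
    · have h2le := hp.two_le
      have := Nat.le_of_dvd (show 0 < p - 1 by omega) h
      omega
    · exact hp.not_dvd_one ((Nat.dvd_add_right (dvd_refl p)).mp h)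
  haveI : IsCyclic (P : Subgroup (Matrix.ProjectiveSpecialLinearGroup (Fin 2) (ZMod p))) := by
    rcases (Nat.dvd_prime hp).mp hPc with h | h
    · haveI := (Nat.card_eq_one_iff_unique.mp h).1
      exact isCyclic_of_subsingleton
    · exact isCyclic_of_prime_card h
  haveI : IsMulCommutative (P : Subgroup (Matrix.ProjectiveSpecialLinearGroup (Fin 2) (ZMod p))) := IsCyclic.commutative
  have hcomm : π (u * l) = π (l * u) := by
    rw [map_mul, map_mul]
    exact congrArg Subtype.val (mul_comm' (⟨_, hmem u hu⟩ : (P : Subgroup _)) ⟨_, hmem l hl⟩)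
  obtain ⟨c, -, hcc⟩ := (Matrix.SpecialLinearGroup.mem_center_iff).mp (QuotientGroup.eq.mp hcomm)
  have h2 : l * u = u * l * ((u * l)⁻¹ * (l * u)) := (mul_inv_cancel_left _ _).symm
  have h3 := congrArg (fun x : S => (x : Matrix (Fin 2) (Fin 2) (ZMod p))) h2
  change (l : Matrix (Fin 2) (Fin 2) (ZMod p)) * (u : Matrix (Fin 2) (Fin 2) (ZMod p)) =
    (u : Matrix (Fin 2) (Fin 2) (ZMod p)) * (l : Matrix (Fin 2) (Fin 2) (ZMod p)) * _ at h3
  rw [← hcc] at h3
  have e00 := congrFun (congrFun h3 0) 0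
  have e01 := congrFun (congrFun h3 0) 1
  simp [u, l, Matrix.mul_apply, Fin.sum_univ_two, Matrix.scalar_apply, Matrix.diagonal] at e00 e01
  rw [← e01] at e00
  exact zero_ne_one (by linear_combination e00 : (0 : ZMod p) = 1)

end Cfsg.Agent.GenA.LeastNonClosed
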