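import Mathlib
import Cfsg.Agent.S0556

/-!
Maximal centralizers of elements of prime power order outside a normal subgroup.
-/

set_option autoImplicit false

namespace Cfsg.Agent.GenA.MaxCent

open Subgroup

variable {G : Type*} [Group G] [Finite G]

/-- The centralizer of an element outside `N` is a `q`-group when all elements outside `N` have prime power
order. -/
theorem isPGroup_centralizer {N : Subgroup G} (h : ∀ x : G, x ∉ N → IsPrimePow (orderOf x)) {x : G} (hx : x ∉ N)
    {q k : ℕ} (hq : q.Prime) (hxq : orderOf x = q ^ k) : IsPGroup q ↥(centralizer ({x} : Set G)) := by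
  set C := centralizer ({x} : Set G)
  refine IsPGroup.of_card (n := (Nat.card C).primeFactorsList.length)
    (Nat.eq_prime_pow_of_unique_prime_dvd Nat.card_pos.ne' fun {r} hr hrC => ?_)
  by_contra hne
  haveI := Fact.mk hr
  obtain ⟨⟨y, hy⟩, hyo⟩ := exists_prime_orderOf_dvd_card' r hrC
  rw [Subgroup.orderOf_mk] at hyo
  have hc : Commute x y := (mem_centralizer_singleton_iff.mp hy).symm
  have hcop : (orderOf x).Coprime (orderOf y) := by
    rw [hxq, hyo]; exact ((Nat.coprime_primes hq hr).mpr (Ne.symm hne)).pow_left k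
  have ho := hc.orderOf_mul_eq_mul_orderOf_of_coprime hcop
  have hxy : x * y ∉ N := by
    intro hm
    have h1 : x ^ r ∈ N := by
      have h2 := pow_mem hm r
      rwa [hc.mul_pow, show y ^ r = 1 by rw [← hyo, pow_orderOf_eq_one], mul_one] at h2
    refine hx (zpowers_le.mpr h1 ?_)
    rw [hyo] at hcop
    obtain ⟨m, hm'⟩ := exists_pow_eq_self_of_coprime (x := x) hcop.symm
    exact ⟨m, by simpa using hm'⟩
  have hk : k ≠ 0 := fun hk0 => hx (by
    rw [orderOf_eq_one_iff.mp (show orderOf x = 1 by rw [hxq, hk0, pow_zero])]; exact one_mem N)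
  obtain ⟨s, j, hs, -, hsj⟩ := h _ hxy
  rw [ho, hxq, hyo] at hsj
  have hs' := Nat.prime_iff.mpr hs
  exact hne (((Nat.prime_dvd_prime_iff_eq hr hs').mp (hr.dvd_of_dvd_pow (hsj ▸ dvd_mul_left r _))).trans
    ((Nat.prime_dvd_prime_iff_eq hq hs').mp
      (hq.dvd_of_dvd_pow (hsj ▸ (dvd_pow_self q hk).mul_right r))).symm)

/-- If every element outside the proper normal subgroup `N` has prime power order and maximal centralizer,
then `N` is solvable. -/
theorem isSolvable {N : Subgroup G} [N.Normal] (hN : N ≠ ⊤)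
    (h : ∀ x : G, x ∉ N → IsPrimePow (orderOf x) ∧ IsCoatom (centralizer ({x} : Set G))) : Group.IsSolvable N := by
  obtain ⟨x, hx⟩ : ∃ x, x ∉ N := by
    by_contra hc
    push Not at hc
    exact hN (eq_top_iff.mpr fun g _ => hc g)
  obtain ⟨q, k, hq', hk, hxq⟩ := (h x hx).1
  have hq := Nat.prime_iff.mpr hq'
  haveI := Fact.mk hq
  by_cases hNq : IsPGroup q N
  · haveI := hNq.isNilpotent
    infer_instance
  have hD : ∀ D : Subgroup G, D.Normal → IsPGroup q D → D ≤ N := by
    intro D hDn hDp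
    by_contra hDN
    obtain ⟨d, hdD, hdN⟩ := SetLike.not_le_iff_exists.mp hDN
    refine hNq (IsPGroup.of_card (n := (Nat.card N).primeFactorsList.length)
      (Nat.eq_prime_pow_of_unique_prime_dvd Nat.card_pos.ne' fun {r} hr hrN => ?_))
    by_contra hne
    haveI := Fact.mk hr
    obtain ⟨⟨g, hgN⟩, hgo⟩ := exists_prime_orderOf_dvd_card' r hrN
    rw [Subgroup.orderOf_mk] at hgo
    have hNn : N.Normal := inferInstance
    have hmem : ∀ a : G, (a ∈ D ∧ d⁻¹ * a ∈ N) ↔ (g * a * g⁻¹ ∈ D ∧ d⁻¹ * (g * a * g⁻¹) ∈ N) := by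
      intro a
      refine and_congr ⟨fun ha => hDn.conj_mem a ha g, fun ha => ?_⟩ ?_
      · simpa [mul_assoc] using hDn.conj_mem _ ha g⁻¹
      · rw [show d⁻¹ * (g * a * g⁻¹) = (d⁻¹ * g * d) * (d⁻¹ * a) * g⁻¹ by group,
          N.mul_mem_cancel_right (N.inv_mem hgN)]
        exact (N.mul_mem_cancel_left (by simpa using hNn.conj_mem g hgN d⁻¹)).symm
    let σ : Equiv.Perm {a : G // a ∈ D ∧ d⁻¹ * a ∈ N} := (MulAut.conj g).toEquiv.subtypeEquiv hmem
    have hσp : ∀ (i : ℕ) a, (((σ ^ i) a : {a : G // a ∈ D ∧ d⁻¹ * a ∈ N}) : G) = g ^ i * (a : G) * (g ^ i)⁻¹ := by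
      intro i
      induction i with
      | zero => intro a; simp
      | succ i ih =>
        intro a
        rw [pow_succ', Equiv.Perm.mul_apply]
        show g * (((σ ^ i) a : {a : G // a ∈ D ∧ d⁻¹ * a ∈ N}) : G) * g⁻¹ = _
        rw [ih, pow_succ']; group
    have hσ : σ ^ r ^ 1 = 1 := by
      refine Equiv.ext fun a => Subtype.ext ?_
      rw [hσp, pow_one, ← hgo, pow_orderOf_eq_one]; simp
    letI : Fintype {a : G // a ∈ D ∧ d⁻¹ * a ∈ N} := Fintype.ofFinite _
    have hcard : ¬ r ∣ Fintype.card {a : G // a ∈ D ∧ d⁻¹ * a ∈ N} := by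
      rw [← Nat.card_eq_fintype_card, Nat.card_congr (β := ↥(D ⊓ N : Subgroup G))
        { toFun := fun a : {a : G // a ∈ D ∧ d⁻¹ * a ∈ N} =>
            (⟨d⁻¹ * a.1, D.mul_mem (D.inv_mem hdD) a.2.1, a.2.2⟩ : ↥(D ⊓ N : Subgroup G))
          invFun := fun a => ⟨d * a, D.mul_mem hdD a.2.1, by rw [inv_mul_cancel_left]; exact a.2.2⟩
          left_inv := fun a => Subtype.ext (mul_inv_cancel_left d a)
          right_inv := fun a => Subtype.ext (inv_mul_cancel_left d (a : G)) }]
      obtain ⟨j, hj⟩ := (hDp.to_le inf_le_left).exists_card_eq (G := ↥(D ⊓ N : Subgroup G))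
      rw [hj]
      exact fun hd => hne ((Nat.prime_dvd_prime_iff_eq hr hq).mp (hr.dvd_of_dvd_pow hd))
    obtain ⟨⟨a, haD, haN⟩, ha⟩ := Equiv.Perm.exists_fixed_point_of_prime hcard hσ
    have hga : g * a * g⁻¹ = a := congrArg Subtype.val ha
    have haN' : a ∉ N := fun hm => hdN (by
      have := N.mul_mem hm (N.inv_mem haN)
      rwa [mul_inv_rev, inv_inv, mul_inv_cancel_left] at this)
    obtain ⟨i, hi⟩ := IsPGroup.iff_orderOf.mp hDp ⟨a, haD⟩
    rw [Subgroup.orderOf_mk] at hi
    have hC := isPGroup_centralizer (fun y hy => (h y hy).1) haN' hq hi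
    obtain ⟨j, hj⟩ := IsPGroup.iff_orderOf.mp hC
      ⟨g, mem_centralizer_singleton_iff.mpr (mul_inv_eq_iff_eq_mul.mp hga)⟩
    rw [Subgroup.orderOf_mk, hgo] at hj
    exact hne ((Nat.prime_dvd_prime_iff_eq hr hq).mp (hr.dvd_of_dvd_pow (dvd_of_eq hj)))
  set S := centralizer ({x} : Set G) with hS
  have hxS : x ∈ S := mem_centralizer_singleton_iff.mpr rfl
  have hSp : IsPGroup q S := isPGroup_centralizer (fun y hy => (h y hy).1) hx hq hxq.symm
  have hSmax : IsCoatom S := (h x hx).2
  -- centralizers of elements outside `N` whose centralizer in `S` is normal in `S`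
  have key : ∀ y ∈ S, y ∉ N → (∀ s ∈ S, ∀ a ∈ S, a * y = y * a → s * a * s⁻¹ * y = y * (s * a * s⁻¹)) →
      ∀ a ∈ S, a * y = y * a := by
    intro y hyS hyN hnorm a ha
    obtain ⟨i, hi⟩ := IsPGroup.iff_orderOf.mp hSp ⟨y, hyS⟩
    rw [Subgroup.orderOf_mk] at hi
    have hTp := isPGroup_centralizer (fun z hz => (h z hz).1) hyN hq hi
    have hTmax := (h y hyN).2
    set T := centralizer ({y} : Set G) with hT
    by_contra hne
    have hTS : ¬ T ≤ S := fun hle => hne (by
      rcases hTmax.le_iff.mp hle with h1 | h1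
      · exact absurd h1 hSmax.1
      · exact mem_centralizer_singleton_iff.mp (h1.le ha : a ∈ T))
    have hDT : (S ⊓ T).subgroupOf T < ⊤ := lt_top_iff_ne_top.mpr fun e =>
      hTS fun t ht => ((subgroupOf_eq_top.mp e) ht).1
    haveI := hTp.isNilpotent
    obtain ⟨⟨t, htT⟩, ht, htD⟩ := SetLike.exists_of_lt (normalizerCondition_of_isNilpotent _ hDT)
    have hsup : normalizer ((S ⊓ T : Subgroup G) : Set G) = ⊤ := by
      refine hSmax.2 _ (lt_of_le_not_ge ?_ fun hle => htD ⟨hle ?_, htT⟩)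
      · intro s hs
        refine mem_normalizer_fintype fun b hb => ⟨S.mul_mem (S.mul_mem hs hb.1) (S.inv_mem hs), ?_⟩
        exact mem_centralizer_singleton_iff.mpr (hnorm s hs b hb.1 (mem_centralizer_singleton_iff.mp hb.2))
      · refine mem_normalizer_fintype fun b hb => ?_
        exact (mem_normalizer_iff.mp ht ⟨b, hb.2⟩).mp hb
    haveI hDn : (S ⊓ T).Normal := normalizer_eq_top_iff.mp hsup
    exact hx (hD _ hDn (hSp.to_le inf_le_left) ⟨hxS, mem_centralizer_singleton_iff.mpr
      (mem_centralizer_singleton_iff.mp hyS).symm⟩)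
  have hab : IsMulCommutative S := by
    by_contra hnab
    haveI := hSp.isNilpotent
    have hZ : center S ≠ ⊤ := fun e => hnab ⟨⟨fun a b => (mem_center_iff.mp (e.ge (mem_top a)) b).symm⟩⟩
    haveI : Nontrivial (S ⧸ center S) :=
      Finite.one_lt_card_iff_nontrivial.mp (index_eq_card (center S) ▸ one_lt_index_of_ne_top hZ)
    obtain ⟨⟨ū, hū⟩, hū1⟩ := (Subgroup.ne_bot_iff_exists_ne_one).mp
      (Group.IsNilpotent.center_ne_bot (G := S ⧸ center S))
    obtain ⟨u, rfl⟩ := QuotientGroup.mk'_surjective _ ū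
    have hu1 : u ∉ center S := fun e => hū1 (Subtype.ext ((QuotientGroup.eq_one_iff u).mpr e))
    have hu2 : ∀ s : S, ∀ a : S, a * u = u * a → s * a * s⁻¹ * u = u * (s * a * s⁻¹) := by
      intro s a hau
      have hz : u⁻¹ * (s⁻¹ * u * s) ∈ center S := by
        refine (QuotientGroup.eq_one_iff _).mp ?_
        have hsu := mem_center_iff.mp hū (QuotientGroup.mk' _ s)
        show QuotientGroup.mk' _ (u⁻¹ * (s⁻¹ * u * s)) = 1
        rw [map_mul, map_mul, map_mul, map_inv, map_inv, mul_assoc (QuotientGroup.mk' (center S) s)⁻¹, ← hsu]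
        group
      have h1 : a * (u * (u⁻¹ * (s⁻¹ * u * s))) = u * (u⁻¹ * (s⁻¹ * u * s)) * a := by
        rw [← mul_assoc a, hau, mul_assoc, mem_center_iff.mp hz a, ← mul_assoc]
      rw [mul_inv_cancel_left] at h1
      calc s * a * s⁻¹ * u = s * (a * (s⁻¹ * u * s)) * s⁻¹ := by group
        _ = _ := by rw [h1]; group
    have hxc : ∀ s : S, x * (s : G) = s * x := fun s => (mem_centralizer_singleton_iff.mp s.2).symm
    refine hu1 (mem_center_iff.mpr fun a => Subtype.ext ?_)
    show (a : G) * u = u * a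
    by_cases huN : (u : G) ∈ N
    · have hy : x * (u : G) ∉ N := fun hm => hx (by
        have := N.mul_mem hm (N.inv_mem huN)
        rwa [mul_inv_cancel_right] at this)
      have h1 := key _ (S.mul_mem hxS u.2) hy (fun s hs b hb hbu => ?_) a a.2
      · rw [← mul_assoc, ← hxc a, mul_assoc, mul_assoc] at h1
        exact mul_left_cancel h1
      · have hb' : b * (u : G) = u * b := by
          rw [← mul_assoc, ← hxc ⟨b, hb⟩, mul_assoc, mul_assoc] at hbu
          exact mul_left_cancel hbu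
        have h2 : s * b * s⁻¹ * (u : G) = u * (s * b * s⁻¹) :=
          congrArg Subtype.val (hu2 ⟨s, hs⟩ ⟨b, hb⟩ (Subtype.ext hb'))
        calc s * b * s⁻¹ * (x * u) = (s * b * s⁻¹ * x) * u := by group
          _ = x * (s * b * s⁻¹ * u) := by
            rw [← hxc ⟨s * b * s⁻¹, S.mul_mem (S.mul_mem hs hb) (S.inv_mem hs)⟩, mul_assoc]
          _ = _ := by rw [h2]; group
    · exact key _ u.2 huN (fun s hs b hb hbu => congrArg Subtype.val
        (hu2 ⟨s, hs⟩ ⟨b, hb⟩ (Subtype.ext hbu))) a a.2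
  haveI := hab
  haveI : Group.IsSolvable G := (isSolvable_def G).mpr ⟨3, Cfsg.Agent.S0556.result S hSmax⟩
  infer_instance

end Cfsg.Agent.GenA.MaxCent
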