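import Cfsg.Agent.Lib.Characters.Frobenius
import Cfsg.Agent.Solvable.Basics

/-!
A normal subgroup `N` all whose noncentral elements have centralizers maximal in the whole group:
`N/Z(N)` is elementary abelian or a Frobenius group with elementary abelian kernel and complement of prime order.
-/

set_option autoImplicit false
set_option linter.unusedSectionVars false

namespace Cfsg.Agent.GenA.MaxCentNormal

open Subgroup
open scoped commutatorElement Pointwise

variable {G : Type*} [Group G] [Finite G]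

/-- A subgroup containing all prime power parts of `x` contains `x`. -/
theorem exists_prime_part {K : Subgroup G} {x : G} (hx : x ∉ K) :
    ∃ (p i : ℕ), p.Prime ∧ (∃ k, orderOf (x ^ i) = p ^ k) ∧ x ^ i ∉ K := by
  induction hn : orderOf x using Nat.strong_induction_on generalizing x with
  | _ n ih =>
  subst hn
  have h1 : orderOf x ≠ 1 := fun h => hx (by rw [orderOf_eq_one_iff.mp h]; exact one_mem K)
  set p := (orderOf x).minFac with hp
  have hpp : p.Prime := Nat.minFac_prime h1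
  have hx0 := (orderOf_pos x).ne'
  set a := (orderOf x).factorization p
  set m := orderOf x / p ^ a with hm
  have hmul : p ^ a * m = orderOf x := Nat.ordProj_mul_ordCompl_eq_self _ p
  by_cases hxm : x ^ m ∈ K
  · have hcop : (p ^ a).Coprime m := (Nat.coprime_ordCompl hpp hx0).pow_left a
    have hxa : x ^ p ^ a ∉ K := by
      intro h
      refine hx ?_
      obtain ⟨u, hu⟩ : (1 : ℤ) ∈ Set.range (fun z : ℤ => z) := ⟨1, rfl⟩
      have hb := Nat.gcd_eq_gcd_ab (p ^ a) m
      rw [hcop.gcd_eq_one] at hb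
      have : x = (x ^ p ^ a) ^ (Nat.gcdA (p ^ a) m) * (x ^ m) ^ (Nat.gcdB (p ^ a) m) := by
        rw [← zpow_natCast x, ← zpow_mul, ← zpow_natCast x m, ← zpow_mul, ← zpow_add, ← hb]
        simp
      rw [this]
      exact mul_mem (zpow_mem h _) (zpow_mem hxm _)
    have hlt : orderOf (x ^ p ^ a) < orderOf x := by
      rw [orderOf_pow' _ (pow_ne_zero _ hpp.ne_zero), ← hmul, Nat.gcd_mul_right_left,
        Nat.mul_div_cancel_left _ (pow_pos hpp.pos a)]
      have ha : a ≠ 0 := (hpp.factorization_pos_of_dvd hx0 (Nat.minFac_dvd _)).ne'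
      have hm0 : 0 < m := Nat.pos_of_ne_zero fun h => hx0 (by rw [← hmul, h, mul_zero])
      exact lt_mul_of_one_lt_left hm0 (one_lt_pow₀ hpp.one_lt ha)
    obtain ⟨q, i, hq, hk, hi⟩ := ih _ hlt hxa rfl
    exact ⟨q, p ^ a * i, hq, by rwa [pow_mul], by rwa [pow_mul]⟩
  · refine ⟨p, m, hpp, ⟨a, ?_⟩, hxm⟩
    have hm0 : m ≠ 0 := fun h => hxm (by rw [h, pow_zero]; exact one_mem K)
    rw [orderOf_pow' _ hm0, ← hmul, Nat.gcd_mul_left_left,
      Nat.mul_div_cancel _ (Nat.pos_of_ne_zero hm0)]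

/-- The center of `N`, as a subgroup of `G`. -/
def Zc (N : Subgroup G) : Subgroup G := N ⊓ centralizer (N : Set G)

/-- The centralizer in `N` of an element. -/
def CN (N : Subgroup G) (x : G) : Subgroup G := N ⊓ centralizer ({x} : Set G)

/-- The hypothesis: centralizers of noncentral elements of `N` are maximal. -/
def Hyp (N : Subgroup G) : Prop :=
  ∀ x ∈ N, x ∉ Zc N → IsCoatom (centralizer ({x} : Set G))

variable {N : Subgroup G}

theorem mem_cent {x g : G} : g ∈ centralizer ({x} : Set G) ↔ g * x = x * g :=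
  mem_centralizer_singleton_iff

theorem mem_Zc {x : G} : x ∈ Zc N ↔ x ∈ N ∧ ∀ n ∈ N, n * x = x * n := by
  simp [Zc, mem_inf, mem_centralizer_iff]

theorem mem_CN {x g : G} : g ∈ CN N x ↔ g ∈ N ∧ g * x = x * g := by
  simp [CN, mem_inf, mem_cent]

theorem Zc_le_CN {x : G} (hx : x ∈ N) : Zc N ≤ CN N x := fun z hz =>
  mem_CN.mpr ⟨(mem_Zc.mp hz).1, ((mem_Zc.mp hz).2 x hx).symm⟩

theorem self_mem_CN {x : G} (hx : x ∈ N) : x ∈ CN N x := mem_CN.mpr ⟨hx, rfl⟩

theorem CN_ne {x : G} (hx : x ∈ N) (hxZ : x ∉ Zc N) : ¬ N ≤ CN N x := fun h =>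
  hxZ (mem_Zc.mpr ⟨hx, fun n hn => (mem_CN.mp (h hn)).2⟩)

theorem Hyp.cent_eq (hyp : Hyp N) {x y : G} (hx : x ∈ N) (hxZ : x ∉ Zc N) (hy : y ∈ N) (hyZ : y ∉ Zc N)
    (hle : centralizer ({x} : Set G) ≤ centralizer ({y} : Set G)) :
    centralizer ({x} : Set G) = centralizer ({y} : Set G) :=
  (hyp x hx hxZ).le_iff.mp hle |>.resolve_left (hyp y hy hyZ).1 |>.symm

theorem Hyp.cent_pow (hyp : Hyp N) {x : G} (hx : x ∈ N) (hxZ : x ∉ Zc N) {k : ℕ} (hk : x ^ k ∉ Zc N) :
    centralizer ({x} : Set G) = centralizer ({x ^ k} : Set G) :=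
  hyp.cent_eq hx hxZ (pow_mem hx k) hk fun g hg => mem_cent.mpr ((show Commute g x from mem_cent.mp hg).pow_right k)

/-- Commuting noncentral elements of coprime order have the same centralizer. -/
theorem Hyp.cent_coprime (hyp : Hyp N) {x y : G} (hx : x ∈ N) (hxZ : x ∉ Zc N) (hy : y ∈ N) (hyZ : y ∉ Zc N)
    (hc : Commute x y) (hcop : (orderOf x).Coprime (orderOf y)) :
    centralizer ({x} : Set G) = centralizer ({y} : Set G) := by
  have hxy : x * y ∈ N := mul_mem hx hy
  obtain ⟨i, hi⟩ := exists_pow_eq_self_of_coprime (x := x) hcop.symm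
  obtain ⟨j, hj⟩ := exists_pow_eq_self_of_coprime (x := y) hcop
  have hx' : (x * y) ^ (orderOf y * i) = x := by
    rw [hc.mul_pow, pow_mul, hi, pow_mul, pow_orderOf_eq_one, one_pow, mul_one]
  have hy' : (x * y) ^ (orderOf x * j) = y := by
    rw [hc.mul_pow, pow_mul, pow_orderOf_eq_one, one_pow, one_mul, pow_mul, hj]
  have hxyZ : x * y ∉ Zc N := fun h => hxZ (hx' ▸ pow_mem h _)
  have h1 := hyp.cent_pow hxy hxyZ (hx'.symm ▸ hxZ)
  have h2 := hyp.cent_pow hxy hxyZ (hy'.symm ▸ hyZ)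
  rw [hx'] at h1
  rw [hy'] at h2
  rw [← h1, ← h2]

variable [N.Normal]

theorem CN_conj (g x : G) (a : G) : a ∈ CN N (g * x * g⁻¹) ↔ g⁻¹ * a * g ∈ CN N x := by
  rw [mem_CN, mem_CN]
  refine and_congr ⟨fun h => by simpa using Normal.conj_mem (H := N) inferInstance a h g⁻¹, fun h => ?_⟩ ?_
  · simpa [mul_assoc] using Normal.conj_mem (H := N) inferInstance _ h g
  · constructor
    · intro h
      calc g⁻¹ * a * g * x = g⁻¹ * (a * (g * x * g⁻¹)) * g := by group
        _ = _ := by rw [h]; group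
    · intro h
      calc a * (g * x * g⁻¹) = g * (g⁻¹ * a * g * x) * g⁻¹ := by group
        _ = _ := by rw [h]; group

instance Zc_normal : (Zc N).Normal := ⟨fun z hz g => mem_Zc.mpr
  ⟨Normal.conj_mem (H := N) inferInstance z (mem_Zc.mp hz).1 g, fun n hn => by
    have h := (mem_Zc.mp hz).2 _ (Normal.conj_mem (H := N) inferInstance n hn g⁻¹)
    rw [inv_inv] at h
    calc n * (g * z * g⁻¹) = g * (g⁻¹ * n * g * z) * g⁻¹ := by group
      _ = _ := by rw [h]; group⟩⟩

/-- A minimal normal subgroup above the center with central derived group is abelian. -/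
theorem Hyp.exists_abelian (hyp : Hyp N) {R : Subgroup G} (hRn : R.Normal) (hZR : Zc N < R) (hRN : R ≤ N)
    (hR : ∀ a ∈ R, ∀ b ∈ R, a * b * a⁻¹ * b⁻¹ ∈ Zc N) :
    ∃ A : Subgroup G, A.Normal ∧ Zc N < A ∧ A ≤ N ∧ ∀ a ∈ A, ∀ b ∈ A, a * b = b * a := by
  induction hn : Nat.card R using Nat.strong_induction_on generalizing R with
  | _ n ih =>
  subst hn
  haveI := hRn
  by_cases hab : ∀ a ∈ R, ∀ b ∈ R, a * b = b * a
  · exact ⟨R, hRn, hZR, hRN, hab⟩
  push Not at hab
  obtain ⟨r, hr, b, hb, hrb⟩ := hab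
  have hrZ : r ∉ Zc N := fun h => hrb ((mem_Zc.mp h).2 b (hRN hb)).symm
  set M := centralizer ({r} : Set G) with hM
  have hRM : ¬ R ≤ M := fun h => hrb (mem_cent.mp (h hb)).symm
  set R0 := R ⊓ M with hR0
  have hZR0 : Zc N < R0 := by
    refine lt_of_le_of_ne (le_inf hZR.le fun z hz => mem_cent.mpr ((mem_Zc.mp hz).2 r (hRN hr)).symm) fun e => hrZ ?_
    exact e.ge ⟨hr, mem_cent.mpr rfl⟩
  have htop : normalizer (R0 : Set G) = ⊤ := by
    have h1 : M ≤ normalizer (R0 : Set G) := fun m hm => mem_normalizer_fintype fun a ha =>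
      ⟨hRn.conj_mem a ha.1 m, M.mul_mem (M.mul_mem hm ha.2) (M.inv_mem hm)⟩
    have h2 : R ≤ normalizer (R0 : Set G) := fun s hs => mem_normalizer_fintype fun a ha => by
      show s * a * s⁻¹ ∈ R0
      rw [show s * a * s⁻¹ = (s * a * s⁻¹ * a⁻¹) * a by group]
      exact mul_mem (hZR0.le (hR s hs a ha.1)) ha
    exact ((hyp r (hRN hr) hrZ).le_iff.mp h1).resolve_right fun e => hRM (h2.trans e.le)
  refine ih _ ?_ (normalizer_eq_top_iff.mp htop) hZR0 (inf_le_left.trans hRN)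
    (fun a ha c hc => hR a ha.1 c hc.1) rfl
  exact lt_of_le_of_ne (Nat.le_of_dvd Nat.card_pos (card_dvd_of_le inf_le_left)) fun e =>
    hRM (inf_eq_left.mp (eq_of_le_of_card_ge inf_le_left e.ge))

theorem sum_inv_sq_le (m : ℕ) (hm : 1 ≤ m) : ∑ k ∈ Finset.Icc 2 m, (1 : ℚ) / (k : ℚ) ^ 2 ≤ 1 - 1 / m := by
  induction m, hm using Nat.le_induction with
  | base => simp
  | succ m hm ih =>
    rw [Finset.sum_Icc_succ_top (by omega)]
    have h0 : (0 : ℚ) < m := by exact_mod_cast hm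
    have h1 : (1 : ℚ) / ((m + 1 : ℕ) : ℚ) ^ 2 ≤ 1 / m - 1 / (m + 1 : ℕ) := by
      push_cast
      rw [div_sub_div _ _ h0.ne' (by linarith), div_le_div_iff₀ (by positivity) (by positivity)]
      nlinarith
    linarith

/-- A nontrivial finite group is not covered by conjugates of central subgroups of large index in Sylow
subgroups, one for each prime. -/
theorem exists_not_covered {Q : Type*} [Group Q] [Finite Q] [Nontrivial Q] (P : (p : ℕ) → Sylow p Q)
    (K : ℕ → Subgroup Q) (s : Finset ℕ) (hs : ∀ p ∈ s, p.Prime ∧ p ∣ Nat.card Q)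
    (hKP : ∀ p ∈ s, ((P p : Subgroup Q)) ≤ normalizer (K p : Set Q))
    (hK : ∀ p ∈ s, p ^ 2 * Nat.card (K p) ≤ Nat.card (P p : Subgroup Q)) :
    ∃ x : Q, x ≠ 1 ∧ ∀ p ∈ s, ∀ g : Q, g⁻¹ * x * g ∉ K p := by
  classical
  by_contra hcon
  push Not at hcon
  haveI : Fintype Q := Fintype.ofFinite Q
  let U : ℕ → Finset Q := fun p => Finset.univ.filter fun x => x ≠ 1 ∧ ∃ g : Q, g⁻¹ * x * g ∈ K p
  have hcover : (Finset.univ.erase (1 : Q)) ⊆ s.biUnion U := by
    intro x hx
    have hx1 := Finset.ne_of_mem_erase hx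
    obtain ⟨p, hp, g, hg⟩ := hcon x hx1
    exact Finset.mem_biUnion.mpr ⟨p, hp, Finset.mem_filter.mpr ⟨Finset.mem_univ _, hx1, g, hg⟩⟩
  have hU : ∀ p ∈ s, ((U p).card : ℚ) ≤ (Nat.card Q : ℚ) / (p : ℚ) ^ 2 := by
    intro p hp
    have hc : (U p).card ≤ (P p : Subgroup Q).index * Nat.card (K p) := by
      have hex : ∀ x : U p, ∃ y : (Q ⧸ (P p : Subgroup Q)) × K p, (y.1.out : Q) * y.2 * (y.1.out : Q)⁻¹ = x := by
        rintro ⟨x, hx⟩
        obtain ⟨-, g, hg⟩ := (Finset.mem_filter.mp hx).2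
        set c : Q ⧸ (P p : Subgroup Q) := QuotientGroup.mk g
        obtain ⟨u, hu⟩ := QuotientGroup.mk_out_eq_mul (P p : Subgroup Q) g
        have hk : (c.out)⁻¹ * x * c.out ∈ K p := by
          show (QuotientGroup.mk g : Q ⧸ (P p : Subgroup Q)).out⁻¹ * x * _ ∈ K p
          rw [hu]
          have := (mem_normalizer_iff.mp (inv_mem (hKP p hp u.2)) _).mp hg
          simpa [mul_assoc] using this
        exact ⟨(c, ⟨_, hk⟩), by simp [mul_assoc]⟩
      choose f hf using hex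
      have hinj : Function.Injective f := fun a b h => Subtype.ext (by rw [← hf a, ← hf b, h])
      have := Nat.card_le_card_of_injective f hinj
      simpa [Nat.card_prod, index_eq_card] using this
    have h2 : (U p).card * p ^ 2 ≤ Nat.card Q := by
      refine (Nat.mul_le_mul_right _ hc).trans ?_
      rw [mul_assoc, mul_comm (Nat.card (K p)), ← index_mul_card (P p : Subgroup Q)]
      exact Nat.mul_le_mul_left _ (hK p hp)
    rw [le_div_iff₀ (by have := (hs p hp).1.pos; positivity)]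
    exact_mod_cast h2
  have h1 : ((Nat.card Q : ℚ) - 1) ≤ ∑ p ∈ s, ((U p).card : ℚ) := by
    have := (Finset.card_le_card hcover).trans Finset.card_biUnion_le
    rw [Finset.card_erase_of_mem (Finset.mem_univ _), Finset.card_univ, ← Nat.card_eq_fintype_card] at this
    have h0 : 1 ≤ Nat.card Q := Nat.card_pos
    have h' : ((Nat.card Q - 1 : ℕ) : ℚ) ≤ ((∑ p ∈ s, (U p).card : ℕ) : ℚ) := by exact_mod_cast this
    rw [Nat.cast_sub h0, Nat.cast_sum] at h'
    simpa using h'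
  have hsub : s ⊆ Finset.Icc 2 (Nat.card Q) := fun p hp =>
    Finset.mem_Icc.mpr ⟨(hs p hp).1.two_le, Nat.le_of_dvd Nat.card_pos (hs p hp).2⟩
  have hN : (1 : ℚ) < Nat.card Q := by exact_mod_cast Finite.one_lt_card
  have h2 : ∑ p ∈ s, ((U p).card : ℚ) ≤ (Nat.card Q : ℚ) * ∑ k ∈ s, (1 : ℚ) / (k : ℚ) ^ 2 := by
    rw [Finset.mul_sum]
    refine Finset.sum_le_sum fun p hp => (hU p hp).trans (le_of_eq ?_)
    ring
  -- one prime can be dropped from the bound, which makes it strict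
  have h3 : ∑ k ∈ s, (1 : ℚ) / (k : ℚ) ^ 2 ≤ ∑ k ∈ Finset.Icc 2 (Nat.card Q), (1 : ℚ) / (k : ℚ) ^ 2 :=
    Finset.sum_le_sum_of_subset_of_nonneg hsub fun k _ _ => by positivity
  have h4 : ∑ k ∈ Finset.Icc 2 (Nat.card Q), (1 : ℚ) / (k : ℚ) ^ 2 < 1 - 1 / (Nat.card Q : ℚ) := by
    obtain ⟨m, hm⟩ : ∃ m, Nat.card Q = m + 2 :=
      Nat.exists_eq_add_of_le' (show 2 ≤ Nat.card Q by exact_mod_cast hN)
    rw [hm, Finset.sum_Icc_succ_top (by omega)]
    have h5 := sum_inv_sq_le (m + 1) (by omega)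
    push_cast at h5 ⊢
    have h6 : (1 : ℚ) / ((m : ℚ) + 1 + 1) ^ 2 < 1 / ((m : ℚ) + 1) - 1 / ((m : ℚ) + 2) := by
      rw [div_sub_div _ _ (by positivity) (by positivity), div_lt_div_iff₀ (by positivity) (by positivity)]
      nlinarith
    linarith
  have h7 : (Nat.card Q : ℚ) * ∑ k ∈ s, (1 : ℚ) / (k : ℚ) ^ 2 < (Nat.card Q : ℚ) - 1 := by
    calc _ < (Nat.card Q : ℚ) * (1 - 1 / (Nat.card Q : ℚ)) := by
            refine mul_lt_mul_of_pos_left (lt_of_le_of_lt h3 h4) ?_
            linarith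
      _ = _ := by field_simp
  linarith

/-- The normal subgroup of elements of `H` central in `H` modulo the center of `N`. -/
def Z2c (N H : Subgroup G) [N.Normal] : Subgroup G :=
  H ⊓ (centralizer ((H.map (QuotientGroup.mk' (Zc N))) : Set (G ⧸ Zc N))).comap (QuotientGroup.mk' (Zc N))

theorem mem_Z2c {H : Subgroup G} {a : G} : a ∈ Z2c N H ↔ a ∈ H ∧ ∀ b ∈ H, b * a * b⁻¹ * a⁻¹ ∈ Zc N := by
  rw [Z2c, mem_inf, mem_comap, mem_centralizer_iff]
  refine and_congr_right fun _ => ⟨fun h b hb => ?_, fun h z hz => ?_⟩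
  · refine (QuotientGroup.eq_one_iff _).mp ?_
    show QuotientGroup.mk' (Zc N) (b * a * b⁻¹ * a⁻¹) = 1
    rw [map_mul, map_mul, map_mul, h _ (mem_map_of_mem _ hb), map_inv, map_inv]
    group
  · obtain ⟨b, hb, rfl⟩ := hz
    have h1 : QuotientGroup.mk' (Zc N) (b * a * b⁻¹ * a⁻¹) = 1 := (QuotientGroup.eq_one_iff _).mpr (h b hb)
    rw [map_mul, map_mul, map_mul, map_inv, map_inv, mul_inv_eq_one, mul_inv_eq_iff_eq_mul] at h1
    exact h1

instance Z2c_normal {H : Subgroup G} [H.Normal] : (Z2c N H).Normal := by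
  haveI : (H.map (QuotientGroup.mk' (Zc N))).Normal :=
    Subgroup.Normal.map inferInstance _ (QuotientGroup.mk'_surjective _)
  unfold Z2c
  infer_instance

theorem Zc_lt_Z2c {H : Subgroup G} (hHN : H ≤ N) (hZH : Zc N < H) {p : ℕ} [Fact p.Prime]
    (hp : IsPGroup p ↥(H.map (QuotientGroup.mk' (Zc N)))) : Zc N < Z2c N H := by
  set ν := QuotientGroup.mk' (Zc N)
  obtain ⟨y, hy, hyZ⟩ := SetLike.exists_of_lt hZH
  haveI : Nontrivial ↥(H.map ν) := (nontrivial_iff_ne_bot _).mpr fun h =>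
    hyZ ((QuotientGroup.eq_one_iff y).mp (mem_bot.mp (h.le (mem_map_of_mem ν hy))))
  haveI := hp.center_nontrivial
  obtain ⟨⟨⟨w, hw⟩, hwc⟩, hw1⟩ := exists_ne (1 : center ↥(H.map ν))
  obtain ⟨u, hu, rfl⟩ := hw
  have hu2 : u ∈ Z2c N H := mem_Z2c.mpr ⟨hu, fun b hb => (QuotientGroup.eq_one_iff _).mp (by
    show ν (b * u * b⁻¹ * u⁻¹) = 1
    rw [map_mul, map_mul, map_mul, map_inv, map_inv,
      show ν b * ν u = ν u * ν b from congrArg Subtype.val (mem_center_iff.mp hwc ⟨ν b, mem_map_of_mem ν hb⟩)]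
    group)⟩
  refine lt_of_le_of_ne (fun z hz => mem_Z2c.mpr ⟨hZH.le hz, fun b hb => ?_⟩) fun e => hw1 ?_
  · rw [show b * z * b⁻¹ * z⁻¹ = 1 by rw [(mem_Zc.mp hz).2 b (hHN hb)]; group]
    exact one_mem _
  · exact Subtype.ext (Subtype.ext ((QuotientGroup.eq_one_iff u).mpr (e.ge hu2)))

theorem pi_eq_one {z : N} : QuotientGroup.mk' (center N) z = 1 ↔ (z : G) ∈ Zc N := by
  refine (QuotientGroup.eq_one_iff z).trans ?_
  rw [mem_center_iff, mem_Zc]
  exact ⟨fun h => ⟨z.2, fun m hm => congrArg Subtype.val (h ⟨m, hm⟩)⟩, fun h m => Subtype.ext (h.2 m m.2)⟩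

/-- A centralizer in `N` is abelian or is a `p`-group modulo the center. -/
theorem Hyp.cent_type (hyp : Hyp N) {x : G} (hx : x ∈ N) (hxZ : x ∉ Zc N) :
    (∀ a ∈ CN N x, ∀ b ∈ CN N x, a * b = b * a) ∨
      ∃ p : ℕ, p.Prime ∧ ∀ a ∈ CN N x, ∃ k : ℕ, a ^ p ^ k ∈ Zc N := by
  obtain ⟨p, i, hp, ⟨k, hk⟩, hiZ⟩ := exists_prime_part (K := Zc N) hxZ
  have hMx := hyp.cent_pow hx hxZ hiZ
  set M := centralizer ({x} : Set G) with hM
  by_cases hq : ∃ h ∈ CN N x, h ∉ Zc N ∧ ∃ q j : ℕ, q.Prime ∧ q ≠ p ∧ orderOf h = q ^ j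
  · left
    obtain ⟨h, hh, hhZ, q, j, hqp, hne', hj⟩ := hq
    have hh' := mem_CN.mp hh
    have hcq : centralizer ({h} : Set G) = M := by
      rw [hMx]
      exact hyp.cent_coprime hh'.1 hhZ (pow_mem hx i) hiZ ((show Commute h x from hh'.2).pow_right i)
        (by rw [hk, hj]; exact ((Nat.coprime_primes hqp hp).mpr hne').pow j k)
    suffices hK : CN N x ≤ CN N x ⊓ centralizer (CN N x : Set G) by
      intro a ha b hb
      exact mem_centralizer_iff.mp (hK hb).2 a ha
    intro a ha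
    by_contra haK
    obtain ⟨r, l, hr, ⟨e, he⟩, hlK⟩ := exists_prime_part haK
    have hal : a ^ l ∈ CN N x := pow_mem ha l
    have hal' := mem_CN.mp hal
    refine hlK ⟨hal, mem_centralizer_iff.mpr fun m hm => ?_⟩
    by_cases hlZ : a ^ l ∈ Zc N
    · exact (mem_Zc.mp hlZ).2 m (mem_CN.mp hm).1
    have hcl : centralizer ({a ^ l} : Set G) = M := by
      by_cases hrp : r = p
      · rw [hrp] at he
        rw [← hcq]
        refine hyp.cent_coprime hal'.1 hlZ hh'.1 hhZ ?_ (by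
          rw [he, hj]; exact ((Nat.coprime_primes hp hqp).mpr hne'.symm).pow e j)
        exact mem_cent.mp (hcq.ge (mem_cent.mpr hal'.2))
      · rw [hMx]
        exact hyp.cent_coprime hal'.1 hlZ (pow_mem hx i) hiZ ((show Commute (a ^ l) x from hal'.2).pow_right i)
          (by rw [he, hk]; exact ((Nat.coprime_primes hr hp).mpr hrp).pow e k)
    exact mem_cent.mp (hcl.ge (mem_cent.mpr (mem_CN.mp hm).2))
  · right
    push Not at hq
    refine ⟨p, hp, fun a ha => ⟨(orderOf a).factorization p, ?_⟩⟩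
    by_contra haZ
    set e := (orderOf a).factorization p
    obtain ⟨r, l, hr, ⟨d, hd⟩, hlZ⟩ := exists_prime_part haZ
    have hrp : r = p := by
      by_contra hne
      exact hq _ (pow_mem (pow_mem ha _) l) hlZ r d hr hne hd
    have hd0 : d = 0 := by
      by_contra hd0
      refine Nat.not_dvd_ordCompl hp (orderOf_pos a).ne' ?_
      have h1 : p ∣ orderOf ((a ^ p ^ e) ^ l) := by rw [hd, hrp]; exact dvd_pow_self p hd0
      refine h1.trans ((orderOf_pow_dvd l).trans ?_)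
      rw [orderOf_pow' _ (pow_ne_zero _ hp.ne_zero),
        Nat.gcd_eq_right (Nat.ordProj_dvd (orderOf a) p)]
    rw [hd0, pow_zero, orderOf_eq_one_iff] at hd
    exact hlZ (hd ▸ one_mem _)

/-- There is an abelian normal subgroup above the center. -/
theorem exists_abelian_normal : ∀ (n : ℕ) (N : Subgroup G) [N.Normal], Nat.card N = n → Hyp N → ¬ N ≤ Zc N →
    ∃ A : Subgroup G, A.Normal ∧ Zc N < A ∧ A ≤ N ∧ ∀ a ∈ A, ∀ b ∈ A, a * b = b * a := by
  intro n
  induction n using Nat.strong_induction_on with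
  | _ n ih =>
  intro N _ hn hyp hne
  classical
  by_contra hno
  have hnoR : ∀ R : Subgroup G, R.Normal → Zc N < R → R ≤ N →
      (∀ a ∈ R, ∀ b ∈ R, a * b * a⁻¹ * b⁻¹ ∈ Zc N) → False :=
    fun R h1 h2 h3 h4 => hno (hyp.exists_abelian h1 h2 h3 h4)
  have hnoA : ∀ A : Subgroup G, A.Normal → Zc N < A → A ≤ N → (∀ a ∈ A, ∀ b ∈ A, a * b = b * a) → False :=
    fun A h1 h2 h3 h4 => hno ⟨A, h1, h2, h3, h4⟩
  -- centralizers are self-normalizing in `N`
  have hself : ∀ x ∈ N, x ∉ Zc N → ∀ g ∈ N, (∀ a ∈ CN N x, g * a * g⁻¹ ∈ CN N x) → g ∈ CN N x := by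
    intro x hx hxZ g hg hga
    have hlt : Zc N < CN N x := lt_of_le_of_ne (Zc_le_CN hx) fun e => hxZ (e.ge (self_mem_CN hx))
    have hM : centralizer ({x} : Set G) ≤ normalizer (CN N x : Set G) := fun m hm => mem_normalizer_fintype
      fun a ha => ⟨Normal.conj_mem (H := N) inferInstance a ha.1 m,
        (centralizer ({x} : Set G)).mul_mem ((centralizer ({x} : Set G)).mul_mem hm ha.2)
          ((centralizer ({x} : Set G)).inv_mem hm)⟩
    rcases (hyp x hx hxZ).le_iff.mp hM with htop | heq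
    · exfalso
      haveI hHn : (CN N x).Normal := normalizer_eq_top_iff.mp htop
      rcases hyp.cent_type hx hxZ with hab | ⟨p, hp, hpH⟩
      · exact hnoA _ hHn hlt inf_le_left hab
      · haveI := Fact.mk hp
        have hpg : IsPGroup p ↥((CN N x).map (QuotientGroup.mk' (Zc N))) := by
          rintro ⟨_, a, ha, rfl⟩
          obtain ⟨k, hk⟩ := hpH a ha
          exact ⟨k, Subtype.ext ((map_pow _ a _).symm.trans ((QuotientGroup.eq_one_iff _).mpr hk))⟩
        refine hnoR _ (Z2c_normal (H := CN N x)) (Zc_lt_Z2c inf_le_left hlt hpg)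
          (inf_le_left.trans inf_le_left) fun a ha b hb => ?_
        exact (mem_Z2c.mp hb).2 a (mem_Z2c.mp ha).1
    · exact ⟨hg, heq.le (mem_normalizer_fintype hga)⟩
  set π := QuotientGroup.mk' (center N) with hπ
  have hπs : Function.Surjective π := QuotientGroup.mk'_surjective _
  have hcN : ∀ x : N, ∀ a : N, (a : G) ∈ CN N x ↔ a ∈ centralizer ({x} : Set N) := fun x a => by
    rw [mem_CN, mem_centralizer_singleton_iff]
    exact ⟨fun h => Subtype.ext h.2, fun h => ⟨a.2, congrArg Subtype.val h⟩⟩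
  have hcomap : ∀ x : N, ((centralizer ({x} : Set N)).map π).comap π = centralizer ({x} : Set N) := fun x => by
    rw [comap_map_eq, QuotientGroup.ker_mk', sup_eq_left.mpr (center_le_centralizer _)]
  by_cases hab : ∃ x ∈ N, x ∉ Zc N ∧ ∀ a ∈ CN N x, ∀ b ∈ CN N x, a * b = b * a
  · -- an abelian centralizer is a Frobenius complement modulo the center
    obtain ⟨x, hx, hxZ, hab⟩ := hab
    set H := centralizer ({⟨x, hx⟩} : Set N) with hH
    have hHab : ∀ h ∈ H, h ∉ center N → ∀ a, a ∈ centralizer ({h} : Set N) ↔ a ∈ H := by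
      intro h hh hhZ a
      have hh' : (h : G) ∈ CN N x := (hcN ⟨x, hx⟩ h).mpr hh
      have hhZ' : (h : G) ∉ Zc N := fun e => hhZ ((QuotientGroup.eq_one_iff h).mp (pi_eq_one.mpr e))
      have hle : ∀ b ∈ CN N x, b ∈ CN N h := fun b hb => mem_CN.mpr ⟨(mem_CN.mp hb).1, hab b hb h hh'⟩
      rw [← hcN, hH, ← hcN]
      refine ⟨fun ha => ?_, hle _⟩
      rcases hyp.cent_type h.2 hhZ' with hab' | ⟨p, hp, hpH⟩
      · exact mem_CN.mpr ⟨a.2, hab' _ ha _ (hle x (self_mem_CN hx))⟩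
      · by_contra hax
        haveI := Fact.mk hp
        set ν := QuotientGroup.mk' (Zc N)
        have hpg : IsPGroup p ↥((CN N (h : G)).map ν) := by
          rintro ⟨_, b, hb, rfl⟩
          obtain ⟨k, hk⟩ := hpH b hb
          exact ⟨k, Subtype.ext ((map_pow _ b _).symm.trans ((QuotientGroup.eq_one_iff _).mpr hk))⟩
        haveI := hpg.isNilpotent
        have hne : ((CN N x).map ν).subgroupOf ((CN N (h : G)).map ν) < ⊤ := by
          refine lt_top_iff_ne_top.mpr fun e => hax ?_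
          obtain ⟨c, hc, hca⟩ := subgroupOf_eq_top.mp e (mem_map_of_mem ν ha)
          have := QuotientGroup.eq.mp hca
          have h2 := (CN N x).mul_mem hc (Zc_le_CN hx this)
          rwa [mul_inv_cancel_left] at h2
        obtain ⟨⟨g, b, hb, rfl⟩, hg, hgn⟩ := SetLike.exists_of_lt (normalizerCondition_of_isNilpotent _ hne)
        refine hgn (mem_map_of_mem ν (hself x hx hxZ b (mem_CN.mp hb).1 fun c hc => ?_))
        obtain ⟨c', hc', hcc'⟩ := (mem_normalizer_iff.mp hg ⟨ν c, ⟨c, hle c hc, rfl⟩⟩).mp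
          (show ν c ∈ (CN N x).map ν from mem_map_of_mem ν hc)
        have h1 : ν c' = ν (b * c * b⁻¹) := by rw [map_mul, map_mul, map_inv]; exact hcc'
        have h2 := (CN N x).mul_mem hc' (Zc_le_CN hx (QuotientGroup.eq.mp h1))
        rwa [mul_inv_cancel_left] at h2
    have hfrob : Cfsg.IsFrobeniusComplement (H.map π) := by
      refine ⟨fun e => hxZ (pi_eq_one.mp (mem_bot.mp (e.le (mem_map_of_mem π
        (mem_centralizer_singleton_iff.mpr rfl))))), fun e => ?_, fun g hg => ?_⟩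
      · refine hxZ (mem_Zc.mpr ⟨hx, fun m hm => (mem_CN.mp ((hcN ⟨x, hx⟩ ⟨m, hm⟩).mpr ?_)).2⟩)
        rw [← hcomap, mem_comap, e]; exact mem_top _
      · obtain ⟨g, rfl⟩ := hπs g
        rw [eq_bot_iff]
        rintro y ⟨⟨h, hh, rfl⟩, hy⟩
        refine mem_bot.mpr ?_
        by_contra hy1
        have hhZ : h ∉ center N := fun e => hy1 ((QuotientGroup.eq_one_iff h).mpr e)
        have hk : g⁻¹ * h * g ∈ H := by
          rw [hH, ← hcomap, mem_comap, map_mul, map_mul, map_inv]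
          obtain ⟨z, hz, hz'⟩ := hy
          have hz'' : π g * z * (π g)⁻¹ = π h := hz'
          rw [← hz'']
          simpa [mul_assoc] using hz
        have hkZ : g⁻¹ * h * g ∉ center N := fun e => hhZ (by
          have := Normal.conj_mem (inferInstance : (center N).Normal) _ e g
          simpa [mul_assoc] using this)
        refine hg (mem_map_of_mem π ((hcN ⟨x, hx⟩ g).mp (hself x hx hxZ g g.2 fun a ha => ?_)))
        have haH : (⟨a, (mem_CN.mp ha).1⟩ : N) ∈ H := (hcN ⟨x, hx⟩ _).mp ha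
        have h1 := mem_centralizer_singleton_iff.mp ((hHab _ hk hkZ ⟨a, (mem_CN.mp ha).1⟩).mpr haH)
        refine (hcN ⟨x, hx⟩ (g * ⟨a, (mem_CN.mp ha).1⟩ * g⁻¹)).mpr
          ((hHab h hh hhZ _).mp (mem_centralizer_singleton_iff.mpr ?_))
        calc g * ⟨a, (mem_CN.mp ha).1⟩ * g⁻¹ * h = g * (⟨a, (mem_CN.mp ha).1⟩ * (g⁻¹ * h * g)) * g⁻¹ := by group
          _ = _ := by rw [h1]; group
    obtain ⟨K, -, hKn, hKc⟩ := Characters.frobenius_kernel_theorem hfrob
    set N1 := ⁅N, N⁆ with hN1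
    have hN1N : N1 ≤ N := commutator_le_left N N
    have hlt : N1 ≠ N := by
      intro e
      have h1 : commutator N ≤ K.comap π := by
        rw [_root_.commutator_def, commutator_le]
        intro a _ b _
        show π ⁅a, b⁆ ∈ K
        rw [map_commutatorElement, ← QuotientGroup.eq_one_iff]
        show QuotientGroup.mk' K ⁅π a, π b⁆ = 1
        rw [map_commutatorElement, commutatorElement_eq_one_iff_mul_comm]
        obtain ⟨k, hk, c, ⟨u, hu, rfl⟩, hkc⟩ := mem_sup_of_normal_left.mp (hKc.sup_eq_top.ge (mem_top (π a)))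
        obtain ⟨k', hk', c', ⟨v, hv, rfl⟩, hkc'⟩ := mem_sup_of_normal_left.mp (hKc.sup_eq_top.ge (mem_top (π b)))
        rw [← hkc, ← hkc', map_mul _ k, map_mul _ k', show QuotientGroup.mk' K k = 1 from (QuotientGroup.eq_one_iff k).mpr hk,
          show QuotientGroup.mk' K k' = 1 from (QuotientGroup.eq_one_iff k').mpr hk', one_mul, one_mul,
          ← map_mul (QuotientGroup.mk' K) (π u), ← map_mul (QuotientGroup.mk' K) (π v),
          show π u * π v = π v * π u by
            rw [← map_mul, ← map_mul]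
            exact congrArg π (Subtype.ext (hab _ ((hcN ⟨x, hx⟩ u).mpr hu) _ ((hcN ⟨x, hx⟩ v).mpr hv)))]
      have h2 : commutator N = ⊤ := by
        apply map_injective N.subtype_injective
        rw [_root_.commutator_def, Subgroup.map_commutator, ← MonoidHom.range_eq_map, range_subtype]
        exact e
      have h3 : K = ⊤ := by
        rw [h2, top_le_iff] at h1
        rw [← map_comap_eq_self_of_surjective hπs K, h1, map_top_of_surjective π hπs]
      exact hfrob.1 (by simpa [h3] using hKc.disjoint)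
    have hcard : Nat.card N1 < n := hn ▸ lt_of_le_of_ne (Nat.le_of_dvd Nat.card_pos (card_dvd_of_le hN1N))
      (fun e => hlt (eq_of_le_of_card_ge hN1N e.ge))
    have hsup : ∀ A : Subgroup G, A.Normal → A ≤ N1 → ¬ A ≤ Zc N → (∀ a ∈ A, ∀ b ∈ A, a * b = b * a) → False := by
      intro A hAn hAN hAZ hAc
      haveI := hAn
      refine hnoA (A ⊔ Zc N) inferInstance (lt_of_le_of_ne le_sup_right fun e => hAZ (le_sup_left.trans e.ge))
        (sup_le (hAN.trans hN1N) inf_le_left) fun a ha b hb => ?_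
      obtain ⟨a1, ha1, z1, hz1, rfl⟩ := mem_sup_of_normal_right.mp ha
      obtain ⟨b1, hb1, z2, hz2, rfl⟩ := mem_sup_of_normal_right.mp hb
      have c1 := (mem_Zc.mp hz1).2
      have c2 := (mem_Zc.mp hz2).2
      calc a1 * z1 * (b1 * z2) = a1 * (z1 * b1) * z2 := by group
        _ = a1 * b1 * (z1 * z2) := by rw [← c1 b1 (hN1N (hAN hb1))]; group
        _ = b1 * (a1 * z2) * z1 := by rw [hAc a1 ha1 b1 hb1, c2 z1 (mem_Zc.mp hz1).1]; group
        _ = _ := by rw [c2 a1 (hN1N (hAN ha1))]; group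
    by_cases h1 : N1 ≤ Zc N
    · exact hnoR N inferInstance (lt_of_le_of_ne inf_le_left fun e => hne e.ge) le_rfl fun a ha b hb => by
        have := h1 (commutator_mem_commutator ha hb)
        rwa [commutatorElement_def] at this
    by_cases h2 : N1 ≤ Zc N1
    · exact hsup N1 inferInstance le_rfl h1 fun a ha b hb => ((mem_Zc.mp (h2 hb)).2 a ha)
    obtain ⟨A, hAn, hZA, hAN, hAc⟩ := ih _ hcard N1 rfl (fun y hy hyZ => hyp y (hN1N hy) fun e => hyZ
      (mem_Zc.mpr ⟨hy, fun m hm => (mem_Zc.mp e).2 m (hN1N hm)⟩)) h2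
    exact hsup A hAn hAN (fun e => hZA.not_ge fun a ha => mem_Zc.mpr
      ⟨hAN ha, fun m hm => (mem_Zc.mp (e ha)).2 m (hN1N hm)⟩) hAc
  -- all centralizers are nonabelian: count
  push Not at hab
  haveI : Nontrivial (N ⧸ center N) := by
    obtain ⟨x, hx, hxZ⟩ := SetLike.not_le_iff_exists.mp hne
    exact ⟨⟨π ⟨x, hx⟩, 1, fun e => hxZ (pi_eq_one.mp e)⟩⟩
  haveI : ∀ p, Nonempty (Sylow p (N ⧸ center N)) := fun p => inferInstance
  let P : (p : ℕ) → Sylow p (N ⧸ center N) := fun p => Classical.arbitrary _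
  let E : ℕ → Subgroup N := fun p => ((P p : Subgroup (N ⧸ center N))).comap π
  let K : ℕ → Subgroup (N ⧸ center N) := fun p => (E p ⊓ centralizer (E p : Set N)).map π
  let s : Finset ℕ := (Nat.card (N ⧸ center N)).primeFactors.filter
    fun p => ∃ a ∈ E p, ∃ b ∈ E p, a * b ≠ b * a
  have hKc : ∀ p, ∀ c ∈ (P p : Subgroup (N ⧸ center N)), ∀ k ∈ K p, c * k = k * c := by
    rintro p c hc _ ⟨k, hk, rfl⟩
    obtain ⟨c, rfl⟩ := hπs c
    rw [← map_mul, ← map_mul, mem_centralizer_iff.mp hk.2 c (show c ∈ E p from hc)]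
  obtain ⟨y, hy1, hy⟩ := exists_not_covered P K s
    (fun p hp => ⟨Nat.prime_of_mem_primeFactors (Finset.mem_filter.mp hp).1,
      Nat.dvd_of_mem_primeFactors (Finset.mem_filter.mp hp).1⟩)
    (fun p _ c hc => mem_normalizer_fintype fun k hk => by rw [hKc p c hc k hk, mul_inv_cancel_right]; exact hk)
    (fun p hp => by
      haveI := Fact.mk (Nat.prime_of_mem_primeFactors (Finset.mem_filter.mp hp).1)
      obtain ⟨-, a, ha, b, hb, hab'⟩ := Finset.mem_filter.mp hp
      have hKP : K p ≤ (P p : Subgroup (N ⧸ center N)) := map_le_iff_le_comap.mpr inf_le_left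
      obtain ⟨i, hi⟩ := (P p).isPGroup'.exists_card_eq
      obtain ⟨j, hji, hj⟩ := (Nat.dvd_prime_pow Fact.out).mp (hi ▸ card_dvd_of_le hKP)
      suffices j + 2 ≤ i by
        rw [hi, hj, ← pow_add]
        exact Nat.pow_le_pow_right (Nat.Prime.pos Fact.out) (by omega)
      by_contra hlt
      refine hab' ?_
      have hab2 : ∀ u v : (P p : Subgroup (N ⧸ center N)), ∀ u' v' : N, π u' = u → π v' = v → u' * v' = v' * u' := by
        by_cases hall : (P p : Subgroup (N ⧸ center N)) ≤ K p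
        · intro u v u' v' hu hv
          obtain ⟨k, hk, hku⟩ := hall u.2
          have hz : k⁻¹ * u' ∈ center N := QuotientGroup.eq.mp (hku.trans hu.symm)
          have h1 := mem_centralizer_iff.mp hk.2 v' (show π v' ∈ (P p : Subgroup _) from hv ▸ v.2)
          rw [show u' = k * (k⁻¹ * u') by group]
          calc k * (k⁻¹ * u') * v' = k * v' * (k⁻¹ * u') := by rw [mul_assoc, ← mem_center_iff.mp hz v', mul_assoc]
            _ = _ := by rw [← h1, mul_assoc]
        · obtain ⟨w, hwP, hwK⟩ := SetLike.not_le_iff_exists.mp hall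
          obtain ⟨w', rfl⟩ := hπs w
          have hgen : (P p : Subgroup (N ⧸ center N)) ≤ K p ⊔ zpowers (π w') := by
            have hle : K p ⊔ zpowers (π w') ≤ (P p : Subgroup (N ⧸ center N)) := sup_le hKP (zpowers_le.mpr hwP)
            obtain ⟨m, hmi, hm⟩ := (Nat.dvd_prime_pow Fact.out).mp (hi ▸ card_dvd_of_le hle)
            have hlt' : Nat.card (K p) < Nat.card ↥(K p ⊔ zpowers (π w')) := lt_of_le_of_ne
              (Nat.le_of_dvd Nat.card_pos (card_dvd_of_le le_sup_left)) fun e => hwK ((eq_of_le_of_card_ge le_sup_left e.ge).ge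
                (mem_sup_right (mem_zpowers _)))
            rw [hj, hm] at hlt'
            have := (Nat.pow_lt_pow_iff_right (Nat.Prime.one_lt Fact.out)).mp hlt'
            exact (eq_of_le_of_card_ge hle (by
              rw [hi, hm]; exact Nat.pow_le_pow_right (Nat.Prime.pos Fact.out) (by omega))).ge
          have hpre : E p ≤ (E p ⊓ centralizer (E p : Set N)) ⊔ zpowers w' := by
            have h1 : E p ≤ (((E p ⊓ centralizer (E p : Set N)) ⊔ zpowers w').map π).comap π :=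
              comap_mono (by rw [Subgroup.map_sup, MonoidHom.map_zpowers]; exact hgen)
            refine h1.trans ?_
            rw [comap_map_eq, QuotientGroup.ker_mk']
            refine sup_le le_rfl (le_sup_of_le_left (le_inf (fun z hz => ?_) (center_le_centralizer _)))
            show π z ∈ (P p : Subgroup (N ⧸ center N))
            rw [show π z = 1 from (QuotientGroup.eq_one_iff z).mpr hz]; exact one_mem _
          intro u v u' v' hu hv
          have hu' : u' ∈ E p := show π u' ∈ (P p : Subgroup _) from hu ▸ u.2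
          have hv' : v' ∈ E p := show π v' ∈ (P p : Subgroup _) from hv ▸ v.2
          have hc : ∀ c ∈ E p ⊓ centralizer (E p : Set N), ∀ d ∈ E p, d * c = c * d :=
            fun c hc d hd => mem_centralizer_iff.mp hc.2 d hd
          have hcw : E p ≤ centralizer ({w'} : Set N) := hpre.trans (sup_le
            (fun c hc' => mem_centralizer_singleton_iff.mpr (hc c hc' w' hwP).symm)
            (zpowers_le.mpr (mem_centralizer_singleton_iff.mpr rfl)))
          have hall' : E p ≤ centralizer ({u'} : Set N) := hpre.trans (sup_le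
            (fun c hc' => mem_centralizer_singleton_iff.mpr (hc c hc' u' hu').symm)
            (zpowers_le.mpr (mem_centralizer_singleton_iff.mpr (mem_centralizer_singleton_iff.mp (hcw hu')).symm)))
          exact (mem_centralizer_singleton_iff.mp (hall' hv')).symm
      exact hab2 ⟨π a, ha⟩ ⟨π b, hb⟩ a b rfl rfl)
  obtain ⟨y, rfl⟩ := hπs y
  have hyZ : (y : G) ∉ Zc N := fun e => hy1 (pi_eq_one.mpr e)
  obtain ⟨u, hu, v, hv, huv⟩ := hab y y.2 hyZ
  obtain ⟨p, hp, hpH⟩ := (hyp.cent_type y.2 hyZ).resolve_left fun h => huv (h u hu v hv)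
  haveI := Fact.mk hp
  set H := centralizer ({y} : Set N) with hH
  have hHp : IsPGroup p ↥(H.map π) := by
    rintro ⟨_, a, ha, rfl⟩
    obtain ⟨k, hk⟩ := hpH a ((hcN y a).mpr ha)
    exact ⟨k, Subtype.ext ((map_pow _ a _).symm.trans (pi_eq_one.mpr hk))⟩
  obtain ⟨S, hS⟩ := hHp.exists_le_sylow
  have hSeq : H.map π = (S : Subgroup (N ⧸ center N)) := by
    by_contra hSne
    haveI := S.isPGroup'.isNilpotent
    have hlt : (H.map π).subgroupOf (S : Subgroup _) < ⊤ := lt_top_iff_ne_top.mpr fun e =>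
      hSne (le_antisymm hS (subgroupOf_eq_top.mp e))
    obtain ⟨⟨g, hgS⟩, hg, hgn⟩ := SetLike.exists_of_lt (normalizerCondition_of_isNilpotent _ hlt)
    obtain ⟨g, rfl⟩ := hπs g
    refine hgn (mem_map_of_mem π ((hcN y g).mp (hself y y.2 hyZ g g.2 fun a ha => ?_)))
    have haH : (⟨a, (mem_CN.mp ha).1⟩ : N) ∈ H := (hcN y _).mp ha
    have h1 := (mem_normalizer_iff.mp hg ⟨π ⟨a, (mem_CN.mp ha).1⟩, hS (mem_map_of_mem π haH)⟩).mp
      (show π ⟨a, (mem_CN.mp ha).1⟩ ∈ H.map π from mem_map_of_mem π haH)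
    refine (hcN y (g * ⟨a, (mem_CN.mp ha).1⟩ * g⁻¹)).mpr ?_
    show g * ⟨a, (mem_CN.mp ha).1⟩ * g⁻¹ ∈ H
    rw [hH, ← hcomap, mem_comap, map_mul, map_mul, map_inv]
    exact h1
  obtain ⟨g, hg⟩ := MulAction.exists_smul_eq (N ⧸ center N) (P p) S
  obtain ⟨g, rfl⟩ := hπs g
  have hconj : ∀ a : N, a ∈ E p ↔ g * a * g⁻¹ ∈ H := fun a => by
    rw [hH, ← hcomap]
    show π a ∈ (P p : Subgroup _) ↔ π (g * a * g⁻¹) ∈ H.map π
    rw [hSeq, ← hg, Sylow.coe_subgroup_smul, mem_pointwise_smul_iff_inv_smul_mem]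
    simp [mul_assoc]
  have huN := (mem_CN.mp hu).1
  have hvN := (mem_CN.mp hv).1
  have hps : p ∈ s := by
    refine Finset.mem_filter.mpr ⟨Nat.mem_primeFactors.mpr ⟨hp, ?_, Nat.card_pos.ne'⟩,
      g⁻¹ * ⟨u, huN⟩ * g, ?_, g⁻¹ * ⟨v, hvN⟩ * g, ?_, fun e => huv ?_⟩
    · obtain ⟨k, hk⟩ := hHp.exists_card_eq
      rcases k with _ | k
      · exfalso
        rw [pow_zero] at hk
        exact hy1 (mem_bot.mp ((eq_bot_of_card_eq _ hk).le
          (mem_map_of_mem π (mem_centralizer_singleton_iff.mpr rfl))))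
      · exact (dvd_pow_self p k.succ_ne_zero).trans (hk ▸ card_subgroup_dvd_card _)
    · rw [hconj]; simpa [mul_assoc] using (hcN y ⟨u, huN⟩).mp hu
    · rw [hconj]; simpa [mul_assoc] using (hcN y ⟨v, hvN⟩).mp hv
    · have h1 : g * (g⁻¹ * ⟨u, huN⟩ * g * (g⁻¹ * ⟨v, hvN⟩ * g)) * g⁻¹ =
          g * (g⁻¹ * ⟨v, hvN⟩ * g * (g⁻¹ * ⟨u, huN⟩ * g)) * g⁻¹ := by rw [e]
      exact congrArg Subtype.val (show (⟨u, huN⟩ : N) * ⟨v, hvN⟩ = ⟨v, hvN⟩ * ⟨u, huN⟩ by
        simpa [mul_assoc] using h1)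
  refine hy p hps (π g) ⟨g⁻¹ * y * g, ⟨?_, mem_centralizer_iff.mpr fun a ha => ?_⟩, by
    rw [map_mul, map_mul, map_inv]⟩
  · show g⁻¹ * y * g ∈ E p
    rw [hconj]
    simpa [mul_assoc] using (mem_centralizer_singleton_iff.mpr rfl : y ∈ centralizer ({y} : Set N))
  · have h1 := mem_centralizer_singleton_iff.mp ((hconj a).mp ha)
    calc a * (g⁻¹ * y * g) = g⁻¹ * (g * a * g⁻¹ * y) * g := by group
      _ = _ := by rw [h1]; group

end Cfsg.Agent.GenA.MaxCentNormal
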