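import Cfsg.Agent.GenA.MaxCentNormal
import Cfsg.Prelude.Def_Transfer

/-!
Structure of a normal subgroup all whose noncentral elements have maximal centralizers.
-/

set_option autoImplicit false
set_option linter.unusedSectionVars false

namespace Cfsg.Agent.GenA.MaxCentNormal

open Subgroup
open scoped Pointwise

variable {G : Type*} [Group G] [Finite G] {N : Subgroup G} [N.Normal]

/-- If a normal `R ≤ N` is not central in `N` and `[R, N] ≤ B`, then `[G, N] ≤ B`. -/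
theorem Hyp.comm_le (hyp : Hyp N) (R B : Subgroup G) [hRn : R.Normal] [hBn : B.Normal] (hRN : R ≤ N)
    (hRZ : ¬ R ≤ Zc N) (hRB : ∀ r ∈ R, ∀ y ∈ N, r * y * r⁻¹ * y⁻¹ ∈ B) :
    ∀ y ∈ N, ∀ g : G, g * y * g⁻¹ * y⁻¹ ∈ B := by
  have hout : ∀ y ∈ N, y ∉ centralizer (R : Set G) → ∀ g : G, g * y * g⁻¹ * y⁻¹ ∈ B := by
    intro y hy hyR g
    have hyZ : y ∉ Zc N := fun h => hyR (mem_centralizer_iff.mpr fun r hr => (mem_Zc.mp h).2 r (hRN hr))
    have hne : ¬ R ≤ centralizer ({y} : Set G) := fun h =>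
      hyR (mem_centralizer_iff.mpr fun r hr => mem_cent.mp (h hr))
    have htop : centralizer ({y} : Set G) ⊔ R = ⊤ :=
      (hyp y hy hyZ).2 _ (lt_of_le_not_ge le_sup_left fun h => hne (le_sup_right.trans h))
    obtain ⟨c, hc, r, hr, rfl⟩ := mem_sup_of_normal_right.mp (htop.ge (mem_top g))
    have hc' := mem_cent.mp hc
    have h1 : c * r * y * (c * r)⁻¹ * y⁻¹ = c * (r * y * r⁻¹ * y⁻¹) * c⁻¹ := by
      calc c * r * y * (c * r)⁻¹ * y⁻¹ = c * (r * y * r⁻¹) * (y * c)⁻¹ := by group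
        _ = _ := by rw [← hc']; group
    rw [h1]
    exact hBn.conj_mem _ (hRB r hr y hy) c
  let S : Subgroup G :=
    { carrier := {y | ∀ g : G, g * y * g⁻¹ * y⁻¹ ∈ B}
      one_mem' := fun g => by simp [one_mem]
      mul_mem' := fun {a b} ha hb g => by
        rw [show g * (a * b) * g⁻¹ * (a * b)⁻¹ = (g * a * g⁻¹ * a⁻¹) * (a * (g * b * g⁻¹ * b⁻¹) * a⁻¹) by group]
        exact mul_mem (ha g) (hBn.conj_mem _ (hb g) a)
      inv_mem' := fun {a} ha g => by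
        rw [show g * a⁻¹ * g⁻¹ * a⁻¹⁻¹ = a⁻¹ * (g * a * g⁻¹ * a⁻¹)⁻¹ * a⁻¹⁻¹ by group]
        exact hBn.conj_mem _ (inv_mem (ha g)) _ }
  intro y hy g
  by_cases hyR : y ∈ centralizer (R : Set G)
  · obtain ⟨r, hr, hrZ⟩ := SetLike.not_le_iff_exists.mp hRZ
    obtain ⟨m, hm, hmr⟩ : ∃ m ∈ N, m * r ≠ r * m := by
      by_contra h
      push Not at h
      exact hrZ (mem_Zc.mpr ⟨hRN hr, h⟩)
    have hmR : m ∉ centralizer (R : Set G) := fun h => hmr (mem_centralizer_iff.mp h r hr).symm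
    have hymR : y * m ∉ centralizer (R : Set G) := fun h => hmR (((centralizer (R : Set G)).mul_mem_cancel_left hyR).mp h)
    have h1 : y * m ∈ S := hout _ (mul_mem hy hm) hymR
    have h2 : m ∈ S := hout _ hm hmR
    exact (S.mul_mem_cancel_right h2).mp h1 g
  · exact hout y hy hyR g

/-- A nilpotent-by-hypothesis `N` is elementary abelian modulo the center. -/
theorem Hyp.elementary_of_isPGroup (hyp : Hyp N) (hne : ¬ N ≤ Zc N) {p : ℕ} [Fact p.Prime]
    (hp : ∀ x ∈ N, ∃ k : ℕ, x ^ p ^ k ∈ Zc N) :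
    ∀ x ∈ N, ∀ y ∈ N, x * y * x⁻¹ * y⁻¹ ∈ Zc N ∧ y ^ p ∈ Zc N := by
  have hZN : Zc N < N := lt_of_le_of_ne inf_le_left fun e => hne e.ge
  have hpg : IsPGroup p ↥(N.map (QuotientGroup.mk' (Zc N))) := by
    rintro ⟨_, a, ha, rfl⟩
    obtain ⟨k, hk⟩ := hp a ha
    exact ⟨k, Subtype.ext ((map_pow _ a _).symm.trans ((QuotientGroup.eq_one_iff _).mpr hk))⟩
  have hW := Zc_lt_Z2c (N := N) le_rfl hZN hpg
  have hWB : ∀ r ∈ Z2c N N, ∀ y ∈ N, r * y * r⁻¹ * y⁻¹ ∈ Zc N := fun r hr y hy => by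
    have := inv_mem ((mem_Z2c.mp hr).2 y hy)
    simpa [mul_assoc] using this
  have hcomm : ∀ y ∈ N, ∀ g : G, g * y * g⁻¹ * y⁻¹ ∈ Zc N :=
    hyp.comm_le (Z2c N N) (Zc N) inf_le_left hW.not_ge hWB
  intro x hx y hy
  refine ⟨hcomm y hy x, ?_⟩
  by_contra hyp'
  obtain ⟨x', hx', hxy⟩ : ∃ x' ∈ N, x' * y ^ p ≠ y ^ p * x' := by
    by_contra h
    push Not at h
    exact hyp' (mem_Zc.mpr ⟨pow_mem hy p, h⟩)
  set c := x' * y * x'⁻¹ * y⁻¹ with hc
  have hcZ : c ∈ Zc N := hcomm y hy x'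
  have hcc : ∀ m ∈ N, m * c = c * m := (mem_Zc.mp hcZ).2
  have hxyk : ∀ k : ℕ, x' * y ^ k * x'⁻¹ = c ^ k * y ^ k := by
    intro k
    induction k with
    | zero => simp
    | succ k ih =>
      have h1 : y ^ k * c = c * y ^ k := hcc _ (pow_mem hy k)
      calc x' * y ^ (k + 1) * x'⁻¹ = (x' * y ^ k * x'⁻¹) * (x' * y * x'⁻¹) := by rw [pow_succ]; group
        _ = c ^ k * (y ^ k * c) * y := by rw [ih, hc]; group
        _ = _ := by rw [h1, pow_succ, pow_succ]; group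
  have hxky : ∀ k : ℕ, x' ^ k * y * (x' ^ k)⁻¹ = c ^ k * y := by
    intro k
    induction k with
    | zero => simp
    | succ k ih =>
      have h1 : x' * c ^ k = c ^ k * x' := (show Commute x' c from hcc x' hx').pow_right k
      calc x' ^ (k + 1) * y * (x' ^ (k + 1))⁻¹ = x' * (x' ^ k * y * (x' ^ k)⁻¹) * x'⁻¹ := by rw [pow_succ']; group
        _ = (x' * c ^ k) * y * x'⁻¹ := by rw [ih]; group
        _ = _ := by rw [h1, pow_succ, hc]; group
  have hyZ : y ∉ Zc N := fun h => hyp' (pow_mem h p)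
  obtain ⟨k, hk⟩ := hp y hy
  have hck : c ^ p ^ k = 1 := by
    have h1 := hxyk (p ^ k)
    rw [(mem_Zc.mp hk).2 x' hx', mul_inv_cancel_right] at h1
    exact mul_eq_right.mp h1.symm
  obtain ⟨e, -, he⟩ := (Nat.dvd_prime_pow Fact.out).mp (orderOf_dvd_of_pow_eq_one hck)
  have hcp : c ^ p ≠ 1 := fun h => hxy (by
    have h1 := hxyk p
    rw [h, one_mul] at h1
    exact mul_inv_eq_iff_eq_mul.mp h1)
  have he2 : 2 ≤ e := by
    by_contra hlt
    exact hcp (orderOf_dvd_iff_pow_eq_one.mp (he ▸ (pow_dvd_pow p (show e ≤ 1 by omega)).trans (pow_one p).dvd))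
  have hp1 := (Fact.out : p.Prime).one_lt
  have hu : c ^ p ^ (e - 1) ≠ 1 := fun h => by
    have := Nat.le_of_dvd (pow_pos (Nat.Prime.pos Fact.out) _) (he ▸ orderOf_dvd_of_pow_eq_one h)
    have := Nat.pow_lt_pow_right hp1 (show e - 1 < e by omega)
    omega
  have huZ : y ^ p ^ (e - 1) ∉ Zc N := fun h => hu (by
    have h1 := hxyk (p ^ (e - 1))
    rw [(mem_Zc.mp h).2 x' hx', mul_inv_cancel_right] at h1
    exact mul_eq_right.mp h1.symm)
  have hxp : x' ^ p ∈ centralizer ({y} : Set G) := by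
    rw [hyp.cent_pow hy hyZ huZ, mem_cent]
    have h1 : x' ^ p * y * (x' ^ p)⁻¹ = c ^ p * y := hxky p
    have hcy : Commute (c ^ p) y := ((show Commute y c from hcc y hy).symm).pow_left p
    refine mul_inv_eq_iff_eq_mul.mp ?_
    calc x' ^ p * y ^ p ^ (e - 1) * (x' ^ p)⁻¹ = (x' ^ p * y * (x' ^ p)⁻¹) ^ p ^ (e - 1) := (conj_pow).symm
      _ = (c ^ p) ^ p ^ (e - 1) * y ^ p ^ (e - 1) := by rw [h1, hcy.mul_pow]
      _ = _ := by
        rw [← pow_mul, ← pow_succ', show e - 1 + 1 = e by omega, ← he, pow_orderOf_eq_one, one_mul]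
  refine hcp ?_
  have h1 := hxky p
  rw [mem_cent.mp hxp, mul_inv_cancel_right] at h1
  exact mul_eq_right.mp h1.symm

/-- A group with an abelian normal subgroup `K` of prime index `q`, and an element `τ` of order `q` acting
without fixed points on `K`, is a Frobenius group. -/
theorem frobenius_of_prime_index {Q : Type*} [Group Q] [Finite Q] (K : Subgroup Q) [K.Normal] {q : ℕ}
    (hq : q.Prime) (hidx : K.index = q) (hK : K ≠ ⊥) (hKc : ∀ a ∈ K, ∀ b ∈ K, a * b = b * a) (τ : Q)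
    (hτ : orderOf τ = q) (hτK : τ ∉ K) (hfix : ∀ a ∈ K, a * τ = τ * a → a = 1) :
    Cfsg.IsFrobeniusComplement (zpowers τ) ∧ (K : Set Q) = Cfsg.frobeniusKernel (zpowers τ) ∧
      Nat.card (zpowers τ) = q := by
  haveI := Fact.mk hq
  have hcard : Nat.card (zpowers τ) = q := by rw [Nat.card_zpowers, hτ]
  have hprime : ∀ H : Subgroup Q, H ≤ zpowers τ → H ≠ ⊥ → H = zpowers τ := fun H hH hH0 => by
    refine eq_of_le_of_card_ge hH (le_of_eq ?_)
    rcases (Nat.dvd_prime hq).mp (hcard ▸ card_dvd_of_le hH) with h | h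
    · exact absurd (eq_bot_of_card_eq _ h) hH0
    · rw [h, hcard]
  have hKτ : K ⊓ zpowers τ = ⊥ := by
    by_contra h
    exact hτK ((hprime _ inf_le_right h).ge (mem_zpowers τ)).1
  have hmaxK : K ⊔ zpowers τ = ⊤ := by
    have hd : (K ⊔ zpowers τ).index ∣ q := hidx ▸ index_dvd_of_le le_sup_left
    rcases (Nat.dvd_prime hq).mp hd with h | h
    · exact index_eq_one.mp h
    · exfalso
      refine hτK ((eq_of_le_of_card_ge (le_sup_left (a := K) (b := zpowers τ)) (le_of_eq ?_)).ge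
        (mem_sup_right (mem_zpowers τ)))
      have h1 := card_mul_index K
      have h2 := card_mul_index (K ⊔ zpowers τ)
      rw [hidx, ← h2, h] at h1
      exact (Nat.eq_of_mul_eq_mul_right hq.pos h1).symm
  have hpowfix : ∀ (s : Q), s ∈ zpowers τ → s ≠ 1 → ∀ a ∈ K, a * s = s * a → a = 1 := by
    intro s hs hs1 a ha hc
    refine hfix a ha ?_
    have h1 : zpowers s = zpowers τ := hprime _ (zpowers_le.mpr hs) (fun h => hs1 (zpowers_eq_bot.mp h))
    obtain ⟨i, hi⟩ := mem_zpowers_iff.mp (h1.ge (mem_zpowers τ))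
    rw [← hi]
    exact ((show Commute a s from hc).zpow_right i).eq
  -- every element outside `K` is conjugate into the complement
  have hout : ∀ x : Q, x ∉ K → ∃ g : Q, x ∈ MulAut.conj g • zpowers τ := by
    intro x hx
    obtain ⟨k, hk, s, hs, rfl⟩ := mem_sup_of_normal_left.mp (hmaxK.ge (mem_top x))
    have hs1 : s ≠ 1 := fun h => hx (by rw [h, mul_one]; exact hk)
    have hKn : K.Normal := inferInstance
    let f : K → K := fun b => ⟨b * (s * (b : Q)⁻¹ * s⁻¹), K.mul_mem b.2 (hKn.conj_mem _ (K.inv_mem b.2) s)⟩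
    have hf : Function.Injective f := by
      intro a b hab
      have h : (a : Q) * (s * (a : Q)⁻¹ * s⁻¹) = b * (s * (b : Q)⁻¹ * s⁻¹) := congrArg Subtype.val hab
      have h2 : (b : Q)⁻¹ * a * s = s * ((b : Q)⁻¹ * a) := by
        calc (b : Q)⁻¹ * a * s = (b : Q)⁻¹ * (a * (s * (a : Q)⁻¹ * s⁻¹)) * s * a := by group
          _ = _ := by rw [h]; group
      have h3 := hpowfix s hs hs1 _ (K.mul_mem (K.inv_mem b.2) a.2) h2
      exact Subtype.ext (inv_mul_eq_one.mp h3).symm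
    obtain ⟨b, hb⟩ := (Finite.injective_iff_surjective.mp hf) ⟨k, hk⟩
    refine ⟨(b : Q), ?_⟩
    have hb' : (b : Q) * (s * (b : Q)⁻¹ * s⁻¹) = k := congrArg Subtype.val hb
    rw [mem_pointwise_smul_iff_inv_smul_mem, ← hb']
    simpa [mul_assoc] using hs
  have hne : zpowers τ ≠ ⊤ := fun h => hK (by rw [← inf_top_eq K, ← h, hKτ])
  refine ⟨⟨fun h => hτK ((zpowers_eq_bot.mp h) ▸ one_mem K), hne, fun g hg => ?_⟩, ?_, hcard⟩
  · by_contra hI
    have h1 := hprime _ inf_le_left hI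
    have hτg : g⁻¹ * τ * g ∈ zpowers τ := by
      have : τ ∈ MulAut.conj g • zpowers τ := (h1.ge (mem_zpowers τ)).2
      rw [mem_pointwise_smul_iff_inv_smul_mem] at this
      simpa [mul_assoc] using this
    obtain ⟨k, hk, s, hs, rfl⟩ := mem_sup_of_normal_left.mp (hmaxK.ge (mem_top g))
    have hk1 : k⁻¹ * τ * k ∈ zpowers τ := by
      have h2 := mul_mem (mul_mem hs hτg) (inv_mem hs)
      simpa [mul_assoc] using h2
    have hKn : K.Normal := inferInstance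
    have hd : k⁻¹ * τ * k * τ⁻¹ ∈ K ⊓ zpowers τ := ⟨by
      rw [mul_assoc k⁻¹, mul_assoc k⁻¹]
      exact K.mul_mem (K.inv_mem hk) (hKn.conj_mem k hk τ), (zpowers τ).mul_mem hk1 ((zpowers τ).inv_mem (mem_zpowers τ))⟩
    rw [hKτ, mem_bot, mul_inv_eq_one, mul_assoc, inv_mul_eq_iff_eq_mul] at hd
    refine hg ?_
    rw [hfix k hk hd.symm, one_mul]
    exact hs
  · ext x
    constructor
    · intro hx
      by_cases hx1 : x = 1
      · exact Or.inl hx1
      refine Or.inr fun g hg => hx1 ?_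
      rw [mem_pointwise_smul_iff_inv_smul_mem] at hg
      have h1 : g⁻¹ * x * g ∈ K ⊓ zpowers τ := ⟨by
        simpa using (inferInstance : K.Normal).conj_mem x hx g⁻¹, by simpa [mul_assoc] using hg⟩
      rw [hKτ, mem_bot] at h1
      simpa [mul_assoc, inv_mul_eq_one] using congrArg (fun y => g * y * g⁻¹) h1
    · rintro (rfl | h)
      · exact one_mem K
      · by_contra hx
        obtain ⟨g, hg⟩ := hout x hx
        exact h g hg

/-- The structure theorem. -/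
theorem structure_theorem (hyp : Hyp N) :
    (∃ p : ℕ, p.Prime ∧ Cfsg.IsElementaryAbelian p (⊤ : Subgroup (↥N ⧸ center ↥N))) ∨
    (∃ (Q K : Subgroup (↥N ⧸ center ↥N)) (p : ℕ), p.Prime ∧ Cfsg.IsFrobeniusComplement Q ∧ (Nat.card ↥Q).Prime ∧
      K.Normal ∧ (K : Set (↥N ⧸ center ↥N)) = Cfsg.frobeniusKernel Q ∧ Cfsg.IsElementaryAbelian p K) := by
  set π := QuotientGroup.mk' (center N) with hπ
  have hπs : Function.Surjective π := QuotientGroup.mk'_surjective _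
  have helem : ∀ p : ℕ, (∀ x ∈ N, ∀ y ∈ N, x * y * x⁻¹ * y⁻¹ ∈ Zc N ∧ y ^ p ∈ Zc N) →
      Cfsg.IsElementaryAbelian p (⊤ : Subgroup (↥N ⧸ center ↥N)) := by
    intro p h
    refine ⟨⟨⟨fun a b => Subtype.ext ?_⟩⟩, fun a _ => ?_⟩
    · obtain ⟨a', ha⟩ := hπs a.1
      obtain ⟨b', hb⟩ := hπs b.1
      show a.1 * b.1 = b.1 * a.1
      rw [← ha, ← hb]
      have h1 : π (a' * b' * a'⁻¹ * b'⁻¹) = 1 := pi_eq_one.mpr (h a' a'.2 b' b'.2).1
      rw [map_mul, map_mul, map_mul, map_inv, map_inv, mul_inv_eq_one, mul_inv_eq_iff_eq_mul] at h1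
      exact h1
    · obtain ⟨a', rfl⟩ := hπs a
      rw [← map_pow]
      exact pi_eq_one.mpr (h a' a'.2 a' a'.2).2
  by_cases hne : N ≤ Zc N
  · exact Or.inl ⟨2, Nat.prime_two, helem 2 fun x hx y hy => ⟨hne (N.mul_mem (N.mul_mem (N.mul_mem hx hy)
      (N.inv_mem hx)) (N.inv_mem hy)), hne (pow_mem hy 2)⟩⟩
  have hpcase : ∀ p : ℕ, p.Prime → (∀ x ∈ N, ∃ k : ℕ, x ^ p ^ k ∈ Zc N) →
      Cfsg.IsElementaryAbelian p (⊤ : Subgroup (↥N ⧸ center ↥N)) := fun p hp h => by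
    haveI := Fact.mk hp
    exact helem p (hyp.elementary_of_isPGroup hne h)
  by_cases hPG : ∃ p : ℕ, p.Prime ∧ ∀ x ∈ N, ∃ k : ℕ, x ^ p ^ k ∈ Zc N
  · obtain ⟨p, hp, h⟩ := hPG
    exact Or.inl ⟨p, hp, hpcase p hp h⟩
  right
  obtain ⟨A0, hA0⟩ := exists_abelian_normal _ N rfl hyp hne
  obtain ⟨A, -, hAmax⟩ := Set.Finite.exists_le_maximal
    (Set.toFinite {A : Subgroup G | A.Normal ∧ Zc N < A ∧ A ≤ N ∧ ∀ a ∈ A, ∀ b ∈ A, a * b = b * a}) hA0
  obtain ⟨hAn, hZA, hAN, hAc⟩ := hAmax.1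
  haveI := hAn
  have hGN : ∀ y ∈ N, ∀ g : G, g * y * g⁻¹ * y⁻¹ ∈ A :=
    hyp.comm_le A A hAN hZA.not_ge fun r hr y hy => by
      rw [mul_assoc r, mul_assoc r]
      exact mul_mem hr (hAn.conj_mem _ (inv_mem hr) y)
  have hCA : ∀ c ∈ N, (∀ a ∈ A, a * c = c * a) → c ∈ A := by
    intro c hc hcA
    have hnA : (A ⊔ zpowers c).Normal := ⟨fun x hx g => by
      obtain ⟨a, ha, w, hw, rfl⟩ := mem_sup_of_normal_left.mp hx
      obtain ⟨i, rfl⟩ := mem_zpowers_iff.mp hw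
      rw [show g * (a * c ^ i) * g⁻¹ = (g * a * g⁻¹) * (g * c ^ i * g⁻¹ * (c ^ i)⁻¹) * c ^ i by group]
      exact mul_mem (mul_mem (mem_sup_left (hAn.conj_mem a ha g)) (mem_sup_left (hGN _ (zpow_mem hc i) g)))
        (mem_sup_right (zpow_mem (mem_zpowers c) i))⟩
    have hle := hAmax.2 (y := A ⊔ zpowers c) ⟨hnA, hZA.trans_le le_sup_left,
      sup_le hAN (zpowers_le.mpr hc), fun x hx y hy => ?_⟩ le_sup_left
    · exact hle (mem_sup_right (mem_zpowers c))
    · obtain ⟨a, ha, w, hw, rfl⟩ := mem_sup_of_normal_left.mp hx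
      obtain ⟨b, hb, z, hz, rfl⟩ := mem_sup_of_normal_left.mp hy
      obtain ⟨i, rfl⟩ := mem_zpowers_iff.mp hw
      obtain ⟨j, rfl⟩ := mem_zpowers_iff.mp hz
      have hai : ∀ a ∈ A, ∀ i : ℤ, a * c ^ i = c ^ i * a := fun a ha i => (show Commute a c from hcA a ha).zpow_right i
      calc a * c ^ i * (b * c ^ j) = a * (c ^ i * b) * c ^ j := by group
        _ = a * b * (c ^ i * c ^ j) := by rw [← hai b hb i]; group
        _ = b * a * (c ^ j * c ^ i) := by rw [hAc a ha b hb, ← zpow_add, add_comm, zpow_add]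
        _ = b * (a * c ^ j) * c ^ i := by group
        _ = _ := by rw [hai a ha j]; group
  have hACN : ∀ a ∈ A, A ≤ CN N a := fun a ha x hx => mem_CN.mpr ⟨hAN hx, hAc x hx a ha⟩
  -- centralizers of elements of `A` meet `N` in normal subgroups of prime index
  have hprime : ∀ a ∈ A, a ∉ Zc N → ∃ q : ℕ, q.Prime ∧ (CN N a).relIndex N = q ∧
      ∀ n ∈ N, ∀ m ∈ CN N a, n * m * n⁻¹ ∈ CN N a := by
    intro a ha haZ
    set M := centralizer ({a} : Set G) with hM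
    have hMmax : IsCoatom M := hyp a (hAN ha) haZ
    have hAM : A ≤ M := fun x hx => mem_cent.mpr (hAc x hx a ha)
    have hNM : N ≤ normalizer (M : Set G) := fun n hn => mem_normalizer_fintype fun m hm => by
      show n * m * n⁻¹ ∈ M
      rw [show n * m * n⁻¹ = (m * n * m⁻¹ * n⁻¹)⁻¹ * m by group]
      exact mul_mem (hAM (inv_mem (hGN n hn m))) hm
    have hnot : ¬ N ≤ M := fun h => haZ (mem_Zc.mpr ⟨hAN ha, fun n hn => mem_cent.mp (h hn)⟩)
    have htop : normalizer (M : Set G) = ⊤ :=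
      (hMmax.le_iff.mp le_normalizer).resolve_right fun e => hnot (hNM.trans e.le)
    haveI : M.Normal := normalizer_eq_top_iff.mp htop
    have hsup : N ⊔ M = ⊤ := hMmax.2 _ (lt_of_le_not_ge le_sup_right fun h => hnot (le_sup_left.trans h))
    refine ⟨M.index, Solvable.Basics.index_prime_of_normal_coatom hMmax, ?_, fun n hn m hm => ?_⟩
    · rw [CN, inf_relIndex_left, ← hM, ← relIndex_sup_right, hsup, relIndex_top_right]
    · exact ⟨N.mul_mem (N.mul_mem hn hm.1) (N.inv_mem hn), (inferInstance : M.Normal).conj_mem m hm.2 n⟩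
  -- a part of an element outside a normal subgroup of index `q` is a `q`-element
  have hqpart : ∀ (H : Subgroup G) (q : ℕ), q.Prime → H ≤ N → H.relIndex N = q →
      (∀ n ∈ N, ∀ m ∈ H, n * m * n⁻¹ ∈ H) → ∃ t ∈ N, t ∉ H ∧ t ^ q ∈ H ∧ ∃ k, orderOf t = q ^ k := by
    intro H q hq hHN hidx hn
    obtain ⟨n, hnN, hnH⟩ : ∃ n ∈ N, n ∉ H := SetLike.not_le_iff_exists.mp fun h =>
      hq.ne_one (hidx ▸ relIndex_eq_one.mpr h)
    obtain ⟨r, i, hr, ⟨k, hk⟩, hiH⟩ := exists_prime_part hnH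
    haveI : (H.subgroupOf N).Normal := ⟨fun x hx g => mem_subgroupOf.mpr (hn g g.2 x hx)⟩
    have hpow : ∀ x ∈ N, x ^ q ∈ H := fun x hx => by
      have := pow_index_mem (H.subgroupOf N) (⟨x, hx⟩ : N)
      rw [show (H.subgroupOf N).index = q from hidx] at this
      exact this
    have hrq : r = q := by
      by_contra hne
      refine hiH ?_
      have hcop : q.Coprime (orderOf (n ^ i)) := by
        rw [hk]; exact ((Nat.coprime_primes hq hr).mpr (Ne.symm hne)).pow_right k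
      obtain ⟨m, hm⟩ := exists_pow_eq_self_of_coprime (x := n ^ i) hcop
      rw [← hm]
      exact pow_mem (hpow _ (pow_mem hnN i)) m
    exact ⟨n ^ i, pow_mem hnN i, hiH, hpow _ (pow_mem hnN i), k, hrq ▸ hk⟩
  have hgroupP : ∀ (H : Subgroup G) (p : ℕ), p.Prime → H ≤ N → H.relIndex N = p →
      (∀ n ∈ N, ∀ m ∈ H, n * m * n⁻¹ ∈ H) → (∀ x ∈ H, ∃ k : ℕ, x ^ p ^ k ∈ Zc N) → False := by
    intro H p hp hHN hidx hn hH
    refine hPG ⟨p, hp, fun x hx => ?_⟩
    haveI : (H.subgroupOf N).Normal := ⟨fun y hy g => mem_subgroupOf.mpr (hn g g.2 y hy)⟩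
    have := pow_index_mem (H.subgroupOf N) (⟨x, hx⟩ : N)
    rw [show (H.subgroupOf N).index = p from hidx] at this
    obtain ⟨k, hk⟩ := hH _ (show x ^ p ∈ H from this)
    exact ⟨k + 1, by rw [pow_succ', pow_mul]; exact hk⟩
  by_cases hII : ∃ a ∈ A, a ∉ Zc N ∧ ¬ CN N a ≤ A
  · exfalso
    obtain ⟨a, ha, haZ, hlt⟩ := hII
    obtain ⟨q, hq, hidx, hn⟩ := hprime a ha haZ
    obtain ⟨y, hy, hyA⟩ := SetLike.not_le_iff_exists.mp hlt
    obtain ⟨p, hp, hpH⟩ := (hyp.cent_type (hAN ha) haZ).resolve_left fun h => hyA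
      (hCA y (mem_CN.mp hy).1 fun b hb => h b (hACN a ha hb) y hy)
    by_cases hpq : p = q
    · exact hgroupP _ p hp inf_le_left (hpq ▸ hidx) hn hpH
    obtain ⟨t, htN, htH, -, k, htk⟩ := hqpart _ q hq inf_le_left hidx hn
    have htZ : t ∉ Zc N := fun h => htH (Zc_le_CN (hAN ha) h)
    have hAt : ¬ A ≤ centralizer ({t} : Set G) := fun h =>
      htH (hACN a ha (hCA t htN fun b hb => mem_cent.mp (h hb)))
    have htop : centralizer ({t} : Set G) ⊔ A = ⊤ :=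
      (hyp t htN htZ).2 _ (lt_of_le_not_ge le_sup_left fun h => hAt (le_sup_right.trans h))
    obtain ⟨c, hc, b, hb, hcb⟩ := mem_sup_of_normal_right.mp (htop.ge (mem_top y))
    have hcH : c ∈ CN N a := by
      rw [show c = y * b⁻¹ by rw [← hcb, mul_inv_cancel_right]]
      exact mul_mem hy (inv_mem (hACN a ha hb))
    have hcA : c ∉ A := fun h => hyA (hcb ▸ mul_mem h hb)
    obtain ⟨r, i, hr, ⟨l, hl⟩, hiA⟩ := exists_prime_part hcA
    have hh : c ^ i ∈ CN N a := pow_mem hcH i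
    have hhZ : c ^ i ∉ Zc N := fun h => hiA (hZA.le h)
    have hrp : r = p := by
      by_contra hne
      refine hhZ ?_
      obtain ⟨j, hj⟩ := hpH _ hh
      have hcop : (p ^ j).Coprime (orderOf (c ^ i)) := by
        rw [hl]; exact ((Nat.coprime_primes hp hr).mpr (Ne.symm hne)).pow j l
      obtain ⟨m, hm⟩ := exists_pow_eq_self_of_coprime (x := c ^ i) hcop
      rw [← hm]
      exact pow_mem hj m
    have heq := hyp.cent_coprime (mem_CN.mp hh).1 hhZ htN htZ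
      ((show Commute c t from mem_cent.mp hc).pow_left i)
      (by rw [hl, htk, hrp]; exact ((Nat.coprime_primes hp hq).mpr hpq).pow l k)
    have hat : a ∈ centralizer ({t} : Set G) := heq ▸ mem_cent.mpr (mem_CN.mp hh).2.symm
    exact htH (mem_CN.mpr ⟨htN, (mem_cent.mp hat).symm⟩)
  push Not at hII
  obtain ⟨a₀, ha₀, ha₀Z⟩ := SetLike.exists_of_lt hZA
  obtain ⟨q, hq, hidx, hn⟩ := hprime a₀ ha₀ ha₀Z
  have hCN : CN N a₀ = A := le_antisymm (hII a₀ ha₀ ha₀Z) (hACN a₀ ha₀)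
  rw [hCN] at hidx hn
  obtain ⟨t, htN, htA, htq, k, htk⟩ := hqpart A q hq hAN hidx hn
  have htfix : ∀ b ∈ A, b * t = t * b → b ∈ Zc N := fun b hb hbt => by
    by_contra hbZ
    exact htA (hII b hb hbZ (mem_CN.mpr ⟨htN, hbt.symm⟩))
  have htZ : t ∉ Zc N := fun h => htA (hZA.le h)
  -- `A` is a chief factor over the center
  obtain ⟨r, i, hr, ⟨l, hl⟩, hiZ⟩ := exists_prime_part ha₀Z
  haveI := Fact.mk hr
  let A0 : Subgroup G :=
    { carrier := {b | b ∈ A ∧ b ^ r ∈ Zc N}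
      one_mem' := ⟨one_mem A, by rw [one_pow]; exact one_mem _⟩
      mul_mem' := fun {b c} hb hc => ⟨mul_mem hb.1 hc.1, by
        rw [(show Commute b c from hAc b hb.1 c hc.1).mul_pow]; exact mul_mem hb.2 hc.2⟩
      inv_mem' := fun {b} hb => ⟨inv_mem hb.1, by rw [inv_pow]; exact inv_mem hb.2⟩ }
  haveI hA0n : A0.Normal := ⟨fun b hb g => ⟨hAn.conj_mem b hb.1 g, by
    rw [conj_pow]; exact (Zc_normal (N := N)).conj_mem _ hb.2 g⟩⟩
  obtain ⟨b, hb, hbZ⟩ : ∃ b ∈ A0, b ∉ Zc N := by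
    by_contra h
    push Not at h
    refine hiZ ?_
    have hdown : ∀ j : ℕ, ∀ c ∈ A, c ^ r ^ j ∈ Zc N → c ∈ Zc N := by
      intro j
      induction j with
      | zero => intro c _ hc; simpa using hc
      | succ j ih =>
        intro c hc hcj
        exact ih c hc (h _ ⟨pow_mem hc _, by rw [← pow_mul, ← pow_succ]; exact hcj⟩)
    exact hdown l _ (pow_mem ha₀ i) (by rw [← hl, pow_orderOf_eq_one]; exact one_mem _)
  have htop : centralizer ({t} : Set G) ⊔ A0 = ⊤ := (hyp t htN htZ).2 _ (lt_of_le_not_ge le_sup_left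
    fun h => hbZ (htfix b hb.1 (mem_cent.mp (le_sup_right.trans h hb))))
  have hAr : ∀ c ∈ A, c ^ r ∈ Zc N := by
    intro c hc
    obtain ⟨u, hu, w, hw, hcw⟩ := mem_sup_of_normal_right.mp (htop.ge (mem_top c))
    have huA : u ∈ A := by
      rw [show u = c * w⁻¹ by rw [← hcw, mul_inv_cancel_right]]
      exact mul_mem hc (inv_mem hw.1)
    have huZ : u ∈ Zc N := htfix u huA (mem_cent.mp hu)
    rw [← hcw, (show Commute u w from hAc u huA w hw.1).mul_pow]
    exact mul_mem (pow_mem huZ r) hw.2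
  have hrq : r ≠ q := fun e => hgroupP A r hr hAN (e ▸ hidx) hn fun x hx => ⟨1, by rw [pow_one]; exact hAr x hx⟩
  -- the Frobenius group
  have htqZ : t ^ q ∈ Zc N := htfix _ htq ((Commute.self_pow t q).symm.eq)
  set K := (A.subgroupOf N).map π with hKdef
  haveI : (A.subgroupOf N).Normal := inferInstance
  haveI hKn : K.Normal := Subgroup.Normal.map inferInstance π hπs
  have hker : π.ker ≤ A.subgroupOf N := fun z hz => hZA.le (pi_eq_one.mp hz)
  have hKidx : K.index = q := by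
    rw [hKdef, index_map_eq _ hπs hker]
    exact hidx
  have hτK : π ⟨t, htN⟩ ∉ K := fun h => by
    have h1 : (⟨t, htN⟩ : N) ∈ K.comap π := h
    rw [hKdef, comap_map_eq, sup_eq_left.mpr hker] at h1
    exact htA h1
  have hτ : orderOf (π ⟨t, htN⟩) = q := by
    haveI := Fact.mk hq
    refine orderOf_eq_prime ?_ fun h => htZ (pi_eq_one.mp h)
    rw [← map_pow]
    exact pi_eq_one.mpr htqZ
  have hKc : ∀ u ∈ K, ∀ v ∈ K, u * v = v * u := by
    rintro _ ⟨u, hu, rfl⟩ _ ⟨v, hv, rfl⟩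
    rw [← map_mul, ← map_mul]
    exact congrArg π (Subtype.ext (hAc u hu v hv))
  have hK0 : K ≠ ⊥ := fun h => ha₀Z (pi_eq_one.mp (mem_bot.mp (h.le
    (mem_map_of_mem π (show (⟨a₀, hAN ha₀⟩ : N) ∈ A.subgroupOf N from ha₀)))))
  obtain ⟨hF, hFK, hFcard⟩ := frobenius_of_prime_index K hq hKidx hK0 hKc _ hτ hτK (by
    rintro _ ⟨⟨c, hcN⟩, hc, rfl⟩ hct
    have hc' : c ∈ A := hc
    have h1 : π (⟨c, hcN⟩ * ⟨t, htN⟩ * (⟨c, hcN⟩ : N)⁻¹ * (⟨t, htN⟩ : N)⁻¹) = 1 := by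
      rw [map_mul, map_mul, map_mul, map_inv, map_inv, hct, mul_inv_cancel_right, mul_inv_cancel]
    have hz : c * t * c⁻¹ * t⁻¹ ∈ Zc N := pi_eq_one.mp h1
    set z := c * t * c⁻¹ * t⁻¹ with hzdef
    have hzc : ∀ m ∈ N, m * z = z * m := (mem_Zc.mp hz).2
    have hczk : ∀ j : ℕ, c ^ j * t * (c ^ j)⁻¹ = z ^ j * t := by
      intro j
      induction j with
      | zero => simp
      | succ j ih =>
        have h2 : c * z ^ j = z ^ j * c := (show Commute c z from hzc c hcN).pow_right j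
        calc c ^ (j + 1) * t * (c ^ (j + 1))⁻¹ = c * (c ^ j * t * (c ^ j)⁻¹) * c⁻¹ := by rw [pow_succ']; group
          _ = c * z ^ j * t * c⁻¹ := by rw [ih]; group
          _ = _ := by rw [h2, pow_succ, hzdef]; group
    have hzr : z ^ r = 1 := by
      have h2 := hczk r
      rw [← (mem_Zc.mp (hAr c hc')).2 t htN, mul_inv_cancel_right] at h2
      exact mul_eq_right.mp h2.symm
    have hzq : z ^ q = 1 := by
      have h2 : (c * t * c⁻¹) ^ q = t ^ q := by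
        rw [conj_pow, (mem_Zc.mp htqZ).2 c hcN, mul_inv_cancel_right]
      rw [show c * t * c⁻¹ = z * t by rw [hzdef]; group,
        (show Commute z t from (hzc t htN).symm).mul_pow] at h2
      exact mul_eq_right.mp h2
    have hz1 : z = 1 := orderOf_eq_one_iff.mp (Nat.eq_one_of_dvd_coprimes ((Nat.coprime_primes hr hq).mpr hrq)
      (orderOf_dvd_of_pow_eq_one hzr) (orderOf_dvd_of_pow_eq_one hzq))
    refine pi_eq_one.mpr (htfix c hc' ?_)
    have h3 : c * t * c⁻¹ * t⁻¹ = 1 := hz1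
    exact mul_inv_eq_iff_eq_mul.mp (mul_inv_eq_one.mp h3))
  refine ⟨zpowers (π ⟨t, htN⟩), K, r, hr, hF, by rw [hFcard]; exact hq, hKn, hFK,
    ⟨⟨fun u v => Subtype.ext (hKc u u.2 v v.2)⟩⟩, ?_⟩
  rintro _ ⟨u, hu, rfl⟩
  rw [← map_pow]
  exact pi_eq_one.mpr (hAr u hu)

end Cfsg.Agent.GenA.MaxCentNormal
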