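import Mathlib
import Cfsg.Prelude.Def_CaseTheorems
import Cfsg.Agent.Lib.PGroups.MaximalClass
import Cfsg.Agent.Lib.PGroups.Basic
import Cfsg.Agent.Lib.Components.RegularPGroup

/-!
`p`-groups of maximal class: sectional rank `k` with `k + 2 ≤ p` bounds the order by `p ^ (2 k)`.
-/

set_option autoImplicit false

namespace Cfsg.Agent.GenA.MaxClassRank

open Subgroup
open Cfsg.Agent.PGroups.MaximalClass
open scoped commutatorElement

variable {S : Type*} [Group S] [Finite S]

theorem commutator_lcs_le (a b : ℕ) : ⁅lcs S a, lcs S b⁆ ≤ lcs S (a + b + 1) := by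
  refine (PGroups.Basic.commutator_lowerCentral_le b (lcs S a)).trans (le_of_eq ?_)
  have h : ∀ m, PGroups.Basic.iterTop (lcs S a) m = lcs S (a + m) := by
    intro m
    induction m with
    | zero => rfl
    | succ m ih =>
      show ⁅PGroups.Basic.iterTop (lcs S a) m, (⊤ : Subgroup S)⁆ = _
      rw [ih, ← add_assoc, lcs_succ]
  rw [h, add_assoc]

theorem mul_comm_map {H : Type*} [Group H] (f : S →* H) {A B : Subgroup S} (h : ⁅A, B⁆ ≤ f.ker) {a b : S}
    (ha : a ∈ A) (hb : b ∈ B) : f a * f b = f b * f a := by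
  rw [← commutatorElement_eq_one_iff_mul_comm, ← map_commutatorElement]
  exact h (commutator_mem_commutator ha hb)

variable {p : ℕ} [hp : Fact p.Prime] {n : ℕ}

theorem step_relIndex (hn : 3 ≤ n) (hcard : Nat.card S = p ^ n) (hcl : Group.nilpotencyClass S = n - 1)
    {j : ℕ} (hj : 1 ≤ j) (hj' : j + 1 ≤ n - 1) : (lcs S (j + 1)).relIndex (lcs S j) = p := by
  have h := relIndex_mul_index (lcs_le (G := S) j)
  rw [index_lcs hn hcard hcl hj (by omega), index_lcs hn hcard hcl (k := j + 1) (by omega) hj', pow_succ' p (j + 1)] at h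
  exact Nat.eq_of_mul_eq_mul_right (pow_pos hp.out.pos _) h

theorem eq_sup_zpowers (hn : 3 ≤ n) (hcard : Nat.card S = p ^ n) (hcl : Group.nilpotencyClass S = n - 1)
    {j : ℕ} (hj : 1 ≤ j) (hj' : j + 1 ≤ n - 1) {a : S} (ha : a ∈ lcs S j) (ha' : a ∉ lcs S (j + 1)) :
    lcs S j = lcs S (j + 1) ⊔ zpowers a := by
  set X := lcs S (j + 1) ⊔ zpowers a
  have h1 : (lcs S (j + 1)).relIndex X * X.relIndex (lcs S j) = p := by
    rw [relIndex_mul_relIndex _ _ _ le_sup_left (sup_le (lcs_le j) (zpowers_le.mpr ha)), step_relIndex hn hcard hcl hj hj']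
  rcases (Nat.dvd_prime hp.out).mp (Dvd.intro _ h1) with h | h
  · exact absurd (relIndex_eq_one.mp h (mem_sup_right (mem_zpowers a))) ha'
  · rw [h] at h1
    exact le_antisymm (relIndex_eq_one.mp ((mul_eq_left₀ hp.out.ne_zero).mp h1)) (sup_le (lcs_le j) (zpowers_le.mpr ha))

theorem lcs_ne (hn : 3 ≤ n) (hcard : Nat.card S = p ^ n) (hcl : Group.nilpotencyClass S = n - 1)
    {j : ℕ} (hj : 1 ≤ j) (hj' : j + 1 ≤ n - 1) : ∃ a ∈ lcs S j, a ∉ lcs S (j + 1) := by
  by_contra h
  push Not at h
  have h1 := step_relIndex hn hcard hcl hj hj'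
  rw [relIndex_eq_one.mpr h] at h1
  exact hp.out.ne_one h1.symm

/-- The quotients by early terms of the lower central series have exponent `p`. -/
theorem pow_mem_lcs (hn : 3 ≤ n) (hcard : Nat.card S = p ^ n) (hcl : Group.nilpotencyClass S = n - 1) :
    ∀ j, 1 ≤ j → j + 1 ≤ p → j + 2 ≤ n → ∀ x : S, x ^ p ∈ lcs S j := by
  have hP : IsPGroup p S := IsPGroup.of_card hcard
  haveI := hP.isNilpotent
  intro j hj
  induction j, hj using Nat.le_induction with
  | base =>
    intro _ _ x
    rw [lcs_one]
    have hnc : commutator S ≠ ⊥ := fun h => by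
      have h1 := index_lcs hn hcard hcl (k := 1) le_rfl (by omega)
      rw [lcs_one, h, index_bot, hcard] at h1
      have := Nat.pow_right_injective hp.out.two_le h1
      omega
    have h1 := pow_eq_one_of_not_cyclic (p := p) (Q := S ⧸ commutator S) (by
      rw [← index_eq_card, ← lcs_one]; exact index_lcs hn hcard hcl le_rfl (by omega))
      (not_cyclic_abelianization hP hnc) (QuotientGroup.mk' _ x)
    rw [← map_pow] at h1
    exact (QuotientGroup.eq_one_iff _).mp h1
  | succ j hj ih =>
    intro hjp hjn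
    have ih' := ih (by omega) (by omega)
    set π₂ := QuotientGroup.mk' (lcs S (j + 2))
    set C := (centralizer (((lcs S j).map π₂ : Subgroup _) : Set (S ⧸ lcs S (j + 2)))).comap π₂ with hC
    have hCne : C ≠ ⊤ := by
      intro h
      have h1 : lcs S (j + 1) ≤ lcs S (j + 2) := by
        rw [lcs_succ, commutator_le]
        intro a ha x _
        have hx : x ∈ C := h ▸ mem_top x
        refine (QuotientGroup.eq_one_iff _).mp ?_
        show π₂ ⁅a, x⁆ = 1
        rw [map_commutatorElement, commutatorElement_eq_one_iff_mul_comm]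
        exact mem_centralizer_iff.mp hx _ ⟨a, ha, rfl⟩
      have h2 : lcs S (j + 1) = ⊥ := eq_bot_of_stable h1
      have h3 := index_lcs hn hcard hcl (k := j + 1) (by omega) (by omega)
      rw [h2, index_bot, hcard] at h3
      have := Nat.pow_right_injective hp.out.two_le h3
      omega
    have hout : ∀ x, x ∉ C → x ^ p ∈ lcs S (j + 1) := by
      intro x hx
      by_contra hxp
      refine hx (mem_centralizer_iff.mpr ?_)
      rintro _ ⟨a, ha, rfl⟩
      rw [eq_sup_zpowers hn hcard hcl hj (by omega) (ih' x) hxp, sup_comm] at ha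
      obtain ⟨_, ⟨i, rfl⟩, e, he, rfl⟩ := mem_sup_of_normal_right.mp ha
      rw [map_mul]
      refine (Commute.mul_left ?_ ?_).eq
      · exact (((Commute.refl x).pow_left p).zpow_left i).map π₂
      · refine mul_comm_map π₂ ?_ he (mem_top x)
        rw [QuotientGroup.ker_mk', ← lcs_succ]
    intro x
    set π := QuotientGroup.mk' (lcs S (j + 1))
    have hW : Components.RegularPGroup.Weak p (S ⧸ lcs S (j + 1)) := by
      refine Components.RegularPGroup.weak_of_class (hP.to_quotient _) ?_
      rw [eq_bot_iff]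
      have hmap : ∀ k, (⊤ : Subgroup (S ⧸ lcs S (j + 1))).lowerCentralSeries k = (lcs S k).map π := by
        intro k
        induction k with
        | zero => rw [Subgroup.lowerCentralSeries_zero, lcs_zero, map_top_of_surjective _ (QuotientGroup.mk'_surjective _)]
        | succ k ihk =>
          rw [Subgroup.lowerCentralSeries_succ, ihk, lcs_succ k, map_commutator, map_top_of_surjective π (QuotientGroup.mk'_surjective _)]
      rw [hmap]
      rintro _ ⟨y, hy, rfl⟩
      exact mem_bot.mpr ((QuotientGroup.eq_one_iff y).mpr (lcs_antitone (by omega : j + 1 ≤ p - 1) hy))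
    set O := (Components.RegularPGroup.omegaSub hW 1).comap π
    have hO : ∀ y, y ∉ C → y ∈ O := fun y hy => by
      show π y ^ p ^ 1 = 1
      rw [pow_one, ← map_pow]
      exact (QuotientGroup.eq_one_iff _).mpr (hout y hy)
    have hxO : x ∈ O := by
      by_cases hx : x ∈ C
      · obtain ⟨y, hy⟩ : ∃ y, y ∉ C := by
          by_contra h
          push Not at h
          exact hCne (eq_top_iff.mpr fun y _ => h y)
        have hxy : x * y ∉ C := fun h => hy (by simpa using C.mul_mem (C.inv_mem hx) h)
        simpa using O.mul_mem (hO _ hxy) (O.inv_mem (hO _ hy))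
      · exact hO x hx
    have h1 : π x ^ p ^ 1 = 1 := hxO
    rw [pow_one, ← map_pow] at h1
    exact (QuotientGroup.eq_one_iff _).mp h1

theorem card_le (hn : 2 ≤ n) (hcard : Nat.card S = p ^ n) (hcl : Group.nilpotencyClass S = n - 1) {k : ℕ}
    (hk : 1 ≤ k) (hsr : Cfsg.SectionalPRankLE p k S) (hpk : k + 2 ≤ p) : n ≤ 2 * k := by
  classical
  by_contra hlt
  push Not at hlt
  have hn3 : 3 ≤ n := by omega
  have hP : IsPGroup p S := IsPGroup.of_card hcard
  have key : ∀ (H K : Subgroup S) [K.Normal] (e : ℕ), K ≤ H → K.relIndex H = p ^ e →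
      (∀ x ∈ H, x ^ p ∈ K) → ⁅H, H⁆ ≤ K → e ≤ k := by
    intro H K _ e hKH he hexp hab
    have h1 := hsr H (K.subgroupOf H) ⊤ ⟨⟨?_⟩⟩ ?_
    · rw [card_top, ← index_eq_card] at h1
      change K.relIndex H ≤ p ^ k at h1
      rw [he] at h1
      exact (Nat.pow_le_pow_iff_right hp.out.one_lt).mp h1
    · rintro ⟨a, -⟩ ⟨b, -⟩
      obtain ⟨a, rfl⟩ := QuotientGroup.mk'_surjective _ a
      obtain ⟨b, rfl⟩ := QuotientGroup.mk'_surjective _ b
      refine Subtype.ext ?_
      show QuotientGroup.mk' _ a * QuotientGroup.mk' _ b = QuotientGroup.mk' _ b * QuotientGroup.mk' _ a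
      rw [← commutatorElement_eq_one_iff_mul_comm, ← map_commutatorElement]
      exact (QuotientGroup.eq_one_iff _).mpr (hab (commutator_mem_commutator a.2 b.2))
    · intro a _
      obtain ⟨a, rfl⟩ := QuotientGroup.mk'_surjective _ a
      rw [← map_pow]
      exact (QuotientGroup.eq_one_iff _).mpr (hexp a a.2)
  rcases Nat.lt_or_ge k 2 with hk2 | hk2
  · have h := key ⊤ (lcs S 1) 2 le_top (by rw [relIndex_top_right]; exact index_lcs hn3 hcard hcl le_rfl (by omega))
      (fun x _ => pow_mem_lcs hn3 hcard hcl 1 le_rfl (by omega) (by omega) x) (by rw [lcs_one, _root_.commutator_def])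
    omega
  set Z := lcs S (2 * k)
  set π := QuotientGroup.mk' Z
  have hπ : π.ker = Z := QuotientGroup.ker_mk' Z
  have hcomm : ∀ i l, 2 * k ≤ i + l + 1 → ∀ a ∈ lcs S i, ∀ b ∈ lcs S l, π a * π b = π b * π a :=
    fun i l h a ha b hb => mul_comm_map π (by rw [hπ]; exact (commutator_lcs_le i l).trans (lcs_antitone h)) ha hb
  -- the section is abelian
  have habel : ∀ a ∈ lcs S (k - 1), ∀ b ∈ lcs S (k - 1), π a * π b = π b * π a := by
    obtain ⟨g, hg, hg'⟩ := lcs_ne hn3 hcard hcl (j := k - 1) (by omega) (by omega)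
    have hsup := eq_sup_zpowers hn3 hcard hcl (j := k - 1) (by omega) (by omega) hg hg'
    rw [show k - 1 + 1 = k by omega, sup_comm] at hsup
    intro a ha b hb
    obtain ⟨_, ⟨i, rfl⟩, e, he, rfl⟩ := mem_sup_of_normal_right.mp (hsup.le ha)
    obtain ⟨_, ⟨l, rfl⟩, f, hf, rfl⟩ := mem_sup_of_normal_right.mp (hsup.le hb)
    have hgk : ∀ y ∈ lcs S k, Commute (π g) (π y) := fun y hy => hcomm (k - 1) k (by omega) g hg y hy
    simp only [map_mul, map_zpow]
    exact ((((Commute.refl (π g)).zpow_zpow i l).mul_right ((hgk f hf).zpow_left i)).mul_left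
      (((hgk e he).symm.zpow_right l).mul_right (hcomm k k (by omega) e he f hf))).eq
  set A := (lcs S (k - 1)).map π with hA
  haveI : A.Normal := Subgroup.Normal.map inferInstance π (QuotientGroup.mk'_surjective _)
  letI : CommGroup A :=
    { (inferInstance : Group A) with
      mul_comm := fun x y => Subtype.ext (by
        obtain ⟨a, ha, ha'⟩ := x.2
        obtain ⟨b, hb, hb'⟩ := y.2
        show (x : S ⧸ Z) * y = y * x
        rw [← ha', ← hb']; exact habel a ha b hb) }
  have hpow : ∀ d j, k - 1 ≤ j → 2 * k ≤ j + d → ∀ y ∈ lcs S j, π y ^ p = 1 := by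
    intro d
    induction d with
    | zero =>
      intro j _ hjd y hy
      rw [(QuotientGroup.eq_one_iff y).mpr (lcs_antitone (by omega : 2 * k ≤ j) hy) |> (show (y : S ⧸ Z) = 1 → π y = 1 from id), one_pow]
    | succ d ih =>
      intro j hj hjd
      have hhigh : ∀ i, j + 1 ≤ i → ∀ y ∈ lcs S i, π y ^ p = 1 := fun i hi y hy =>
        ih (j + 1) (by omega) (by omega) y (lcs_antitone hi hy)
      let Ω : Subgroup S :=
        { carrier := {y | y ∈ lcs S j ∧ π y ^ p = 1}
          one_mem' := ⟨one_mem _, by rw [map_one, one_pow]⟩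
          mul_mem' := fun {a b} ha hb => ⟨mul_mem ha.1 hb.1, by
            rw [map_mul, (show Commute (π a) (π b) from
              habel a (lcs_antitone hj ha.1) b (lcs_antitone hj hb.1)).mul_pow, ha.2, hb.2, one_mul]⟩
          inv_mem' := fun {a} ha => ⟨inv_mem ha.1, by rw [map_inv, inv_pow, ha.2, inv_one]⟩ }
      suffices h : lcs S j ≤ Ω from fun y hy => (h hy).2
      obtain ⟨i, rfl⟩ : ∃ i, j = i + 1 := ⟨j - 1, by omega⟩
      rw [lcs_succ, commutator_le]
      intro b hb t _
      rw [← commutatorElement_inv]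
      refine inv_mem ?_
      have hD0 : ⁅t, b⁆ ∈ lcs S (i + 1) := by
        rw [lcs_succ, Subgroup.commutator_comm]; exact commutator_mem_commutator (mem_top t) hb
      refine ⟨hD0, ?_⟩
      let D : ℕ → S := fun m => Nat.rec ⁅t, b⁆ (fun _ y => ⁅t, y⁆) m
      have hD : ∀ m, D m ∈ lcs S (i + 1 + m) := by
        intro m
        induction m with
        | zero => exact hD0
        | succ m ihm =>
          rw [← add_assoc, lcs_succ, Subgroup.commutator_comm]
          exact commutator_mem_commutator (mem_top t) ihm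
      let dA : ℕ → A := fun m => ⟨π (D m), ⟨D m, lcs_antitone (by omega) (hD m), rfl⟩⟩
      let σ : A →* A := (MulAut.conjNormal (π t) : MulAut A).toMonoidHom
      have hσ : ∀ m, σ (dA m) = dA (m + 1) * dA m := fun m => Subtype.ext (by
        show π t * π (D m) * (π t)⁻¹ = π ⁅t, D m⁆ * π (D m)
        rw [map_commutatorElement, commutatorElement_def]; group)
      let P : ℕ → A := fun m => ∏ i ∈ Finset.range m, dA i ^ m.choose (i + 1)
      have hP : ∀ m, π t ^ m * π b * (π t ^ m)⁻¹ = (P m : S ⧸ Z) * π b := by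
        intro m
        induction m with
        | zero => simp [P]
        | succ m ihm =>
          have e : P (m + 1) = σ (P m) * dA 0 := by
            have h1 : P (m + 1) = (∏ i ∈ Finset.range (m + 1), dA i ^ m.choose i) *
                ∏ i ∈ Finset.range (m + 1), dA i ^ m.choose (i + 1) := by
              rw [← Finset.prod_mul_distrib]
              exact Finset.prod_congr rfl fun i _ => by rw [Nat.choose_succ_succ', pow_add]
            rw [h1, Finset.prod_range_succ', Finset.prod_range_succ, Nat.choose_succ_self, pow_zero, mul_one,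
              Nat.choose_zero_right, pow_one, map_prod]
            simp only [map_pow, hσ, mul_pow, Finset.prod_mul_distrib]
            ac_rfl
          rw [e, Subgroup.coe_mul]
          show _ = π t * (P m : S ⧸ Z) * (π t)⁻¹ * π ⁅t, b⁆ * π b
          rw [map_commutatorElement, commutatorElement_def, pow_succ',
            show π t * π t ^ m * π b * (π t * π t ^ m)⁻¹ = π t * (π t ^ m * π b * (π t ^ m)⁻¹) * (π t)⁻¹ by group, ihm]
          group
      have hPp : P p = 1 := by
        refine Subtype.ext ?_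
        have h1 := hP p
        rw [← map_pow, hcomm (k + 1) i (by omega) (t ^ p)
          (pow_mem_lcs hn3 hcard hcl (k + 1) (by omega) (by omega) (by omega) t) b hb, mul_inv_cancel_right] at h1
        exact (mul_eq_right.mp h1.symm)
      have hsingle : P p = dA 0 ^ p := by
        show ∏ i ∈ Finset.range p, dA i ^ p.choose (i + 1) = _
        rw [Finset.prod_eq_single 0, Nat.choose_one_right]
        · intro m hm hm0
          have hmp : m < p := Finset.mem_range.mp hm
          refine Subtype.ext ?_
          show π (D m) ^ p.choose (m + 1) = 1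
          rcases Nat.lt_or_ge (m + 1) p with h | h
          · obtain ⟨c, hc⟩ := hp.out.dvd_choose_self (Nat.succ_ne_zero m) h
            rw [hc, pow_mul, hhigh _ (by omega) _ (hD m), one_pow]
          · rw [(show π (D m) = 1 from (QuotientGroup.eq_one_iff _).mpr (lcs_antitone (by omega) (hD m))), one_pow]
        · intro h; exact absurd (Finset.mem_range.mpr hp.out.pos) h
      exact congrArg Subtype.val (hsingle.symm.trans hPp)
  have h1 := relIndex_mul_index (lcs_antitone (G := S) (show k - 1 ≤ 2 * k by omega))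
  rw [index_lcs hn3 hcard hcl (k := k - 1) (by omega) (by omega), index_lcs hn3 hcard hcl (k := 2 * k) (by omega) (by omega),
    show 2 * k + 1 = (k + 1) + (k - 1 + 1) by omega, pow_add p (k + 1) (k - 1 + 1)] at h1
  have h := key (lcs S (k - 1)) Z (k + 1) (lcs_antitone (by omega))
    (Nat.eq_of_mul_eq_mul_right (pow_pos hp.out.pos _) h1)
    (fun x hx => (QuotientGroup.eq_one_iff _).mp (show π (x ^ p) = 1 by rw [map_pow]; exact hpow (2 * k) (k - 1) le_rfl (by omega) x hx))
    (commutator_le.mpr fun a ha b hb => (QuotientGroup.eq_one_iff _).mp (show π ⁅a, b⁆ = 1 by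
      rw [map_commutatorElement, commutatorElement_eq_one_iff_mul_comm]; exact habel a ha b hb))
  omega

end Cfsg.Agent.GenA.MaxClassRank
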