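import Mathlib
import Cfsg.Prelude.Def_Transfer
import Cfsg.Prelude.Def_LocalStructure

/-!
The order of a minimal normal elementary abelian `q`-subgroup of prime index `p`: `q ^ orderOf (q : ZMod p)`.
-/

set_option autoImplicit false

namespace Cfsg.Agent.GenA.MinimalPClosed

variable {V : Type*} [AddCommGroup V] [Finite V] {p q : ℕ}

/-- An additive automorphism of order `p` of a nontrivial group of exponent `q` without proper invariant
subgroups forces the order `q ^ orderOf (q : ZMod p)`. -/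
theorem card_of_irreducible [hp : Fact p.Prime] [hq : Fact q.Prime] (hpq : q ≠ p) [Nontrivial V] (hexp : ∀ v : V, q • v = 0)
    (T : AddMonoid.End V) (hTp : T ^ p = 1) (hT1 : T ≠ 1)
    (hirr : ∀ W : AddSubgroup V, (∀ w ∈ W, T w ∈ W) → W = ⊥ ∨ W = ⊤) :
    Nat.card V = q ^ orderOf (q : ZMod p) := by
  classical
  set R := Subring.closure ({T} : Set (AddMonoid.End V)) with hR
  let t : ↥R := ⟨T, Subring.subset_closure rfl⟩
  have hmc : ∀ a b : ↥R, a * b = b * a := by
    have h1 : R ≤ Subring.centralizer {T} :=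
      Subring.closure_le.mpr (Set.singleton_subset_iff.mpr (Subring.mem_centralizer_iff.mpr (by simp)))
    have h2 : R ≤ Subring.centralizer (R : Set (AddMonoid.End V)) :=
      Subring.closure_le.mpr (Set.singleton_subset_iff.mpr (Subring.mem_centralizer_iff.mpr fun g hg =>
        (Subring.mem_centralizer_iff.mp (h1 hg) T rfl).symm))
    exact fun a b => Subtype.ext (Subring.mem_centralizer_iff.mp (h2 b.2) a a.2)
  have hcomm : ∀ (r : ↥R) (v : V), (r : AddMonoid.End V) (T v) = T ((r : AddMonoid.End V) v) := fun r v => by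
    have h : (r : AddMonoid.End V) * T = T * (r : AddMonoid.End V) :=
      congrArg (fun s : ↥R => (s : AddMonoid.End V)) (hmc r t)
    simpa using DFunLike.congr_fun h v
  -- nonzero elements of `R` are injective
  have hinj : ∀ r : ↥R, r ≠ 0 → ∀ v : V, (r : AddMonoid.End V) v = 0 → v = 0 := by
    intro r hr v hv
    let W : AddSubgroup V :=
      { carrier := {w | (r : AddMonoid.End V) w = 0}
        zero_mem' := map_zero _
        add_mem' := fun {a b} ha hb => by
          show (r : AddMonoid.End V) (a + b) = 0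
          rw [map_add, show (r : AddMonoid.End V) a = 0 from ha, show (r : AddMonoid.End V) b = 0 from hb, add_zero]
        neg_mem' := fun {a} ha => by
          show (r : AddMonoid.End V) (-a) = 0
          rw [map_neg, show (r : AddMonoid.End V) a = 0 from ha, neg_zero] }
    rcases hirr W (fun w hw => by
      show (r : AddMonoid.End V) (T w) = 0
      rw [hcomm, show (r : AddMonoid.End V) w = 0 from hw, map_zero]) with h | h
    · exact AddSubgroup.mem_bot.mp (h ▸ (show v ∈ W from hv))
    · refine absurd (Subtype.ext (AddMonoidHom.ext fun w => ?_)) hr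
      exact (h ▸ AddSubgroup.mem_top w : w ∈ W)
  obtain ⟨v0, hv0⟩ := exists_ne (0 : V)
  -- evaluation at `v0` is a bijection
  have hev : Function.Bijective fun r : ↥R => (r : AddMonoid.End V) v0 := by
    constructor
    · intro r s h
      by_contra hne
      refine hv0 (hinj (r - s) (sub_ne_zero.mpr hne) v0 ?_)
      show ((r : AddMonoid.End V) - (s : AddMonoid.End V)) v0 = 0
      exact sub_eq_zero.mpr h
    · let W : AddSubgroup V :=
        { carrier := Set.range fun r : ↥R => (r : AddMonoid.End V) v0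
          zero_mem' := ⟨0, rfl⟩
          add_mem' := by rintro _ _ ⟨r, rfl⟩ ⟨s, rfl⟩; exact ⟨r + s, by show ((r + s : ↥R) : AddMonoid.End V) v0 = _; rw [Subring.coe_add]; rfl⟩
          neg_mem' := by rintro _ ⟨r, rfl⟩; exact ⟨-r, rfl⟩ }
      rcases hirr W (by rintro _ ⟨r, rfl⟩; exact ⟨t * r, by simp [t]⟩) with h | h
      · exact absurd (AddSubgroup.mem_bot.mp (h ▸ (show v0 ∈ W from ⟨1, rfl⟩))) hv0
      · exact fun v => (h ▸ AddSubgroup.mem_top v : v ∈ W)
  have hRfin : Finite ↥R := Finite.of_injective _ hev.1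
  haveI : Nontrivial ↥R := (Function.Surjective.nontrivial hev.2)
  haveI : NoZeroDivisors ↥R := ⟨fun {a b} hab => by
    by_contra hcon
    rw [not_or] at hcon
    obtain ⟨v, hv⟩ : ∃ v, (b : AddMonoid.End V) v ≠ 0 := by
      by_contra hall
      push Not at hall
      exact hcon.2 (Subtype.ext (AddMonoidHom.ext hall))
    refine hv (hinj a hcon.1 _ ?_)
    have h : (a : AddMonoid.End V) * (b : AddMonoid.End V) = 0 := congrArg (fun s : ↥R => (s : AddMonoid.End V)) hab
    simpa using DFunLike.congr_fun h v⟩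
  letI : CommRing ↥R := { (inferInstance : Ring ↥R) with mul_comm := hmc }
  haveI : IsDomain ↥R := NoZeroDivisors.to_isDomain _
  letI : Field ↥R := @Fintype.fieldOfDomain _ _ _ _ (Fintype.ofFinite ↥R)
  haveI := Fintype.ofFinite ↥R
  haveI : CharP ↥R q := by
    have hq0 : ((q : ℕ) : ↥R) = 0 := by
      refine hev.1 ?_
      show ((q : ↥R) : AddMonoid.End V) v0 = 0
      rw [Subring.coe_natCast, AddMonoid.End.natCast_apply, hexp]
    have h := ringChar.dvd hq0
    rcases hq.out.eq_one_or_self_of_dvd _ h with h1 | h1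
    · exact absurd h1 CharP.ringChar_ne_one
    · rw [← h1]; exact ringChar.charP _
  set o := orderOf (q : ZMod p) with ho
  -- `|R| = q ^ k` with `o ∣ k`
  obtain ⟨k, hk⟩ : ∃ k : ℕ, Nat.card ↥R = q ^ k := by
    obtain ⟨k, -, hk⟩ := FiniteField.card ↥R q
    exact ⟨k, by rw [Nat.card_eq_fintype_card, hk]⟩
  have htp : t ^ p = 1 := Subtype.ext hTp
  have ht1 : t ≠ 1 := fun h => hT1 (congrArg Subtype.val h)
  have hot : orderOf t = p := orderOf_eq_prime htp ht1
  have hdvd : p ∣ q ^ k - 1 := by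
    rw [← hk, ← hot, Nat.card_eq_fintype_card]
    refine orderOf_dvd_of_pow_eq_one (FiniteField.pow_card_sub_one_eq_one t ?_)
    intro h0
    rw [h0, zero_pow hp.out.ne_zero] at htp
    exact zero_ne_one htp
  have hqk : ((q : ZMod p)) ^ k = 1 := by
    rw [← ZMod.natCast_eq_zero_iff] at hdvd
    rw [Nat.cast_sub (Nat.one_le_pow _ _ hq.out.pos), Nat.cast_pow, Nat.cast_one, sub_eq_zero] at hdvd
    exact hdvd
  have hqne : (q : ZMod p) ≠ 0 := fun h => hpq
    ((Nat.prime_dvd_prime_iff_eq hp.out hq.out).mp ((ZMod.natCast_eq_zero_iff q p).mp h)).symm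
  have ho0 : o ≠ 0 := fun h => by
    have := (orderOf_eq_zero_iff').mp h (p - 1) (Nat.sub_pos_of_lt hp.out.one_lt)
    exact this (ZMod.pow_card_sub_one_eq_one hqne)
  -- `R` consists of roots of `X ^ (q ^ o) - X`
  have hall : ∀ r : ↥R, r ^ q ^ o = r := by
    let S : Subring (AddMonoid.End V) :=
      { carrier := {r | ∃ h : r ∈ R, (⟨r, h⟩ : ↥R) ^ q ^ o = ⟨r, h⟩}
        one_mem' := ⟨one_mem _, one_pow _⟩
        mul_mem' := by
          rintro a b ⟨ha, ha'⟩ ⟨hb, hb'⟩
          refine ⟨mul_mem ha hb, ?_⟩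
          rw [show (⟨a * b, mul_mem ha hb⟩ : ↥R) = ⟨a, ha⟩ * ⟨b, hb⟩ from rfl, mul_pow, ha', hb']
        zero_mem' := ⟨zero_mem _, zero_pow (pow_ne_zero _ hq.out.ne_zero)⟩
        add_mem' := by
          rintro a b ⟨ha, ha'⟩ ⟨hb, hb'⟩
          refine ⟨add_mem ha hb, ?_⟩
          rw [show (⟨a + b, add_mem ha hb⟩ : ↥R) = ⟨a, ha⟩ + ⟨b, hb⟩ from rfl, add_pow_char_pow, ha', hb']
        neg_mem' := by
          rintro a ⟨ha, ha'⟩
          refine ⟨neg_mem ha, ?_⟩
          rw [show (⟨-a, neg_mem ha⟩ : ↥R) = -⟨a, ha⟩ from rfl]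
          have h2 : ((-⟨a, ha⟩ : ↥R) + ⟨a, ha⟩) ^ q ^ o = 0 := by
            rw [neg_add_cancel, zero_pow (pow_ne_zero _ hq.out.ne_zero)]
          rw [add_pow_char_pow, ha'] at h2
          exact eq_neg_of_add_eq_zero_left h2 }
    intro r
    have hle : R ≤ S := by
      refine Subring.closure_le.mpr (Set.singleton_subset_iff.mpr ⟨t.2, ?_⟩)
      rw [← pow_mod_orderOf, hot]
      have h1 : q ^ o % p = 1 := by
        have h2 : ((q ^ o : ℕ) : ZMod p) = ((1 : ℕ) : ZMod p) := by push_cast; exact pow_orderOf_eq_one _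
        rw [ZMod.natCast_eq_natCast_iff', Nat.one_mod_eq_one.mpr hp.out.ne_one] at h2
        exact h2
      rw [h1, pow_one]
    obtain ⟨h, h'⟩ := hle r.2
    exact h'
  have hle : q ^ k ≤ q ^ o := by
    rw [← hk, Nat.card_eq_fintype_card]
    have hpoly : (Polynomial.X ^ q ^ o - Polynomial.X : Polynomial ↥R) ≠ 0 :=
      FiniteField.X_pow_card_pow_sub_X_ne_zero ↥R ho0 hq.out.one_lt
    have := Multiset.card_le_card (Multiset.le_iff_subset (Finset.univ : Finset ↥R).nodup |>.mpr
      (fun r _ => (Polynomial.mem_roots hpoly).mpr (by simp [hall r])))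
    exact this.trans ((Polynomial.card_roots' _).trans
      (le_of_eq (FiniteField.X_pow_card_pow_sub_X_natDegree_eq ↥R ho0 hq.out.one_lt)))
  have hk0 : k ≠ 0 := fun h => by
    rw [h, pow_zero, Nat.card_eq_one_iff_unique] at hk
    exact not_nontrivial_iff_subsingleton.mpr hk.1 inferInstance
  have hok : o ≤ k := Nat.le_of_dvd (Nat.pos_of_ne_zero hk0) (orderOf_dvd_of_pow_eq_one hqk)
  rw [← Nat.card_eq_of_bijective _ hev, hk, le_antisymm ((Nat.pow_le_pow_iff_right hq.out.one_lt).mp hle) hok]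

/-- The group version. -/
theorem card_minimal_normal {G : Type*} [Group G] [Finite G] [hp : Fact p.Prime] (hq : q.Prime) (hpq : q ≠ p)
    (hna : ¬ IsMulCommutative G) (A : Subgroup G) [A.Normal] (hA : Cfsg.IsElementaryAbelian q A) (hidx : A.index = p)
    (hmin : ∀ B : Subgroup G, B.Normal → B ≤ A → B = ⊥ ∨ B = A) :
    Nat.card ↥A = q ^ orderOf (q : ZMod p) := by
  haveI : Fact q.Prime := ⟨hq⟩
  obtain ⟨hAc, hAe⟩ := hA
  have hdvd : p ∣ Nat.card G := hidx ▸ A.index_dvd_card
  obtain ⟨x, hx⟩ := exists_prime_orderOf_dvd_card' p hdvd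
  have hxA : x ∉ A := fun h => hpq (by
    have h1 := orderOf_dvd_of_pow_eq_one (hAe x h)
    rw [hx] at h1
    exact ((Nat.prime_dvd_prime_iff_eq hp.out hq).mp h1).symm)
  have htop : A ⊔ Subgroup.zpowers x = ⊤ := by
    have h1 := Subgroup.relIndex_mul_index (le_sup_left : A ≤ A ⊔ Subgroup.zpowers x)
    rw [hidx] at h1
    rcases hp.out.eq_one_or_self_of_dvd _ (Dvd.intro_left _ h1) with h | h
    · exact Subgroup.index_eq_one.mp h
    · rw [h] at h1
      exact absurd (Subgroup.relIndex_eq_one.mp ((Nat.mul_eq_right hp.out.ne_zero).mp h1))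
        (fun hl => hxA (hl (Subgroup.mem_sup_right (Subgroup.mem_zpowers x))))
  haveI := hAc
  have hA0 : A ≠ ⊥ := fun h => by
    apply hna
    rw [h, Subgroup.index_bot] at hidx
    haveI := isCyclic_of_prime_card hidx
    exact IsCyclic.commutative
  letI : CommGroup ↥A := { (inferInstance : Group ↥A) with mul_comm := fun a b => hAc.is_comm.comm a b }
  let c : ↥A →* ↥A :=
    { toFun := fun a => ⟨x * a * x⁻¹, ‹A.Normal›.conj_mem a a.2 x⟩
      map_one' := Subtype.ext (by simp)
      map_mul' := fun a b => Subtype.ext (by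
        show x * ((a : G) * b) * x⁻¹ = x * a * x⁻¹ * (x * b * x⁻¹)
        group) }
  let T : AddMonoid.End (Additive ↥A) := MonoidHom.toAdditive c
  have hiter : ∀ (n : ℕ) (a : ↥A), (((T ^ n) (Additive.ofMul a)).toMul : G) = x ^ n * a * (x ^ n)⁻¹ := by
    intro n a
    induction n with
    | zero => simp
    | succ n ih =>
      rw [pow_succ' T, AddMonoid.End.coe_mul, Function.comp_apply]
      show x * (((T ^ n) (Additive.ofMul a)).toMul : G) * x⁻¹ = x ^ (n + 1) * a * (x ^ (n + 1))⁻¹
      rw [ih, pow_succ']; group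
  have hT : T ^ p = 1 := by
    refine AddMonoidHom.ext fun a => ?_
    have h := hiter p (Additive.toMul a)
    rw [show x ^ p = 1 by rw [← hx]; exact pow_orderOf_eq_one x] at h
    show (T ^ p) a = a
    exact Additive.toMul.injective (Subtype.ext (by simpa using h))
  have hT1 : T ≠ 1 := by
    intro h
    apply hna
    have hc : ∀ a ∈ A, x * a = a * x := by
      intro a ha
      have h1 := congrArg (fun z : Additive ↥A => ((z.toMul : ↥A) : G)) (DFunLike.congr_fun h (Additive.ofMul ⟨a, ha⟩))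
      exact mul_inv_eq_iff_eq_mul.mp h1
    have hle : A ⊔ Subgroup.zpowers x ≤ Subgroup.centralizer ((A ⊔ Subgroup.zpowers x : Subgroup G) : Set G) := by
      have hxC : Subgroup.zpowers x ≤ Subgroup.centralizer (A : Set G) :=
        Subgroup.zpowers_le.mpr (Subgroup.mem_centralizer_iff.mpr fun a ha => (hc a ha).symm)
      refine sup_le ?_ ?_ <;> rw [Subgroup.le_centralizer_iff] <;> refine sup_le ?_ ?_
      · exact Subgroup.le_centralizer A
      · exact hxC
      · exact Subgroup.le_centralizer_iff.mp hxC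
      · exact Subgroup.le_centralizer (Subgroup.zpowers x)
    rw [htop] at hle
    exact ⟨⟨fun a b => Subgroup.mem_centralizer_iff.mp (hle (Subgroup.mem_top b)) a (Subgroup.mem_top a)⟩⟩
  haveI : Nontrivial (Additive ↥A) := by
    haveI := (Subgroup.nontrivial_iff_ne_bot A).mpr hA0
    exact inferInstanceAs (Nontrivial ↥A)
  have hexp : ∀ v : Additive ↥A, q • v = 0 := by
    intro v
    show Additive.ofMul (v.toMul ^ q) = 0
    rw [show v.toMul ^ q = 1 from Subtype.ext (by rw [Subgroup.coe_pow]; exact hAe _ v.toMul.2)]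
    rfl
  rw [← Nat.card_congr (Additive.ofMul : ↥A ≃ Additive ↥A).symm]
  refine card_of_irreducible hpq hexp T hT hT1 fun W hW => ?_
  set B := (AddSubgroup.toSubgroup' W).map A.subtype with hB
  have hBn : B.Normal := by
    refine Subgroup.normalizer_eq_top_iff.mp (eq_top_iff.mpr ?_)
    rw [← htop]
    refine sup_le ?_ (Subgroup.zpowers_le.mpr (Subgroup.mem_normalizer_fintype ?_))
    · intro a ha
      refine Subgroup.mem_normalizer_fintype ?_
      rintro _ ⟨w, hw, rfl⟩
      refine ⟨w, hw, ?_⟩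
      show (w : G) = a * (w : G) * a⁻¹
      rw [show a * (w : G) = w * a from congrArg Subtype.val (hAc.is_comm.comm ⟨a, ha⟩ w), mul_inv_cancel_right]
    · rintro _ ⟨w, hw, rfl⟩
      exact ⟨c w, hW _ hw, rfl⟩
  rcases hmin B hBn (Subgroup.map_subtype_le _) with h | h
  · refine Or.inl (eq_bot_iff.mpr fun w hw => ?_)
    have h1 : ((w.toMul : ↥A) : G) ∈ B := ⟨w.toMul, hw, rfl⟩
    rw [h, Subgroup.mem_bot] at h1
    exact AddSubgroup.mem_bot.mpr (Additive.toMul.injective (Subtype.ext (by simpa using h1)))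
  · refine Or.inr (eq_top_iff.mpr fun w _ => ?_)
    obtain ⟨u, hu, huw⟩ := (h.symm ▸ w.toMul.2 : ((w.toMul : ↥A) : G) ∈ B)
    have hu' : u = w.toMul := Subtype.ext huw
    rw [hu'] at hu
    exact hu

end Cfsg.Agent.GenA.MinimalPClosed
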