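import Mathlib
import Cfsg.Prelude.Def_Transfer
import Cfsg.Agent.Lib.Cores.Fitting
import Cfsg.Agent.S3939

/-!
Nilpotent minimal covers of a group with trivial centre: members above an abelian Sylow subgroup.
-/

set_option autoImplicit false

namespace Cfsg.Agent.GenA.NilpotentCover

open Subgroup
open scoped commutatorElement

variable {G : Type*} [Group G] [Finite G]

/-- a nilpotent minimal cover -/
abbrev IsNMC (𝓐 : Finset (Subgroup G)) : Prop :=
  ((∀ A ∈ 𝓐, A ≠ ⊤) ∧ (∀ g : G, ∃ A ∈ 𝓐, g ∈ A)) ∧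
    (∀ 𝓑 : Finset (Subgroup G), (∀ A ∈ 𝓑, A ≠ ⊤) ∧ (∀ g : G, ∃ A ∈ 𝓑, g ∈ A) → 𝓐.card ≤ 𝓑.card) ∧
    (∀ A ∈ 𝓐, Group.IsNilpotent ↥A)

theorem eq_of_le_proper {𝓐 : Finset (Subgroup G)} (h : IsNMC 𝓐) {A B M : Subgroup G} (hA : A ∈ 𝓐)
    (hB : B ∈ 𝓐) (hM : M ≠ ⊤) (hAM : A ≤ M) (hBM : B ≤ M) : A = B := by
  classical
  by_contra hne
  obtain ⟨⟨hprop, hcov⟩, hmin, -⟩ := h
  have h1 := hmin (insert M ((𝓐.erase A).erase B)) ⟨fun C hC => ?_, fun g => ?_⟩
  · have h2 := Finset.card_insert_le M ((𝓐.erase A).erase B)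
    have hB' : B ∈ 𝓐.erase A := Finset.mem_erase.mpr ⟨Ne.symm hne, hB⟩
    rw [Finset.card_erase_of_mem hB', Finset.card_erase_of_mem hA] at h2
    have h3 : 1 < 𝓐.card := Finset.one_lt_card.mpr ⟨A, hA, B, hB, hne⟩
    omega
  · rcases Finset.mem_insert.mp hC with rfl | hC'
    · exact hM
    · exact hprop C (Finset.mem_of_mem_erase (Finset.mem_of_mem_erase hC'))
  · obtain ⟨C, hC, hg⟩ := hcov g
    by_cases h1 : C = A
    · exact ⟨M, Finset.mem_insert_self _ _, hAM (h1 ▸ hg)⟩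
    by_cases h2 : C = B
    · exact ⟨M, Finset.mem_insert_self _ _, hBM (h2 ▸ hg)⟩
    exact ⟨C, Finset.mem_insert_of_mem (Finset.mem_erase.mpr ⟨h2, Finset.mem_erase.mpr ⟨h1, hC⟩⟩), hg⟩

variable {p : ℕ} [Fact p.Prime]

theorem mul_comm_of_sylow (P : Sylow p G) [IsMulCommutative ↥(P : Subgroup G)] {H : Subgroup G}
    (hH : IsPGroup p ↥H) {a b : G} (ha : a ∈ H) (hb : b ∈ H) : a * b = b * a := by
  obtain ⟨Q, hQ⟩ := hH.exists_le_sylow
  obtain ⟨g, rfl⟩ := MulAction.exists_smul_eq G P Q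
  have h1 := hQ ha
  have h2 := hQ hb
  rw [Sylow.coe_subgroup_smul, mem_pointwise_smul_iff_inv_smul_mem] at h1 h2
  exact (MulAut.conj g)⁻¹.injective (by
    rw [map_mul, map_mul]
    exact congrArg Subtype.val (IsMulCommutative.is_comm.comm (⟨_, h1⟩ : ↥(P : Subgroup G)) ⟨_, h2⟩))

theorem member_le_centralizer {𝓐 : Finset (Subgroup G)} (h : IsNMC 𝓐) (P : Sylow p G)
    [IsMulCommutative ↥(P : Subgroup G)] {A : Subgroup G} (hA : A ∈ 𝓐) {x : G} (hx : x ∈ A)
    {k : ℕ} (hk : orderOf x = p ^ k) : A ≤ centralizer ({x} : Set G) := by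
  haveI := h.2.2 A hA
  suffices hs : (centralizer ({x} : Set G)).subgroupOf A = ⊤ from subgroupOf_eq_top.mp hs
  refine Cfsg.Agent.Cores.eq_top_of_sylow_le fun q hq _ => ?_
  haveI : Fact q.Prime := ⟨hq⟩
  by_cases hqp : q = p
  · subst hqp
    obtain ⟨S, hS⟩ := (IsPGroup.of_card (p := q) (G := ↥(zpowers (⟨x, hx⟩ : ↥A))) (n := k)
      (by rw [Nat.card_zpowers, orderOf_mk, hk])).exists_le_sylow
    refine ⟨S, fun y hy => mem_subgroupOf.mpr (mem_centralizer_singleton_iff.mpr ?_)⟩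
    exact mul_comm_of_sylow P (S.isPGroup'.map A.subtype) ⟨y, hy, rfl⟩
      ⟨⟨x, hx⟩, hS (mem_zpowers _), rfl⟩
  · obtain ⟨S⟩ : Nonempty (Sylow q ↥A) := inferInstance
    refine ⟨S, fun y hy => mem_subgroupOf.mpr (mem_centralizer_singleton_iff.mpr ?_)⟩
    obtain ⟨i, hi⟩ := IsPGroup.iff_orderOf.mp S.isPGroup' ⟨y, hy⟩
    rw [orderOf_mk] at hi
    exact congrArg Subtype.val (Cfsg.Agent.S3939.commute_of_coprime_orders (x := y) (y := (⟨x, hx⟩ : ↥A))
      (by rw [hi, orderOf_mk, hk]; exact Nat.Coprime.pow i k ((Nat.coprime_primes hq Fact.out).mpr hqp))).eq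

theorem member_unique {𝓐 : Finset (Subgroup G)} (h : IsNMC 𝓐) (hZ : center G = ⊥) (P : Sylow p G)
    [IsMulCommutative ↥(P : Subgroup G)] {x : G} (hx1 : x ≠ 1) {k : ℕ} (hk : orderOf x = p ^ k)
    {A B : Subgroup G} (hA : A ∈ 𝓐) (hB : B ∈ 𝓐) (hxA : x ∈ A) (hxB : x ∈ B) : A = B := by
  refine eq_of_le_proper h hA hB (fun htop => hx1 ?_) (member_le_centralizer h P hA hxA hk)
    (member_le_centralizer h P hB hxB hk)
  have hc : x ∈ center G := mem_center_iff.mpr fun g => mem_centralizer_singleton_iff.mp (htop ▸ mem_top g)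
  rwa [hZ, mem_bot] at hc

/-- the hypothesis on `P`: cyclic, or not elementary, or of order at most `p` -/
theorem exists_member {𝓐 : Finset (Subgroup G)} (h : IsNMC 𝓐) (hZ : center G = ⊥) (P : Sylow p G)
    [IsMulCommutative ↥(P : Subgroup G)]
    (hP : ¬ Cfsg.IsElementaryAbelian p (P : Subgroup G) ∨ Nat.card ↥(P : Subgroup G) ≤ p) :
    ∃ A ∈ 𝓐, (P : Subgroup G) ≤ A := by
  classical
  have hord : ∀ y ∈ (P : Subgroup G), ∃ j, orderOf y = p ^ j := fun y hy => by
    obtain ⟨j, hj⟩ := IsPGroup.iff_orderOf.mp P.isPGroup' ⟨y, hy⟩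
    exact ⟨j, by rwa [orderOf_mk] at hj⟩
  have hpp : p.Prime := Fact.out
  by_cases hel : Cfsg.IsElementaryAbelian p (P : Subgroup G)
  · have hc := hP.resolve_left (not_not.mpr hel)
    obtain ⟨g, hg⟩ : ∃ g : G, zpowers g = (P : Subgroup G) := by
      by_cases hb : (P : Subgroup G) = ⊥
      · exact ⟨1, by rw [hb, zpowers_one_eq_bot]⟩
      · obtain ⟨g, hg, hg1⟩ := (P : Subgroup G).bot_or_exists_ne_one.resolve_left hb
        refine ⟨g, eq_of_le_of_card_ge (zpowers_le.mpr hg) ?_⟩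
        rw [Nat.card_zpowers, orderOf_eq_prime (hel.2 g hg) hg1]
        exact hc
    obtain ⟨A, hA, hgA⟩ := h.1.2 g
    exact ⟨A, hA, hg ▸ zpowers_le.mpr hgA⟩
  · obtain ⟨x, hx, hxp⟩ : ∃ x ∈ (P : Subgroup G), x ^ p ≠ 1 := by
      by_contra hcon
      push Not at hcon
      exact hel ⟨inferInstance, hcon⟩
    obtain ⟨k, hk⟩ := hord x hx
    obtain ⟨A, hA, hxA⟩ := h.1.2 x
    have hmul : ∀ z ∈ (P : Subgroup G), z ^ p = 1 → z ∈ A := by
      intro z hz hzp
      obtain ⟨B, hB, hzB⟩ := h.1.2 (x * z)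
      have hc : Commute x z := congrArg Subtype.val (IsMulCommutative.is_comm.comm (⟨x, hx⟩ : ↥(P : Subgroup G)) ⟨z, hz⟩)
      have hxpB : x ^ p ∈ B := by
        have := B.pow_mem hzB p
        rwa [hc.mul_pow, hzp, mul_one] at this
      obtain ⟨j, hj⟩ := hord _ ((P : Subgroup G).pow_mem hx p)
      have hAB : A = B := member_unique h hZ P hxp hj hA hB (A.pow_mem hxA p) hxpB
      have := A.mul_mem (A.inv_mem hxA) (hAB ▸ hzB)
      rwa [inv_mul_cancel_left] at this
    refine ⟨A, hA, fun y hy => ?_⟩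
    rcases eq_or_ne y 1 with rfl | hy1
    · exact one_mem _
    obtain ⟨j, hj⟩ := hord y hy
    have hj0 : j ≠ 0 := fun h0 => hy1 (orderOf_eq_one_iff.mp (by rw [hj, h0, pow_zero]))
    have hz : orderOf (y ^ p ^ (j - 1)) = p := by
      rw [orderOf_pow_of_dvd (pow_ne_zero _ hpp.ne_zero) (hj ▸ pow_dvd_pow p (by omega)), hj,
        Nat.pow_div (by omega) hpp.pos, show j - (j - 1) = 1 by omega, pow_one]
    have hzA := hmul _ ((P : Subgroup G).pow_mem hy _) (orderOf_dvd_iff_pow_eq_one.mp hz.dvd)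
    obtain ⟨B, hB, hyB⟩ := h.1.2 y
    have hAB : A = B := member_unique h hZ P (fun h0 => hpp.ne_one (by rw [← hz, h0, orderOf_one]))
      (by rw [hz, pow_one]) hA hB hzA (B.pow_mem hyB _)
    exact hAB ▸ hyB

theorem centralizer_eq {𝓐 : Finset (Subgroup G)} (h : IsNMC 𝓐) (hZ : center G = ⊥) (P : Sylow p G)
    [IsMulCommutative ↥(P : Subgroup G)] {A : Subgroup G} (hA : A ∈ 𝓐) (hPA : (P : Subgroup G) ≤ A)
    {x : G} (hx : x ∈ (P : Subgroup G)) (hx1 : x ≠ 1) : centralizer ({x} : Set G) = A := by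
  obtain ⟨k, hk⟩ := IsPGroup.iff_orderOf.mp P.isPGroup' ⟨x, hx⟩
  rw [orderOf_mk] at hk
  refine le_antisymm ?_ (member_le_centralizer h P hA (hPA hx) hk)
  set C := centralizer ({x} : Set G) with hCdef
  suffices hs : A.subgroupOf C = ⊤ from subgroupOf_eq_top.mp hs
  refine Cfsg.Agent.Cores.eq_top_of_sylow_le fun q hq _ => ?_
  haveI : Fact q.Prime := ⟨hq⟩
  by_cases hqp : q = p
  · subst hqp
    have hPC : (P : Subgroup G) ≤ C := fun y hy => mem_centralizer_singleton_iff.mpr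
      (congrArg Subtype.val (IsMulCommutative.is_comm.comm (⟨y, hy⟩ : ↥(P : Subgroup G)) ⟨x, hx⟩))
    refine ⟨P.subtype hPC, ?_⟩
    rw [Sylow.coe_subtype]
    exact fun y hy => mem_subgroupOf.mpr (hPA (mem_subgroupOf.mp hy))
  · obtain ⟨S⟩ : Nonempty (Sylow q ↥C) := inferInstance
    refine ⟨S, fun y hy => mem_subgroupOf.mpr ?_⟩
    obtain ⟨i, hi⟩ := IsPGroup.iff_orderOf.mp S.isPGroup' ⟨y, hy⟩
    rw [orderOf_mk, ← Subgroup.orderOf_coe] at hi
    have hc : Commute x (y : G) := (mem_centralizer_singleton_iff.mp y.2).symm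
    obtain ⟨B, hB, hxyB⟩ := h.1.2 (x * y)
    have hco : ((q : ℕ) ^ i).Coprime (orderOf x) := hk ▸ Nat.Coprime.pow i k ((Nat.coprime_primes hq Fact.out).mpr hqp)
    obtain ⟨m, hm⟩ := exists_pow_eq_self_of_coprime hco
    have hxB : x ∈ B := by
      have := B.pow_mem (B.pow_mem hxyB (q ^ i)) m
      rwa [hc.mul_pow, ← hi, pow_orderOf_eq_one, mul_one, hi, hm] at this
    have hAB := member_unique h hZ P hx1 hk hA hB (hPA hx) hxB
    subst hAB
    have := A.mul_mem (A.inv_mem hxB) hxyB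
    rwa [inv_mul_cancel_left] at this

theorem main {𝓐 : Finset (Subgroup G)} (h : IsNMC 𝓐) (hZ : center G = ⊥) (P : Sylow p G)
    [hab : IsMulCommutative ↥(P : Subgroup G)] (hnn : ¬ (P : Subgroup G).Normal)
    (hP : ¬ Cfsg.IsElementaryAbelian p (P : Subgroup G) ∨ Nat.card ↥(P : Subgroup G) ≤ p) :
    ∃ A ∈ 𝓐, (P : Subgroup G) ≤ A ∧ centralizer ((P : Subgroup G) : Set G) = A ∧
      IsCoatom (normalizer ((P : Subgroup G) : Set G)) ∧
      (∀ g : G, g ∉ normalizer ((P : Subgroup G) : Set G) →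
        ¬ p ∣ Nat.card ↥(normalizer ((P : Subgroup G) : Set G) ⊓
          (normalizer ((P : Subgroup G) : Set G)).map (MulAut.conj g).toMonoidHom)) ∧
      (∀ M : Subgroup G, IsCoatom M → A ≤ M → M = normalizer ((P : Subgroup G) : Set G)) := by
  classical
  set N := normalizer ((P : Subgroup G) : Set G) with hNdef
  obtain ⟨A, hA, hPA⟩ := exists_member h hZ P hP
  have hPne : (P : Subgroup G) ≠ ⊥ := fun h0 => hnn (h0 ▸ inferInstance)
  obtain ⟨x, hx, hx1⟩ := (P : Subgroup G).bot_or_exists_ne_one.resolve_left hPne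
  have hCA : centralizer ((P : Subgroup G) : Set G) = A := by
    refine le_antisymm ?_ ?_
    · rw [← centralizer_eq h hZ P hA hPA hx hx1]
      exact centralizer_le (Set.singleton_subset_iff.mpr hx)
    · intro a ha
      refine mem_centralizer_iff.mpr fun y hy => ?_
      rcases eq_or_ne y 1 with rfl | hy1
      · simp
      · exact (mem_centralizer_singleton_iff.mp (centralizer_eq h hZ P hA hPA hy hy1 ▸ ha : a ∈ centralizer ({y} : Set G))).symm
  -- two Sylow subgroups meeting nontrivially are equal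
  have hTI : ∀ g : G, ∀ y ∈ (P : Subgroup G), y ≠ 1 → g⁻¹ * y * g ∈ (P : Subgroup G) → g ∈ N := by
    intro g y hy hy1 hgy
    set z := g⁻¹ * y * g with hz
    have hz1 : z ≠ 1 := by
      intro h0
      apply hy1
      calc y = g * z * g⁻¹ := by rw [hz]; group
        _ = 1 := by rw [h0]; group
    have hAy := centralizer_eq h hZ P hA hPA hy hy1
    have hAz := centralizer_eq h hZ P hA hPA hgy hz1
    refine mem_normalizer_fintype fun u hu => ?_
    have hmem : g * u * g⁻¹ ∈ A := by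
      rw [← hAy, mem_centralizer_singleton_iff]
      have hu' : u * z = z * u := mem_centralizer_singleton_iff.mp (hAz.symm ▸ hPA hu : u ∈ centralizer ({z} : Set G))
      calc g * u * g⁻¹ * y = g * (u * z) * g⁻¹ := by rw [hz]; group
        _ = y * (g * u * g⁻¹) := by rw [hu', hz]; group
    haveI : ((P : Subgroup G).subgroupOf A).Normal := ⟨fun v hv w => by
      rw [mem_subgroupOf] at hv ⊢
      have hw : (w : G) ∈ centralizer ((P : Subgroup G) : Set G) := hCA.symm ▸ w.2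
      rw [Subgroup.coe_mul, Subgroup.coe_mul, Subgroup.coe_inv, ← mem_centralizer_iff.mp hw _ hv, mul_inv_cancel_right]
      exact hv⟩
    have hp' : IsPGroup p ↥(zpowers (⟨g * u * g⁻¹, hmem⟩ : ↥A)) := by
      obtain ⟨j, hj⟩ := IsPGroup.iff_orderOf.mp P.isPGroup' ⟨u, hu⟩
      rw [orderOf_mk] at hj
      exact IsPGroup.of_card (n := j) (by
        rw [Nat.card_zpowers, orderOf_mk, show g * u * g⁻¹ = MulAut.conj g u from rfl, MulEquiv.orderOf_eq, hj])
    obtain ⟨S, hS⟩ := hp'.exists_le_sylow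
    haveI := Sylow.unique_of_normal (P.subtype hPA) (by rw [Sylow.coe_subtype]; infer_instance)
    have h5 := hS (mem_zpowers _)
    rw [Subsingleton.elim S (P.subtype hPA), Sylow.coe_subtype] at h5
    exact mem_subgroupOf.mp h5
  -- maximal subgroups above `A`
  have hmaxA : ∀ M : Subgroup G, IsCoatom M → A ≤ M → M ≤ N := by
    intro M hM hAM g hg
    haveI : IsMulCommutative ↥((g • P : Sylow p G) : Subgroup G) :=
      ⟨⟨fun a b => Subtype.ext (mul_comm_of_sylow P (g • P).isPGroup' a.2 b.2)⟩⟩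
    obtain ⟨B, hB, hQB⟩ := exists_member h hZ (g • P) (by
      rcases hP with h1 | h1
      · refine Or.inl fun h2 => h1 ⟨inferInstance, fun a ha => ?_⟩
        refine (MulAut.conj g).injective ?_
        rw [map_pow, map_one]
        exact h2.2 _ (by rw [Sylow.coe_subgroup_smul]; exact smul_mem_pointwise_smul _ _ _ ha)
      · refine Or.inr ?_
        have hc : Nat.card ↥((g • P : Sylow p G) : Subgroup G) = Nat.card ↥(P : Subgroup G) := by
          rw [Sylow.card_eq_multiplicity, Sylow.card_eq_multiplicity]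
        omega)
    set x' := g * x * g⁻¹
    have hx' : x' ∈ ((g • P : Sylow p G) : Subgroup G) := by
      rw [Sylow.coe_subgroup_smul]; exact smul_mem_pointwise_smul _ _ _ hx
    have hx'1 : x' ≠ 1 := fun h0 => hx1 (conj_eq_one_iff.mp h0)
    have hBM : B ≤ M := by
      rw [← centralizer_eq h hZ (g • P) hB hQB hx' hx'1]
      intro c hc
      have hc' : g⁻¹ * c * g ∈ A := by
        rw [← centralizer_eq h hZ P hA hPA hx hx1, mem_centralizer_singleton_iff]
        have := mem_centralizer_singleton_iff.mp hc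
        calc g⁻¹ * c * g * x = g⁻¹ * (c * x') * g := by simp only [x']; group
          _ = x * (g⁻¹ * c * g) := by rw [this]; simp only [x']; group
      have := M.mul_mem (M.mul_mem hg (hAM hc')) (M.inv_mem hg)
      rwa [show g * (g⁻¹ * c * g) * g⁻¹ = c by group] at this
    have hBA : B = A := eq_of_le_proper h hB hA hM.1 hBM hAM
    -- `P` and `g • P` are Sylow subgroups of `A = C(P)`
    refine hTI g x' ?_ hx'1 (by rw [show g⁻¹ * x' * g = x by simp only [x']; group]; exact hx)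
    have hxA : x' ∈ A := hBA ▸ hQB hx'
    obtain ⟨j, hj⟩ := IsPGroup.iff_orderOf.mp (g • P).isPGroup' ⟨x', hx'⟩
    rw [orderOf_mk] at hj
    haveI : ((P : Subgroup G).subgroupOf A).Normal := ⟨fun v hv w => by
      rw [mem_subgroupOf] at hv ⊢
      have hw : (w : G) ∈ centralizer ((P : Subgroup G) : Set G) := hCA.symm ▸ w.2
      rw [Subgroup.coe_mul, Subgroup.coe_mul, Subgroup.coe_inv, ← mem_centralizer_iff.mp hw _ hv, mul_inv_cancel_right]
      exact hv⟩
    obtain ⟨S, hS⟩ := (IsPGroup.of_card (p := p) (G := ↥(zpowers (⟨x', hxA⟩ : ↥A))) (n := j)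
      (by rw [Nat.card_zpowers, orderOf_mk, hj])).exists_le_sylow
    haveI := Sylow.unique_of_normal (P.subtype hPA) (by rw [Sylow.coe_subtype]; infer_instance)
    have h5 := hS (mem_zpowers _)
    rw [Subsingleton.elim S (P.subtype hPA), Sylow.coe_subtype] at h5
    exact mem_subgroupOf.mp h5
  have hN : N ≠ ⊤ := fun h0 => hnn (normalizer_eq_top_iff.mp h0)
  have hAN : A ≤ N := hCA ▸ centralizer_le_normalizer _
  have hco : IsCoatom N := by
    obtain ⟨M, hM, hNM⟩ := (eq_top_or_exists_le_coatom N).resolve_left hN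
    rw [le_antisymm hNM (hmaxA M hM (hAN.trans hNM))]
    exact hM
  refine ⟨A, hA, hPA, hCA, hco, ?_, fun M hM hAM => ?_⟩
  · intro g hg hdvd
    obtain ⟨w, hw⟩ := exists_prime_orderOf_dvd_card' p hdvd
    have hwo : orderOf (w : G) = p := by rw [Subgroup.orderOf_coe, hw]
    have hw1 : (w : G) ≠ 1 := fun h0 => (Fact.out : p.Prime).ne_one (by rw [← hwo, h0, orderOf_one])
    have hPN : ∀ v : G, v ∈ N → orderOf v = p → v ∈ (P : Subgroup G) := by
      intro v hv hvp
      have hle : (P : Subgroup G) ≤ N := le_normalizer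
      obtain ⟨S, hS⟩ := (IsPGroup.of_card (p := p) (G := ↥(zpowers (⟨v, hv⟩ : ↥N))) (n := 1)
        (by rw [Nat.card_zpowers, orderOf_mk, hvp, pow_one])).exists_le_sylow
      haveI := Sylow.unique_of_normal (P.subtype hle) (by rw [Sylow.coe_subtype]; exact normal_in_normalizer)
      have h5 := hS (mem_zpowers _)
      rw [Subsingleton.elim S (P.subtype hle), Sylow.coe_subtype] at h5
      exact mem_subgroupOf.mp h5
    obtain ⟨v, hv, hvw⟩ := w.2.2
    have hvw' : g * v * g⁻¹ = (w : G) := hvw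
    have hvo : orderOf v = p := by rw [← hwo, ← hvw', show g * v * g⁻¹ = MulAut.conj g v from rfl, MulEquiv.orderOf_eq]
    refine hg (hTI g w (hPN _ w.2.1 hwo) hw1 ?_)
    rw [← hvw', show g⁻¹ * (g * v * g⁻¹) * g = v by group]
    exact hPN v hv hvo
  · have hle := hmaxA M hM hAM
    rcases hle.eq_or_lt with h1 | h1
    · exact h1
    · exact absurd (hM.2 _ h1) hN

end Cfsg.Agent.GenA.NilpotentCover
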