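import Mathlib

/-! The faithful irreducible module of `3^2:D_8` over the field with two elements. -/

set_option autoImplicit false

namespace Cfsg.Agent.GenA.NineDihedral

open Subgroup

variable {S : Type*} [Group S] {M : Type*} [AddCommGroup M] [Module (ZMod 2) M]

theorem mv (ρ : Representation (ZMod 2) S M) (g h : S) (v : M) : ρ g (ρ h v) = ρ (g * h) v := by
  rw [map_mul, Module.End.mul_apply]

theorem two_zero (v : M) : v + v = 0 := by
  rw [← two_smul (ZMod 2) v, show (2 : ZMod 2) = 0 from rfl, zero_smul]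

theorem eq_of_add_eq_zero {v w : M} (h : v + w = 0) : v = w := by
  calc v = v + (w + w) := by rw [two_zero, add_zero]
    _ = (v + w) + w := by abel
    _ = w := by rw [h, zero_add]

theorem zmod_two_cases : ∀ r : ZMod 2, r = 0 ∨ r = 1 := by decide

/-- The relations satisfied by the generators. -/
structure Rel (a b s t c : S) : Prop where
  aaa : a * a * a = 1
  bbb : b * b * b = 1
  ab : a * b = b * a
  ss : s * s = 1
  tt : t * t = 1
  cc : c * c = 1
  sc : s * c = c * s
  tc : t * c = c * t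
  tst : t * s * t = s * c
  sas : s * a * s = a
  sbs : s * b * s = b * b
  tat : t * a * t = b
  cac : c * a * c = a * a
  cbc : c * b * c = b * b

theorem core [Finite S] [Finite M] {a b s t c : S} (R : Rel a b s t c)
    (hgen : closure ({a, b, s, t} : Set S) = ⊤) (ρ : Representation (ZMod 2) S M)
    (hirr : ∀ N : Submodule (ZMod 2) M, (∀ g : S, ∀ m ∈ N, ρ g m ∈ N) → N = ⊥ ∨ N = ⊤)
    (hzero : ∀ v, ρ a v = v → ρ b v = v → v = 0) {v : M} (hv0 : v ≠ 0) (hv : ρ a v = v) :
    Nat.card M = 16 ∧ Nat.card {m : M // ρ c m = m ∧ ρ s m = m} = 4 ∧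
      Nat.card {m : M // ρ c m = m ∧ ρ t m = m} = 2 := by
  classical
  have hone : ∀ w : M, ρ 1 w = w := fun w => by rw [map_one, Module.End.one_apply]
  -- word rewriting
  have hac : a * c = c * (a * a) := by
    calc a * c = (c * c) * a * c := by rw [R.cc, one_mul]
      _ = c * (c * a * c) := by group
      _ = c * (a * a) := by rw [R.cac]
  have hcb : c * b = b * b * c := by
    calc c * b = c * b * (c * c) := by rw [R.cc, mul_one]
      _ = (c * b * c) * c := by group
      _ = b * b * c := by rw [R.cbc]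
  have hsb : s * b = b * b * s := by
    calc s * b = s * b * (s * s) := by rw [R.ss, mul_one]
      _ = (s * b * s) * s := by group
      _ = b * b * s := by rw [R.sbs]
  have has : a * s = s * a := by
    calc a * s = (s * s) * a * s := by rw [R.ss, one_mul]
      _ = s * (s * a * s) := by group
      _ = s * a := by rw [R.sas]
  have hat : a * t = t * b := by
    calc a * t = (t * t) * a * t := by rw [R.tt, one_mul]
      _ = t * (t * a * t) := by group
      _ = t * b := by rw [R.tat]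
  have htbt : t * b * t = a := by
    rw [← R.tat]
    calc t * (t * a * t) * t = (t * t) * a * (t * t) := by group
      _ = a := by rw [R.tt, one_mul, mul_one]
  have hbt : b * t = t * a := by
    calc b * t = (t * t) * b * t := by rw [R.tt, one_mul]
      _ = t * (t * b * t) := by group
      _ = t * a := by rw [htbt]
  have hst : s * t = t * (s * c) := by
    rw [← R.tst]
    calc s * t = (t * t) * s * t := by rw [R.tt, one_mul]
      _ = t * (t * s * t) := by group
  -- a vector fixed by `a`, `c`, `s`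
  obtain ⟨u₁, hu₁0, hau₁, hcu₁⟩ : ∃ w, w ≠ 0 ∧ ρ a w = w ∧ ρ c w = w := by
    by_cases h : v + ρ c v = 0
    · exact ⟨v, hv0, hv, (eq_of_add_eq_zero h).symm⟩
    · refine ⟨_, h, ?_, ?_⟩
      · rw [map_add, hv, mv, hac, ← mv, ← mv, hv, hv]
      · rw [map_add, mv, R.cc, hone, add_comm]
  obtain ⟨u, hu0, hau, hcu, hsu⟩ : ∃ w, w ≠ 0 ∧ ρ a w = w ∧ ρ c w = w ∧ ρ s w = w := by
    by_cases h : u₁ + ρ s u₁ = 0
    · exact ⟨u₁, hu₁0, hau₁, hcu₁, (eq_of_add_eq_zero h).symm⟩
    · refine ⟨_, h, ?_, ?_, ?_⟩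
      · rw [map_add, hau₁, mv, has, ← mv, hau₁]
      · rw [map_add, hcu₁, mv, ← R.sc, ← mv, hcu₁]
      · rw [map_add, mv, R.ss, hone, add_comm]
  have haab : ρ a (ρ b u) = ρ b u := by rw [mv, R.ab, ← mv, hau]
  have hbb : ρ b (ρ b u) = u + ρ b u := by
    have h := hzero (u + ρ b u + ρ b (ρ b u))
      (by rw [map_add, map_add, hau, haab, mv ρ a b, R.ab, ← mv, haab])
      (by rw [map_add, map_add, mv ρ b b (ρ b u), mv ρ (b * b) b, R.bbb, hone]; abel)
    exact (eq_of_add_eq_zero h).symm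
  have hscu : ρ (s * c) u = u := by rw [← mv, hcu, hsu]
  have hcbu : ρ c (ρ b u) = u + ρ b u := by rw [mv, hcb, ← mv, ← mv, hcu, hbb]
  have hsbu : ρ s (ρ b u) = u + ρ b u := by rw [mv, hsb, ← mv, ← mv, hsu, hbb]
  -- the images of the four vectors
  have a3 : ρ a (ρ t u) = ρ t (ρ b u) := by rw [mv, hat, ← mv]
  have a4 : ρ a (ρ t (ρ b u)) = ρ t u + ρ t (ρ b u) := by rw [mv, hat, ← mv, hbb, map_add]
  have b3 : ρ b (ρ t u) = ρ t u := by rw [mv, hbt, ← mv, hau]
  have b4 : ρ b (ρ t (ρ b u)) = ρ t (ρ b u) := by rw [mv, hbt, ← mv, haab]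
  have s3 : ρ s (ρ t u) = ρ t u := by rw [mv, hst, ← mv, hscu]
  have s4 : ρ s (ρ t (ρ b u)) = ρ t (ρ b u) := by
    rw [mv, hst, ← mv, ← mv, hcbu, map_add, hsu, hsbu,
      ← add_assoc, two_zero, zero_add]
  have t3 : ρ t (ρ t u) = u := by rw [mv, R.tt, hone]
  have t4 : ρ t (ρ t (ρ b u)) = ρ b u := by rw [mv, R.tt, hone]
  have c3 : ρ c (ρ t u) = ρ t u := by rw [mv, ← R.tc, ← mv, hcu]
  have c4 : ρ c (ρ t (ρ b u)) = ρ t u + ρ t (ρ b u) := by rw [mv, ← R.tc, ← mv, hcbu, map_add]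
  let e : Fin 4 → M := ![u, ρ b u, ρ t u, ρ t (ρ b u)]
  let Q : Submodule (ZMod 2) M := Submodule.span (ZMod 2) (Set.range e)
  have q1 : u ∈ Q := Submodule.subset_span ⟨0, rfl⟩
  have q2 : ρ b u ∈ Q := Submodule.subset_span ⟨1, rfl⟩
  have q3 : ρ t u ∈ Q := Submodule.subset_span ⟨2, rfl⟩
  have q4 : ρ t (ρ b u) ∈ Q := Submodule.subset_span ⟨3, rfl⟩
  let St : Submonoid S :=
    { carrier := {g | Q ≤ Q.comap (ρ g)}
      one_mem' := fun m hm => by
        show ρ 1 m ∈ Q
        rw [hone]; exact hm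
      mul_mem' := fun {g h} hg hh m hm => by
        show ρ (g * h) m ∈ Q
        rw [← mv]; exact hg (hh hm) }
  have hst' : ∀ g ∈ ({a, b, s, t} : Set S), g ∈ St := by
    intro g hg
    show Q ≤ Q.comap (ρ g)
    refine Submodule.span_le.2 ?_
    rintro _ ⟨i, rfl⟩
    show ρ g (e i) ∈ Q
    rcases hg with rfl | rfl | rfl | rfl <;> fin_cases i
    · show ρ g u ∈ Q; rw [hau]; exact q1
    · show ρ g (ρ b u) ∈ Q; rw [haab]; exact q2
    · show ρ g (ρ t u) ∈ Q; rw [a3]; exact q4
    · show ρ g (ρ t (ρ b u)) ∈ Q; rw [a4]; exact Q.add_mem q3 q4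
    · exact q2
    · show ρ g (ρ g u) ∈ Q; rw [hbb]; exact Q.add_mem q1 q2
    · show ρ g (ρ t u) ∈ Q; rw [b3]; exact q3
    · show ρ g (ρ t (ρ g u)) ∈ Q; rw [b4]; exact q4
    · show ρ g u ∈ Q; rw [hsu]; exact q1
    · show ρ g (ρ b u) ∈ Q; rw [hsbu]; exact Q.add_mem q1 q2
    · show ρ g (ρ t u) ∈ Q; rw [s3]; exact q3
    · show ρ g (ρ t (ρ b u)) ∈ Q; rw [s4]; exact q4
    · exact q3
    · exact q4
    · show ρ g (ρ g u) ∈ Q; rw [t3]; exact q1
    · show ρ g (ρ g (ρ b u)) ∈ Q; rw [t4]; exact q2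
  have hall : ∀ g : S, g ∈ St := by
    intro g
    have h : g ∈ (closure ({a, b, s, t} : Set S)).toSubmonoid := by rw [hgen]; exact mem_top g
    rw [closure_toSubmonoid_of_finite] at h
    exact Submonoid.closure_le.2 hst' h
  have hQtop : Q = ⊤ := (hirr Q fun g m hm => hall g hm).resolve_left fun h =>
    hu0 ((Submodule.mem_bot (ZMod 2)).1 (h ▸ q1))
  let Φ : (Fin 4 → ZMod 2) →ₗ[ZMod 2] M := Fintype.linearCombination (ZMod 2) e
  have hΦ : ∀ f, Φ f = f 0 • u + f 1 • ρ b u + f 2 • ρ t u + f 3 • ρ t (ρ b u) := fun f => by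
    simp only [Φ, Fintype.linearCombination_apply, Fin.sum_univ_four, e]
    rfl
  have hindep : ∀ i j : ZMod 2, i • u + j • ρ b u = 0 → i = 0 ∧ j = 0 := by
    intro i j h
    rcases zmod_two_cases j with rfl | rfl
    · rw [zero_smul, add_zero, smul_eq_zero] at h
      exact ⟨h.resolve_right hu0, rfl⟩
    · exfalso
      rcases zmod_two_cases i with rfl | rfl
      · rw [zero_smul, zero_add, one_smul] at h
        refine hu0 ?_
        have h2 := congrArg (ρ (b * b)) h
        rwa [map_zero, mv, R.bbb, hone] at h2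
      · rw [one_smul, one_smul] at h
        exact hu0 (hzero u hau (eq_of_add_eq_zero h).symm)
  have hinj : Function.Injective Φ := by
    rw [← LinearMap.ker_eq_bot, LinearMap.ker_eq_bot']
    intro f hf
    rw [hΦ, add_assoc (f 0 • u + f 1 • ρ b u)] at hf
    set x := f 0 • u + f 1 • ρ b u with hx
    have hxy : x = f 2 • ρ t u + f 3 • ρ t (ρ b u) := eq_of_add_eq_zero hf
    have hxa : ρ a x = x := by rw [hx, map_add, map_smul, map_smul, hau, haab]
    have hxb : ρ b x = x := by rw [hxy, map_add, map_smul, map_smul, b3, b4]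
    have hx0 := hzero x hxa hxb
    obtain ⟨h0, h1⟩ := hindep _ _ (hx ▸ hx0)
    have h23 := congrArg (ρ t) (hxy.symm.trans hx0)
    rw [map_add, map_smul, map_smul, t3, t4, map_zero] at h23
    obtain ⟨h2, h3⟩ := hindep _ _ h23
    funext i
    fin_cases i <;> assumption
  have hsurj : Function.Surjective Φ := by
    rw [← LinearMap.range_eq_top, Fintype.range_linearCombination]
    exact hQtop
  have hbij : Function.Bijective Φ := ⟨hinj, hsurj⟩
  refine ⟨?_, ?_, ?_⟩
  · rw [← Nat.card_eq_of_bijective Φ hbij, Nat.card_fun, Nat.card_zmod, Nat.card_fin]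
    norm_num
  all_goals
    have hc : ∀ f, ρ c (Φ f) = Φ ![f 0 + f 1, f 1, f 2 + f 3, f 3] := by
      intro f
      simp only [hΦ, map_add, map_smul, hcu, hcbu, c3, c4, Matrix.cons_val_zero, Matrix.cons_val_one,
        Matrix.cons_val, smul_add, add_smul]
      abel
  · have hs' : ∀ f, ρ s (Φ f) = Φ ![f 0 + f 1, f 1, f 2, f 3] := by
      intro f
      simp only [hΦ, map_add, map_smul, hsu, hsbu, s3, s4, Matrix.cons_val_zero, Matrix.cons_val_one,
        Matrix.cons_val, smul_add, add_smul]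
      abel
    rw [← Nat.card_congr ((Equiv.ofBijective Φ hbij).subtypeEquiv (p := fun f : Fin 4 → ZMod 2 =>
      (![f 0 + f 1, f 1, f 2 + f 3, f 3] : Fin 4 → ZMod 2) = f ∧ (![f 0 + f 1, f 1, f 2, f 3] : Fin 4 → ZMod 2) = f)
      fun f => by simp only [Equiv.ofBijective_apply, hc, hs', hinj.eq_iff])]
    rw [Nat.card_eq_fintype_card]
    rfl
  · have ht' : ∀ f, ρ t (Φ f) = Φ ![f 2, f 3, f 0, f 1] := by
      intro f
      simp only [hΦ, map_add, map_smul, t3, t4, Matrix.cons_val_zero, Matrix.cons_val_one, Matrix.cons_val]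
      abel
    rw [← Nat.card_congr ((Equiv.ofBijective Φ hbij).subtypeEquiv (p := fun f : Fin 4 → ZMod 2 =>
      (![f 0 + f 1, f 1, f 2 + f 3, f 3] : Fin 4 → ZMod 2) = f ∧ (![f 2, f 3, f 0, f 1] : Fin 4 → ZMod 2) = f)
      fun f => by simp only [Equiv.ofBijective_apply, hc, ht', hinj.eq_iff])]
    rw [Nat.card_eq_fintype_card]
    rfl

theorem dihedral_four :
    ∃ s t : DihedralGroup 4, s * s = 1 ∧ t * t = 1 ∧ s * t * (s * t) ≠ 1 ∧
      s * (s * t * (s * t)) = s * t * (s * t) * s ∧ t * (s * t * (s * t)) = s * t * (s * t) * t ∧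
      t * s * t = s * (s * t * (s * t)) ∧
      ∀ g : DihedralGroup 4, g = 1 ∨ g = s * t * (s * t) ∨ g = s ∨ g = t ∨
        g = s * (s * t * (s * t)) ∨ g = t * (s * t * (s * t)) ∨ g = s * t ∨ g = t * s :=
  ⟨DihedralGroup.sr 0, DihedralGroup.sr 1, by decide⟩

end Cfsg.Agent.GenA.NineDihedral
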