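import Mathlib
import Cfsg.Agent.Lib.RootInvolutions.Basic

/-!
# Odd transpositions: common neighbours in the commuting graph

If `d - e - f - x` is a path in the commuting graph of a set of odd transpositions and `e` lies in a
commuting triple `{e, e₂, e e₂}` of members, then some member commutes with `d`, `e` and `x`.
The proof is an induction on the group order through quotients of centralizers.
-/

set_option autoImplicit false

namespace Cfsg.Agent.GenA.OddTransp

open Cfsg.Agent.RootInvolutions.Basic (commute_of_sq_eq_one eq_one_of_odd commute_of_sq)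

universe u

variable {G : Type u} [Group G] {D : Set G}

/-- A set of odd transpositions, without the generation requirement. -/
structure OT (D : Set G) : Prop where
  ord : ∀ d ∈ D, orderOf d = 2
  conj : ∀ d ∈ D, ∀ g : G, g * d * g⁻¹ ∈ D
  pair : ∀ a ∈ D, ∀ b ∈ D, Commute a b ∨ Odd (orderOf (a * b))

/-- `a`, `b`, `a b` is a commuting triple in `D`. -/
def Tri (D : Set G) (a b : G) : Prop := b ∈ D ∧ Commute a b ∧ a * b ∈ D

/-- The conclusion to be proved by induction. -/
def Goal (G : Type u) [Group G] : Prop :=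
  ∀ D : Set G, OT D → ∀ d e e₂ f x : G, d ∈ D → e ∈ D → f ∈ D → x ∈ D → Tri D e e₂ →
    Commute d e → Commute e f → Commute f x → ∃ a ∈ D, Commute a d ∧ Commute a e ∧ Commute a x

theorem OT.sq (h : OT D) {a : G} (ha : a ∈ D) : a * a = 1 := by
  have := pow_orderOf_eq_one a
  rwa [h.ord a ha, pow_two] at this

theorem OT.ne_one (h : OT D) {a : G} (ha : a ∈ D) : a ≠ 1 := by
  intro e
  have := h.ord a ha
  rw [e, orderOf_one] at this
  omega

theorem OT.inv (h : OT D) {a : G} (ha : a ∈ D) : a⁻¹ = a :=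
  inv_eq_of_mul_eq_one_right (h.sq ha)

theorem OT.conj2 (h : OT D) {a t : G} (ha : a ∈ D) (ht : t * t = 1) : t * a * t ∈ D := by
  have e := h.conj a ha t
  rwa [inv_eq_of_mul_eq_one_right ht] at e

theorem sq_mul {a b : G} (ha : a * a = 1) (hb : b * b = 1) (h : Commute a b) :
    a * b * (a * b) = 1 := by
  calc a * b * (a * b) = a * (b * a) * b := by simp only [mul_assoc]
    _ = a * (a * b) * b := by rw [h.eq]
    _ = 1 := by rw [← mul_assoc a a b, ha, one_mul, hb]

theorem cconj {t u v : G} (ht : t * t = 1) (h : Commute u v) :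
    Commute (t * u * t) (t * v * t) := by
  have key : ∀ p q : G, t * p * t * (t * q * t) = t * (p * q) * t := fun p q => by
    calc t * p * t * (t * q * t) = t * p * (t * t) * (q * t) := by simp only [mul_assoc]
      _ = t * (p * q) * t := by rw [ht, mul_one]; simp only [mul_assoc]
  show _ = _
  rw [key, key, h.eq]

theorem fix_of_commute {t a : G} (ht : t * t = 1) (h : Commute t a) : t * a * t = a := by
  rw [h.eq, mul_assoc, ht, mul_one]

theorem commute_of_fix {t a : G} (ht : t * t = 1) (h : t * a * t = a) : Commute t a := by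
  show t * a = a * t
  calc t * a = t * a * (t * t) := by rw [ht, mul_one]
    _ = t * a * t * t := by simp only [mul_assoc]
    _ = a * t := by rw [h]

theorem conj_conj {t a : G} (ht : t * t = 1) : t * (t * a * t) * t = a := by
  calc t * (t * a * t) * t = (t * t) * a * (t * t) := by simp only [mul_assoc]
    _ = a := by rw [ht, one_mul, mul_one]

theorem comm_of_four (h : OT D) {a b : G} (ha : a ∈ D) (hb : b ∈ D) (h4 : (a * b) ^ 4 = 1) :
    Commute a b := by
  rcases h.pair a ha b hb with hc | hodd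
  · exact hc
  · have h1 : a * b = 1 := eq_one_of_odd hodd (n := 2) h4
    have : a = b := by rw [eq_inv_of_mul_eq_one_left h1, h.inv hb]
    rw [this]

theorem comm_conj_self (h : OT D) {a b : G} (ha : a ∈ D) (hb : b ∈ D)
    (hc : Commute b (a * b * a)) : Commute a b := by
  apply comm_of_four h ha hb
  have h1 : (a * b) ^ 4 = a * b * a * b * (a * b * a * b) := by
    simp only [pow_succ, pow_zero, one_mul, mul_assoc]
  rw [h1]
  exact sq_mul (h.sq (h.conj2 hb (h.sq ha))) (h.sq hb) hc.symm

/-- A member commuting with a product of two distinct commuting members commutes with both. -/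
theorem split (h : OT D) {a b c : G} (ha : a ∈ D) (hb : b ∈ D) (hc : c ∈ D) (hbc : Commute b c)
    (hne : b ≠ c) (habc : Commute a (b * c)) : Commute a b ∧ Commute a c := by
  have one : ∀ b c : G, b ∈ D → c ∈ D → Commute b c → b ≠ c → Commute a (b * c) →
      Commute a b := by
    intro b c hb hc hbc hne habc
    by_contra hab
    have hodd : Odd (orderOf (a * b)) := (h.pair a ha b hb).resolve_left hab
    obtain ⟨r, hr⟩ : ∃ r, r = (a * b) ^ 2 := ⟨_, rfl⟩
    have hr1 : r ≠ 1 := fun e => hab (commute_of_sq_eq_one (h.sq ha) (h.sq hb) (hr ▸ e))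
    have hrodd : Odd (orderOf r) := hodd.of_dvd_nat (hr ▸ orderOf_pow_dvd 2)
    have e0 : a * (b * c) * a = b * c := fix_of_commute (h.sq ha) habc
    have hrc : r = a * c * a * c := by
      have e1 : a * b * a * (a * c * a) = b * c := by
        calc a * b * a * (a * c * a) = a * b * (a * a) * (c * a) := by simp only [mul_assoc]
          _ = a * (b * c) * a := by rw [h.sq ha, mul_one]; simp only [mul_assoc]
          _ = b * c := e0
      have e2 : a * c * a = a * b * a * (b * c) := by
        rw [← e1]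
        calc a * c * a = (a * b * a * (a * b * a)) * (a * c * a) := by
              rw [h.sq (h.conj2 hb (h.sq ha)), one_mul]
          _ = a * b * a * (a * b * a * (a * c * a)) := by simp only [mul_assoc]
      calc r = a * b * a * b * (c * c) := by
            rw [hr, pow_two, h.sq hc, mul_one]; simp only [mul_assoc]
        _ = a * b * a * (b * c) * c := by simp only [mul_assoc]
        _ = a * c * a * c := by rw [← e2]
    have hrb : b * r = r⁻¹ * b := by
      rw [hr, pow_two]
      simp only [mul_inv_rev, h.inv ha, h.inv hb, mul_assoc]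
    have hrc' : c * r = r⁻¹ * c := by
      rw [hrc]
      simp only [mul_inv_rev, h.inv ha, h.inv hc, mul_assoc]
    have hgr : Commute (b * c) r := by
      show _ = _
      have e3 : b * r⁻¹ = r * b := by
        calc b * r⁻¹ = b * (r⁻¹ * b) * b := by
              rw [mul_assoc, mul_assoc, h.sq hb, mul_one]
          _ = b * (b * r) * b := by rw [hrb]
          _ = r * b := by rw [← mul_assoc b b r, h.sq hb, one_mul]
      calc b * c * r = b * (r⁻¹ * c) := by rw [mul_assoc, hrc']
        _ = r * (b * c) := by rw [← mul_assoc, e3, mul_assoc]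
    have hbrD : b * r ∈ D := by
      have := h.conj b hb (b * a)
      have e : b * r = b * a * b * (b * a)⁻¹ := by
        rw [hr, pow_two]
        simp only [mul_inv_rev, h.inv ha, h.inv hb, mul_assoc]
      rwa [e]
    have hg2 : (b * c) ^ 2 = 1 := by rw [pow_two]; exact sq_mul (h.sq hb) (h.sq hc) hbc
    rcases h.pair c hc _ hbrD with hcom | hodd'
    · have e1 : (c * (b * r)) ^ 2 = 1 := by
        rw [pow_two]; exact sq_mul (h.sq hc) (h.sq hbrD) hcom
      rw [← mul_assoc, ← hbc.eq, hgr.mul_pow, hg2, one_mul] at e1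
      exact hr1 (eq_one_of_odd hrodd (n := 1) e1)
    · rw [← mul_assoc, ← hbc.eq] at hodd'
      obtain ⟨k, hk⟩ := hodd'
      have e1 := pow_orderOf_eq_one (b * c * r)
      rw [hk, hgr.mul_pow, pow_succ (b * c), pow_mul, hg2, one_pow, one_mul] at e1
      obtain ⟨l, hl⟩ := hrodd
      have e2 : (b * c) ^ orderOf r = 1 := by
        rw [eq_inv_of_mul_eq_one_left e1, inv_pow, ← pow_mul, mul_comm, pow_mul,
          pow_orderOf_eq_one, one_pow, inv_one]
      rw [hl, pow_succ, pow_mul, hg2, one_pow, one_mul] at e2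
      exact hne (by rw [eq_inv_of_mul_eq_one_left e2, h.inv hc])
  exact ⟨one b c hb hc hbc hne habc, one c b hc hb hbc.symm hne.symm (hbc.eq ▸ habc)⟩

/-- The unique member interchanging two non-commuting members. -/
theorem swap (h : OT D) {a b : G} (ha : a ∈ D) (hb : b ∈ D) (hab : ¬ Commute a b) :
    ∃ m ∈ D, m * a * m = b ∧ (∀ m' ∈ D, m' * a * m' = b → m' = m) ∧
      ∀ g : G, (g * a * g⁻¹ = a ∧ g * b * g⁻¹ = b) ∨ (g * a * g⁻¹ = b ∧ g * b * g⁻¹ = a) →
        Commute g m := by
  obtain ⟨l, hl⟩ : Odd (orderOf (a * b)) := (h.pair a ha b hb).resolve_left hab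
  set r := a * b with hr
  set k := r ^ (l + 1) with hk
  have hkk : k * k = r := by
    rw [hk, ← pow_add, show l + 1 + (l + 1) = orderOf r + 1 by omega, pow_succ, pow_orderOf_eq_one,
      one_mul]
  have hinv : ∀ i : ℕ, a * r ^ i = (r ^ i)⁻¹ * a := by
    intro i
    have e : a * r * a⁻¹ = r⁻¹ := by
      rw [hr, h.inv ha, mul_inv_rev, h.inv ha, h.inv hb, ← mul_assoc a a b, h.sq ha, one_mul]
    rw [← inv_pow, ← e, conj_pow, inv_mul_cancel_right]
  set m := a * k with hm
  have hmD : m ∈ D := by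
    set s := k ^ (l + 1) with hs
    have hss : s * s = k := by rw [hs, ← (Commute.refl k).mul_pow, hkk, hk]
    have e : m = s⁻¹ * a * s := by
      rw [hm]
      have : a * s = s⁻¹ * a := by
        have := hinv ((l + 1) * (l + 1))
        rwa [pow_mul, ← hk, ← hs] at this
      rw [← hss, ← mul_assoc, this]
    rw [e]
    simpa using h.conj a ha s⁻¹
  have hswap : m * a * m = b := by
    calc m * a * m = a * k * (a * a) * k := by simp only [hm, mul_assoc]
      _ = a * (k * k) := by rw [h.sq ha, mul_one, mul_assoc]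
      _ = b := by rw [hkk, hr, ← mul_assoc, h.sq ha, one_mul]
  have hfix : ∀ g : G, (g * a * g⁻¹ = a ∧ g * b * g⁻¹ = b) ∨
      (g * a * g⁻¹ = b ∧ g * b * g⁻¹ = a) → Commute g m := by
    intro g hg
    have e : g * m * g⁻¹ = m := by
      have e1 : g * m * g⁻¹ = (g * a * g⁻¹) * (g * r * g⁻¹) ^ (l + 1) := by
        rw [conj_pow, hm, hk]; simp [mul_assoc]
      have e2 : g * r * g⁻¹ = (g * a * g⁻¹) * (g * b * g⁻¹) := by rw [hr]; simp [mul_assoc]
      rcases hg with ⟨h1, h2⟩ | ⟨h1, h2⟩
      · rw [e1, e2, h1, h2]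
      · rw [e1, e2, h1, h2, show b * a = r⁻¹ by rw [hr, mul_inv_rev, h.inv ha, h.inv hb], inv_pow,
          ← hk, hm, mul_inv_eq_iff_eq_mul, mul_assoc, hkk, hr, ← mul_assoc, h.sq ha, one_mul]
    exact mul_inv_eq_iff_eq_mul.mp e
  refine ⟨m, hmD, hswap, ?_, hfix⟩
  intro m' hm' hm'ab
  by_contra hne
  have hm2 := h.inv hm'
  have hc : Commute m' m := hfix m' (Or.inr ⟨by rw [hm2, hm'ab],
    by rw [hm2, ← hm'ab, conj_conj (h.sq hm')]⟩)
  have h2 : Commute a (m' * m) := by
    refine (commute_of_fix (sq_mul (h.sq hm') (h.sq hmD) hc) ?_).symm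
    calc m' * m * a * (m' * m) = m' * (m * a * m) * m' := by
          conv_lhs => rw [hc.eq]
          conv_lhs => lhs; lhs; rw [← hc.eq]
          simp only [mul_assoc]
      _ = a := by rw [hswap, ← hm'ab, conj_conj (h.sq hm')]
  have h3 := (split h ha hm' hmD hc hne h2).1
  exact hab (by rw [← hm'ab, fix_of_commute (h.sq hm') h3.symm])

theorem tri_symm {a b : G} (ha : a ∈ D) (t : Tri D a b) : Tri D b a :=
  ⟨ha, t.2.1.symm, t.2.1.eq ▸ t.2.2⟩

theorem tri_third (h : OT D) {a b : G} (ha : a ∈ D) (t : Tri D a b) : Tri D a (a * b) :=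
  ⟨t.2.2, (Commute.refl a).mul_right t.2.1, by rw [← mul_assoc, h.sq ha, one_mul]; exact t.1⟩

/-- The members of a commuting triple commute with the same members. -/
theorem tri_comm (h : OT D) {a b y : G} (ha : a ∈ D) (t : Tri D a b) (hy : y ∈ D)
    (hya : Commute y a) : Commute y b := by
  by_contra hyb
  obtain ⟨s, hs, hsw, -, hfix⟩ := swap h t.1 hy (fun e => hyb e.symm)
  have has : Commute a s := by
    refine hfix a (Or.inl ⟨?_, ?_⟩) <;> rw [h.inv ha] <;>
      first | exact fix_of_commute (h.sq ha) t.2.1 | exact fix_of_commute (h.sq ha) hya.symm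
  have hayD : a * y ∈ D := by
    have e : a * y = s * (a * b) * s := by
      rw [← hsw, ← mul_assoc, ← mul_assoc, has.eq]; simp only [mul_assoc]
    rw [e]; exact h.conj2 t.2.2 (h.sq hs)
  have hayb : Commute a (y * b) := hya.symm.mul_right t.2.1
  rcases h.pair _ hayD b t.1 with hc | ⟨k, hk⟩
  · have e1 : (a * (y * b)) ^ 2 = 1 := by
      rw [← mul_assoc, pow_two]; exact sq_mul (h.sq hayD) (h.sq t.1) hc
    rw [hayb.mul_pow, pow_two a, h.sq ha, one_mul] at e1
    exact hyb (commute_of_sq_eq_one (h.sq hy) (h.sq t.1) e1)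
  · have hodd : Odd (orderOf (y * b)) := (h.pair y hy b t.1).resolve_left hyb
    have e1 := pow_orderOf_eq_one (a * y * b)
    rw [hk, mul_assoc, hayb.mul_pow, pow_succ a, pow_mul, pow_two, h.sq ha, one_pow, one_mul]
      at e1
    obtain ⟨l, hl⟩ := hodd
    have e2 : a ^ orderOf (y * b) = 1 := by
      rw [eq_inv_of_mul_eq_one_left e1, inv_pow, ← pow_mul, mul_comm, pow_mul,
        pow_orderOf_eq_one, one_pow, inv_one]
    rw [hl, pow_succ, pow_mul, pow_two, h.sq ha, one_pow, one_mul] at e2
    exact h.ne_one ha e2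

theorem tri_conj (h : OT D) {a a₂ b : G} (ha : a ∈ D) (hb : b ∈ D) (t : Tri D a a₂)
    (hab : ¬ Commute a b) : ∃ b₂, Tri D b b₂ := by
  obtain ⟨s, hs, hsw, -, -⟩ := swap h ha hb hab
  refine ⟨s * a₂ * s, h.conj2 t.1 (h.sq hs), hsw ▸ cconj (h.sq hs) t.2.1, ?_⟩
  have e : b * (s * a₂ * s) = s * (a * a₂) * s := by
    rw [← hsw]
    calc s * a * s * (s * a₂ * s) = s * a * (s * s) * (a₂ * s) := by simp only [mul_assoc]
      _ = s * (a * a₂) * s := by rw [h.sq hs, mul_one]; simp only [mul_assoc]
  rw [e]; exact h.conj2 t.2.2 (h.sq hs)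

/-- At most one member of a triple gives a commuting pair `x`, `x^(p r)`. -/
theorem two (h : OT D) {p q r x : G} (hp : p ∈ D) (t : Tri D p q) (hr : r ∈ D) (hx : x ∈ D)
    (hrp : Commute r p) (hxp : ¬ Commute x p) (h1 : Commute x (p * r * x * (p * r)))
    (h2 : Commute x (q * r * x * (q * r))) : False := by
  have hq := t.1
  have hk := tri_third h hp t
  have hrk := tri_comm h hp hk hr hrp
  have hrq := tri_comm h hp t hr hrp
  have key : ∀ p : G, Commute r p → Commute x (p * r * x * (p * r)) →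
      Commute (r * x * r) (p * x * p) := by
    intro p hrp h1
    have := cconj (h.sq hr) h1
    have e : r * (p * r * x * (p * r)) * r = p * x * p := by
      calc r * (p * r * x * (p * r)) * r = (r * p) * r * x * p * (r * r) := by
            simp only [mul_assoc]
        _ = p * x * p := by
          rw [hrp.eq, h.sq hr, mul_one, mul_assoc p r r, h.sq hr, mul_one]
    rwa [e] at this
  have hy1 := key p hrp h1
  have hy2 := key q hrq h2
  set k := p * q with hkdef
  set u₁ := p * x * p with hu₁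
  have hu₁D : u₁ ∈ D := h.conj2 hx (h.sq hp)
  have hkp : Commute k p := hk.2.1.symm
  have hu₁k : ¬ Commute u₁ k := by
    intro e
    have := cconj (h.sq hp) e
    rw [hu₁, conj_conj (h.sq hp), fix_of_commute (h.sq hp) hkp.symm] at this
    exact hxp (tri_comm h hk.1 (tri_symm hp hk) hx this)
  have hodd := (h.pair u₁ hu₁D k hk.1).resolve_left hu₁k
  have hsq : (u₁ * k) ^ 2 = u₁ * (q * x * q) := by
    rw [pow_two, mul_assoc u₁]
    congr 1
    calc k * (u₁ * k) = k * p * x * (p * k) := by simp only [hu₁, mul_assoc]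
      _ = q * x * q := by
        rw [← mul_assoc p p q, h.sq hp, one_mul, hkp.eq, ← mul_assoc p p q, h.sq hp, one_mul]
  have hy : Commute (r * x * r) (u₁ * k) := by
    apply commute_of_sq hodd
    rw [hsq]; exact hy1.mul_right hy2
  have hyk : Commute (r * x * r) k := by
    have := hy1.mul_right hy
    rwa [← mul_assoc, h.sq hu₁D, one_mul] at this
  have hxk : Commute x k := by
    have := cconj (h.sq hr) hyk
    rwa [conj_conj (h.sq hr), fix_of_commute (h.sq hr) hrk] at this
  exact hxp (tri_comm h hk.1 (tri_symm hp hk) hx hxk)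

/-- Passing to a quotient of a subgroup by a central subgroup of exponent two. -/
theorem transfer [Finite G] (h : OT D)
    (IH : ∀ (H : Type u) [Group H] [Finite H], Nat.card H < Nat.card G → Goal H)
    (U K : Subgroup G) (hKU : K ≤ U) (hcent : ∀ z ∈ K, ∀ y ∈ U, Commute z y)
    (hsq : ∀ z ∈ K, z * z = 1) (hK : ∃ z ∈ K, z ≠ 1) {d e e₂ f x : G}
    (hd : d ∈ D ∧ d ∈ U ∧ d ∉ K) (he : e ∈ D ∧ e ∈ U ∧ e ∉ K) (hf : f ∈ D ∧ f ∈ U ∧ f ∉ K)
    (hx : x ∈ D ∧ x ∈ U ∧ x ∉ K) (he₂ : e₂ ∈ U ∧ e₂ ∉ K) (hee : e * e₂ ∉ K)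
    (t : Tri D e e₂) (hde : Commute d e) (hef : Commute e f) (hfx : Commute f x) :
    ∃ a ∈ D, a ∈ U ∧ a ∉ K ∧ Commute a d ∧ Commute a e ∧ Commute a x := by
  let N : Subgroup U := K.subgroupOf U
  haveI hN : N.Normal := ⟨fun z hz g => by
    have hz' : (z : G) ∈ K := hz
    show ((g * z * g⁻¹ : U) : G) ∈ K
    have : ((g * z * g⁻¹ : U) : G) = z := by
      push_cast
      rw [(hcent _ hz' _ g.2).symm.eq, mul_inv_cancel_right]
    rwa [this]⟩
  let mk : U →* U ⧸ N := QuotientGroup.mk' N
  have hmk : ∀ z : U, mk z = 1 ↔ (z : G) ∈ K := fun z => QuotientGroup.eq_one_iff z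
  let Db : Set (U ⧸ N) := {q | ∃ z : U, (z : G) ∈ D ∧ (z : G) ∉ K ∧ mk z = q}
  have hDb : OT Db := by
    refine ⟨?_, ?_, ?_⟩
    · rintro _ ⟨z, hz, hzK, rfl⟩
      refine orderOf_eq_prime ?_ (fun e => hzK ((hmk z).1 e))
      rw [← map_pow, hmk]
      simp [pow_two, h.sq hz, one_mem]
    · rintro _ ⟨z, hz, hzK, rfl⟩ q
      obtain ⟨g, rfl⟩ := QuotientGroup.mk'_surjective N q
      refine ⟨g * z * g⁻¹, ?_, ?_, by simp [mk]⟩
      · simpa using h.conj z hz g
      · intro hcon
        push_cast at hcon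
        have hc := hcent _ hcon _ g.2
        apply hzK
        have : (z : G) = (g : G) * z * (g : G)⁻¹ := by
          calc (z : G) = (g : G)⁻¹ * ((g : G) * z * (g : G)⁻¹ * g) := by simp [mul_assoc]
            _ = (g : G)⁻¹ * ((g : G) * ((g : G) * z * (g : G)⁻¹)) := by rw [hc.eq]
            _ = (g : G) * z * (g : G)⁻¹ := by rw [inv_mul_cancel_left]
        rwa [this]
    · rintro _ ⟨z, hz, -, rfl⟩ _ ⟨w, hw, -, rfl⟩
      rcases h.pair _ hz _ hw with hc | hodd
      · left
        have : Commute z w := Subtype.ext hc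
        exact this.map mk
      · right
        rw [← map_mul]
        refine hodd.of_dvd_nat (dvd_trans (orderOf_map_dvd mk _) ?_)
        rw [← Subgroup.orderOf_coe]; simp
  have lift : ∀ a b : U, (a : G) ∈ D → (b : G) ∈ D → Commute (mk a) (mk b) →
      Commute (a : G) b := by
    intro a b ha hb hc
    apply comm_of_four h ha hb
    have h1 : mk ((a * b) ^ 2) = 1 := by
      have sa : mk a * mk a = 1 := by
        rw [← map_mul, hmk]; simp [h.sq ha, one_mem]
      have sb : mk b * mk b = 1 := by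
        rw [← map_mul, hmk]; simp [h.sq hb, one_mem]
      rw [map_pow, map_mul, pow_two]; exact sq_mul sa sb hc
    have h2 := hsq _ ((hmk _).1 h1)
    push_cast at h2
    rw [show 4 = 2 + 2 from rfl, pow_add]
    exact h2
  have hcard : Nat.card (U ⧸ N) < Nat.card G := by
    have h1 := Subgroup.card_eq_card_quotient_mul_card_subgroup N
    have h2 : Nat.card U ≤ Nat.card G :=
      Nat.card_le_card_of_injective _ U.subtype_injective
    have h3 : 1 < Nat.card N := by
      rw [Finite.one_lt_card_iff_nontrivial]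
      obtain ⟨z, hz, hz1⟩ := hK
      exact ⟨⟨⟨⟨z, hKU hz⟩, hz⟩, 1, fun e => hz1 (congrArg (fun t : N => ((t : U) : G)) e)⟩⟩
    have h4 : 0 < Nat.card (U ⧸ N) := Nat.card_pos
    nlinarith
  have mem : ∀ {z : G} (hz : z ∈ D ∧ z ∈ U ∧ z ∉ K), mk ⟨z, hz.2.1⟩ ∈ Db :=
    fun {z} hz => ⟨⟨z, hz.2.1⟩, hz.1, hz.2.2, rfl⟩
  have cm : ∀ {a b : G} (ha : a ∈ U) (hb : b ∈ U), Commute a b →
      Commute (mk ⟨a, ha⟩) (mk ⟨b, hb⟩) := fun {a b} ha hb hc =>
    (show Commute (⟨a, ha⟩ : U) ⟨b, hb⟩ from Subtype.ext hc).map mk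
  obtain ⟨q, ⟨a, haD, haK, rfl⟩, h1, h2, h3⟩ := IH (U ⧸ N) hcard Db hDb
    (mk ⟨d, hd.2.1⟩) (mk ⟨e, he.2.1⟩) (mk ⟨e₂, he₂.1⟩) (mk ⟨f, hf.2.1⟩) (mk ⟨x, hx.2.1⟩)
    (mem hd) (mem he) (mem hf) (mem hx)
    ⟨mem ⟨t.1, he₂⟩, cm _ _ t.2.1, by
      rw [← map_mul]; exact mem ⟨t.2.2, mul_mem he.2.1 he₂.1, hee⟩⟩
    (cm _ _ hde) (cm _ _ hef) (cm _ _ hfx)
  exact ⟨a, haD, a.2, haK, lift _ ⟨d, hd.2.1⟩ haD hd.1 h1, lift _ ⟨e, he.2.1⟩ haD he.1 h2,
    lift _ ⟨x, hx.2.1⟩ haD hx.1 h3⟩

/-- The inductive step, for a member `e` with `x` and its image under `e d` not commuting. -/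
theorem step [Finite G] (h : OT D)
    (IH : ∀ (H : Type u) [Group H] [Finite H], Nat.card H < Nat.card G → Goal H)
    {d e e₂ f₀ x : G} (hd : d ∈ D) (he : e ∈ D) (hf₀ : f₀ ∈ D) (hx : x ∈ D) (te : Tri D e e₂)
    (hde : Commute d e) (hef₀ : Commute e f₀) (hf₀x : Commute f₀ x)
    (hxg : ¬ Commute x (e * d * x * (e * d))) :
    ∃ a ∈ D, Commute a d ∧ Commute a e ∧ Commute a x := by
  by_contra hN
  push Not at hN
  have hdx : ¬ Commute d x := fun hc => hN d hd (Commute.refl d) hde hc
  have hex : ¬ Commute e x := fun hc => hN e he hde.symm (Commute.refl e) hc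
  have hdf₀ : ¬ Commute d f₀ := fun hc => hN f₀ hf₀ hc.symm hef₀.symm hf₀x
  have he₂ := te.1
  obtain ⟨x₂, tx⟩ := tri_conj h he hx te hex
  obtain ⟨d₂, td⟩ := tri_conj h hx hd tx (fun hc => hdx hc.symm)
  obtain ⟨f₂, tf⟩ := tri_conj h hd hf₀ td hdf₀
  -- the choice of `f`
  obtain ⟨f, hf, hef, hfx, hdf, hdfx⟩ : ∃ f ∈ D, Commute e f ∧ Commute f x ∧ ¬ Commute d f ∧
      ¬ Commute d (f * x * d * (f * x)) := by
    by_cases hc : Commute d (f₀ * x * d * (f₀ * x))
    · exact ⟨f₂, tf.1, tri_comm h hf₀ tf he hef₀, (tri_comm h hf₀ tf hx hf₀x.symm).symm,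
        fun hh => hdf₀ (tri_comm h tf.1 (tri_symm hf₀ tf) hd hh),
        two h hf₀ tf hx hd hf₀x.symm hdf₀ hc⟩
    · exact ⟨f₀, hf₀, hef₀, hf₀x, hdf₀, hc⟩
  have hed : e ≠ d := fun hh => hdf (hh ▸ hef)
  have hfne : f ≠ x := fun hh => hex (hh ▸ hef)
  -- `g` and `m`
  have hgg : e * d * (e * d) = 1 := sq_mul (h.sq he) (h.sq hd) hde.symm
  have hu₀D : e * d * x * (e * d) ∈ D := h.conj2 hx hgg
  obtain ⟨m, hm, hmx, hmu, hmfix⟩ := swap h hx hu₀D hxg
  have hgm : Commute (e * d) m := hmfix _ (Or.inr ⟨by rw [inv_eq_of_mul_eq_one_right hgg],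
    by rw [inv_eq_of_mul_eq_one_right hgg, conj_conj hgg]⟩)
  obtain ⟨hme, hmd⟩ := split h hm he hd hde.symm hed hgm.symm
  obtain ⟨n, hn⟩ : ∃ n, n = e * d * m := ⟨_, rfl⟩
  have hnn : n * n = 1 := hn ▸ sq_mul hgg (h.sq hm) hgm
  have hne : Commute n e := hn ▸ ((Commute.refl e).mul_left hde).mul_left hme
  have hnd : Commute n d := hn ▸ (hde.symm.mul_left (Commute.refl d)).mul_left hmd
  have hnm : Commute n m := hn ▸ hgm.mul_left (Commute.refl m)
  have hnx : Commute n x := by
    apply commute_of_fix hnn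
    calc n * x * n = e * d * (m * x * m) * (e * d) := by
          conv_lhs => rw [hn]; rhs; rw [hgm.eq]
          simp only [mul_assoc]
      _ = x := by rw [hmx, conj_conj hgg]
  have hmne_d : m ≠ d := by
    intro hh
    rw [hh, mul_assoc, h.sq hd, mul_one] at hn
    exact hex (hn ▸ hnx)
  have hmne_e : m ≠ e := by
    intro hh
    rw [hh, mul_assoc, hde.eq, ← mul_assoc, h.sq he, one_mul] at hn
    exact hdx (hn ▸ hnx)
  have hdm_eq : d * m = e * n := by
    rw [hn, ← mul_assoc e (e * d) m, ← mul_assoc e e d, h.sq he, one_mul]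
  have hem_eq : e * m = d * n := by
    rw [hn, hde.symm.eq, ← mul_assoc d (d * e) m, ← mul_assoc d d e, h.sq hd, one_mul]
  have hde_split : ∀ z ∈ D, Commute z n → Commute z e → Commute z d ∧ Commute z m :=
    fun z hz hzn hze => split h hz hd hm hmd.symm hmne_d.symm (hdm_eq ▸ hze.mul_right hzn)
  have hem_split : ∀ z ∈ D, Commute z n → Commute z d → Commute z e ∧ Commute z m :=
    fun z hz hzn hzd => split h hz he hm hme.symm hmne_e.symm (hem_eq ▸ hzd.mul_right hzn)
  -- `v`
  obtain ⟨v, hv⟩ : ∃ v, v = n * f * n := ⟨_, rfl⟩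
  have hvD : v ∈ D := hv ▸ h.conj2 hf hnn
  have hnv : n * v * n = f := by rw [hv, conj_conj hnn]
  have hvx : Commute v x := by
    have := cconj hnn hfx
    rwa [← hv, fix_of_commute hnn hnx] at this
  have hev : Commute e v := by
    have := cconj hnn hef
    rwa [← hv, fix_of_commute hnn hne] at this
  have hfv : Commute f v := by
    by_contra hfv
    obtain ⟨a, ha, -, -, hafix⟩ := swap h hf hvD hfv
    have e1 : ∀ z ∈ D, Commute z f → Commute z v → Commute a z := fun z hz h1 h2 =>
      (hafix z (Or.inl ⟨by rw [h.inv hz]; exact fix_of_commute (h.sq hz) h1,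
        by rw [h.inv hz]; exact fix_of_commute (h.sq hz) h2⟩)).symm
    have han : Commute a n := (hafix n (Or.inr ⟨by rw [inv_eq_of_mul_eq_one_right hnn, hv],
      by rw [inv_eq_of_mul_eq_one_right hnn, hnv]⟩)).symm
    exact hN a ha (hde_split a ha han (e1 e he hef hev)).1 (e1 e he hef hev)
      (e1 x hx hfx.symm hvx.symm)
  have hfm : ¬ Commute f m := by
    intro hfm
    have e1 : v = d * f * d := by
      calc v = e * d * (m * f * m) * (e * d) := by
            conv_lhs => rw [hv, hn]; rhs; rw [hgm.eq]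
            simp only [mul_assoc]
        _ = d * (e * f * e) * d := by
          rw [fix_of_commute (h.sq hm) hfm.symm]
          conv_lhs => lhs; lhs; rw [hde.symm.eq]
          simp only [mul_assoc]
        _ = d * f * d := by rw [fix_of_commute (h.sq he) hef]
    rw [e1] at hfv
    exact hdf (comm_conj_self h hd hf hfv)
  -- `l`, `n'`, `w`
  have hfxx : f * x * (f * x) = 1 := sq_mul (h.sq hf) (h.sq hx) hfx
  obtain ⟨l, hl, hld, -, hlfix⟩ := swap h hd (h.conj2 hd hfxx) hdfx
  have hgl : Commute (f * x) l := hlfix _ (Or.inr ⟨by rw [inv_eq_of_mul_eq_one_right hfxx],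
    by rw [inv_eq_of_mul_eq_one_right hfxx, conj_conj hfxx]⟩)
  obtain ⟨hlf, hlx⟩ := split h hl hf hx hfx hfne hgl.symm
  obtain ⟨n', hn'⟩ : ∃ n', n' = f * x * l := ⟨_, rfl⟩
  have hn'n' : n' * n' = 1 := hn' ▸ sq_mul hfxx (h.sq hl) hgl
  have hn'f : Commute n' f := hn' ▸ ((Commute.refl f).mul_left hfx.symm).mul_left hlf
  have hn'x : Commute n' x := hn' ▸ (hfx.mul_left (Commute.refl x)).mul_left hlx
  have hn'd : Commute n' d := by
    apply commute_of_fix hn'n'
    calc n' * d * n' = f * x * (l * d * l) * (f * x) := by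
          conv_lhs => rw [hn']; rhs; rw [hgl.eq]
          simp only [mul_assoc]
      _ = d := by rw [hld, conj_conj hfxx]
  have hxl_ne : x ≠ l := by
    intro hh
    rw [← hh, mul_assoc, h.sq hx, mul_one] at hn'
    exact hdf (hn' ▸ hn'd).symm
  have hxl_eq : x * l = f * n' := by
    rw [hn', ← mul_assoc f (f * x) l, ← mul_assoc f f x, h.sq hf, one_mul]
  obtain ⟨w, hw⟩ : ∃ w, w = n' * e * n' := ⟨_, rfl⟩
  have hwD : w ∈ D := hw ▸ h.conj2 he hn'n'
  have hn'w : n' * w * n' = e := by rw [hw, conj_conj hn'n']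
  have hdw : Commute d w := by
    have := cconj hn'n' hde
    rwa [← hw, fix_of_commute hn'n' hn'd] at this
  have hwf : Commute w f := by
    have := cconj hn'n' hef
    rwa [← hw, fix_of_commute hn'n' hn'f] at this
  by_cases hew : Commute e w
  swap
  · -- `e` and `w` do not commute
    obtain ⟨s, hs, hsew, -, hsfix⟩ := swap h he hwD hew
    have e1 : ∀ z ∈ D, Commute z e → Commute z w → Commute s z := fun z hz h1 h2 =>
      (hsfix z (Or.inl ⟨by rw [h.inv hz]; exact fix_of_commute (h.sq hz) h1,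
        by rw [h.inv hz]; exact fix_of_commute (h.sq hz) h2⟩)).symm
    have hsd := e1 d hd hde hdw
    have hsf := e1 f hf hef.symm hwf.symm
    have hsn' : Commute s n' := (hsfix n' (Or.inr ⟨by rw [inv_eq_of_mul_eq_one_right hn'n', hw],
      by rw [inv_eq_of_mul_eq_one_right hn'n', hn'w]⟩)).symm
    obtain ⟨hsx, hsl⟩ := split h hs hx hl hlx.symm hxl_ne (hxl_eq ▸ hsf.mul_right hsn')
    have hes : ¬ Commute e s := by
      intro hh
      rw [fix_of_commute (h.sq hs) hh.symm] at hsew
      exact hew (hsew ▸ Commute.refl e)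
    obtain ⟨u, hu⟩ : ∃ u, u = s * n' := ⟨_, rfl⟩
    have huu : u * u = 1 := hu ▸ sq_mul (h.sq hs) hn'n' hsn'
    have hue : Commute u e := by
      apply commute_of_fix huu
      calc u * e * u = s * (n' * e * n') * s := by
            conv_lhs => rw [hu]; rhs; rw [hsn'.eq]
            simp only [mul_assoc]
        _ = e := by rw [← hw, ← hsew, conj_conj (h.sq hs)]
    have hud : Commute u d := hu ▸ hsd.mul_left hn'd
    have hux : Commute u x := hu ▸ hsx.mul_left hn'x
    have hufix : ∀ z, Commute u z → u * z * u⁻¹ = z := fun z hz => by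
      rw [inv_eq_of_mul_eq_one_right huu]; exact fix_of_commute huu hz
    have hug : Commute u (e * d) := hue.mul_right hud
    have hum : Commute u m :=
      hmfix u (Or.inl ⟨hufix _ hux, hufix _ ((hug.mul_right hux).mul_right hug)⟩)
    have hun : Commute u n := hn ▸ hug.mul_right hum
    have huv : Commute u v :=
      hv ▸ (hun.mul_right (hu ▸ hsf.mul_left hn'f)).mul_right hun
    have hn'v : n' * v * n' = l * v * l := by
      calc n' * v * n' = l * ((f * x) * v * (f * x)) * l := by
            conv_lhs => rw [hn']; lhs; lhs; rw [hgl.eq]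
            simp only [mul_assoc]
        _ = l * v * l := by
          rw [fix_of_commute hfxx (hfv.mul_left hvx.symm)]
    have hsv : Commute s v := by
      by_contra hsv
      have e2 : s * v * s = l * v * l := by
        have h5 : s * (n' * v * n') * s = v := by
          calc s * (n' * v * n') * s = u * v * (n' * s) := by simp only [hu, mul_assoc]
            _ = v := by rw [← hsn'.eq, ← hu]; exact fix_of_commute huu huv
        rw [← hn'v]
        conv_lhs => rw [← h5]
        rw [conj_conj (h.sq hs)]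
      have hodd : ¬ Commute v (s * v * s) := fun hh => hsv (comm_conj_self h hs hvD hh)
      obtain ⟨t, -, -, htu, -⟩ := swap h hvD (h.conj2 hvD (h.sq hs)) hodd
      have hsl' : s = l := (htu s hs rfl).trans (htu l hl e2.symm).symm
      have h5 : Commute d (f * x) := by
        have e3 : f * x = n' * l := by rw [hn', mul_assoc, h.sq hl, mul_one]
        rw [e3]; exact hn'd.symm.mul_right (hsl' ▸ hsd.symm)
      exact hdf (split h hd hf hx hfx hfne h5).1
    obtain ⟨σ, hσ⟩ : ∃ σ, σ = n * s * n := ⟨_, rfl⟩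
    have hσD : σ ∈ D := hσ ▸ h.conj2 hs hnn
    have hσf : Commute σ f := by
      have := cconj hnn hsv
      rwa [← hσ, hnv] at this
    have hσd : Commute σ d := by
      have := cconj hnn hsd
      rwa [← hσ, fix_of_commute hnn hnd] at this
    have hσx : Commute σ x := by
      have := cconj hnn hsx
      rwa [← hσ, fix_of_commute hnn hnx] at this
    have hσs : s ≠ σ := by
      intro hh
      have : Commute s n := (commute_of_fix hnn (hσ.symm.trans hh.symm)).symm
      exact hes (hem_split s hs this hsd).1.symm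
    have hsσ : Commute s σ := by
      by_contra hsσ
      obtain ⟨a, ha, -, -, hafix⟩ := swap h hs hσD hsσ
      have e2 : ∀ z ∈ D, Commute z s → Commute z σ → Commute a z := fun z hz h1 h2 =>
        (hafix z (Or.inl ⟨by rw [h.inv hz]; exact fix_of_commute (h.sq hz) h1,
          by rw [h.inv hz]; exact fix_of_commute (h.sq hz) h2⟩)).symm
      have han : Commute a n := (hafix n (Or.inr ⟨by rw [inv_eq_of_mul_eq_one_right hnn, hσ],
        by rw [inv_eq_of_mul_eq_one_right hnn, hσ, conj_conj hnn]⟩)).symm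
      have had := e2 d hd hsd.symm hσd.symm
      exact hN a ha had (hem_split a ha han had).1 (e2 x hx hsx.symm hσx.symm)
    obtain ⟨j, hj⟩ : ∃ j, j = s * σ := ⟨_, rfl⟩
    have hjj : j * j = 1 := hj ▸ sq_mul (h.sq hs) (h.sq hσD) hsσ
    have hjn : Commute j n := by
      refine (commute_of_fix hnn ?_).symm
      calc n * j * n = n * s * (n * n) * σ * n := by rw [hnn, mul_one, hj]; simp only [mul_assoc]
        _ = (n * s * n) * (n * σ * n) := by simp only [mul_assoc]
        _ = j := by rw [← hσ, hσ, conj_conj hnn, ← hσ, ← hsσ.eq, hj]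
    have hjd : Commute j d := hj ▸ hsd.mul_left hσd
    have hjf : Commute j f := hj ▸ hsf.mul_left hσf
    obtain ⟨e', he'⟩ : ∃ e', e' = j * e * j := ⟨_, rfl⟩
    obtain ⟨m', hm'⟩ : ∃ m', m' = j * m * j := ⟨_, rfl⟩
    have he'D : e' ∈ D := he' ▸ h.conj2 he hjj
    have hm'D : m' ∈ D := hm' ▸ h.conj2 hm hjj
    have he'f : Commute e' f := by
      have := cconj hjj hef
      rwa [← he', fix_of_commute hjj hjf] at this
    have he'd : Commute e' d := by
      have := cconj hjj hde.symm
      rwa [← he', fix_of_commute hjj hjd] at this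
    have he'n : Commute e' n := by
      have := cconj hjj hne.symm
      rwa [← he', fix_of_commute hjj hjn] at this
    have he'e := (hem_split e' he'D he'n he'd).1
    have he'ne : e' ≠ e := by
      intro hh
      have h5 : Commute e (s * σ) := hj ▸ (commute_of_fix hjj (he'.symm.trans hh)).symm
      exact hes (split h he hs hσD hsσ hσs h5).1
    have heq : e * m = e' * m' := by
      have e2 : n = e' * d * m' := by
        calc n = j * n * j := (fix_of_commute hjj hjn).symm
          _ = j * e * (j * j) * d * (j * j) * m * j := by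
            rw [hjj, hn]; simp only [mul_one, mul_assoc]
          _ = (j * e * j) * (j * d * j) * (j * m * j) := by simp only [mul_assoc]
          _ = e' * d * m' := by rw [fix_of_commute hjj hjd, ← he', ← hm']
      rw [hn, hde.symm.eq, he'd.eq, mul_assoc, mul_assoc] at e2
      exact mul_left_cancel e2
    have hmm : e * e' = m * m' := by
      have e3 : e' = e * m * m' := by rw [heq, mul_assoc, h.sq hm'D, mul_one]
      rw [e3, ← mul_assoc, ← mul_assoc, h.sq he, one_mul]
    have hcm : Commute m m' := commute_of_sq_eq_one (h.sq hm) (h.sq hm'D)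
      (by rw [← hmm, pow_two]; exact sq_mul (h.sq he) (h.sq he'D) he'e.symm)
    have hmne : m ≠ m' := by
      intro hh
      rw [← hh, h.sq hm] at hmm
      exact he'ne (by rw [eq_inv_of_mul_eq_one_left hmm, h.inv he'D])
    exact hfm (split h hf hm hm'D hcm hmne (hmm ▸ hef.symm.mul_right he'f.symm)).1
  have hwne : w ≠ e := by
    intro hh
    have h5 : Commute e (x * l) :=
      hxl_eq ▸ hef.mul_right (commute_of_fix hn'n' (hw.symm.trans hh)).symm
    exact hex (split h he hx hl hlx.symm hxl_ne h5).1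
  by_cases hwm : Commute w m
  · -- `n` fixes `w`
    have hwn : Commute w n := hn ▸ (hew.symm.mul_right hdw.symm).mul_right hwm
    have hwv : Commute w v := hv ▸ (hwn.mul_right hwf).mul_right hwn
    have hn'v : n' * v * n' = l * v * l := by
      calc n' * v * n' = l * ((f * x) * v * (f * x)) * l := by
            conv_lhs => rw [hn']; lhs; lhs; rw [hgl.eq]
            simp only [mul_assoc]
        _ = l * v * l := by rw [fix_of_commute hfxx (hfv.mul_left hvx.symm)]
    have hvl : Commute v l := by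
      by_contra hvl
      have hodd : ¬ Commute v (l * v * l) := fun hh => hvl (comm_conj_self h hl hvD hh).symm
      obtain ⟨t, -, -, htu, htfix⟩ := swap h hvD (h.conj2 hvD (h.sq hl)) hodd
      have h5 : Commute e (l * v * l) := by
        have := cconj hn'n' hwv
        rwa [hn'w, hn'v] at this
      have hel : Commute e l := htu l hl rfl ▸ htfix e (Or.inl
        ⟨by rw [h.inv he]; exact fix_of_commute (h.sq he) hev,
          by rw [h.inv he]; exact fix_of_commute (h.sq he) h5⟩)
      have e4 : w = f * (x * e * x) * f := by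
        calc w = f * x * (l * e * l) * (x * f) := by
              conv_lhs => rw [hw, hn']; rhs; rw [hgl.eq, hfx.eq]
              simp only [mul_assoc]
          _ = f * (x * e * x) * f := by
            rw [fix_of_commute (h.sq hl) hel.symm]; simp only [mul_assoc]
      have h6 := cconj (h.sq hf) hew
      rw [e4, conj_conj (h.sq hf), fix_of_commute (h.sq hf) hef.symm] at h6
      exact hex (comm_conj_self h hx he h6).symm
    have hn'v' : n' * v * n' = v := by rw [hn'v, fix_of_commute (h.sq hl) hvl.symm]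
    obtain ⟨m', hm'⟩ : ∃ m', m' = n' * m * n' := ⟨_, rfl⟩
    have hm'D : m' ∈ D := hm' ▸ h.conj2 hm hn'n'
    have hwd_sq : w * d * (w * d) = 1 := sq_mul (h.sq hwD) (h.sq hd) hdw.symm
    have hconjwd : n' * (e * d) * n' = w * d := by
      calc n' * (e * d) * n' = n' * e * (n' * n') * d * n' := by
            rw [hn'n', mul_one]; simp only [mul_assoc]
        _ = (n' * e * n') * (n' * d * n') := by simp only [mul_assoc]
        _ = w * d := by rw [fix_of_commute hn'n' hn'd, hw]
    have hu₀' : n' * (e * d * x * (e * d)) * n' = w * d * x * (w * d) := by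
      calc n' * (e * d * x * (e * d)) * n'
          = n' * (e * d) * (n' * n') * x * (n' * n') * (e * d) * n' := by
            rw [hn'n']; simp only [mul_one, mul_assoc]
        _ = (n' * (e * d) * n') * (n' * x * n') * (n' * (e * d) * n') := by
            simp only [mul_assoc]
        _ = w * d * x * (w * d) := by rw [hconjwd, fix_of_commute hn'n' hn'x]
    have hodd' : ¬ Commute x (w * d * x * (w * d)) := by
      intro hh
      have h6 := cconj hn'n' hh
      rw [fix_of_commute hn'n' hn'x, ← hu₀', conj_conj hn'n'] at h6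
      exact hxg h6
    obtain ⟨M, -, -, hMu, hMfix⟩ := swap h hx (h.conj2 hx hwd_sq) hodd'
    have hm'x : m' * x * m' = w * d * x * (w * d) := by
      calc m' * x * m' = n' * m * (n' * x * n') * m * n' := by simp only [hm', mul_assoc]
        _ = n' * (m * x * m) * n' := by
          rw [fix_of_commute hn'n' hn'x]; simp only [mul_assoc]
        _ = w * d * x * (w * d) := by rw [hmx, hu₀']
    have hnfix : ∀ z, Commute n z → n * z * n⁻¹ = z := fun z hz => by
      rw [inv_eq_of_mul_eq_one_right hnn]; exact fix_of_commute hnn hz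
    have hnwd : Commute n (w * d) := hwn.symm.mul_right hnd
    have hnm' : Commute n m' := hMu m' hm'D hm'x ▸
      hMfix n (Or.inl ⟨hnfix _ hnx, hnfix _ ((hnwd.mul_right hnx).mul_right hnwd)⟩)
    have hm'e : Commute m' e := by
      have := cconj hn'n' hwm.symm
      rwa [← hm', hn'w] at this
    have hm'd : Commute m' d := by
      have := cconj hn'n' hmd
      rwa [← hm', fix_of_commute hn'n' hn'd] at this
    have hm'm : Commute m' m := by
      have e2 : m = e * d * n := by rw [hn, ← mul_assoc, hgg, one_mul]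
      rw [e2]; exact (hm'e.mul_right hm'd).mul_right hnm'.symm
    obtain ⟨n₂, hn₂⟩ : ∃ n₂, n₂ = n' * n * n' := ⟨_, rfl⟩
    have hn₂' : n₂ = w * d * m' := by
      calc n₂ = n' * (e * d) * (n' * n') * m * n' := by
            rw [hn₂, hn'n', hn]; simp only [mul_one, mul_assoc]
        _ = (n' * (e * d) * n') * (n' * m * n') := by simp only [mul_assoc]
        _ = w * d * m' := by rw [hconjwd, ← hm']
    have hn₂x : Commute n₂ x := hn₂ ▸ (hn'x.mul_left hnx).mul_left hn'x
    have hn₂n₂ : n₂ * n₂ = 1 := by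
      calc n₂ * n₂ = n' * n * (n' * n') * n * n' := by simp only [hn₂, mul_assoc]
        _ = n' * (n * n) * n' := by rw [hn'n', mul_one]; simp only [mul_assoc]
        _ = 1 := by rw [hnn, mul_one, hn'n']
    have hcn : Commute n n₂ := hn₂' ▸ hnwd.mul_right hnm'
    obtain ⟨j, hj⟩ : ∃ j, j = n * n₂ := ⟨_, rfl⟩
    have hjj : j * j = 1 := hj ▸ sq_mul hnn hn₂n₂ hcn
    have hjf : Commute j f := by
      apply commute_of_fix hjj
      have e3 : n₂ * f * n₂ = v := by
        calc n₂ * f * n₂ = n' * n * (n' * f * n') * n * n' := by simp only [hn₂, mul_assoc]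
          _ = n' * (n * f * n) * n' := by
            rw [fix_of_commute hn'n' hn'f]; simp only [mul_assoc]
          _ = v := by rw [← hv, hn'v']
      calc j * f * j = n * (n₂ * f * n₂) * n := by
            conv_lhs => rw [hj]; rhs; rw [hcn.eq]
            simp only [mul_assoc]
        _ = f := by rw [e3, hnv]
    have hj' : j = e * w * (m * m') := by
      calc j = e * d * m * (w * d * m') := by rw [hj, hn₂', hn]
        _ = e * d * (m * w) * d * m' := by simp only [mul_assoc]
        _ = e * (d * w) * (m * d) * m' := by rw [hwm.symm.eq]; simp only [mul_assoc]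
        _ = e * w * (d * d) * (m * m') := by
          rw [hdw.eq, hmd.eq]; simp only [mul_assoc]
        _ = e * w * (m * m') := by rw [h.sq hd, mul_one]
    have hfew : Commute f (e * w) := hef.symm.mul_right hwf.symm
    have hfmm : Commute f (m * m') := by
      have e5 : m * m' = (e * w) * j := by
        rw [hj', ← mul_assoc, sq_mul (h.sq he) (h.sq hwD) hew, one_mul]
      rw [e5]; exact hfew.mul_right hjf.symm
    have hmne : m ≠ m' := by
      intro hh
      rw [← hh, h.sq hm, mul_one] at hj'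
      have : Commute x (e * w) := hj' ▸ hj ▸ (hnx.symm.mul_right hn₂x.symm)
      exact hex (split h hx he hwD hew hwne.symm this).1.symm
    exact hfm (split h hf hm hm'D hm'm.symm hmne hfmm).1
  -- a further member `r` on `d`, `m`, `f`
  let E : Set G := {z | z ∈ D ∧ ∀ y ∈ D, Commute y z ↔ Commute y e}
  let C : Set G := {y | y ∈ D ∧ Commute y e}
  obtain ⟨r, hr, hre, hrE, hrd, hrm, hrf⟩ : ∃ r ∈ D, Commute r e ∧ r ∉ E ∧ Commute r d ∧
      Commute r m ∧ Commute r f := by
    have hEC : E ⊆ C := fun z hz => ⟨hz.1, (hz.2 z hz.1).1 (Commute.refl z)⟩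
    have hEcom : ∀ z ∈ Subgroup.closure E, ∀ y ∈ C, Commute z y := by
      intro z hz y hy
      have : Subgroup.closure E ≤ Subgroup.centralizer {y} := by
        rw [Subgroup.closure_le]
        intro z hz
        rw [SetLike.mem_coe, Subgroup.mem_centralizer_singleton_iff]
        exact ((hz.2 y hy.1).2 hy.2).symm.eq
      exact Subgroup.mem_centralizer_singleton_iff.1 (this hz)
    have hcent : ∀ z ∈ Subgroup.closure E, ∀ y ∈ Subgroup.closure C, Commute z y := by
      intro z hz y hy
      have : Subgroup.closure C ≤ Subgroup.centralizer {z} := by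
        rw [Subgroup.closure_le]
        intro y hy
        rw [SetLike.mem_coe, Subgroup.mem_centralizer_singleton_iff]
        exact (hEcom z hz y hy).symm.eq
      exact (Subgroup.mem_centralizer_singleton_iff.1 (this hy) : y * z = z * y).symm
    have hKU : Subgroup.closure E ≤ Subgroup.closure C := Subgroup.closure_mono hEC
    have hsqE : ∀ z ∈ Subgroup.closure E, z * z = 1 := by
      intro z hz
      induction hz using Subgroup.closure_induction with
      | mem z hz => exact h.sq hz.1
      | one => exact one_mul 1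
      | mul a b ha hb iha ihb => exact sq_mul iha ihb (hcent a ha b (hKU hb))
      | inv a _ iha => rw [← mul_inv_rev, iha, inv_one]
    have notK : ∀ z ∈ D, (∃ y ∈ C, ¬ Commute z y) → z ∉ Subgroup.closure E :=
      fun z _ ⟨y, hy, hzy⟩ hz => hzy (hEcom z hz y hy)
    have hfC : f ∈ C := ⟨hf, hef.symm⟩
    have hmC : m ∈ C := ⟨hm, hme⟩
    have hdC : d ∈ C := ⟨hd, hde⟩
    have hwC : w ∈ C := ⟨hwD, hew.symm⟩
    have hd₂C : d₂ ∈ C := ⟨td.1, (tri_comm h hd td he hde.symm).symm⟩
    have hdd₂ : ¬ Commute d₂ f := fun hh =>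
      hdf (tri_comm h td.1 (tri_symm hd td) hf hh.symm).symm
    have td3 := tri_third h hd td
    have hdd₃ : ¬ Commute (d * d₂) f := fun hh =>
      hdf (tri_comm h td3.1 (tri_symm hd td3) hf hh.symm).symm
    obtain ⟨a, ha, haU, haK, ham, had, haf⟩ := transfer h IH (Subgroup.closure C)
      (Subgroup.closure E) hKU hcent hsqE
      ⟨e, Subgroup.subset_closure ⟨he, fun y _ => Iff.rfl⟩, h.ne_one he⟩
      (d := m) (e := d) (e₂ := d₂) (f := w) (x := f)
      ⟨hm, Subgroup.subset_closure hmC, notK m hm ⟨f, hfC, fun hh => hfm hh.symm⟩⟩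
      ⟨hd, Subgroup.subset_closure hdC, notK d hd ⟨f, hfC, hdf⟩⟩
      ⟨hwD, Subgroup.subset_closure hwC, notK w hwD ⟨m, hmC, hwm⟩⟩
      ⟨hf, Subgroup.subset_closure hfC, notK f hf ⟨d, hdC, fun hh => hdf hh.symm⟩⟩
      ⟨Subgroup.subset_closure hd₂C, notK _ td.1 ⟨f, hfC, hdd₂⟩⟩
      (notK _ td.2.2 ⟨f, hfC, hdd₃⟩) td hmd hdw hwf
    refine ⟨a, ha, ?_, fun hh => haK (Subgroup.subset_closure hh), had, ham, haf⟩
    have : Subgroup.closure C ≤ Subgroup.centralizer {e} := by
      rw [Subgroup.closure_le]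
      intro y hy
      rw [SetLike.mem_coe, Subgroup.mem_centralizer_singleton_iff]
      exact hy.2.eq
    exact Subgroup.mem_centralizer_singleton_iff.1 (this haU)
  have hrx : ¬ Commute r x := fun hh => hN r hr hrd hre hh
  obtain ⟨p, hp, hsame, hpx⟩ : ∃ p ∈ D, (∀ y ∈ D, Commute y p ↔ Commute y e) ∧
      ¬ Commute x (p * r * x * (p * r)) := by
    by_cases hc : Commute x (e * r * x * (e * r))
    · exact ⟨e₂, te.1, fun y hy => ⟨tri_comm h te.1 (tri_symm he te) hy, tri_comm h he te hy⟩,
        two h he te hr hx hre (fun hh => hex hh.symm) hc⟩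
    · exact ⟨e, he, fun y _ => Iff.rfl, hc⟩
  have hpr : Commute r p := (hsame r hr).2 hre
  have hpne : p ≠ r := fun hh => hrE ⟨hr, hh ▸ hsame⟩
  have hg2 : p * r * (p * r) = 1 := sq_mul (h.sq hp) (h.sq hr) hpr.symm
  obtain ⟨M, hM, hMx, -, hMfix⟩ := swap h hx (h.conj2 hx hg2) hpx
  have hMg : Commute (p * r) M := hMfix _ (Or.inr ⟨by rw [inv_eq_of_mul_eq_one_right hg2],
    by rw [inv_eq_of_mul_eq_one_right hg2, conj_conj hg2]⟩)
  obtain ⟨hMp, hMr⟩ := split h hM hp hr hpr.symm hpne hMg.symm
  have hMe : Commute M e := (hsame M hM).1 hMp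
  have hep : Commute e p := (hsame e he).2 (Commute.refl e)
  have hfp : Commute f p := (hsame f hf).2 hef.symm
  have hdp : Commute d p := (hsame d hd).2 hde
  have hmp : Commute m p := (hsame m hm).2 hme
  have hMf : Commute M f := (hMfix f (Or.inl
    ⟨by rw [h.inv hf]; exact fix_of_commute (h.sq hf) hfx,
      by
        rw [h.inv hf]
        exact fix_of_commute (h.sq hf)
          (((hfp.mul_right hrf.symm).mul_right hfx).mul_right (hfp.mul_right hrf.symm))⟩)).symm
  have hng : Commute n (p * r) := hn ▸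
    (((hep.mul_left hdp).mul_left hmp).mul_right
      ((hre.symm.mul_left hrd.symm).mul_left hrm.symm))
  have hMn : Commute M n := (hMfix n (Or.inl
    ⟨by rw [inv_eq_of_mul_eq_one_right hnn]; exact fix_of_commute hnn hnx,
      by
        rw [inv_eq_of_mul_eq_one_right hnn]
        exact fix_of_commute hnn ((hng.mul_right hnx).mul_right hng)⟩)).symm
  have hMd : Commute M d := (hde_split M hM hMn hMe).1
  obtain ⟨u, hu⟩ : ∃ u, u = p * r * M := ⟨_, rfl⟩
  have huu : u * u = 1 := hu ▸ sq_mul hg2 (h.sq hM) hMg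
  have hux : Commute u x := by
    apply commute_of_fix huu
    calc u * x * u = p * r * (M * x * M) * (p * r) := by
          conv_lhs => rw [hu]; rhs; rw [hMg.eq]
          simp only [mul_assoc]
      _ = x := by rw [hMx, conj_conj hg2]
  have hud : Commute u d := hu ▸ (hdp.symm.mul_left hrd).mul_left hMd
  have hue : Commute u e := hu ▸ (hep.symm.mul_left hre).mul_left hMe
  have hue₂ : Commute u e₂ := hu ▸
    ((tri_comm h he te hp hep.symm).mul_left (tri_comm h he te hr hre)).mul_left
      (tri_comm h he te hM hMe)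
  have huf : Commute u f := hu ▸ (hfp.symm.mul_left hrf).mul_left hMf
  have hu1 : u ≠ 1 := by
    intro hh
    rw [hu] at hh
    have hprM : p * r = M := by rw [eq_inv_of_mul_eq_one_left hh, h.inv hM]
    have t' : Tri D p r := ⟨hr, hpr.symm, hprM ▸ hM⟩
    exact hrE ⟨hr, fun y hy => ⟨fun hh => (hsame y hy).1 (tri_comm h hr (tri_symm hp t') hy hh),
      fun hh => tri_comm h hp t' hy ((hsame y hy).2 hh)⟩⟩
  have huD : u ∉ D := fun hh => hN u hh hud hue hux
  have notK : ∀ z ∈ D, z ∉ Subgroup.zpowers u := by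
    rintro z hz ⟨k, rfl⟩
    have hu2 : u ^ (2 : ℤ) = 1 := by rw [zpow_two, huu]
    rcases Int.even_or_odd' k with ⟨i, rfl | rfl⟩
    · exact h.ne_one hz (by show u ^ _ = 1; rw [zpow_mul, hu2, one_zpow])
    · apply huD
      change u ^ _ ∈ D at hz
      rwa [zpow_add, zpow_mul, hu2, one_zpow, one_mul, zpow_one] at hz
  have memU : ∀ z, Commute u z → z ∈ Subgroup.centralizer {u} := fun z hz =>
    Subgroup.mem_centralizer_singleton_iff.2 hz.symm.eq
  obtain ⟨a, ha, -, -, had, hae, hax⟩ := transfer h IH (Subgroup.centralizer {u})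
    (Subgroup.zpowers u)
    (Subgroup.zpowers_le.2 (memU u (Commute.refl u)))
    (fun z hz y hy => by
      obtain ⟨k, rfl⟩ := hz
      exact ((show Commute u y from
        (Subgroup.mem_centralizer_singleton_iff.1 hy).symm)).zpow_left k)
    (fun z hz => by
      obtain ⟨k, rfl⟩ := hz
      rw [← (Commute.refl u).mul_zpow, huu, one_zpow])
    ⟨u, Subgroup.mem_zpowers u, hu1⟩
    (d := d) (e := e) (e₂ := e₂) (f := f) (x := x)
    ⟨hd, memU d hud, notK d hd⟩ ⟨he, memU e hue, notK e he⟩
    ⟨hf, memU f huf, notK f hf⟩ ⟨hx, memU x hux, notK x hx⟩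
    ⟨memU _ hue₂, notK _ te.1⟩ (notK _ te.2.2) te hde hef hfx
  exact hN a ha had hae hax

/-- Common neighbours exist at the ends of paths of length three. -/
theorem goal : ∀ (k : ℕ) (G : Type u) [Group G] [Finite G], Nat.card G ≤ k → Goal G := by
  intro k
  induction k with
  | zero =>
    intro G _ _ hk
    have : 0 < Nat.card G := Nat.card_pos
    omega
  | succ k ih =>
    intro G _ _ hk D h d e e₂ f x hd he hf hx te hde hef hfx
    have IH : ∀ (H : Type u) [Group H] [Finite H], Nat.card H < Nat.card G → Goal H :=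
      fun H _ _ hH => ih H (by omega)
    by_cases hex : Commute e x
    · exact ⟨e, he, hde.symm, Commute.refl e, hex⟩
    by_cases hc : Commute x (e * d * x * (e * d))
    · have hnc : ¬ Commute x (e₂ * d * x * (e₂ * d)) :=
        two h he te hd hx hde (fun hh => hex hh.symm) hc
      obtain ⟨a, ha, h1, h2, h3⟩ := step h IH hd te.1 hf hx (tri_symm he te)
        (tri_comm h he te hd hde) (tri_comm h he te hf hef.symm).symm hfx hnc
      exact ⟨a, ha, h1, tri_comm h te.1 (tri_symm he te) ha h2, h3⟩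
    · exact step h IH hd he hf hx te hde hef hfx hc

/-- In a class of odd transpositions with a commuting triple and connected commuting graph, any
two members have a common neighbour. -/
theorem common [Finite G] (h : OT D) (htri : ∀ e ∈ D, ∃ e₂, Tri D e e₂) {d x : G} (hd : d ∈ D)
    (hx : x ∈ D)
    (hp : Relation.ReflTransGen (fun a b => a ∈ D ∧ b ∈ D ∧ Commute a b) d x) :
    ∃ c ∈ D, Commute c d ∧ Commute c x := by
  induction hp using Relation.ReflTransGen.head_induction_on with
  | refl => exact ⟨x, hx, Commute.refl x, Commute.refl x⟩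
  | head hab _ ih =>
    obtain ⟨ha, hb, hc⟩ := hab
    obtain ⟨f, hf, hfb, hfx⟩ := ih hb
    obtain ⟨b₂, tb⟩ := htri _ hb
    obtain ⟨a, ha', h1, -, h3⟩ :=
      goal (Nat.card G) G le_rfl D h _ _ b₂ f x ha hb hf hx tb hc hfb.symm hfx
    exact ⟨a, ha', h1, h3⟩

end Cfsg.Agent.GenA.OddTransp
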