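import Cfsg.Prelude.Def_HallClasses
import Cfsg.Prelude.Def_Local
import Cfsg.Agent.Lib.Hall.Solvable
import Cfsg.Agent.Lib.PLocal.PSolvable
import Cfsg.Agent.Lib.Coprime.SchurZassenhaus
import Cfsg.Agent.Lib.Cores.Basic

/-!
Complements of Sylow subgroups in groups with `p`-soluble series: existence and domination
(adapted from the proof of Hall's theorem in `Lib/Hall/Solvable`).
-/

set_option autoImplicit false

open scoped Pointwise

namespace Cfsg.Agent.GenA.PComplement

open Cfsg Cores Cfsg.Agent.Hall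

/-- Hall's theorem: existence of a Hall `{q : ℕ | q ≠ p}`-subgroup dominating all `{q : ℕ | q ≠ p}`-subgroups up to
conjugation. -/
theorem exists_pComplement_dominating {p : ℕ} (hp : p.Prime) (G : Type*) [Group G] [Finite G]
    (hsol : IsPSolvable p G) :
    ∃ K : Subgroup G, IsPiHall {q : ℕ | q ≠ p} K ∧
      ∀ U : Subgroup G, IsPi {q : ℕ | q ≠ p} U → ∃ g : G, U ≤ MulAut.conj g • K := by
  induction hn : Nat.card G using Nat.strong_induction_on generalizing G with
  | _ n ih =>
    subst hn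
    rcases subsingleton_or_nontrivial G with hG | hG
    · exact ⟨⊥, ⟨isPi_bot _, fun p hp _ hd => hp.ne_one (Nat.dvd_one.1 (by
        simpa [Subgroup.index_bot] using hd))⟩, fun U _ => ⟨1, by simp [U.eq_bot_of_subsingleton]⟩⟩
    haveI : Fact p.Prime := ⟨hp⟩
    obtain ⟨M, hMn, hM, hcase⟩ : ∃ M : Subgroup G, M.Normal ∧ M ≠ ⊥ ∧ (IsPGroup p M ∨ (Nat.card M).Coprime p) := by
      rcases Cfsg.Agent.PLocal.PSolvable.exists_core_ne_bot hsol with h | h
      · exact ⟨_, Cores.pCore_normal p, h, Or.inl (Cores.pCore_isPGroup p)⟩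
      · exact ⟨_, Cores.pPrimeCore_normal p, h, Or.inr (Cores.pPrimeCore_card_coprime p)⟩
    haveI := hMn
    have hlt : Nat.card (G ⧸ M) < Nat.card G := by
      rw [M.card_eq_card_quotient_mul_card_subgroup]
      exact lt_mul_of_one_lt_right Nat.card_pos (M.one_lt_card_iff_ne_bot.2 hM)
    obtain ⟨Kb, ⟨hKbπ, hKbi⟩, hdom⟩ := ih _ hlt (G ⧸ M) (Cfsg.Agent.PLocal.PSolvable.quotient hsol M) rfl
    let f := QuotientGroup.mk' M
    have hf : Function.Surjective f := QuotientGroup.mk'_surjective M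
    have hMK : M ≤ Kb.comap f := by
      intro x hx
      rw [Subgroup.mem_comap, show f x = 1 from (QuotientGroup.eq_one_iff x).2 hx]
      exact Kb.one_mem
    have hidx : (Kb.comap f).index = Kb.index := Subgroup.index_comap_of_surjective _ hf
    have hstep : ∀ U : Subgroup G, IsPi {q : ℕ | q ≠ p} U → ∃ g : G, U ≤ MulAut.conj g • Kb.comap f := by
      intro U hU
      obtain ⟨gb, hg⟩ := hdom (U.map f) (hU.map f)
      obtain ⟨g, rfl⟩ := hf gb
      refine ⟨g, fun x hx => ?_⟩
      have h1 := hg (Subgroup.mem_map_of_mem f hx)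
      rw [Coprime.mem_conj_smul] at h1 ⊢
      rw [Subgroup.mem_comap, map_mul, map_mul, map_inv]
      exact h1
    rcases hcase.symm with hpco | hpg
    · refine ⟨Kb.comap f, ⟨isPi_comap_mk' (fun q hq hd => fun e : q = p => hp.coprime_iff_not_dvd.mp hpco.symm (e ▸ hd)) hKbπ, fun q hq hπ hd => hKbi q hq hπ (by rwa [hidx] at hd)⟩, hstep⟩
    -- `p ∉ {q : ℕ | q ≠ p}`: complement `M` inside the preimage.
    set K := Kb.comap f
    have hMpi : ∀ q : ℕ, q.Prime → q ∣ Nat.card M → q ∉ {q : ℕ | q ≠ p} := by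
      intro q hq hd
      rw [Set.mem_singleton_iff.1 ((isPi_iff_isPGroup M).2 hpg q hq hd)]
      simp
    have hcop : (Nat.card M).Coprime (Nat.card Kb) :=
      Nat.coprime_of_dvd fun q hq hd hd' => hMpi q hq hd (hKbπ q hq hd')
    have hcardK : Nat.card K = Nat.card M * Nat.card Kb := card_comap_mk' M Kb
    have hMidx : (M.subgroupOf K).index = Nat.card Kb := by
      have h1 := (M.subgroupOf K).card_mul_index
      rw [Nat.card_congr (Subgroup.subgroupOfEquivOfLe hMK).toEquiv, hcardK] at h1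
      exact Nat.eq_of_mul_eq_mul_left Nat.card_pos h1
    obtain ⟨C, hC⟩ := Subgroup.exists_right_complement'_of_coprime (N := M.subgroupOf K) (by
      rwa [hMidx, Nat.card_congr (Subgroup.subgroupOfEquivOfLe hMK).toEquiv])
    let Hh : Subgroup G := C.map K.subtype
    have hHK : Hh ≤ K := Subgroup.map_subtype_le C
    have hcardH : Nat.card Hh = Nat.card Kb := by
      rw [Subgroup.card_map_of_injective K.subtype_injective, ← hC.symm.index_eq_card, hMidx]
    have hsup : M ⊔ Hh = K := by
      have h1 := congrArg (Subgroup.map K.subtype) hC.sup_eq_top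
      rwa [Subgroup.map_sup, Subgroup.map_subgroupOf_eq_of_le hMK, ← MonoidHom.range_eq_map,
        Subgroup.range_subtype] at h1
    have hHi : Hh.index = Nat.card M * Kb.index := by
      have h1 := Hh.card_mul_index
      rw [← K.card_mul_index, hcardK, hidx, hcardH, mul_comm (Nat.card M), mul_assoc] at h1
      exact Nat.eq_of_mul_eq_mul_left Nat.card_pos h1
    refine ⟨Hh, ⟨fun q hq hd => hKbπ q hq (hcardH ▸ hd), fun q hq hπ hd => ?_⟩, fun U hU => ?_⟩
    · rw [hHi] at hd
      exact (hq.dvd_mul.1 hd).elim (fun h => hMpi q hq h hπ) (hKbi q hq hπ)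
    obtain ⟨g, hg⟩ := hstep U hU
    let U' : Subgroup G := MulAut.conj g⁻¹ • U
    have hU'K : U' ≤ K := by
      have h1 : U' ≤ MulAut.conj g⁻¹ • (MulAut.conj g • K) :=
        Subgroup.pointwise_smul_le_pointwise_smul_iff.2 hg
      rwa [Coprime.conj_inv_smul_smul] at h1
    let H₁ : Subgroup G := (M ⊔ U') ⊓ Hh
    have heq : M ⊔ H₁ = M ⊔ U' := by
      refine le_antisymm (sup_le le_sup_left inf_le_left) fun x hx => ?_
      have hxK : x ∈ M ⊔ Hh := hsup.symm ▸ (sup_le hMK hU'K hx)
      obtain ⟨m, hm, y, hy, rfl⟩ :=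
        (Coprime.mem_sup_of_le_normalizer Subgroup.le_normalizer_of_normal).1 hxK
      refine Subgroup.mul_mem_sup hm ⟨?_, hy⟩
      have h2 := (M ⊔ U').mul_mem ((M ⊔ U').inv_mem (Subgroup.mem_sup_left hm)) hx
      simpa using h2
    obtain ⟨x, -, hx⟩ := Coprime.exists_conj_eq_of_sup_eq (N := M) (H := H₁) (K := U')
      Subgroup.le_normalizer_of_normal Subgroup.le_normalizer_of_normal heq
      (hcop.coprime_dvd_right (hcardH ▸ Subgroup.card_dvd_of_le inf_le_right))
      (Nat.coprime_of_dvd fun q hq hd hd' =>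
        hMpi q hq hd (isPi_conj_smul hU g⁻¹ q hq hd'))
      (Or.inl (by haveI : Group.IsNilpotent M := hpg.isNilpotent; infer_instance))
    refine ⟨g * x, ?_⟩
    rw [Coprime.conj_smul_mul]
    calc U = MulAut.conj g • U' := by
          simp only [U', ← Coprime.conj_smul_mul, mul_inv_cancel, Coprime.conj_smul_one]
      _ ≤ MulAut.conj g • (MulAut.conj x • Hh) := by
          rw [← hx]
          exact Subgroup.pointwise_smul_le_pointwise_smul_iff.2
            (Subgroup.pointwise_smul_le_pointwise_smul_iff.2 inf_le_right)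


end Cfsg.Agent.GenA.PComplement
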