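import Mathlib

/-! The prime graph is determined by the power graph. -/

set_option autoImplicit false

namespace Cfsg.Agent.GenA.PowerGraph

open Subgroup

variable {G : Type*} [Group G]

/-- Adjacency in the power graph, loops included. -/
def Adj (x y : G) : Prop := x ∈ zpowers y ∨ y ∈ zpowers x

/-- The closed neighbourhood. -/
def nb (x : G) : Set G := {z | Adj z x}

/-- The vertices with the same closed neighbourhood. -/
def tw (x : G) : Set G := {w | nb w = nb x}

/-- A graph-theoretic property of generators of maximal cyclic subgroups. -/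
def Good (x : G) : Prop :=
  ∀ y ∈ nb x, y ∉ tw x → (tw y).ncard ≤ (tw x).ncard ∧
    ((tw y).ncard = (tw x).ncard → ¬ ∃ t ∈ nb y, t ∉ nb x ∧ (tw t).ncard = 1)

/-- `y` generates a maximal cyclic subgroup. -/
def IsMaxCyc (y : G) : Prop := ∀ z : G, y ∈ zpowers z → z ∈ zpowers y

theorem adj_self (x : G) : Adj x x := Or.inl (mem_zpowers x)

theorem Adj.symm {x y : G} (h : Adj x y) : Adj y x := Or.symm h

theorem self_mem_tw (x : G) : x ∈ tw x := rfl

theorem nb_eq_of_zpowers_eq {x y : G} (h : zpowers x = zpowers y) : nb x = nb y := by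
  ext z
  show (z ∈ zpowers x ∨ x ∈ zpowers z) ↔ (z ∈ zpowers y ∨ y ∈ zpowers z)
  rw [← zpowers_le (g := x), ← zpowers_le (g := y) (H := zpowers z), h]

theorem mem_tw_of_zpowers_eq {x y : G} (h : zpowers x = zpowers y) : x ∈ tw y := nb_eq_of_zpowers_eq h

theorem adj_of_mem_tw {w x : G} (hw : w ∈ tw x) : Adj w x := by
  have : w ∈ nb x := hw ▸ (adj_self w : w ∈ nb w)
  exact this

theorem adj_iff_of_mem_tw {w x : G} (hw : w ∈ tw x) (z : G) : Adj z w ↔ Adj z x :=
  Set.ext_iff.1 hw z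

variable [Finite G]

theorem exists_isMaxCyc (x : G) : ∃ y : G, IsMaxCyc y ∧ x ∈ zpowers y := by
  obtain ⟨y, hy, hmax⟩ := (Set.toFinite {y : G | x ∈ zpowers y}).exists_maximalFor orderOf _
    ⟨x, mem_zpowers x⟩
  refine ⟨y, fun z hz => ?_, hy⟩
  have hle : zpowers y ≤ zpowers z := zpowers_le.2 hz
  have hge := hmax (hle hy) (Nat.le_of_dvd (orderOf_pos z) (by
    have := card_dvd_of_le hle
    rwa [Nat.card_zpowers, Nat.card_zpowers] at this))
  have heq : zpowers y = zpowers z := eq_of_le_of_card_ge hle (by rwa [Nat.card_zpowers, Nat.card_zpowers])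
  exact heq ▸ mem_zpowers z

theorem zpowers_eq_of_orderOf {x a b : G} (ha : a ∈ zpowers x) (hb : b ∈ zpowers x)
    (h : orderOf a ∣ orderOf b) : a ∈ zpowers b := by
  classical
  haveI := Fintype.ofFinite (zpowers x)
  by_contra hab
  let s : Finset (zpowers x) := Finset.univ.filter fun z => z ^ orderOf b = 1
  have h1 : s.card ≤ orderOf b := IsCyclic.card_pow_eq_one_le (orderOf_pos b)
  have h2 : insert (⟨a, ha⟩ : zpowers x) (Finset.univ.filter fun z : zpowers x => (z : G) ∈ zpowers b) ⊆ s := by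
    intro z hz
    simp only [s, Finset.mem_filter, Finset.mem_univ, true_and]
    refine Subtype.ext ?_
    rw [SubmonoidClass.coe_pow, OneMemClass.coe_one]
    rcases Finset.mem_insert.1 hz with rfl | hz
    · exact orderOf_dvd_iff_pow_eq_one.1 h
    · simp only [Finset.mem_filter, Finset.mem_univ, true_and] at hz
      obtain ⟨i, hi⟩ := hz
      rw [← hi]
      show (b ^ i) ^ orderOf b = 1
      rw [← zpow_natCast, ← zpow_mul, mul_comm, zpow_mul, zpow_natCast, pow_orderOf_eq_one, one_zpow]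
  have h3 := Finset.card_le_card h2
  rw [Finset.card_insert_of_notMem (by simp [hab])] at h3
  have h4 : (Finset.univ.filter fun z : zpowers x => (z : G) ∈ zpowers b).card = orderOf b := by
    rw [← Fintype.card_subtype, ← Nat.card_eq_fintype_card, ← Nat.card_zpowers]
    have hle : zpowers b ≤ zpowers x := zpowers_le.2 hb
    exact Nat.card_congr
      { toFun := fun z => ⟨z.1, z.2⟩
        invFun := fun z => ⟨⟨z.1, hle z.2⟩, z.2⟩
        left_inv := fun _ => rfl
        right_inv := fun _ => rfl }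
  omega

theorem orderOf_dvd_of_mem {a b : G} (h : a ∈ zpowers b) : orderOf a ∣ orderOf b := by
  rw [← Nat.card_zpowers b]
  exact (zpowers b).orderOf_dvd_natCard h

theorem adj_iff_dvd {x a b : G} (ha : a ∈ zpowers x) (hb : b ∈ zpowers x) :
    Adj a b ↔ orderOf a ∣ orderOf b ∨ orderOf b ∣ orderOf a :=
  ⟨fun h => h.imp orderOf_dvd_of_mem orderOf_dvd_of_mem,
    fun h => h.imp (zpowers_eq_of_orderOf ha hb) (zpowers_eq_of_orderOf hb ha)⟩

theorem nb_isMaxCyc {y : G} (hy : IsMaxCyc y) : nb y = (zpowers y : Set G) :=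
  Set.ext fun z => ⟨fun h => h.elim id (hy z), fun h => Or.inl h⟩

theorem ncard_nb_isMaxCyc {y : G} (hy : IsMaxCyc y) : (nb y).ncard = orderOf y := by
  rw [nb_isMaxCyc hy, ← Nat.card_coe_set_eq, SetLike.coe_sort_coe, Nat.card_zpowers]

theorem exists_orderOf_eq_of_dvd {y : G} {d : ℕ} (hd : d ∣ orderOf y) :
    ∃ z ∈ zpowers y, orderOf z = d :=
  ⟨y ^ (orderOf y / d), pow_mem (mem_zpowers y) _, orderOf_pow_orderOf_div (orderOf_pos y).ne' hd⟩

theorem mem_of_adj_max {y w : G} (hy : IsMaxCyc y) (h : Adj w y) : w ∈ zpowers y := h.elim id (hy w)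

/-- Twins inside a maximal cyclic subgroup which is not a `p`-group. -/
theorem orderOf_eq_of_tw {y x w : G} (hy : IsMaxCyc y) {r s : ℕ} (hr : r.Prime) (hs : s.Prime)
    (hrs : r ≠ s) (hry : r ∣ orderOf y) (hsy : s ∣ orderOf y) (hx : x ∈ zpowers y)
    (hx1 : x ≠ 1) (hw : w ∈ tw x) : w ∈ zpowers y ∧ (orderOf w = orderOf x ∨ w = 1) := by
  have hwy : w ∈ zpowers y :=
    mem_of_adj_max hy ((adj_iff_of_mem_tw hw y).2 (Or.inr hx)).symm
  refine ⟨hwy, ?_⟩
  by_contra hne
  push_neg at hne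
  obtain ⟨hne, hw1⟩ := hne
  have key : ∀ e, e ∣ orderOf y →
      ((e ∣ orderOf x ∨ orderOf x ∣ e) ↔ (e ∣ orderOf w ∨ orderOf w ∣ e)) := by
    intro e he
    obtain ⟨z, hz, rfl⟩ := exists_orderOf_eq_of_dvd he
    rw [← adj_iff_dvd hz hx, ← adj_iff_dvd hz hwy]
    exact (adj_iff_of_mem_tw hw z).symm
  -- reduce to a proper divisibility
  obtain ⟨a, b, hab, hne', hb, ha1, hkey⟩ : ∃ a b : ℕ, a ∣ b ∧ a ≠ b ∧ b ∣ orderOf y ∧ a ≠ 1 ∧
      ∀ e, e ∣ orderOf y → ((e ∣ a ∨ a ∣ e) ↔ (e ∣ b ∨ b ∣ e)) := by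
    rcases (adj_iff_dvd hwy hx).1 (adj_of_mem_tw hw) with h | h
    · exact ⟨_, _, h, hne, orderOf_dvd_of_mem hx, fun h1 => hw1 (orderOf_eq_one_iff.1 h1),
        fun e he => (key e he).symm⟩
    · exact ⟨_, _, h, hne.symm, orderOf_dvd_of_mem hwy, fun h1 => hx1 (orderOf_eq_one_iff.1 h1), key⟩
  have hb0 : b ≠ 0 := fun h => (orderOf_pos y).ne' (Nat.eq_zero_of_zero_dvd (h ▸ hb))
  have ha0 : a ≠ 0 := fun h => hb0 (Nat.eq_zero_of_zero_dvd (h ▸ hab))
  obtain ⟨k, hk, hka⟩ : ∃ k : ℕ, k.Prime ∧ a.factorization k < b.factorization k := by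
    by_contra! hall
    refine hne' (Nat.dvd_antisymm hab ((Nat.factorization_le_iff_dvd hb0 ha0).1 fun k => ?_))
    by_cases hk : k.Prime
    · exact hall k hk
    · simp [Nat.factorization_eq_zero_of_not_prime _ hk]
  set v := b.factorization k
  have hvb : k ^ v ∣ b := Nat.ordProj_dvd b k
  have hva : ¬ k ^ v ∣ a := fun h => by
    have := (hk.pow_dvd_iff_le_factorization ha0).1 h
    omega
  obtain ⟨i, hi, hai⟩ := (Nat.dvd_prime_pow hk).1
    (((hkey (k ^ v) (hvb.trans hb)).2 (Or.inl hvb)).resolve_left hva)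
  have hi0 : i ≠ 0 := fun h => ha1 (by rw [hai, h, pow_zero])
  by_cases hs' : ∃ l : ℕ, l.Prime ∧ l ≠ k ∧ l ∣ b
  · obtain ⟨l, hl, hlk, hlb⟩ := hs'
    rcases (hkey l (hlb.trans hb)).2 (Or.inl hlb) with h | h
    · rw [hai] at h
      exact hlk ((Nat.prime_dvd_prime_iff_eq hl hk).1 (hl.dvd_of_dvd_pow h))
    · rw [hai] at h
      exact hlk ((Nat.prime_dvd_prime_iff_eq hk hl).1 ((dvd_pow_self k hi0).trans h)).symm
  · push_neg at hs'
    have hbk : b = k ^ v := by
      conv_lhs => rw [← Nat.ordProj_mul_ordCompl_eq_self b k]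
      have : b / k ^ v = 1 := by
        by_contra h
        obtain ⟨l, hl, hld⟩ := Nat.exists_prime_and_dvd h
        refine hs' l hl (fun e => ?_) (hld.trans (Nat.ordCompl_dvd b k))
        rw [e] at hld
        exact Nat.not_dvd_ordCompl hk hb0 hld
      rw [this, mul_one]
    obtain ⟨l, hl, hlk, hly⟩ : ∃ l : ℕ, l.Prime ∧ l ≠ k ∧ l ∣ orderOf y := by
      by_cases hrk : r = k
      · exact ⟨s, hs, fun h => hrs (hrk.trans h.symm), hsy⟩
      · exact ⟨r, hr, hrk, hry⟩
    have hcop : (k ^ i).Coprime l := Nat.Coprime.pow_left i ((Nat.coprime_primes hk hl).2 hlk.symm)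
    have hdvd : k ^ i * l ∣ orderOf y :=
      hcop.mul_dvd_of_dvd_of_dvd (((pow_dvd_pow k hi).trans hvb).trans hb) hly
    rcases (hkey _ hdvd).1 (Or.inr (hai ▸ Dvd.intro l rfl)) with h | h
    · rw [hbk] at h
      exact hlk ((Nat.prime_dvd_prime_iff_eq hl hk).1 (hl.dvd_of_dvd_pow ((dvd_mul_left l _).trans h)))
    · rw [hbk] at h
      have h' := (Nat.Coprime.pow_left v ((Nat.coprime_primes hk hl).2 hlk.symm)).dvd_of_dvd_mul_right h
      have := (Nat.pow_dvd_pow_iff_le_right hk.one_lt).1 h'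
      have hiv : a.factorization k = i := by rw [hai, hk.factorization_pow]; simp
      omega

theorem totient_le_ncard_tw (y : G) : (orderOf y).totient ≤ (tw y).ncard := by
  classical
  have hcyc : IsCyclic (zpowers y) := inferInstance
  haveI := Fintype.ofFinite (zpowers y)
  rw [← IsCyclic.card_orderOf_eq_totient (α := zpowers y)
    (d := orderOf y) (by rw [← Nat.card_eq_fintype_card, Nat.card_zpowers])]
  rw [← Set.ncard_coe_finset]
  refine Set.ncard_le_ncard_of_injOn (fun z : zpowers y => (z : G)) ?_ Subtype.val_injective.injOn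
  intro z hz
  simp only [Finset.coe_filter, Finset.mem_univ, true_and, Set.mem_setOf_eq] at hz
  refine mem_tw_of_zpowers_eq (eq_of_le_of_card_ge (zpowers_le.2 z.2) ?_)
  rw [Nat.card_zpowers, Nat.card_zpowers, orderOf_coe, hz]

theorem ncard_tw_le_totient {y x : G} (hx : x ∈ zpowers y)
    (h : ∀ w ∈ tw x, w ∈ zpowers y ∧ orderOf w = orderOf x) : (tw x).ncard ≤ (orderOf x).totient := by
  classical
  haveI := Fintype.ofFinite (zpowers y)
  rw [← IsCyclic.card_orderOf_eq_totient (α := zpowers y) (d := orderOf x)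
    (by rw [← Nat.card_eq_fintype_card, Nat.card_zpowers]; exact orderOf_dvd_of_mem hx),
    ← Set.ncard_coe_finset]
  calc (tw x).ncard ≤ ((fun z : zpowers y => (z : G)) '' _).ncard := Set.ncard_le_ncard ?_ (Set.toFinite _)
    _ ≤ _ := Set.ncard_image_le (Set.toFinite _)
  intro w hw
  refine ⟨⟨w, (h w hw).1⟩, ?_, rfl⟩
  simp only [Finset.coe_filter, Finset.mem_univ, true_and, Set.mem_setOf_eq, orderOf_mk]
  exact (h w hw).2

theorem dvd_eq_two_mul {d n : ℕ} (hdn : d ∣ n) (hn : n ≠ 0) (hne : d ≠ n) (h : n.totient ≤ d.totient) :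
    n = 2 * d ∧ Odd d := by
  obtain ⟨k, rfl⟩ := hdn
  have hd : d ≠ 0 := fun h0 => hn (by simp [h0])
  have hk1 : k ≠ 1 := fun h1 => hne (by simp [h1])
  have hk0 : k ≠ 0 := fun h0 => hn (by simp [h0])
  have hdpos : 0 < d.totient := Nat.totient_pos.2 (Nat.pos_of_ne_zero hd)
  have h1 := Nat.totient_super_multiplicative d k
  have hk2 : k.totient = 1 := by
    have h2 : d.totient * k.totient ≤ d.totient * 1 := by omega
    have := Nat.le_of_mul_le_mul_left h2 hdpos
    have := Nat.totient_pos.2 (Nat.pos_of_ne_zero hk0)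
    omega
  rcases Nat.totient_eq_one_iff.1 hk2 with rfl | rfl
  · exact absurd rfl hk1
  refine ⟨mul_comm d 2, ?_⟩
  by_contra ho
  rw [Nat.not_odd_iff_even] at ho
  have h2 : (2 * d).totient = 2 * d.totient :=
    Nat.totient_mul_of_prime_of_dvd Nat.prime_two (even_iff_two_dvd.1 ho)
  rw [mul_comm d 2, h2] at h
  omega

theorem ncard_tw_involution {y t : G} (hy : IsMaxCyc y) {r s : ℕ} (hr : r.Prime) (hs : s.Prime)
    (hrs : r ≠ s) (hry : r ∣ orderOf y) (hsy : s ∣ orderOf y) (hty : t ∈ zpowers y)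
    (ht : orderOf t = 2) (hone : (1 : G) ∉ tw t) : (tw t).ncard = 1 := by
  have ht1 : t ≠ 1 := fun h => by rw [h, orderOf_one] at ht; omega
  have key : ∀ w ∈ tw t, w ∈ zpowers y ∧ orderOf w = orderOf t := fun w hw => by
    obtain ⟨h1, h2⟩ := orderOf_eq_of_tw hy hr hs hrs hry hsy hty ht1 hw
    exact ⟨h1, h2.resolve_right fun e => hone (e ▸ hw)⟩
  refine le_antisymm ((ncard_tw_le_totient hty key).trans (by rw [ht, Nat.totient_two])) ?_
  exact (Set.ncard_pos (Set.toFinite _)).2 ⟨t, self_mem_tw t⟩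

/-- A universal vertex. -/
def Univ (x : G) : Prop := ∀ z : G, Adj z x

theorem one_mem_tw_iff {x : G} : (1 : G) ∈ tw x ↔ Univ x := by
  constructor
  · intro h z
    exact (adj_iff_of_mem_tw h z).1 (Or.inr (one_mem _))
  · intro h
    ext z
    exact ⟨fun _ => h z, fun _ => Or.inr (one_mem _)⟩

theorem eq_top_of_univ_max {y : G} (hy : IsMaxCyc y) (h : Univ y) (z : G) : z ∈ zpowers y :=
  mem_of_adj_max hy (h z)

/-- A universal non-trivial element inside a non-`p`-cyclic maximal subgroup generates. -/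
theorem univ_eq_max {y w : G} (hy : IsMaxCyc y) {r s : ℕ} (hr : r.Prime) (hs : s.Prime)
    (hrs : r ≠ s) (hry : r ∣ orderOf y) (hsy : s ∣ orderOf y) (hw : Univ w) (hw1 : w ≠ 1) :
    orderOf w = orderOf y ∧ w ∈ zpowers y := by
  have hwy := mem_of_adj_max hy (hw y).symm
  refine ⟨?_, hwy⟩
  by_contra hne
  have hd := orderOf_dvd_of_mem hwy
  obtain ⟨k, hk, hlt⟩ : ∃ k : ℕ, k.Prime ∧ (orderOf w).factorization k < (orderOf y).factorization k := by
    by_contra! hall
    refine hne (Nat.dvd_antisymm hd ((Nat.factorization_le_iff_dvd (orderOf_pos y).ne' (orderOf_pos w).ne').1 fun k => ?_))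
    by_cases hk : k.Prime
    · exact hall k hk
    · simp [Nat.factorization_eq_zero_of_not_prime _ hk]
  set v := (orderOf y).factorization k
  obtain ⟨z, hz, hzo⟩ := exists_orderOf_eq_of_dvd (Nat.ordProj_dvd (orderOf y) k)
  rcases (adj_iff_dvd hz hwy).1 (hw z) with h | h
  · rw [hzo] at h
    have := (hk.pow_dvd_iff_le_factorization (orderOf_pos w).ne').1 h
    omega
  · rw [hzo] at h
    obtain ⟨i, -, hi⟩ := (Nat.dvd_prime_pow hk).1 h
    obtain ⟨l, hl, hlk, hly⟩ : ∃ l : ℕ, l.Prime ∧ l ≠ k ∧ l ∣ orderOf y := by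
      by_cases hrk : r = k
      · exact ⟨s, hs, fun h => hrs (hrk.trans h.symm), hsy⟩
      · exact ⟨r, hr, hrk, hry⟩
    obtain ⟨z', hz', hzo'⟩ := exists_orderOf_eq_of_dvd hly
    have hi0 : i ≠ 0 := fun h0 => hw1 (orderOf_eq_one_iff.1 (by rw [hi, h0, pow_zero]))
    rcases (adj_iff_dvd hz' hwy).1 (hw z') with h' | h' <;> rw [hzo', hi] at h'
    · exact hlk ((Nat.prime_dvd_prime_iff_eq hl hk).1 (hl.dvd_of_dvd_pow h'))
    · exact hlk ((Nat.prime_dvd_prime_iff_eq hk hl).1 ((dvd_pow_self k hi0).trans h')).symm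

theorem good_of_max {y : G} (hy : IsMaxCyc y) {r s : ℕ} (hr : r.Prime) (hs : s.Prime)
    (hrs : r ≠ s) (hry : r ∣ orderOf y) (hsy : s ∣ orderOf y) : Good y := by
  intro x hx hxn
  have hxy : x ∈ zpowers y := mem_of_adj_max hy hx
  have hy6 : 2 < orderOf y := by
    have h1 : r * s ∣ orderOf y := ((Nat.coprime_primes hr hs).2 hrs).mul_dvd_of_dvd_of_dvd hry hsy
    have h2 := Nat.le_of_dvd (orderOf_pos y) h1
    have h3 : 2 * 2 ≤ r * s := Nat.mul_le_mul hr.two_le hs.two_le
    omega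
  have hdne : orderOf x ≠ orderOf y := fun h => hxn (mem_tw_of_zpowers_eq
    (eq_of_le_of_card_ge (zpowers_le.2 hxy) (by rw [Nat.card_zpowers, Nat.card_zpowers, h])))
  have hle : (tw x).ncard ≤ (orderOf x).totient := by
    refine ncard_tw_le_totient hxy fun w hw => ?_
    by_cases hx1 : x = 1
    · subst hx1
      have hwu : Univ w := one_mem_tw_iff.1 (show nb 1 = nb w from hw.symm)
      by_cases hw1 : w = 1
      · subst hw1; exact ⟨one_mem _, rfl⟩
      · obtain ⟨h1, h2⟩ := univ_eq_max hy hr hs hrs hry hsy hwu hw1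
        refine absurd ?_ hxn
        have : w ∈ tw y := mem_tw_of_zpowers_eq
          (eq_of_le_of_card_ge (zpowers_le.2 h2) (by rw [Nat.card_zpowers, Nat.card_zpowers, h1]))
        exact (show nb 1 = nb y from hw.symm.trans this)
    · obtain ⟨h1, h2⟩ := orderOf_eq_of_tw hy hr hs hrs hry hsy hxy hx1 hw
      refine ⟨h1, h2.resolve_right fun h => hxn ?_⟩
      subst h
      obtain ⟨h3, -⟩ := univ_eq_max hy hr hs hrs hry hsy (one_mem_tw_iff.1 hw) hx1
      exact absurd h3 hdne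
  have hxd := orderOf_dvd_of_mem hxy
  have hphi : (orderOf x).totient ≤ (orderOf y).totient :=
    Nat.le_of_dvd (Nat.totient_pos.2 (orderOf_pos y)) (Nat.totient_dvd_of_dvd hxd)
  refine ⟨hle.trans (hphi.trans (totient_le_ncard_tw y)), fun heq => ?_⟩
  rintro ⟨t, htx, hty, ht1⟩
  obtain ⟨hyd, hodd⟩ := dvd_eq_two_mul hxd (orderOf_pos y).ne' hdne
    ((totient_le_ncard_tw y).trans (heq ▸ hle))
  rcases htx with h | h
  · exact hty (Or.inl (zpowers_le.2 hxy h))
  · have hinv : t⁻¹ ∈ tw t := mem_tw_of_zpowers_eq zpowers_inv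
    obtain ⟨w, hw⟩ := Set.ncard_eq_one.1 ht1
    have h1 : t⁻¹ = t := by
      have e1 : t⁻¹ = w := by simpa [hw] using hinv
      have e2 : t = w := by simpa [hw] using self_mem_tw t
      exact e1.trans e2.symm
    have h2 : orderOf t ∣ 2 :=
      orderOf_dvd_of_pow_eq_one (by rw [pow_two]; nth_rewrite 1 [← h1]; exact inv_mul_cancel t)
    have h3 : orderOf x ∣ 2 := (orderOf_dvd_of_mem h).trans h2
    rcases (Nat.dvd_prime Nat.prime_two).1 h3 with h4 | h4 <;> rw [h4] at hodd hyd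
    · omega
    · exact absurd hodd (by decide)

theorem exists_of_good {x : G} (hx : Good x) {p q : ℕ} (hp : p.Prime) (hq : q.Prime) (hpq : p ≠ q)
    (hd : p * q ∣ (nb x).ncard) : ∃ g : G, orderOf g = p * q := by
  classical
  by_contra hne
  have hno : ∀ y : G, ¬ p * q ∣ orderOf y := fun y h =>
    hne (exists_orderOf_eq_of_dvd h |>.imp fun _ h => h.2)
  have hnotmax : ∀ y, IsMaxCyc y → nb x ≠ nb y := fun y hy h =>
    hno y (by rw [← ncard_nb_isMaxCyc hy, ← h]; exact hd)
  by_cases hu : Univ x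
  · have hG : p * q ∣ Nat.card G := by
      rwa [show nb x = Set.univ from Set.eq_univ_of_forall hu, Set.ncard_univ] at hd
    have htw : ∀ w : G, Univ w → w = 1 := by
      intro w hw
      by_contra hw1
      haveI := Fact.mk hp
      haveI := Fact.mk hq
      obtain ⟨a, ha⟩ := exists_prime_orderOf_dvd_card' (G := G) p ((dvd_mul_right p q).trans hG)
      obtain ⟨b, hb⟩ := exists_prime_orderOf_dvd_card' (G := G) q ((dvd_mul_left q p).trans hG)
      obtain ⟨y, hy, hwy⟩ := exists_isMaxCyc w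
      by_cases hpp : ∃ r s : ℕ, r.Prime ∧ s.Prime ∧ r ≠ s ∧ r ∣ orderOf y ∧ s ∣ orderOf y
      · obtain ⟨r, s, hr, hs, hrs, hry, hsy⟩ := hpp
        obtain ⟨h1, h2⟩ := univ_eq_max hy hr hs hrs hry hsy hw hw1
        have he : zpowers w = zpowers y :=
          eq_of_le_of_card_ge (zpowers_le.2 h2) (by rw [Nat.card_zpowers, Nat.card_zpowers, h1])
        have hyu : Univ y := fun z => (Set.ext_iff.1 (nb_eq_of_zpowers_eq he) z).1 (hw z)
        refine hnotmax y hy ?_
        rw [show nb x = Set.univ from Set.eq_univ_of_forall hu,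
          show nb y = Set.univ from Set.eq_univ_of_forall hyu]
      · push_neg at hpp
        obtain ⟨k, hk, hkw⟩ := Nat.exists_prime_and_dvd (show orderOf w ≠ 1 from fun h => hw1 (orderOf_eq_one_iff.1 h))
        have hall : ∀ c : G, ∀ l : ℕ, l.Prime → orderOf c = l → l = k := by
          intro c l hl hc
          rcases hw c with h | h
          · have h1 : l ∣ orderOf w := hc ▸ orderOf_dvd_of_mem h
            by_contra hlk
            exact hpp l k hl hk hlk (h1.trans (orderOf_dvd_of_mem hwy)) (hkw.trans (orderOf_dvd_of_mem hwy))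
          · exact ((Nat.prime_dvd_prime_iff_eq hk hl).1 (hc ▸ hkw.trans (orderOf_dvd_of_mem h))).symm
        exact hpq ((hall a p hp ha).trans (hall b q hq hb).symm)
    obtain rfl := htw x hu
    have hone : (tw (1 : G)).ncard = 1 := by
      rw [Set.ncard_eq_one]
      refine ⟨1, Set.eq_singleton_iff_unique_mem.2 ⟨self_mem_tw 1, fun w hw => htw w ?_⟩⟩
      exact one_mem_tw_iff.1 (show nb (1 : G) = nb w from hw.symm)
    have hexp : ∀ y : G, orderOf y ∣ 2 := by
      intro y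
      by_cases hy : y = 1
      · simp [hy]
      · have h1 := (hx y (Or.inr (one_mem _)) (fun h =>
          hy (htw y (one_mem_tw_iff.1 (show nb (1 : G) = nb y from h.symm))))).1
        rw [hone] at h1
        have h2 : (orderOf y).totient = 1 := le_antisymm ((totient_le_ncard_tw y).trans h1)
          (Nat.totient_pos.2 (orderOf_pos y))
        rcases Nat.totient_eq_one_iff.1 h2 with h | h <;> simp [h]
    haveI := Fact.mk hp
    haveI := Fact.mk hq
    obtain ⟨a, ha⟩ := exists_prime_orderOf_dvd_card' (G := G) p ((dvd_mul_right p q).trans hG)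
    obtain ⟨b, hb⟩ := exists_prime_orderOf_dvd_card' (G := G) q ((dvd_mul_left q p).trans hG)
    exact hpq (((Nat.prime_dvd_prime_iff_eq hp Nat.prime_two).1 (ha ▸ hexp a)).trans
      ((Nat.prime_dvd_prime_iff_eq hq Nat.prime_two).1 (hb ▸ hexp b)).symm)
  have hx1 : x ≠ 1 := fun h => hu (h ▸ fun z => Or.inr (one_mem _))
  have h1tw : (1 : G) ∉ tw x := fun h => hu (one_mem_tw_iff.1 h)
  have hytw : ∀ y, IsMaxCyc y → y ∉ tw x := fun y hy h => hnotmax y hy h.symm
  by_cases hpp : ∃ y, IsMaxCyc y ∧ x ∈ zpowers y ∧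
      ∃ r s : ℕ, r.Prime ∧ s.Prime ∧ r ≠ s ∧ r ∣ orderOf y ∧ s ∣ orderOf y
  · obtain ⟨y, hy, hxy, r, s, hr, hs, hrs, hry, hsy⟩ := hpp
    obtain ⟨h1, h2⟩ := hx y (Or.inr hxy) (hytw y hy)
    have hle : (tw x).ncard ≤ (orderOf x).totient := by
      refine ncard_tw_le_totient hxy fun w hw => ?_
      obtain ⟨h3, h4⟩ := orderOf_eq_of_tw hy hr hs hrs hry hsy hxy hx1 hw
      exact ⟨h3, h4.resolve_right fun h => h1tw (h ▸ hw)⟩
    have hxd := orderOf_dvd_of_mem hxy
    have hphi : (orderOf x).totient ≤ (orderOf y).totient :=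
      Nat.le_of_dvd (Nat.totient_pos.2 (orderOf_pos y)) (Nat.totient_dvd_of_dvd hxd)
    have hdne : orderOf x ≠ orderOf y := fun h => hnotmax y hy (nb_eq_of_zpowers_eq
      (eq_of_le_of_card_ge (zpowers_le.2 hxy) (by rw [Nat.card_zpowers, Nat.card_zpowers, h])))
    obtain ⟨hyd, hodd⟩ := dvd_eq_two_mul hxd (orderOf_pos y).ne' hdne
      ((totient_le_ncard_tw y).trans (h1.trans hle))
    refine h2 (le_antisymm h1 (hle.trans (hphi.trans (totient_le_ncard_tw y)))) ?_
    obtain ⟨t, hty, hto⟩ := exists_orderOf_eq_of_dvd (show 2 ∣ orderOf y from hyd ▸ dvd_mul_right 2 _)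
    refine ⟨t, Or.inl hty, ?_, ?_⟩
    · intro hadj
      rcases (adj_iff_dvd hty hxy).1 hadj with h | h
      · rw [hto] at h
        exact Nat.not_even_iff_odd.2 hodd (even_iff_two_dvd.2 h)
      · rw [hto] at h
        rcases (Nat.dvd_prime Nat.prime_two).1 h with h | h
        · exact hx1 (orderOf_eq_one_iff.1 h)
        · rw [h] at hodd; exact absurd hodd (by decide)
    · refine ncard_tw_involution hy hr hs hrs hry hsy hty hto fun h => ?_
      have hadj := one_mem_tw_iff.1 h x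
      rcases (adj_iff_dvd hxy hty).1 hadj with h | h <;> rw [hto] at h
      · rcases (Nat.dvd_prime Nat.prime_two).1 h with h | h
        · exact hx1 (orderOf_eq_one_iff.1 h)
        · rw [h] at hodd; exact absurd hodd (by decide)
      · exact Nat.not_even_iff_odd.2 hodd (even_iff_two_dvd.2 h)
  push_neg at hpp
  obtain ⟨y, hy, hxy⟩ := exists_isMaxCyc x
  obtain ⟨y', hy', hxy', hyne⟩ : ∃ y', IsMaxCyc y' ∧ x ∈ zpowers y' ∧ zpowers y' ≠ zpowers y := by
    by_contra! hall
    obtain ⟨k, hk, hkx⟩ := Nat.exists_prime_and_dvd (show orderOf x ≠ 1 from fun h => hx1 (orderOf_eq_one_iff.1 h))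
    have hky : ∀ l : ℕ, l.Prime → l ∣ orderOf y → l = k := fun l hl hld => by
      by_contra hlk
      exact hpp y hy hxy l k hl hk hlk hld (hkx.trans (orderOf_dvd_of_mem hxy))
    have hpow : ∀ e, e ∣ orderOf y → ∃ i, e = k ^ i := fun e he => by
      refine ⟨e.primeFactorsList.length, Nat.eq_prime_pow_of_unique_prime_dvd
        (fun h => (orderOf_pos y).ne' (Nat.eq_zero_of_zero_dvd (h ▸ he))) fun {d} hd hde => hky d hd (hde.trans he)⟩
    refine hnotmax y hy ?_
    rw [nb_isMaxCyc hy]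
    ext z
    constructor
    · rintro (h | h)
      · exact zpowers_le.2 hxy h
      · obtain ⟨m, hm, hzm⟩ := exists_isMaxCyc z
        have := hall m hm (zpowers_le.2 hzm h)
        exact this ▸ hzm
    · intro hz
      refine (adj_iff_dvd hz hxy).2 ?_
      obtain ⟨i, hi⟩ := hpow _ (orderOf_dvd_of_mem hz)
      obtain ⟨j, hj⟩ := hpow _ (orderOf_dvd_of_mem hxy)
      rw [hi, hj]
      exact (le_total i j).imp (pow_dvd_pow k) (pow_dvd_pow k)
  obtain ⟨h1, -⟩ := hx y (Or.inr hxy) (hytw y hy)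
  set n := orderOf y with hn
  obtain ⟨k, hk, hkx⟩ := Nat.exists_prime_and_dvd (show orderOf x ≠ 1 from fun h => hx1 (orderOf_eq_one_iff.1 h))
  have hky : k ∣ n := hkx.trans (orderOf_dvd_of_mem hxy)
  obtain ⟨r, hnr⟩ : ∃ r, n = k ^ r := by
    refine ⟨n.primeFactorsList.length, Nat.eq_prime_pow_of_unique_prime_dvd (orderOf_pos y).ne' fun {d} hd hdn => ?_⟩
    by_contra hdk
    exact hpp y hy hxy d k hd hk hdk hdn hky
  have hsub : tw x ⊆ ((zpowers y ⊓ zpowers y' : Subgroup G) : Set G) \ {1} := by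
    intro w hw
    exact ⟨⟨mem_of_adj_max hy ((adj_iff_of_mem_tw hw y).2 (Or.inr hxy)).symm,
      mem_of_adj_max hy' ((adj_iff_of_mem_tw hw y').2 (Or.inr hxy')).symm⟩,
      fun h => h1tw (Set.mem_singleton_iff.1 h ▸ hw)⟩
  have hcard : (tw x).ncard ≤ Nat.card (zpowers y ⊓ zpowers y' : Subgroup G) - 1 := by
    refine (Set.ncard_le_ncard hsub (Set.toFinite _)).trans ?_
    rw [Set.ncard_sdiff_singleton_of_mem (one_mem (zpowers y ⊓ zpowers y')), ← Nat.card_coe_set_eq]
    rfl
  have hlt : Nat.card (zpowers y ⊓ zpowers y' : Subgroup G) < n := by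
    rw [hn, ← Nat.card_zpowers y]
    refine lt_of_le_of_ne (Nat.le_of_dvd Nat.card_pos (card_dvd_of_le inf_le_left)) fun h => hyne ?_
    have he := eq_of_le_of_card_ge (inf_le_left : zpowers y ⊓ zpowers y' ≤ zpowers y) h.ge
    have hle : zpowers y ≤ zpowers y' := he ▸ inf_le_right
    exact le_antisymm (zpowers_le.2 (hy y' (hle (mem_zpowers y)))) hle
  obtain ⟨i, hi, hci⟩ := (Nat.dvd_prime_pow hk).1 (show Nat.card (zpowers y ⊓ zpowers y' : Subgroup G) ∣ k ^ r by
    rw [← hnr, hn, ← Nat.card_zpowers y]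
    exact card_dvd_of_le inf_le_left)
  rw [hci, hnr] at hlt
  have hir : i < r := (Nat.pow_lt_pow_iff_right hk.one_lt).1 hlt
  have htot := (totient_le_ncard_tw y).trans (h1.trans hcard)
  rw [← hn, hnr, hci, Nat.totient_prime_pow hk (by omega)] at htot
  have h3 : k ^ i ≤ k ^ (r - 1) * (k - 1) :=
    (Nat.pow_le_pow_right hk.pos (by omega)).trans (Nat.le_mul_of_pos_right _ (by have := hk.two_le; omega))
  have := Nat.pow_pos hk.pos (n := i)
  omega

/-- The graph-theoretic criterion. -/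
theorem exists_orderOf_mul_iff {p q : ℕ} (hp : p.Prime) (hq : q.Prime) (hpq : p ≠ q) :
    (∃ g : G, orderOf g = p * q) ↔ ∃ x : G, Good x ∧ p * q ∣ (nb x).ncard := by
  constructor
  · rintro ⟨g, hg⟩
    obtain ⟨y, hy, hgy⟩ := exists_isMaxCyc g
    have hd : p * q ∣ orderOf y := hg ▸ orderOf_dvd_of_mem hgy
    exact ⟨y, good_of_max hy hp hq hpq ((dvd_mul_right p q).trans hd) ((dvd_mul_left q p).trans hd),
      (ncard_nb_isMaxCyc hy).symm ▸ hd⟩
  · rintro ⟨x, hx, hd⟩
    exact exists_of_good hx hp hq hpq hd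

section Transfer

variable {H : Type*} [Group H] [Finite H] (e : G ≃ H)
  (he : ∀ x y : G, Adj x y ↔ Adj (e x) (e y))
include he

omit [Finite G] [Finite H] in
theorem image_nb (x : G) : e '' nb x = nb (e x) := by
  ext z
  constructor
  · rintro ⟨w, hw, rfl⟩; exact (he w x).1 hw
  · intro hz
    exact ⟨e.symm z, (he _ x).2 (by rwa [Equiv.apply_symm_apply]), e.apply_symm_apply z⟩

omit [Finite G] [Finite H] in
theorem mem_tw_iff (x w : G) : e w ∈ tw (e x) ↔ w ∈ tw x := by
  show nb (e w) = nb (e x) ↔ nb w = nb x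
  rw [← image_nb e he, ← image_nb e he]
  exact e.injective.image_injective.eq_iff

theorem ncard_tw (x : G) : (tw (e x)).ncard = (tw x).ncard := by
  rw [← Set.ncard_image_of_injective (tw x) e.injective]
  congr 1
  ext z
  obtain ⟨w, rfl⟩ := e.surjective z
  rw [mem_tw_iff e he, e.injective.mem_set_image]

theorem good_map (x : G) (hx : Good x) : Good (e x) := by
  intro z hz hzn
  obtain ⟨y, rfl⟩ := e.surjective z
  obtain ⟨h1, h2⟩ := hx y ((he y x).2 hz) (fun h => hzn ((mem_tw_iff e he x y).2 h))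
  rw [ncard_tw e he, ncard_tw e he]
  refine ⟨h1, fun heq => ?_⟩
  rintro ⟨t, ht, htn, ht1⟩
  obtain ⟨w, rfl⟩ := e.surjective t
  exact h2 heq ⟨w, (he w y).2 ht, fun h => htn ((he w x).1 h), by rwa [← ncard_tw e he]⟩

theorem transfer {p q : ℕ} (hp : p.Prime) (hq : q.Prime) (hpq : p ≠ q)
    (h : ∃ g : G, orderOf g = p * q) : ∃ g : H, orderOf g = p * q := by
  obtain ⟨x, hx, hd⟩ := (exists_orderOf_mul_iff hp hq hpq).1 h
  refine (exists_orderOf_mul_iff hp hq hpq).2 ⟨e x, good_map e he x hx, ?_⟩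
  rwa [← image_nb e he, Set.ncard_image_of_injective _ e.injective]

end Transfer

end Cfsg.Agent.GenA.PowerGraph
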