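/-
Normal non-abelian subgroups with centres of order two in 2-groups of sectional rank at most four.
-/
import Mathlib
import Cfsg.Prelude.Def_EvenType
import Cfsg.Agent.Lib.Cores.Nilpotent
import Cfsg.Agent.Lib.Coprime.PGroup
import Cfsg.Agent.Lib.Fusion.MetacyclicTop
import Cfsg.Agent.Solvable.Basics
import Cfsg.Agent.Lib.Coprime.OmegaDetect

set_option autoImplicit false

namespace Cfsg.Agent.GenA.SectionalRankFour

open Subgroup Cfsg
open scoped commutatorElement

variable {S : Type*} [Group S]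

/-- The centre of a subgroup, inside the ambient group. -/
abbrev ZS (P : Subgroup S) : Subgroup S := P ⊓ centralizer (P : Set S)

theorem map_center (P : Subgroup S) : (center ↥P).map P.subtype = ZS P := by
  ext x
  constructor
  · rintro ⟨⟨y, hy⟩, hc, rfl⟩
    exact ⟨hy, fun a ha => congrArg Subtype.val (mem_center_iff.1 hc ⟨a, ha⟩)⟩
  · rintro ⟨hx, hc⟩
    exact ⟨⟨x, hx⟩, mem_center_iff.2 fun a => Subtype.ext (hc a a.2), rfl⟩

theorem card_ZS {P : Subgroup S} (h : Nat.card (center ↥P) = 2) : Nat.card (ZS P) = 2 := by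
  rw [← map_center, Subgroup.card_subtype, h]

theorem exists_gen [Finite S] {K : Subgroup S} (h : Nat.card K = 2) :
    ∃ z ∈ K, z ≠ 1 ∧ ∀ x ∈ K, x = 1 ∨ x = z := by
  haveI : Nontrivial K := Finite.one_lt_card_iff_nontrivial.1 (by omega)
  obtain ⟨z, hz⟩ := exists_ne (1 : K)
  refine ⟨z, z.2, fun h1 => hz (Subtype.ext h1), fun x hx => ?_⟩
  obtain ⟨a, b, hab, huniv⟩ := Nat.card_eq_two_iff.1 h
  have h1 : ∀ y : K, y = a ∨ y = b := fun y => by
    simpa using (huniv ▸ Set.mem_univ y : y ∈ ({a, b} : Set K))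
  rcases h1 1 with e | e <;> rcases h1 z with e' | e' <;> rcases h1 ⟨x, hx⟩ with e'' | e''
  all_goals first
    | exact absurd (e'.trans e.symm) hz
    | exact Or.inl (congrArg Subtype.val (e''.trans e.symm))
    | exact Or.inr (congrArg Subtype.val (e''.trans e'.symm))

/-- Conjugates of a subgroup. -/
abbrev cS (g : S) (P : Subgroup S) : Subgroup S := P.map (MulAut.conj g).toMonoidHom

theorem mem_cS {g x : S} {P : Subgroup S} : x ∈ cS g P ↔ g⁻¹ * x * g ∈ P := by
  rw [Subgroup.mem_map_equiv]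
  simp

theorem conj_mem_cS {g x : S} {P : Subgroup S} (hx : x ∈ P) : g * x * g⁻¹ ∈ cS g P :=
  ⟨x, hx, rfl⟩

theorem card_cS (g : S) (P : Subgroup S) : Nat.card (cS g P) = Nat.card P :=
  card_map_of_injective (MulAut.conj g).injective

variable [Finite S]

theorem card_le_of_squares {k : ℕ} (hr : SectionalPRankLE 2 k S) (N D : Subgroup S) (hND : N ≤ D)
    (hn : D ≤ normalizer (N : Set S)) (hsq : ∀ d ∈ D, d * d ∈ N) :
    Nat.card D ≤ 2 ^ k * Nat.card N := by
  haveI : (N.subgroupOf D).Normal := normal_subgroupOf_of_le_normalizer hn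
  have hexp : ∀ a : D ⧸ N.subgroupOf D, a * a = 1 := by
    intro a
    obtain ⟨d, rfl⟩ := QuotientGroup.mk_surjective a
    rw [← QuotientGroup.mk_mul, QuotientGroup.eq_one_iff, mem_subgroupOf]
    exact hsq d d.2
  have hcomm : IsMulCommutative (⊤ : Subgroup (D ⧸ N.subgroupOf D)) := by
    refine ⟨⟨fun a b => Subtype.ext ?_⟩⟩
    show (a : D ⧸ N.subgroupOf D) * b = b * a
    have hi : ∀ c : D ⧸ N.subgroupOf D, c⁻¹ = c := fun c => inv_eq_of_mul_eq_one_right (hexp c)
    conv_lhs => rw [← hi ((a : D ⧸ N.subgroupOf D) * b), mul_inv_rev, hi, hi]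
  have h := hr D (N.subgroupOf D) ⊤ hcomm fun a _ => by rw [pow_two]; exact hexp a
  rw [card_top] at h
  calc Nat.card D = Nat.card (D ⧸ N.subgroupOf D) * Nat.card (N.subgroupOf D) :=
        Subgroup.card_eq_card_quotient_mul_card_subgroup _
    _ ≤ 2 ^ k * Nat.card N := by
      rw [Nat.card_congr (subgroupOfEquivOfLe hND).toEquiv]
      exact Nat.mul_le_mul_right _ h

theorem card_sup_of_commute {P Q : Subgroup S} (hc : ∀ p ∈ P, ∀ q ∈ Q, Commute p q)
    (hd : P ⊓ Q = ⊥) : Nat.card ↥(P ⊔ Q) = Nat.card P * Nat.card Q := by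
  let f : P × Q →* S := MonoidHom.noncommCoprod P.subtype Q.subtype fun p q => hc p p.2 q q.2
  have hf : Function.Injective f := by
    rw [injective_iff_map_eq_one]
    rintro ⟨⟨p, hp⟩, ⟨q, hq⟩⟩ h
    have h' : p * q = 1 := h
    have hp' : p ∈ P ⊓ Q := ⟨hp, eq_inv_of_mul_eq_one_left h' ▸ Q.inv_mem hq⟩
    rw [hd, mem_bot] at hp'
    subst hp'
    rw [one_mul] at h'
    subst h'
    rfl
  have hr : f.range = P ⊔ Q := by
    refine le_antisymm ?_ (sup_le (fun p hp => ⟨(⟨p, hp⟩, 1), ?_⟩) (fun q hq => ⟨(1, ⟨q, hq⟩), ?_⟩))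
    · rintro _ ⟨⟨p, q⟩, rfl⟩
      exact mul_mem_sup p.2 q.2
    · show p * 1 = p
      rw [mul_one]
    · show 1 * q = q
      rw [one_mul]
  rw [← hr, ← Nat.card_congr (MonoidHom.ofInjective hf).toEquiv, Nat.card_prod]

theorem mem_sup_of_commute {P Q : Subgroup S} (hc : ∀ p ∈ P, ∀ q ∈ Q, Commute p q) {x : S}
    (hx : x ∈ P ⊔ Q) : ∃ p ∈ P, ∃ q ∈ Q, p * q = x := by
  have hn : Q ≤ normalizer (P : Set S) :=
    le_trans (fun q hq => mem_centralizer_iff.2 fun p hp => hc p hp q hq)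
      (centralizer_le_normalizer _)
  rw [← SetLike.mem_coe, coe_mul_of_right_le_normalizer_left _ _ hn] at hx
  obtain ⟨p, hp, q, hq, rfl⟩ := hx
  exact ⟨p, hp, q, hq, rfl⟩

variable (h2 : IsPGroup 2 S)

include h2

/-- The Frattini subgroup of a non-abelian subgroup with centre of order two. -/
theorem exists_frattini {P : Subgroup S} (hP : ¬ IsMulCommutative ↥P)
    (hZ : Nat.card (center ↥P) = 2) :
    ∃ M : Subgroup S, M ≤ P ∧ 4 * Nat.card M ≤ Nat.card P ∧ (∀ x ∈ P, x * x ∈ M) ∧ ZS P ≤ M ∧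
      normalizer (P : Set S) ≤ normalizer (M : Set S) := by
  haveI : Fact (Nat.Prime 2) := ⟨Nat.prime_two⟩
  have hPp : IsPGroup 2 P := h2.to_subgroup P
  haveI := hPp.isNilpotent
  have hnc : ¬ IsCyclic P := fun h => hP ⟨⟨fun a b => by
    letI := IsCyclic.commGroup (α := P)
    exact mul_comm a b⟩⟩
  have hne1 : (frattini ↥P).index ≠ 1 := fun h => by
    have h1 : (⊥ : Subgroup P) = ⊤ :=
      frattini_nongenerating (by rw [bot_sup_eq, index_eq_one.1 h])
    exact hP ⟨⟨fun a b => by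
      have ha : a ∈ (⊥ : Subgroup P) := h1 ▸ mem_top a
      rw [mem_bot] at ha
      rw [ha, one_mul, mul_one]⟩⟩
  have hne2 := Cfsg.Agent.Fusion.MetacyclicTop.index_frattini_ne (p := 2) hnc
  obtain ⟨k, hk⟩ := hPp.index (frattini ↥P)
  have h4 : 4 ≤ (frattini ↥P).index := by
    rcases k with _ | _ | k
    · exact absurd (by simpa using hk) hne1
    · exact absurd (by simpa using hk) hne2
    · rw [hk, pow_succ, pow_succ]
      have := Nat.two_pow_pos k
      omega
  refine ⟨(frattini ↥P).map P.subtype, map_subtype_le _, ?_, fun x hx => ?_, ?_, ?_⟩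
  · rw [Subgroup.card_subtype, ← (frattini ↥P).card_mul_index, mul_comm 4]
    exact Nat.mul_le_mul_left _ h4
  · exact ⟨(⟨x, hx⟩ : P) ^ 2, Cfsg.Agent.Solvable.Basics.pow_mem_frattini hPp _, by
      simp [pow_two]⟩
  · rw [← map_center]
    refine map_mono ?_
    have hne : commutator P ≠ ⊥ := fun h => hP ⟨⟨fun a b => by
      have hab : ⁅a, b⁆ ∈ commutator P := by
        rw [_root_.commutator_def]
        exact commutator_mem_commutator (mem_top a) (mem_top b)
      rw [h, mem_bot, commutatorElement_eq_one_iff_mul_comm] at hab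
      exact hab⟩⟩
    have hmeet := Cfsg.Agent.Cores.inf_center_ne_bot hne
    obtain ⟨w, hw, hw1⟩ := (bot_or_exists_ne_one _).resolve_left hmeet
    obtain ⟨z, -, -, hall⟩ := exists_gen hZ
    intro x hx
    rcases hall x hx with rfl | rfl
    · exact one_mem _
    · rcases hall w hw.2 with rfl | rfl
      · exact absurd rfl hw1
      · exact Cfsg.Agent.Coprime.commutator_le_frattini P hw.1
  · exact Cfsg.Agent.Coprime.OmegaDetect.normalizer_le_normalizer_char P _

variable {T : Subgroup S} {P Q : Subgroup S}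

theorem ZS_central (hPT : P ≤ T) (hnP : T ≤ normalizer (P : Set S))
    (hZP : Nat.card (center ↥P) = 2) {z : S} (hz : z ∈ ZS P) {t : S} (ht : t ∈ T) :
    Commute t z := by
  obtain ⟨w, hw, hw1, hall⟩ := exists_gen (card_ZS hZP)
  rcases hall z hz with rfl | rfl
  · exact Commute.one_right t
  · have hmem : t * z * t⁻¹ ∈ ZS P := by
      refine ⟨(le_normalizer_iff.1 hnP) t ht z hz.1, fun a ha => ?_⟩
      have ha' : t⁻¹ * a * t ∈ P := by
        simpa using (le_normalizer_iff.1 hnP) t⁻¹ (inv_mem ht) a ha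
      calc a * (t * z * t⁻¹) = t * ((t⁻¹ * a * t) * z) * t⁻¹ := by group
        _ = t * (z * (t⁻¹ * a * t)) * t⁻¹ := by rw [hz.2 _ ha']
        _ = t * z * t⁻¹ * a := by group
    rcases hall _ hmem with h | h
    · exact absurd (by simpa using h) hw1
    · exact (mul_inv_eq_iff_eq_mul.1 h)

omit h2 in
theorem coe_center_eq {x : S} : x ∈ ZS P ↔ x ∈ P ∧ ∀ a ∈ P, a * x = x * a := Iff.rfl

variable (hPT : P ≤ T) (hQT : Q ≤ T) (hnP : T ≤ normalizer (P : Set S))
  (hnQ : T ≤ normalizer (Q : Set S)) (hP : ¬ IsMulCommutative ↥P) (hQ : ¬ IsMulCommutative ↥Q)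
  (hZP : Nat.card (center ↥P) = 2) (hZQ : Nat.card (center ↥Q) = 2) (hne : ZS P ≠ ZS Q)

include hPT hQT hnP hnQ hP hQ hZP hZQ hne

theorem inf_eq_bot : P ⊓ Q = ⊥ := by
  haveI : Fact (Nat.Prime 2) := ⟨Nat.prime_two⟩
  haveI := (h2.to_subgroup P).isNilpotent
  by_contra hI
  haveI : ((P ⊓ Q).subgroupOf P).Normal := normal_subgroupOf_of_le_normalizer
    ((le_inf Subgroup.le_normalizer (hPT.trans hnQ)).trans inf_normalizer_le_normalizer_inf)
  have hne' : (P ⊓ Q).subgroupOf P ≠ ⊥ := fun h => hI (by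
    rw [← map_subgroupOf_eq_of_le (inf_le_left : P ⊓ Q ≤ P), h, Subgroup.map_bot])
  obtain ⟨w, hw, hw1⟩ :=
    (bot_or_exists_ne_one _).resolve_left (Cfsg.Agent.Cores.inf_center_ne_bot hne')
  have hwZ : (w : S) ∈ ZS P := ⟨w.2, fun a ha => congrArg Subtype.val (mem_center_iff.1 hw.2 ⟨a, ha⟩)⟩
  have hwQ : (w : S) ∈ ZS Q := by
    refine ⟨(mem_subgroupOf.1 hw.1).2, fun a ha => ?_⟩
    exact ZS_central h2 hPT hnP hZP hwZ (hQT ha)
  have hw1' : (w : S) ≠ 1 := fun h => hw1 (Subtype.ext h)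
  apply hne
  obtain ⟨z, -, -, hall⟩ := exists_gen (card_ZS hZP)
  obtain ⟨z', -, -, hall'⟩ := exists_gen (card_ZS hZQ)
  have e1 := (hall _ hwZ).resolve_left hw1'
  have e2 := (hall' _ hwQ).resolve_left hw1'
  refine le_antisymm (fun x hx => ?_) (fun x hx => ?_)
  · rcases hall x hx with rfl | rfl
    · exact one_mem _
    · exact e1 ▸ hwQ
  · rcases hall' x hx with rfl | rfl
    · exact one_mem _
    · exact e2 ▸ hwZ

theorem commute_elt {p q : S} (hp : p ∈ P) (hq : q ∈ Q) : Commute p q := by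
  have h := inf_eq_bot h2 hPT hQT hnP hnQ hP hQ hZP hZQ hne
  have h1 : p * q * p⁻¹ * q⁻¹ ∈ P ⊓ Q := by
    refine ⟨?_, ?_⟩
    · have := (le_normalizer_iff.1 hnP) q (hQT hq) p⁻¹ (inv_mem hp)
      simpa [mul_assoc] using P.mul_mem hp this
    · exact Q.mul_mem ((le_normalizer_iff.1 hnQ) p (hPT hp) q hq) (Q.inv_mem hq)
  rw [h, mem_bot, mul_inv_eq_one, mul_inv_eq_iff_eq_mul] at h1
  exact h1

theorem centralizer_le (hr : SectionalPRankLE 2 4 S) :
    T ⊓ centralizer ((P ⊔ Q : Subgroup S) : Set S) ≤ P ⊔ Q := by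
  have hd := inf_eq_bot h2 hPT hQT hnP hnQ hP hQ hZP hZQ hne
  have hc : ∀ p ∈ P, ∀ q ∈ Q, Commute p q := fun p hp q hq =>
    commute_elt h2 hPT hQT hnP hnQ hP hQ hZP hZQ hne hp hq
  intro c₀ hc₀
  by_contra hc₀P
  -- an element outside whose square is inside
  obtain ⟨c, hcC, hcP, hc2⟩ : ∃ c, c ∈ T ⊓ centralizer ((P ⊔ Q : Subgroup S) : Set S) ∧
      c ∉ P ⊔ Q ∧ c * c ∈ P ⊔ Q := by
    obtain ⟨k, hk⟩ := h2 c₀
    induction k generalizing c₀ with
    | zero =>
      rw [pow_zero, pow_one] at hk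
      exact absurd (hk ▸ one_mem _) hc₀P
    | succ k ih =>
      by_cases hsq : c₀ * c₀ ∈ P ⊔ Q
      · exact ⟨c₀, hc₀, hc₀P, hsq⟩
      · exact ih (c₀ := c₀ * c₀) (mul_mem hc₀ hc₀) hsq (by rw [← pow_two, ← pow_mul, ← pow_succ', hk])
  obtain ⟨MP, hMP, hMP4, hMPs, hMPz, hMPn⟩ := exists_frattini h2 hP hZP
  obtain ⟨MQ, hMQ, hMQ4, hMQs, hMQz, hMQn⟩ := exists_frattini h2 hQ hZQ
  let D := (P ⊔ Q) ⊔ zpowers c
  let N := MP ⊔ MQ
  have hDT : D ≤ T := sup_le (sup_le hPT hQT) (zpowers_le.2 hcC.1)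
  have hcz : ∀ x ∈ P ⊔ Q, ∀ y ∈ zpowers c, Commute x y := by
    intro x hx y hy
    obtain ⟨i, rfl⟩ := mem_zpowers_iff.1 hy
    exact (show Commute x c from hcC.2 x hx).zpow_right i
  have hND : N ≤ D := (sup_le_sup hMP hMQ).trans le_sup_left
  have hn : D ≤ normalizer (N : Set S) := hDT.trans
    ((le_inf (hnP.trans hMPn) (hnQ.trans hMQn)).trans fun t ht => by
      rw [mem_normalizer_iff_map_conj_eq, Subgroup.map_sup]
      congr 1
      · exact mem_normalizer_iff_map_conj_eq.1 ht.1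
      · exact mem_normalizer_iff_map_conj_eq.1 ht.2)
  have hcc : c * c ∈ N := by
    obtain ⟨p, hp, q, hq, hpq⟩ := mem_sup_of_commute hc hc2
    rw [← hpq]
    have hcC2 : ∀ x ∈ P ⊔ Q, Commute x (p * q) := fun x hx => by
      rw [hpq]; exact (show Commute x c from hcC.2 x hx).mul_right (hcC.2 x hx)
    refine mul_mem (mem_sup_left (hMPz ⟨hp, fun a ha => ?_⟩))
      (mem_sup_right (hMQz ⟨hq, fun a ha => ?_⟩))
    · have h1 : a * (p * q) = p * q * a := hcC2 a (mem_sup_left ha)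
      rw [mul_assoc p q a, (hc a ha q hq).symm.eq, ← mul_assoc, ← mul_assoc] at h1
      exact mul_right_cancel h1
    · have h1 : a * (p * q) = p * q * a := hcC2 a (mem_sup_right ha)
      rw [← mul_assoc, (hc p hp a ha).symm.eq, mul_assoc, mul_assoc] at h1
      exact mul_left_cancel h1
  have hsq : ∀ d ∈ D, d * d ∈ N := by
    intro d hd
    obtain ⟨x, hx, y, hy, rfl⟩ := mem_sup_of_commute hcz hd
    obtain ⟨p, hp, q, hq, rfl⟩ := mem_sup_of_commute hc hx
    rw [show p * q * y * (p * q * y) = p * q * (p * q) * (y * y) from (hcz _ hx y hy).symm.mul_mul_mul_comm _ _,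
      show p * q * (p * q) = p * p * (q * q) from (hc p hp q hq).symm.mul_mul_mul_comm _ _]
    refine mul_mem (mul_mem (mem_sup_left (hMPs p hp)) (mem_sup_right (hMQs q hq))) ?_
    obtain ⟨i, rfl⟩ := mem_zpowers_iff.1 hy
    rw [← zpow_add, ← two_mul, zpow_mul]
    exact Subgroup.zpow_mem _ (by rw [zpow_two]; exact hcc) i
  have h1 := card_le_of_squares hr N D hND hn hsq
  have hN : Nat.card N = Nat.card MP * Nat.card MQ :=
    card_sup_of_commute (fun a ha b hb => hc a (hMP ha) b (hMQ hb))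
      (le_bot_iff.1 ((inf_le_inf hMP hMQ).trans hd.le))
  have hlt : 2 * Nat.card ↥(P ⊔ Q) ≤ Nat.card D := by
    have h3 : Nat.card ↥(P ⊔ Q) ∣ Nat.card D := card_dvd_of_le le_sup_left
    obtain ⟨m, hm⟩ := h3
    rcases m with _ | _ | m
    · have := Nat.card_pos (α := D); omega
    · exfalso
      have h4 : P ⊔ Q = D := Subgroup.eq_of_le_of_card_ge le_sup_left (by rw [hm]; simp)
      exact hcP (h4.ge (mem_sup_right (mem_zpowers c)))
    · rw [hm, mul_comm]; exact Nat.mul_le_mul_left _ (by omega)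
  rw [card_sup_of_commute hc hd] at hlt
  have h5 : 4 * Nat.card MP * (4 * Nat.card MQ) ≤ Nat.card P * Nat.card Q :=
    Nat.mul_le_mul hMP4 hMQ4
  rw [hN] at h1
  have : 0 < Nat.card MP * Nat.card MQ := Nat.mul_pos Nat.card_pos Nat.card_pos
  nlinarith

end Cfsg.Agent.GenA.SectionalRankFour
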