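/-
The index of the centralizer of the centre of a non-abelian subgroup of a 2-group of sectional rank four.
-/
import Cfsg.Agent.GenA.SectionalRankFour

set_option autoImplicit false

namespace Cfsg.Agent.GenA.SectionalRankFour

open Subgroup Cfsg

variable {S : Type*} [Group S]

theorem cS_mul (a b : S) (P : Subgroup S) : cS (a * b) P = cS a (cS b P) := by
  ext x
  simp only [mem_cS, mul_inv_rev]
  simp [mul_assoc]

theorem mem_centralizer_one {z x : S} : x ∈ centralizer (zpowers z : Set S) ↔ Commute x z := by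
  refine ⟨fun h => ((h z (mem_zpowers z)) : Commute z x).symm, fun h y hy => ?_⟩
  obtain ⟨i, rfl⟩ := mem_zpowers_iff.1 hy
  exact (h.symm.zpow_left i).eq

theorem cS_ZS (g : S) (P : Subgroup S) : cS g (ZS P) = ZS (cS g P) := by
  ext x
  constructor
  · rintro ⟨y, hy, rfl⟩
    refine ⟨conj_mem_cS hy.1, ?_⟩
    rintro _ ⟨a, ha, rfl⟩
    rw [← map_mul, ← map_mul, hy.2 a ha]
  · rintro ⟨⟨y, hy, rfl⟩, hc⟩
    refine ⟨y, ⟨hy, fun a ha => (MulAut.conj g).injective ?_⟩, rfl⟩
    rw [map_mul, map_mul]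
    exact hc _ (conj_mem_cS ha)

theorem cS_eq {n : S} {P : Subgroup S} (h : n ∈ normalizer (P : Set S)) : cS n P = P :=
  mem_normalizer_iff_map_conj_eq.1 h

theorem normalizes_cS {n : S} {P T : Subgroup S} (hn : n ∈ normalizer (T : Set S))
    (h : T ≤ normalizer (P : Set S)) : T ≤ normalizer (cS n P : Set S) := by
  intro t ht
  have ht' : n⁻¹ * t * n ∈ T := by
    have := (mem_normalizer_iff.1 (inv_mem hn) t).1 ht
    simpa using this
  apply mem_normalizer_iff_map_conj_eq.2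
  show cS t (cS n P) = cS n P
  rw [← cS_mul, show t * n = n * (n⁻¹ * t * n) by group, cS_mul, cS_eq (h ht')]

theorem cS_le {n : S} {P T : Subgroup S} (hn : n ∈ normalizer (T : Set S)) (h : P ≤ T) :
    cS n P ≤ T :=
  (Subgroup.map_mono h).trans (cS_eq hn).le

theorem not_comm_cS {P : Subgroup S} (hP : ¬ IsMulCommutative ↥P) (g : S) :
    ¬ IsMulCommutative ↥(cS g P) := fun h => hP ⟨⟨fun a b => Subtype.ext (by
  have h1 := h.is_comm.comm ⟨g * a * g⁻¹, conj_mem_cS a.2⟩ ⟨g * b * g⁻¹, conj_mem_cS b.2⟩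
  have h2 : g * a * g⁻¹ * (g * b * g⁻¹) = g * b * g⁻¹ * (g * a * g⁻¹) := congrArg Subtype.val h1
  apply mul_left_cancel (a := g)
  apply mul_right_cancel (b := g⁻¹)
  show g * ((a : S) * b) * g⁻¹ = g * ((b : S) * a) * g⁻¹
  calc g * ((a : S) * b) * g⁻¹ = g * a * g⁻¹ * (g * b * g⁻¹) := by group
    _ = g * b * g⁻¹ * (g * a * g⁻¹) := h2
    _ = g * ((b : S) * a) * g⁻¹ := by group)⟩⟩

variable [Finite S]

theorem card_center_cS {P : Subgroup S} (hZ : Nat.card (center ↥P) = 2) (g : S) :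
    Nat.card (center ↥(cS g P)) = 2 := by
  rw [← Subgroup.card_subtype (cS g P), map_center, ← cS_ZS, card_cS, card_ZS hZ]

/-- If `P` and a disjoint commuting conjugate of it lie in a 2-group of sectional rank at most 4,
then `P` has sectional rank at most 2. -/
theorem sectional_two {P : Subgroup S} {g : S} (hr : SectionalPRankLE 2 4 S)
    (hd : P ⊓ cS g P = ⊥) (hc : ∀ p ∈ P, ∀ q ∈ cS g P, Commute p q) :
    SectionalPRankLE 2 2 ↥P := by
  intro H N _ A _ hA
  let f : H →* S := P.subtype.comp H.subtype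
  have hf : Function.Injective f := P.subtype_injective.comp H.subtype_injective
  let H₀ := (A.comap (QuotientGroup.mk' N)).map f
  let N₀ := N.map f
  have hNA : N ≤ A.comap (QuotientGroup.mk' N) := fun x hx => by
    rw [mem_comap, QuotientGroup.mk'_apply, (QuotientGroup.eq_one_iff x).2 hx]
    exact one_mem _
  have hH₀P : H₀ ≤ P := by
    rintro _ ⟨x, -, rfl⟩
    exact (x : P).2
  have hN₀ : N₀ ≤ H₀ := map_mono hNA
  have hsq : ∀ a ∈ H₀, a * a ∈ N₀ := by
    rintro _ ⟨x, hx, rfl⟩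
    refine ⟨x * x, (QuotientGroup.eq_one_iff _).1 ?_, map_mul f x x⟩
    have h := hA _ hx
    rw [QuotientGroup.mk'_apply, pow_two] at h
    exact h
  have hnN : H₀ ≤ normalizer (N₀ : Set S) := by
    rw [le_normalizer_iff]
    rintro _ ⟨a, -, rfl⟩ _ ⟨b, hb, rfl⟩
    exact ⟨a * b * a⁻¹, Subgroup.Normal.conj_mem inferInstance b hb a, by simp⟩
  have hc' : ∀ a ∈ H₀, ∀ b ∈ cS g H₀, Commute a b := fun a ha b hb =>
    hc a (hH₀P ha) b (map_mono hH₀P hb)
  have hd' : H₀ ⊓ cS g H₀ = ⊥ :=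
    le_bot_iff.1 ((inf_le_inf hH₀P (map_mono hH₀P)).trans hd.le)
  have hndN : N₀ ⊓ cS g N₀ = ⊥ :=
    le_bot_iff.1 ((inf_le_inf hN₀ (map_mono hN₀)).trans hd'.le)
  have h1 := card_le_of_squares hr (N₀ ⊔ cS g N₀) (H₀ ⊔ cS g H₀)
    (sup_le_sup hN₀ (map_mono hN₀)) ?_ ?_
  · rw [card_sup_of_commute (fun a ha b hb => hc' a (hN₀ ha) b (map_mono hN₀ hb)) hndN,
      card_sup_of_commute hc' hd', card_cS, card_cS] at h1
    have hH : Nat.card H₀ = Nat.card A * Nat.card N := by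
      rw [card_map_of_injective hf]
      have h2 := (A.comap (QuotientGroup.mk' N)).card_mul_index
      have h3 := A.card_mul_index
      rw [index_comap_of_surjective A (QuotientGroup.mk'_surjective N)] at h2
      have h4 := Subgroup.card_eq_card_quotient_mul_card_subgroup N
      have h5 : (0 : ℕ) < A.index := Nat.pos_of_ne_zero A.index_ne_zero_of_finite
      refine Nat.eq_of_mul_eq_mul_right h5 ?_
      rw [h2, h4, ← h3]
      ring
    have hN : Nat.card N₀ = Nat.card N := card_map_of_injective hf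
    rw [hH, hN] at h1
    have hpos : 0 < Nat.card N * Nat.card N := Nat.mul_pos Nat.card_pos Nat.card_pos
    have h6 : Nat.card A * Nat.card A ≤ 2 ^ 4 := by
      refine Nat.le_of_mul_le_mul_right ?_ hpos
      linarith
    nlinarith
  · intro d hd
    obtain ⟨a, ha, b, hb, rfl⟩ := mem_sup_of_commute hc' hd
    refine Subgroup.mul_mem _ ?_ ?_ <;> rw [mem_normalizer_iff_map_conj_eq, Subgroup.map_sup]
    · congr 1
      · exact mem_normalizer_iff_map_conj_eq.1 (hnN ha)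
      · refine mem_normalizer_iff_map_conj_eq.1 (centralizer_le_normalizer _ fun y hy => ?_)
        exact ((hc' a ha y (map_mono hN₀ hy)).eq).symm
    · congr 1
      · refine mem_normalizer_iff_map_conj_eq.1 (centralizer_le_normalizer _ fun y hy => ?_)
        exact (hc' y (hN₀ hy) b hb).eq
      · obtain ⟨b', hb', rfl⟩ := hb
        refine mem_normalizer_iff_map_conj_eq.1 ?_
        exact Subgroup.le_normalizer_map (MulAut.conj g).toMonoidHom ⟨b', hnN hb', rfl⟩
  · intro d hd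
    obtain ⟨a, ha, b, hb, rfl⟩ := mem_sup_of_commute hc' hd
    rw [show a * b * (a * b) = a * a * (b * b) from (hc' a ha b hb).symm.mul_mul_mul_comm _ _]
    obtain ⟨b', hb', rfl⟩ := hb
    refine mul_mem_sup (hsq a ha) ?_
    rw [← map_mul]
    exact mem_map_of_mem _ (hsq b' hb')

variable (h2 : IsPGroup 2 S) (hr : SectionalPRankLE 2 4 S)

include h2 hr

theorem index_two {P T : Subgroup S} (hP : ¬ IsMulCommutative ↥P) (hZP : Nat.card (center ↥P) = 2)
    (hT : T = centralizer ((ZS P : Subgroup S) : Set S)) (hnP : T ≤ normalizer (P : Set S)) :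
    T = ⊤ ∨ (SectionalPRankLE 2 2 ↥P ∧ T.index = 2) := by
  haveI : Fact (Nat.Prime 2) := ⟨Nat.prime_two⟩
  haveI := h2.isNilpotent
  rcases eq_or_ne T ⊤ with hTt | hTt
  · exact Or.inl hTt
  right
  obtain ⟨z, hz, hz1, hall⟩ := exists_gen (card_ZS hZP)
  have hTz : T = centralizer (zpowers z : Set S) := by
    rw [hT]
    congr 2
    refine le_antisymm (fun x hx => ?_) (zpowers_le.2 hz)
    rcases hall x hx with rfl | rfl
    · exact one_mem _
    · exact mem_zpowers x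
  have hmemT : ∀ {x : S}, x ∈ T ↔ Commute x z := fun {x} => by rw [hTz, mem_centralizer_one]
  have hPT : P ≤ T := fun x hx => hmemT.2 (hz.2 x hx)
  set N := normalizer (T : Set S) with hN
  have hTN : T ≤ N := Subgroup.le_normalizer
  have hlt : T < N := normalizerCondition_of_isNilpotent T (lt_top_iff_ne_top.2 hTt)
  obtain ⟨g, hgN, hgT⟩ := SetLike.exists_of_lt hlt
  set z' := g * z * g⁻¹ with hz'
  set Q := cS g P with hQdef
  have hzne : z' ≠ z := fun h => hgT (hmemT.2 (mul_inv_eq_iff_eq_mul.1 h))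
  -- facts for conjugates by elements of N
  have hconj : ∀ n ∈ N, cS n P ≤ T ∧ T ≤ normalizer (cS n P : Set S) ∧
      n * z * n⁻¹ ∈ ZS (cS n P) := fun n hn =>
    ⟨cS_le hn hPT, normalizes_cS hn hnP, cS_ZS n P ▸ conj_mem_cS hz⟩
  have hZne : ∀ a ∈ N, ∀ b ∈ N, a * z * a⁻¹ ≠ b * z * b⁻¹ → ZS (cS a P) ≠ ZS (cS b P) := by
    intro a ha b hb hab h
    obtain ⟨w, -, -, hw⟩ := exists_gen (card_ZS (card_center_cS hZP b))
    have h1 := hw _ (h ▸ (hconj a ha).2.2)
    have h2' := hw _ (hconj b hb).2.2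
    have hb1 : b * z * b⁻¹ ≠ 1 := fun e => hz1 (conj_eq_one_iff.1 e)
    have ha1 : a * z * a⁻¹ ≠ 1 := fun e => hz1 (conj_eq_one_iff.1 e)
    exact hab ((h1.resolve_left ha1).trans (h2'.resolve_left hb1).symm)
  have hP1 : cS 1 P = P := cS_eq (one_mem _)
  have hz1' : (1 : S) * z * 1⁻¹ = z := by group
  have hne : ZS P ≠ ZS Q := by
    have := hZne 1 (one_mem _) g hgN (by rw [hz1']; exact hzne.symm)
    rwa [hP1] at this
  have hQT := (hconj g hgN).1
  have hnQ := (hconj g hgN).2.1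
  have hQna := not_comm_cS hP g
  have hZQ := card_center_cS hZP g
  have hd := inf_eq_bot h2 hPT hQT hnP hnQ hP hQna hZP hZQ hne
  have hc : ∀ p ∈ P, ∀ q ∈ Q, Commute p q := fun p hp q hq =>
    commute_elt h2 hPT hQT hnP hnQ hP hQna hZP hZQ hne hp hq
  refine ⟨sectional_two hr hd hc, ?_⟩
  have hself := centralizer_le h2 hPT hQT hnP hnQ hP hQna hZP hZQ hne hr
  -- two conjugates of `z` only
  have htwo : ∀ n ∈ N, n * z * n⁻¹ = z ∨ n * z * n⁻¹ = z' := by
    intro n hn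
    by_contra hcon
    rw [not_or] at hcon
    have hR := not_comm_cS hP n
    apply hR
    have hZR := card_center_cS hZP n
    have h1 : ZS (cS n P) ≠ ZS P := by
      have := hZne n hn 1 (one_mem _) (by rw [hz1']; exact hcon.1)
      rwa [hP1] at this
    have h3 : ZS (cS n P) ≠ ZS Q := hZne n hn g hgN hcon.2
    have hle : cS n P ≤ P ⊔ Q := by
      refine le_trans (le_inf (hconj n hn).1 fun r hrR => ?_) hself
      intro x hx
      obtain ⟨p, hp, q, hq, rfl⟩ := mem_sup_of_commute hc hx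
      have e1 : Commute r p := commute_elt h2 (hconj n hn).1 hPT (hconj n hn).2.1 hnP hR hP hZR hZP h1 hrR hp
      have e2 : Commute r q := commute_elt h2 (hconj n hn).1 hQT (hconj n hn).2.1 hnQ hR hQna hZR hZQ h3 hrR hq
      exact (e1.mul_right e2).eq.symm
    refine ⟨⟨fun a b => Subtype.ext ?_⟩⟩
    obtain ⟨p, hp, q, hq, hpq⟩ := mem_sup_of_commute hc (hle b.2)
    have e1 : Commute (a : S) p := commute_elt h2 (hconj n hn).1 hPT (hconj n hn).2.1 hnP hR hP hZR hZP h1 a.2 hp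
    have e2 : Commute (a : S) q := commute_elt h2 (hconj n hn).1 hQT (hconj n hn).2.1 hnQ hR hQna hZR hZQ h3 a.2 hq
    show (a : S) * b = b * a
    rw [← hpq]
    exact (e1.mul_right e2).eq
  have hout : ∀ n ∈ N, n ∉ T → g⁻¹ * n ∈ T := by
    intro n hn hnT
    have h1 := (htwo n hn).resolve_left fun h => hnT (hmemT.2 (mul_inv_eq_iff_eq_mul.1 h))
    refine hmemT.2 ?_
    show g⁻¹ * n * z = z * (g⁻¹ * n)
    calc g⁻¹ * n * z = g⁻¹ * (n * z * n⁻¹) * n := by group
      _ = g⁻¹ * (g * z * g⁻¹) * n := by rw [h1]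
      _ = z * (g⁻¹ * n) := by group
  have hswap : ∀ n ∈ N, n ∉ T → cS n P = Q := by
    intro n hn hnT
    rw [show n = g * (g⁻¹ * n) by group, cS_mul, cS_eq (hnP (hout n hn hnT))]
  have hrel : T.relIndex N = 2 := by
    rw [relIndex, index_eq_two_iff_exists_notMem_and]
    refine ⟨⟨g, hgN⟩, fun h => hgT (mem_subgroupOf.1 h), fun b => ?_⟩
    by_cases hb : (b : S) ∈ T
    · exact Or.inr (mem_subgroupOf.2 hb)
    · refine Or.inl (mem_subgroupOf.2 ?_)
      by_contra hbg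
      have h1 := hout _ (mul_mem b.2 hgN) hbg
      have hnT : (T.subgroupOf N).Normal := normal_subgroupOf_of_le_normalizer le_rfl
      have h3 := hout _ b.2 hb
      -- `g⁻¹ b` and `g⁻¹ b g` in `T` force `g ∈ T`
      have h4 : g ∈ T := by
        have e : g = (g⁻¹ * b)⁻¹ * (g⁻¹ * ((b : S) * g)) := by group
        rw [e]; exact mul_mem (inv_mem h3) h1
      exact hgT h4
  suffices hNtop : N = ⊤ by rwa [hNtop, relIndex_top_right] at hrel
  by_contra hNt
  obtain ⟨h, hhN, hhn⟩ := SetLike.exists_of_lt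
    (normalizerCondition_of_isNilpotent N (lt_top_iff_ne_top.2 hNt))
  set w := h * z * h⁻¹ with hw
  set T₁ := cS h T with hT₁
  have hT₁N : T₁ ≤ N := cS_le hhN hTN
  have hT₁ne : T₁ ≠ T := fun e => hhn (mem_normalizer_iff_map_conj_eq.2 e)
  have hT₁mem : ∀ {x : S}, x ∈ T₁ ↔ Commute x w := fun {x} => by
    rw [hT₁, mem_cS, hmemT, hw]
    constructor
    · intro e
      show x * (h * z * h⁻¹) = h * z * h⁻¹ * x
      calc x * (h * z * h⁻¹) = h * ((h⁻¹ * x * h) * z) * h⁻¹ := by group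
        _ = h * (z * (h⁻¹ * x * h)) * h⁻¹ := by rw [e.eq]
        _ = h * z * h⁻¹ * x := by group
    · intro e
      show h⁻¹ * x * h * z = z * (h⁻¹ * x * h)
      calc h⁻¹ * x * h * z = h⁻¹ * (x * (h * z * h⁻¹)) * h := by group
        _ = h⁻¹ * (h * z * h⁻¹ * x) * h := by rw [e.eq]
        _ = z * (h⁻¹ * x * h) := by group
  have hrel₁ : T₁.relIndex N = 2 := by
    have hh := mem_normalizer_iff_map_conj_eq.1 hhN
    have h1 : (cS h T).relIndex (cS h N) = T.relIndex N :=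
      relIndex_map_map_of_injective _ _ (MulAut.conj h).injective
    rwa [show cS h N = N from hh, hrel] at h1
  have hwN : w ∈ N := hT₁N (conj_mem_cS (hPT hz.1))
  have hPQN : P ⊔ Q ≤ N := (sup_le hPT hQT).trans hTN
  have hCle : Nat.card ↥(P ⊔ Q) ≤ 2 * Nat.card ↥((P ⊔ Q) ⊓ T₁) := by
    have h1 : T₁.relIndex (P ⊔ Q) ≤ 2 :=
      hrel₁ ▸ relIndex_le_of_le_right hPQN (by rw [hrel₁]; norm_num)
    have h3 : T₁.relIndex (P ⊔ Q) * Nat.card ↥((P ⊔ Q) ⊓ T₁) = Nat.card ↥(P ⊔ Q) := by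
      rw [← inf_relIndex_left, inf_comm]
      rw [relIndex, ← Nat.card_congr (subgroupOfEquivOfLe (inf_le_right : T₁ ⊓ (P ⊔ Q) ≤ P ⊔ Q)).toEquiv]
      exact index_mul_card _
    rw [← h3]
    exact Nat.mul_le_mul_right _ h1
  rw [card_sup_of_commute hc hd, card_cS] at hCle
  have hPbig : 8 ≤ Nat.card P := by
    by_contra hlt8
    obtain ⟨k, hk⟩ := IsPGroup.iff_card.1 (h2.to_subgroup P)
    rcases lt_or_ge k 3 with hk3 | hk3
    · refine hP ?_
      rcases (show k = 0 ∨ k = 1 ∨ k = 2 by omega) with rfl | rfl | rfl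
      · haveI : Subsingleton P := (Nat.card_eq_one_iff_unique.1 (by simpa using hk)).1
        exact ⟨⟨fun a b => Subsingleton.elim _ _⟩⟩
      · haveI := isCyclic_of_prime_card (p := 2) (by simpa using hk)
        letI := IsCyclic.commGroup (α := P)
        exact ⟨⟨mul_comm⟩⟩
      · exact ⟨⟨(IsPGroup.commGroupOfCardEqPrimeSq (p := 2) (by simpa using hk)).mul_comm⟩⟩
    · have := Nat.pow_le_pow_right (show 1 ≤ 2 by norm_num) hk3
      omega
  -- `w` fixes `z`
  have hwT : w ∈ T := by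
    by_contra hwT
    have hwP := hswap w hwN hwT
    have hle : Nat.card ↥((P ⊔ Q) ⊓ T₁) ≤ Nat.card P := by
      have hsel : ∀ x : ↥((P ⊔ Q) ⊓ T₁), ∃ p : P, (p : S) * (w * p * w⁻¹) = x := by
        rintro ⟨x, hx, hxw⟩
        obtain ⟨p, hp, q, hq, rfl⟩ := mem_sup_of_commute hc hx
        have hwQ : cS w Q = P := by
          have hTn : w * w ∈ T := by
            have := mul_self_mem_of_index_two (hrel : (T.subgroupOf N).index = 2) ⟨w, hwN⟩
            exact mem_subgroupOf.1 this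
          rw [← hwP, ← cS_mul, cS_eq (hnP hTn)]
        have e1 : w * p * w⁻¹ ∈ Q := hwP ▸ conj_mem_cS hp
        have e2 : w * q * w⁻¹ ∈ P := hwQ ▸ conj_mem_cS hq
        have e3 : w * (p * q) * w⁻¹ = p * q := by rw [← (hT₁mem.1 hxw).eq, mul_inv_cancel_right]
        have e4 : (w * q * w⁻¹) * (w * p * w⁻¹) = p * q := by
          rw [(hc _ e2 _ e1).eq, ← e3]
          group
        have e5 : p⁻¹ * (w * q * w⁻¹) = q * (w * p * w⁻¹)⁻¹ := by
          have : w * q * w⁻¹ = p * q * (w * p * w⁻¹)⁻¹ := by rw [← e4]; group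
          rw [this]; group
        have e6 : p⁻¹ * (w * q * w⁻¹) ∈ P ⊓ Q :=
          ⟨P.mul_mem (P.inv_mem hp) e2, e5 ▸ Q.mul_mem hq (Q.inv_mem e1)⟩
        rw [hd, mem_bot, e5, mul_inv_eq_one] at e6
        exact ⟨⟨p, hp⟩, by rw [← e6]⟩
      choose f hf using hsel
      refine Nat.card_le_card_of_injective f fun x y e => Subtype.ext ?_
      rw [← hf x, ← hf y, e]
    nlinarith
  obtain ⟨g₁, hg₁, hg₁T⟩ : ∃ g₁ ∈ T₁, g₁ ∉ T := by
    by_contra! hcon
    exact hT₁ne (Subgroup.eq_of_le_of_card_ge hcon (card_cS h T).ge)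
  have hswap' := hswap g₁ (hT₁N hg₁) hg₁T
  have hfix : ∀ x ∈ P ⊔ Q, Commute x w := by
    have hPn : w ∈ normalizer (P : Set S) := hnP hwT
    have hQn : w ∈ normalizer (Q : Set S) := hnQ hwT
    have hsplit : (P ⊔ Q) ⊓ T₁ ≤ (P ⊓ T₁) ⊔ (Q ⊓ T₁) := by
      rintro x ⟨hx, hxw⟩
      obtain ⟨p, hp, q, hq, rfl⟩ := mem_sup_of_commute hc hx
      have e1 : w * p * w⁻¹ ∈ P := (mem_normalizer_iff.1 hPn p).1 hp
      have e2 : w * q * w⁻¹ ∈ Q := (mem_normalizer_iff.1 hQn q).1 hq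
      have e3 : w * p * w⁻¹ * (w * q * w⁻¹) = p * q := by
        rw [show w * p * w⁻¹ * (w * q * w⁻¹) = w * (p * q) * w⁻¹ by group,
          ← (hT₁mem.1 hxw).eq, mul_inv_cancel_right]
      have e4 : p⁻¹ * (w * p * w⁻¹) = q * (w * q * w⁻¹)⁻¹ := by
        have : w * p * w⁻¹ = p * q * (w * q * w⁻¹)⁻¹ := by rw [← e3]; group
        rw [this]; group
      have e5 : p⁻¹ * (w * p * w⁻¹) ∈ P ⊓ Q :=
        ⟨P.mul_mem (P.inv_mem hp) e1, e4 ▸ Q.mul_mem hq (Q.inv_mem e2)⟩
      rw [hd, mem_bot] at e5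
      have e6 := e5
      rw [e4, mul_inv_eq_one] at e6
      rw [inv_mul_eq_one] at e5
      refine mul_mem_sup ⟨hp, hT₁mem.2 ?_⟩ ⟨hq, hT₁mem.2 ?_⟩
      · exact (mul_inv_eq_iff_eq_mul.1 e5.symm).symm
      · exact (mul_inv_eq_iff_eq_mul.1 e6.symm).symm
    have hcC : ∀ a ∈ P ⊓ T₁, ∀ b ∈ Q ⊓ T₁, Commute a b := fun a ha b hb => hc a ha.1 b hb.1
    have h1 := Subgroup.card_le_of_le hsplit
    rw [card_sup_of_commute hcC
      (le_bot_iff.1 ((inf_le_inf inf_le_left inf_le_left).trans hd.le))] at h1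
    have hQc : Nat.card ↥(Q ⊓ T₁) = Nat.card ↥(P ⊓ T₁) := by
      have e : cS g₁ (P ⊓ T₁) = Q ⊓ T₁ := by
        rw [cS, Subgroup.map_inf _ _ _ (MulAut.conj g₁).injective]
        congr 1
        exact mem_normalizer_iff_map_conj_eq.1 (Subgroup.le_normalizer hg₁)
      rw [← e, card_cS]
    rw [hQc] at h1
    have hall' : P ≤ T₁ := by
      by_contra hn
      obtain ⟨m, hm⟩ := card_dvd_of_le (inf_le_left : P ⊓ T₁ ≤ P)
      rcases m with _ | _ | m
      · have := Nat.card_pos (α := P); omega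
      · exact hn ((Subgroup.eq_of_le_of_card_ge (inf_le_left : P ⊓ T₁ ≤ P) (by rw [hm]; simp)).ge.trans
          inf_le_right)
      · have h4 : 2 * Nat.card ↥(P ⊓ T₁) ≤ Nat.card P := by
          rw [hm, mul_comm]; exact Nat.mul_le_mul_left _ (by omega)
        nlinarith
    intro x hx
    obtain ⟨p, hp, q, hq, rfl⟩ := mem_sup_of_commute hc hx
    refine (hT₁mem.1 (mul_mem (hall' hp) ?_))
    obtain ⟨p', hp', rfl⟩ := (hswap'.ge hq)
    show g₁ * p' * g₁⁻¹ ∈ T₁
    exact mul_mem (mul_mem hg₁ (hall' hp')) (inv_mem hg₁)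
  have hwPQ : w ∈ P ⊔ Q := hself ⟨hwT, fun x hx => (hfix x hx).eq⟩
  obtain ⟨p, hp, q, hq, hpq⟩ := mem_sup_of_commute hc hwPQ
  have hpZ : p ∈ ZS P := by
    refine ⟨hp, fun a ha => ?_⟩
    have e : a * (p * q) = p * q * a := hpq.symm ▸ (hfix a (mem_sup_left ha)).eq
    rw [mul_assoc p q a, (hc a ha q hq).symm.eq, ← mul_assoc, ← mul_assoc] at e
    exact mul_right_cancel e
  have hqZ : q ∈ ZS Q := by
    refine ⟨hq, fun a ha => ?_⟩
    have e : a * (p * q) = p * q * a := hpq.symm ▸ (hfix a (mem_sup_right ha)).eq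
    rw [← mul_assoc, (hc p hp a ha).symm.eq, mul_assoc, mul_assoc] at e
    exact mul_left_cancel e
  have hq' : q = 1 ∨ q = z' := by
    obtain ⟨u, -, -, hu⟩ := exists_gen (card_ZS hZQ)
    have := hu _ (hconj g hgN).2.2
    rcases hu q hqZ with e | e
    · exact Or.inl e
    · exact Or.inr (e.trans (this.resolve_left fun e' => hz1 (conj_eq_one_iff.1 e')).symm)
  have hz'T : ∀ x ∈ T, Commute x z' := by
    intro x hx
    exact ZS_central h2 hQT hnQ hZQ (hconj g hgN).2.2 hx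
  have hg₁z : g₁ * z * g₁⁻¹ = z' :=
    (htwo g₁ (hT₁N hg₁)).resolve_left fun e => hg₁T (hmemT.2 (mul_inv_eq_iff_eq_mul.1 e))
  have hg₁w : g₁ * w * g₁⁻¹ = w := by rw [(hT₁mem.1 hg₁).eq, mul_inv_cancel_right]
  have hw1 : w ≠ 1 := fun e => hz1 (conj_eq_one_iff.1 e)
  rcases hall p hpZ with hp1 | hpz <;> rcases hq' with hq1 | hqz
  · exact hw1 (by rw [← hpq, hp1, hq1, one_mul])
  · have hwz : w = z' := by rw [← hpq, hp1, hqz, one_mul]
    rw [hwz, ← hg₁z] at hg₁w
    exact hzne (hg₁z ▸ (mul_left_cancel (mul_right_cancel hg₁w)))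
  · have hwz : w = z := by rw [← hpq, hpz, hq1, mul_one]
    rw [hwz, hg₁z] at hg₁w
    exact hzne hg₁w
  · have hwz : w = z * z' := by rw [← hpq, hpz, hqz]
    have hall2 : N ≤ T₁ := by
      intro x hx
      refine hT₁mem.2 ?_
      by_cases hxT : x ∈ T
      · rw [hwz]; exact (hmemT.1 hxT).mul_right (hz'T x hxT)
      · have ht := hout x hx hxT
        have e2 : x * z' * x⁻¹ = z := by
          have hxx : x * g ∈ T := by
            by_contra hxg
            have h4 := hout _ (mul_mem hx hgN) hxg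
            have : g = (g⁻¹ * x)⁻¹ * (g⁻¹ * (x * g)) := by group
            exact hgT (this ▸ mul_mem (inv_mem ht) h4)
          have e : x * g * z * (x * g)⁻¹ = z := by
            rw [(hmemT.1 hxx).eq, mul_inv_cancel_right]
          calc x * z' * x⁻¹ = x * g * z * (x * g)⁻¹ := by rw [hz']; group
            _ = z := e
        have e1 : x * z * x⁻¹ = z' := (htwo x hx).resolve_left fun e =>
          hxT (hmemT.2 (mul_inv_eq_iff_eq_mul.1 e))
        refine mul_inv_eq_iff_eq_mul.1 ?_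
        rw [hwz, show x * (z * z') * x⁻¹ = x * z * x⁻¹ * (x * z' * x⁻¹) by group, e1, e2]
        exact (hmemT.1 (hQT (hconj g hgN).2.2.1)).eq
    have h5 : T₁.relIndex N = 1 := relIndex_eq_one.2 hall2
    omega

end Cfsg.Agent.GenA.SectionalRankFour
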