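import Mathlib

/-!
Soft subgroups of finite `p`-groups (Héthelyi): the over-groups form a chain with steps of index `p`,
and the nilpotency classes grow one by one.
-/

set_option autoImplicit false
open scoped commutatorElement

namespace Cfsg.Agent.GenA.Soft

universe u

variable {p : ℕ} [hp : Fact p.Prime]

/-- `E` is abelian, self-centralizing and of index `p` in its normalizer. -/
def Soft (p : ℕ) {P : Type u} [Group P] (E : Subgroup P) : Prop :=
  IsMulCommutative E ∧ Subgroup.centralizer (E : Set P) ≤ E ∧ E.relIndex (Subgroup.normalizer (E : Set P)) = p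

section
variable {P : Type u} [Group P] [Finite P] {E : Subgroup P}

theorem eq_or_eq {A B C : Subgroup P} (h : A.relIndex C = p) (h1 : A ≤ B) (h2 : B ≤ C) : B = A ∨ B = C := by
  have hm := Subgroup.relIndex_mul_relIndex A B C h1 h2
  rw [h] at hm
  rcases (Nat.dvd_prime hp.out).mp ⟨_, hm.symm⟩ with h3 | h3
  · exact Or.inl (le_antisymm (Subgroup.relIndex_eq_one.mp h3) h1)
  · rw [h3, mul_eq_left₀ hp.out.ne_zero] at hm
    exact Or.inr (le_antisymm h2 (Subgroup.relIndex_eq_one.mp hm))

theorem card_mul_relIndex {A B : Subgroup P} (h : A ≤ B) : Nat.card A * A.relIndex B = Nat.card B := by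
  have := Subgroup.card_mul_index (A.subgroupOf B)
  rwa [Nat.card_congr (Subgroup.subgroupOfEquivOfLe h).toEquiv] at this

theorem inf_normalizer_gt (hP : IsPGroup p P) {A K : Subgroup P} (h : A < K) :
    ∃ y ∈ K, y ∈ Subgroup.normalizer (A : Set P) ∧ y ∉ A := by
  haveI : Group.IsNilpotent K := (hP.to_subgroup K).isNilpotent
  have hlt : A.subgroupOf K < Subgroup.normalizer ((A.subgroupOf K : Subgroup K) : Set K) :=
    Group.normalizerCondition_of_isNilpotent _ (lt_top_iff_ne_top.mpr fun he => h.not_ge (Subgroup.subgroupOf_eq_top.mp he))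
  obtain ⟨y, hy, hyn⟩ := Set.exists_of_ssubset hlt
  refine ⟨y, y.2, ?_, hyn⟩
  rw [Subgroup.mem_normalizer_iff]
  intro z
  by_cases hz : z ∈ K
  · exact Subgroup.mem_normalizer_iff.mp hy ⟨z, hz⟩
  · refine ⟨fun h' => absurd (h.le h') hz, fun h' => absurd ?_ hz⟩
    have := mul_mem (mul_mem (inv_mem y.2) (h.le h')) y.2
    simpa [mul_assoc] using this

theorem Soft.eq_or_normalizer_le (hP : IsPGroup p P) (hE : Soft p E) {K : Subgroup P} (h : E ≤ K) :
    K = E ∨ Subgroup.normalizer (E : Set P) ≤ K := by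
  rcases eq_or_lt_of_le h with h' | h'
  · exact Or.inl h'.symm
  · right
    obtain ⟨y, hyK, hyN, hyE⟩ := inf_normalizer_gt hP h'
    rcases eq_or_eq hE.2.2 (le_inf h Subgroup.le_normalizer) inf_le_right with h2 | h2
    · exact absurd (h2 ▸ (⟨hyK, hyN⟩ : y ∈ K ⊓ Subgroup.normalizer (E : Set P))) hyE
    · exact h2 ▸ inf_le_left

theorem conj_centralizer {A : Subgroup P} (h : Subgroup.centralizer (A : Set P) ≤ A) (g : P) :
    Subgroup.centralizer ((A.map (MulAut.conj g).toMonoidHom : Subgroup P) : Set P) ≤ A.map (MulAut.conj g).toMonoidHom := by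
  intro x hx
  refine ⟨g⁻¹ * x * g, h ?_, by simp [mul_assoc]⟩
  rw [Subgroup.mem_centralizer_iff] at hx ⊢
  intro a ha
  have := hx (g * a * g⁻¹) ⟨a, ha, rfl⟩
  calc a * (g⁻¹ * x * g) = g⁻¹ * ((g * a * g⁻¹) * x) * g := by group
    _ = g⁻¹ * (x * (g * a * g⁻¹)) * g := by rw [this]
    _ = g⁻¹ * x * g * a := by group

theorem commutative_of_generators {S : Subgroup P} (h : S ≤ Subgroup.centralizer (S : Set P)) : IsMulCommutative S :=
  ⟨⟨fun a b => Subtype.ext (Subgroup.mem_centralizer_iff.mp (h b.2) a a.2)⟩⟩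

/-- The normalizer of a soft subgroup has index `p` in its own normalizer. -/
theorem Soft.base (hP : IsPGroup p P) (hE : Soft p E) (hN : Subgroup.normalizer (E : Set P) ≠ ⊤) :
    (Subgroup.normalizer (E : Set P)).relIndex
      (Subgroup.normalizer ((Subgroup.normalizer (E : Set P) : Subgroup P) : Set P)) = p := by
  classical
  set N := Subgroup.normalizer (E : Set P) with hNdef
  set L := Subgroup.normalizer (N : Set P) with hLdef
  have hEN : E ≤ N := Subgroup.le_normalizer
  have hNL : N ≤ L := Subgroup.le_normalizer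
  haveI := hP.isNilpotent
  obtain ⟨g, hgL, hgN⟩ := Set.exists_of_ssubset (Group.normalizerCondition_of_isNilpotent N (lt_top_iff_ne_top.mpr hN))
  let c : L → Subgroup P := fun l => E.map (MulAut.conj (l : P)).toMonoidHom
  have hcN : ∀ l : L, c l ≤ N := by
    intro l
    refine (Subgroup.map_mono hEN).trans ?_
    exact (Subgroup.mem_normalizer_iff_map_conj_eq.mp l.2).le
  have hcard : ∀ l : L, Nat.card (c l) = Nat.card E := fun l => Subgroup.card_map_of_injective (MulAut.conj (l : P)).injective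
  have hNp : Nat.card E * p = Nat.card N := by rw [← card_mul_relIndex hEN, hE.2.2]
  set E' := c ⟨g, hgL⟩
  have hne : E' ≠ E := fun h => hgN (Subgroup.mem_normalizer_iff_map_conj_eq.mpr h)
  have hnle : ¬ E' ≤ E := fun h => hne (Subgroup.eq_of_le_of_card_ge h (hcard ⟨g, hgL⟩).ge)
  have hsup : E ⊔ E' = N := by
    rcases eq_or_eq hE.2.2 (le_sup_left : E ≤ E ⊔ E') (sup_le hEN (hcN _)) with h | h
    · exact absurd (le_sup_right.trans h.le) hnle
    · exact h
  set Zc := N ⊓ Subgroup.centralizer (N : Set P) with hZc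
  have hcomm : ∀ l : L, IsMulCommutative (c l) := fun l => by haveI := hE.1; infer_instance
  have hcap : E ⊓ E' ≤ Zc := by
    refine le_inf (inf_le_left.trans hEN) ?_
    rw [Subgroup.le_centralizer_iff, ← hsup, sup_le_iff]
    constructor
    · haveI := hE.1
      exact (Subgroup.le_centralizer E).trans (Subgroup.centralizer_le inf_le_left)
    · haveI := hcomm ⟨g, hgL⟩
      exact (Subgroup.le_centralizer E').trans (Subgroup.centralizer_le inf_le_right)
  have hrel : E.relIndex E' = p := by
    have h1 := hE.2.2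
    have h2 : E.relIndex N = (E.subgroupOf N).relIndex (E'.subgroupOf N) := by
      haveI : (E.subgroupOf N).Normal := Subgroup.normal_subgroupOf_iff_le_normalizer hEN |>.mpr le_rfl
      rw [← Subgroup.relIndex_sup_right (K := E.subgroupOf N) (H := E'.subgroupOf N), ← Subgroup.subgroupOf_sup (hcN _) hEN, sup_comm, hsup, Subgroup.subgroupOf_self,
        Subgroup.relIndex_top_right]
      rfl
    rw [h1, Subgroup.relIndex_subgroupOf (hcN _)] at h2
    exact h2.symm
  have hcapcard : Nat.card ↥(E ⊓ E') * p = Nat.card E := by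
    rw [← hcard ⟨g, hgL⟩, ← card_mul_relIndex (inf_le_right : E ⊓ E' ≤ E'), Subgroup.inf_relIndex_right, hrel]
  have hmem : ∀ l : L, Zc ≤ c l := fun l => le_trans (inf_le_right.trans (Subgroup.centralizer_le (hcN l))) (conj_centralizer hE.2.1 _)
  have hZeq : Zc = E ⊓ E' := le_antisymm (le_inf (by
      refine le_trans (inf_le_right.trans (Subgroup.centralizer_le hEN)) hE.2.1) (hmem _)) hcap
  rw [hZeq] at hmem
  -- count the conjugates
  have hfib : ∀ l l' : L, c l = c l' ↔ (l : P)⁻¹ * l' ∈ N := by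
    intro l l'
    rw [hNdef, Subgroup.mem_normalizer_iff_map_conj_eq]
    constructor
    · intro h
      show E.map (MulAut.conj ((l : P)⁻¹ * l')).toMonoidHom = E
      have h2 := congrArg (Subgroup.map (MulAut.conj (l : P)⁻¹).toMonoidHom) h
      simp only [c, Subgroup.map_map] at h2
      convert h2.symm using 1
      · congr 1; ext x; simp [mul_assoc]
      · symm; convert Subgroup.map_id E using 2; ext x; simp [mul_assoc]
    · intro h
      show E.map _ = E.map _
      conv_lhs => rw [← h]
      rw [Subgroup.map_map]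
      congr 1; ext x; simp [mul_assoc]
  let cq : L ⧸ N.subgroupOf L → Subgroup P := fun x => c x.out
  have hcq : Function.Injective cq := by
    intro x y h
    rw [← QuotientGroup.out_eq' x, ← QuotientGroup.out_eq' y, QuotientGroup.eq, Subgroup.mem_subgroupOf]
    simpa using (hfib _ _).mp h
  let D := E ⊓ E'
  have hbound : Nat.card (L ⧸ N.subgroupOf L) * (Nat.card E - Nat.card D) ≤ Nat.card N - Nat.card D := by
    haveI := Fintype.ofFinite (L ⧸ N.subgroupOf L)
    let f : (x : L ⧸ N.subgroupOf L) → Set P := fun x => (cq x : Set P) \ (D : Set P)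
    have hdisj : ∀ x y, x ≠ y → Disjoint (f x) (f y) := by
      intro x y hxy
      rw [Set.disjoint_left]
      rintro z ⟨hzx, hzD⟩ ⟨hzy, -⟩
      apply hzD
      -- z lies in two distinct conjugates, hence is central in N
      have hxy' : cq x ≠ cq y := fun h => hxy (hcq h)
      have h1 : Nat.card (cq x) < Nat.card ↥(cq x ⊔ cq y) := by
        refine lt_of_le_of_ne (Subgroup.card_le_of_le le_sup_left) fun h => hxy' ?_
        have := Subgroup.eq_of_le_of_card_ge (le_sup_left : cq x ≤ cq x ⊔ cq y) h.ge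
        exact (Subgroup.eq_of_le_of_card_ge (this.symm ▸ le_sup_right) (by rw [hcard, hcard])).symm
      have hd : (cq x).relIndex N = p := by
        have h2 := card_mul_relIndex (hcN x.out)
        rw [hcard, ← hNp] at h2
        exact Nat.eq_of_mul_eq_mul_left Nat.card_pos h2
      rcases eq_or_eq hd (le_sup_left : cq x ≤ cq x ⊔ cq y) (sup_le (hcN _) (hcN _)) with h | h
      · rw [h] at h1; exact absurd h1 (lt_irrefl _)
      · show z ∈ E ⊓ E'
        rw [← hZeq]
        refine ⟨hcN _ hzx, ?_⟩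
        show z ∈ Subgroup.centralizer (N : Set P)
        rw [← h]
        have hle : cq x ⊔ cq y ≤ Subgroup.centralizer {z} := by
          refine sup_le ?_ ?_
          · intro w hw
            haveI := hcomm x.out
            exact Subgroup.mem_centralizer_singleton_iff.mpr (congrArg Subtype.val (mul_comm' (⟨w, hw⟩ : cq x) ⟨z, hzx⟩))
          · intro w hw
            haveI := hcomm y.out
            exact Subgroup.mem_centralizer_singleton_iff.mpr (congrArg Subtype.val (mul_comm' (⟨w, hw⟩ : cq y) ⟨z, hzy⟩))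
        rw [Subgroup.mem_centralizer_iff]
        intro w hw
        exact Subgroup.mem_centralizer_singleton_iff.mp (hle hw)
    have hfc : ∀ x, (f x).ncard = Nat.card E - Nat.card D := by
      intro x
      show ((cq x : Set P) \ (D : Set P)).ncard = _
      rw [Set.ncard_sdiff (hmem x.out), ← Nat.card_coe_set_eq, ← Nat.card_coe_set_eq]
      show Nat.card (c x.out) - _ = _
      rw [hcard]; rfl
    have hsub : (⋃ x, f x) ⊆ (N : Set P) \ (D : Set P) :=
      Set.iUnion_subset fun x z hz => ⟨hcN _ hz.1, hz.2⟩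
    have h3 := Set.ncard_le_ncard hsub (Set.toFinite _)
    rw [Set.ncard_sdiff (show (D : Set P) ⊆ N from inf_le_left.trans hEN), ← Nat.card_coe_set_eq (s := (N : Set P)), ← Nat.card_coe_set_eq (s := (D : Set P))] at h3
    refine le_trans (le_of_eq ?_) h3
    rw [Set.ncard_iUnion_of_finite (fun x => Set.toFinite _) (fun x y hxy => hdisj x y hxy), finsum_eq_sum_of_fintype,
      Finset.sum_congr rfl fun x _ => hfc x, Finset.sum_const, Finset.card_univ, Nat.card_eq_fintype_card, smul_eq_mul]
  have hidx : N.relIndex L = Nat.card (L ⧸ N.subgroupOf L) := Subgroup.index_eq_card _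
  obtain ⟨j, hj⟩ := (hP.to_subgroup L).index (N.subgroupOf L)
  have hj' : N.relIndex L = p ^ j := hj
  rcases j with _ | _ | j
  · exfalso
    rw [pow_zero, Subgroup.relIndex_eq_one] at hj'
    exact hgN (hj' hgL)
  · rw [hj', pow_one]
  · exfalso
    rw [← hidx, hj', ← hNp, ← hcapcard] at hbound
    have hD : 0 < Nat.card D := Nat.card_pos
    have hp2 := hp.out.two_le
    have h2 : p ^ 2 ≤ p ^ (j + 1 + 1) := Nat.pow_le_pow_right hp.out.pos (by omega)
    obtain ⟨q, rfl⟩ : ∃ q, p = q + 2 := ⟨p - 2, by omega⟩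
    change (q + 2) ^ (j + 1 + 1) * (Nat.card D * (q + 2) - Nat.card D) ≤ Nat.card D * (q + 2) * (q + 2) - Nat.card D at hbound
    have e1 : Nat.card D * (q + 2) - Nat.card D = Nat.card D * (q + 1) := by
      rw [show Nat.card D * (q + 2) = Nat.card D * (q + 1) + Nat.card D by ring, Nat.add_sub_cancel]
    have e2 : Nat.card D * (q + 2) * (q + 2) - Nat.card D = Nat.card D * ((q + 1) * (q + 3)) := by
      rw [show Nat.card D * (q + 2) * (q + 2) = Nat.card D * ((q + 1) * (q + 3)) + Nat.card D by ring, Nat.add_sub_cancel]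
    rw [e1, e2] at hbound
    have h3 : (q + 2) ^ 2 * (Nat.card D * (q + 1)) ≤ Nat.card D * ((q + 1) * (q + 3)) :=
      le_trans (Nat.mul_le_mul_right _ h2) hbound
    nlinarith [Nat.mul_pos hD (Nat.succ_pos q)]

end

/-- Data transported to a quotient by a normal subgroup below `M`. -/
theorem soft_map {P : Type u} [Group P] [Finite P] {M : Subgroup P} (Z : Subgroup P) [Z.Normal] (hZM : Z ≤ M)
    (hcomm : IsMulCommutative ↥(M.map (QuotientGroup.mk' Z)))
    (hcen : ∀ x, (∀ m ∈ M, ⁅x, m⁆ ∈ Z) → x ∈ M)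
    (hrel : M.relIndex (Subgroup.normalizer (M : Set P)) = p) : Soft p (M.map (QuotientGroup.mk' Z)) := by
  set q := QuotientGroup.mk' Z
  have hq : Function.Surjective q := QuotientGroup.mk'_surjective Z
  have hker : q.ker ≤ M := by rw [QuotientGroup.ker_mk']; exact hZM
  have hcm : (M.map q).comap q = M := Subgroup.comap_map_eq_self hker
  refine ⟨hcomm, fun y hy => ?_, ?_⟩
  · obtain ⟨x, rfl⟩ := hq y
    refine Subgroup.mem_map_of_mem q (hcen x fun m hm => ?_)
    rw [← QuotientGroup.ker_mk' Z, MonoidHom.mem_ker, map_commutatorElement, commutatorElement_eq_one_iff_mul_comm]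
    exact (Subgroup.mem_centralizer_iff.mp hy (q m) ⟨m, hm, rfl⟩).symm
  · have hN : (Subgroup.normalizer (M.map q : Set (P ⧸ Z))).comap q = Subgroup.normalizer (M : Set P) := by
      rw [Subgroup.comap_normalizer_eq_of_surjective _ hq, hcm]
    have := Subgroup.relIndex_comap (H := M.map q) q (Subgroup.normalizer (M : Set P))
    rw [hcm, hrel] at this
    rw [← Subgroup.map_comap_eq_self_of_surjective hq (Subgroup.normalizer (M.map q : Set (P ⧸ Z))), hN]
    exact this.symm

theorem normalizer_commutative {P : Type u} [Group P] [Finite P] {E : Subgroup P} (hE : Soft p E)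
    (Z : Subgroup P) [Z.Normal] (hT : ∀ x ∈ Subgroup.normalizer (E : Set P), ∀ e ∈ E, ⁅x, e⁆ ∈ Z) :
    IsMulCommutative ↥((Subgroup.normalizer (E : Set P)).map (QuotientGroup.mk' Z)) := by
  set q := QuotientGroup.mk' Z
  set N := Subgroup.normalizer (E : Set P)
  have hc : ∀ x ∈ N, ∀ e ∈ E, q x * q e = q e * q x := fun x hx e he => by
    rw [← commutatorElement_eq_one_iff_mul_comm, ← map_commutatorElement, ← MonoidHom.mem_ker, QuotientGroup.ker_mk']
    exact hT x hx e he
  obtain ⟨x, hx, hxE⟩ : ∃ x ∈ N, x ∉ E := by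
    by_contra h
    push Not at h
    have := hE.2.2
    rw [Subgroup.relIndex_eq_one.mpr h] at this
    exact hp.out.ne_one this.symm
  have hgen : E ⊔ Subgroup.zpowers x = N := by
    rcases eq_or_eq hE.2.2 (le_sup_left : E ≤ E ⊔ Subgroup.zpowers x) (sup_le Subgroup.le_normalizer (Subgroup.zpowers_le.mpr hx)) with h | h
    · exact absurd (h ▸ Subgroup.mem_sup_right (Subgroup.mem_zpowers x)) hxE
    · exact h
  refine commutative_of_generators ?_
  rw [← hgen, Subgroup.map_sup, sup_le_iff, MonoidHom.map_zpowers, Subgroup.zpowers_le]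
  constructor
  · rintro _ ⟨e, he, rfl⟩
    rw [Subgroup.mem_centralizer_iff, ← MonoidHom.map_zpowers, ← Subgroup.map_sup, hgen]
    rintro _ ⟨y, hy, rfl⟩
    exact hc y hy e he
  · rw [Subgroup.mem_centralizer_iff]
    intro w hw
    have hle : E.map q ⊔ Subgroup.zpowers (q x) ≤ Subgroup.centralizer {q x} := by
      refine sup_le ?_ (Subgroup.zpowers_le.mpr (Subgroup.mem_centralizer_singleton_iff.mpr rfl))
      rintro _ ⟨e, he, rfl⟩
      exact Subgroup.mem_centralizer_singleton_iff.mpr (hc x hx e he).symm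
    exact Subgroup.mem_centralizer_singleton_iff.mp (hle hw)

theorem cen_normalizer {P : Type u} [Group P] [Finite P] {E : Subgroup P} (Z : Subgroup P) (hZE : Z ≤ E) :
    ∀ x, (∀ m ∈ E, ⁅x, m⁆ ∈ Z) → x ∈ Subgroup.normalizer (E : Set P) := by
  intro x hx
  rw [Subgroup.mem_normalizer_iff_map_conj_eq]
  refine Subgroup.eq_of_le_of_card_ge ?_ (Subgroup.card_map_of_injective (MulAut.conj x).injective).ge
  rintro _ ⟨m, hm, rfl⟩
  have : x * m * x⁻¹ = ⁅x, m⁆ * m := by rw [commutatorElement_def]; group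
  show x * m * x⁻¹ ∈ E
  rw [this]; exact mul_mem (hZE (hx m hm)) hm

/-- The chain of over-groups of a soft subgroup. -/
theorem chain : ∀ (n : ℕ) (P : Type u) [Group P] [Finite P], Nat.card P = n → IsPGroup p P → ∀ E : Subgroup P, Soft p E →
    (∀ K L : Subgroup P, E ≤ K → E ≤ L → K ≤ L ∨ L ≤ K) ∧
      ∀ K : Subgroup P, E ≤ K → K ≠ ⊤ → K.relIndex (Subgroup.normalizer (K : Set P)) = p := by
  intro n
  induction n using Nat.strongRecOn with
  | ind n ih =>
  intro P _ _ hn hP E hE
  set N := Subgroup.normalizer (E : Set P) with hNdef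
  by_cases hN : N = ⊤
  · have hmem : ∀ K : Subgroup P, E ≤ K → K = E ∨ K = ⊤ := fun K hK =>
      (hE.eq_or_normalizer_le hP hK).imp id fun h => top_le_iff.mp (hN ▸ h)
    refine ⟨fun K L hK hL => ?_, fun K hK hKt => ?_⟩
    · rcases hmem K hK with rfl | rfl
      · exact Or.inl hL
      · exact Or.inr le_top
    · rcases hmem K hK with rfl | rfl
      · exact hE.2.2
      · exact absurd rfl hKt
  set Z := Subgroup.center P
  have hZE : Z ≤ E := (Subgroup.center_le_centralizer _).trans hE.2.1
  haveI : Nontrivial P := by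
    by_contra h
    rw [not_nontrivial_iff_subsingleton] at h
    exact hN (Subsingleton.elim _ _)
  have hlt : Nat.card (P ⧸ Z) < n := by
    rw [← hn, Subgroup.card_eq_card_quotient_mul_card_subgroup Z]
    exact lt_mul_of_one_lt_right Nat.card_pos (Finite.one_lt_card_iff_nontrivial.mpr hP.center_nontrivial)
  set q := QuotientGroup.mk' Z
  have hq : Function.Surjective q := QuotientGroup.mk'_surjective Z
  -- transfer from a soft image
  have key : ∀ M : Subgroup P, Z ≤ M → Soft p (M.map q) →
      (∀ K L : Subgroup P, M ≤ K → M ≤ L → K ≤ L ∨ L ≤ K) ∧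
      ∀ K : Subgroup P, M ≤ K → K ≠ ⊤ → K.relIndex (Subgroup.normalizer (K : Set P)) = p := by
    intro M hZM hM
    obtain ⟨h1, h2⟩ := ih _ hlt (P ⧸ Z) rfl (hP.to_quotient Z) _ hM
    have hcm : ∀ K : Subgroup P, M ≤ K → (K.map q).comap q = K := fun K hK =>
      Subgroup.comap_map_eq_self (by rw [QuotientGroup.ker_mk']; exact hZM.trans hK)
    refine ⟨fun K L hK hL => ?_, fun K hK hKt => ?_⟩
    · rw [← hcm K hK, ← hcm L hL]
      exact (h1 _ _ (Subgroup.map_mono hK) (Subgroup.map_mono hL)).imp Subgroup.comap_mono Subgroup.comap_mono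
    · have hne : K.map q ≠ ⊤ := fun h => hKt (by rw [← hcm K hK, h, Subgroup.comap_top])
      have := Subgroup.relIndex_comap (H := K.map q) q (Subgroup.normalizer (K : Set P))
      rw [hcm K hK] at this
      rw [this, ← h2 _ (Subgroup.map_mono hK) hne]
      congr 1
      rw [← Subgroup.map_comap_eq_self_of_surjective hq (Subgroup.normalizer (K.map q : Set (P ⧸ Z))),
        Subgroup.comap_normalizer_eq_of_surjective _ hq, hcm K hK]
  by_cases hT : ∀ x ∈ N, ∀ e ∈ E, ⁅x, e⁆ ∈ Z
  · have hs : Soft p (N.map q) := soft_map Z (hZE.trans Subgroup.le_normalizer) (normalizer_commutative hE Z hT)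
      (fun x hx => cen_normalizer Z hZE x fun m hm => hx m (Subgroup.le_normalizer hm)) (hE.base hP hN)
    obtain ⟨h1, h2⟩ := key N (hZE.trans Subgroup.le_normalizer) hs
    refine ⟨fun K L hK hL => ?_, fun K hK hKt => ?_⟩
    · rcases hE.eq_or_normalizer_le hP hK with rfl | hK'
      · exact Or.inl hL
      rcases hE.eq_or_normalizer_le hP hL with rfl | hL'
      · exact Or.inr hK
      exact h1 K L hK' hL'
    · rcases hE.eq_or_normalizer_le hP hK with rfl | hK'
      · exact hE.2.2
      · exact h2 K hK' hKt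
  · have hs : Soft p (E.map q) := by
      haveI := hE.1
      refine soft_map Z hZE inferInstance (fun x hx => ?_) hE.2.2
      have hxN := cen_normalizer Z hZE x hx
      by_contra hxE
      apply hT
      have hgen : E ⊔ Subgroup.zpowers x = N := by
        rcases eq_or_eq hE.2.2 (le_sup_left : E ≤ E ⊔ Subgroup.zpowers x) (sup_le Subgroup.le_normalizer (Subgroup.zpowers_le.mpr hxN)) with h | h
        · exact absurd (h ▸ Subgroup.mem_sup_right (Subgroup.mem_zpowers x)) hxE
        · exact h
      intro y hy e he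
      have hle : N.map q ≤ Subgroup.centralizer {q e} := by
        rw [← hgen, Subgroup.map_sup, sup_le_iff, MonoidHom.map_zpowers, Subgroup.zpowers_le]
        constructor
        · rintro _ ⟨e', he', rfl⟩
          exact Subgroup.mem_centralizer_singleton_iff.mpr (by rw [← map_mul, ← map_mul, setLike_mul_comm he' he])
        · refine Subgroup.mem_centralizer_singleton_iff.mpr ?_
          rw [← commutatorElement_eq_one_iff_mul_comm, ← map_commutatorElement, ← MonoidHom.mem_ker, QuotientGroup.ker_mk']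
          exact hx e he
      rw [← QuotientGroup.ker_mk' Z, MonoidHom.mem_ker, map_commutatorElement, commutatorElement_eq_one_iff_mul_comm]
      exact Subgroup.mem_centralizer_singleton_iff.mp (hle ⟨y, hy, rfl⟩)
    exact key E hZE hs

section
variable {P : Type u} [Group P] [Finite P] {E : Subgroup P}

/-- Commutators of the normalizer with `E` are central in every proper over-group. -/
theorem commute_of_proper (hP : IsPGroup p P) (hE : Soft p E) (K : Subgroup P) (hK : E ≤ K) (hKt : K ≠ ⊤)
    (x : P) (hx : x ∈ Subgroup.normalizer (E : Set P)) (e : P) (he : e ∈ E) : ∀ k ∈ K, ⁅x, e⁆ * k = k * ⁅x, e⁆ := by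
  induction K using WellFoundedLT.induction generalizing x e with
  | ind K ih =>
  haveI := hE.1
  obtain ⟨hch, hrel⟩ := chain _ P rfl hP E hE
  set N := Subgroup.normalizer (E : Set P)
  set t := ⁅x, e⁆ with ht
  have htE : t ∈ E := by
    rw [ht, commutatorElement_def]
    exact mul_mem ((Subgroup.mem_normalizer_iff.mp hx e).mp he) (inv_mem he)
  rcases eq_or_lt_of_le hK with rfl | hlt
  · exact fun k hk => setLike_mul_comm htE hk
  obtain ⟨A, ⟨hEA, hAK⟩, hAmax⟩ := (Set.toFinite {A : Subgroup P | E ≤ A ∧ A < K}).exists_maximal ⟨E, le_rfl, hlt⟩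
  have hAt : A ≠ ⊤ := fun h => not_top_lt (h ▸ hAK)
  have hNA : Subgroup.normalizer (A : Set P) = K := by
    have h1 := hrel A hEA hAt
    obtain ⟨y, hyK, hyN, hyA⟩ := inf_normalizer_gt hP hAK
    have h2 : A ≤ K ⊓ Subgroup.normalizer (A : Set P) := le_inf hAK.le Subgroup.le_normalizer
    rcases eq_or_eq h1 h2 inf_le_right with h3 | h3
    · exact absurd (h3 ▸ (⟨hyK, hyN⟩ : y ∈ K ⊓ Subgroup.normalizer (A : Set P))) hyA
    · refine le_antisymm (h3 ▸ inf_le_left) ?_
      by_contra hc
      have h4 : Subgroup.normalizer (A : Set P) < K := lt_of_le_not_ge (h3 ▸ inf_le_left) hc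
      exact hyA (hAmax ⟨hEA.trans Subgroup.le_normalizer, h4⟩ Subgroup.le_normalizer hyN)
  have hAp : A.relIndex K = p := hNA ▸ hrel A hEA hAt
  haveI := hP.isNilpotent
  obtain ⟨h, hhN, hhK⟩ := Set.exists_of_ssubset (Group.normalizerCondition_of_isNilpotent K (lt_top_iff_ne_top.mpr hKt))
  have hKh : K.map (MulAut.conj h).toMonoidHom = K := Subgroup.mem_normalizer_iff_map_conj_eq.mp hhN
  set B := A.map (MulAut.conj h).toMonoidHom with hB
  have hBK : B ≤ K := (Subgroup.map_mono hAK.le).trans hKh.le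
  have hBA : B ≠ A := fun e => hhK (hNA ▸ Subgroup.mem_normalizer_iff_map_conj_eq.mpr e)
  have hBc : Nat.card B = Nat.card A := Subgroup.card_map_of_injective (MulAut.conj h).injective
  have hEB : ¬ E ≤ B := fun hle => by
    rcases hch A B hEA hle with h' | h'
    · exact hBA (Subgroup.eq_of_le_of_card_ge h' hBc.le).symm
    · exact hBA (Subgroup.eq_of_le_of_card_ge h' hBc.ge)
  have hBp : B.relIndex K = p := by
    have h1 := card_mul_relIndex hBK
    rw [hBc, ← card_mul_relIndex hAK.le, hAp] at h1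
    exact Nat.eq_of_mul_eq_mul_left Nat.card_pos h1
  have hsup : B ⊔ E = K := by
    rcases eq_or_eq hBp (le_sup_left : B ≤ B ⊔ E) (sup_le hBK hK) with h' | h'
    · exact absurd (le_sup_right.trans h'.le) hEB
    · exact h'
  have hKB : K ≤ Subgroup.normalizer (B : Set P) := by
    intro k hk
    rw [Subgroup.mem_normalizer_iff_map_conj_eq, hB, Subgroup.map_map]
    have hk' : h⁻¹ * k * h ∈ K := by
      have := hKh.ge hk
      obtain ⟨k', hk', rfl⟩ := this
      simpa [mul_assoc] using hk'
    conv_rhs => rw [← Subgroup.mem_normalizer_iff_map_conj_eq.mp (hNA.symm ▸ hk' : h⁻¹ * k * h ∈ Subgroup.normalizer (A : Set P)), Subgroup.map_map]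
    congr 1; ext y; simp [mul_assoc]
  have hEcomm : ∀ a ∈ E, t * a = a * t := fun a ha => setLike_mul_comm htE ha
  have hext : (∀ a ∈ B, t * a = a * t) → ∀ k ∈ K, t * k = k * t := by
    intro hB' k hk
    have hle : B ⊔ E ≤ Subgroup.centralizer {t} := sup_le
      (fun a ha => Subgroup.mem_centralizer_singleton_iff.mpr (hB' a ha).symm)
      (fun a ha => Subgroup.mem_centralizer_singleton_iff.mpr (hEcomm a ha).symm)
    exact (Subgroup.mem_centralizer_singleton_iff.mp (hle (hsup.symm ▸ hk))).symm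
  set E0 := E ⊓ B
  have hNK : N ≤ K := (hE.eq_or_normalizer_le hP hK).resolve_left hlt.ne'
  by_cases hcase : ∃ z ∈ K, z ∉ A ∧ z ∈ Subgroup.centralizer (E0 : Set P)
  · obtain ⟨z, hzK, hzA, hzc⟩ := hcase
    have hEc : E ≤ Subgroup.centralizer (E0 : Set P) := (Subgroup.le_centralizer E).trans (Subgroup.centralizer_le inf_le_left)
    have hK0 : K ≤ Subgroup.centralizer (E0 : Set P) := by
      rcases hch A (K ⊓ Subgroup.centralizer (E0 : Set P)) hEA (le_inf hK hEc) with h' | h'
      · rcases eq_or_eq hAp h' inf_le_left with h'' | h''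
        · exact absurd (h'' ▸ (⟨hzK, hzc⟩ : z ∈ K ⊓ Subgroup.centralizer (E0 : Set P))) hzA
        · exact h'' ▸ inf_le_right
      · exact absurd (h' ⟨hzK, hzc⟩) hzA
    -- the quotient of the normalizer by E0 is abelian
    set E0' := E0.subgroupOf N
    haveI : E0'.Normal := ⟨fun a ha b => by
      have : b * a * b⁻¹ = a := by
        apply Subtype.ext
        show (b : P) * a * (b : P)⁻¹ = a
        rw [← (Subgroup.mem_centralizer_iff.mp (hK0 (hNK b.2)) a ha), mul_inv_cancel_right]
      rw [this]; exact ha⟩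
    have hE0c : Nat.card E0 * p = Nat.card E := by
      rw [← card_mul_relIndex (inf_le_left : E0 ≤ E), Subgroup.inf_relIndex_left]
      congr 1
      have h2 : B.relIndex K = (B.subgroupOf K).relIndex (E.subgroupOf K) := by
        haveI : (B.subgroupOf K).Normal := Subgroup.normal_subgroupOf_iff_le_normalizer hBK |>.mpr hKB
        rw [← Subgroup.relIndex_sup_right (K := B.subgroupOf K) (H := E.subgroupOf K), ← Subgroup.subgroupOf_sup hK hBK, sup_comm E B, hsup, Subgroup.subgroupOf_self,
          Subgroup.relIndex_top_right]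
        rfl
      rw [hBp, Subgroup.relIndex_subgroupOf hK] at h2
      exact h2
    have hcardq : Nat.card (N ⧸ E0') = p ^ 2 := by
      have h1 := Subgroup.card_eq_card_quotient_mul_card_subgroup E0'
      rw [Nat.card_congr (Subgroup.subgroupOfEquivOfLe (inf_le_left.trans Subgroup.le_normalizer : E0 ≤ N)).toEquiv,
        ← card_mul_relIndex (Subgroup.le_normalizer : E ≤ N), hE.2.2, ← hE0c] at h1
      have h2 : Nat.card (N ⧸ E0') * Nat.card E0 = p ^ 2 * Nat.card E0 := by rw [← h1]; ring
      exact Nat.eq_of_mul_eq_mul_right Nat.card_pos h2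
    have htE0 : t ∈ E0 := by
      have h1 : ⁅(⟨x, hx⟩ : N), ⟨e, Subgroup.le_normalizer he⟩⁆ ∈ E0' := by
        rw [← QuotientGroup.eq_one_iff, ← QuotientGroup.mk'_apply, map_commutatorElement, commutatorElement_eq_one_iff_mul_comm]
        exact (IsPGroup.isMulCommutative_of_card_eq_prime_sq hcardq).is_comm.comm _ _
      exact h1
    intro k hk
    exact Subgroup.mem_centralizer_iff.mp (hK0 hk) t htE0
  · push Not at hcase
    set ZB := B ⊓ Subgroup.centralizer (B : Set P)
    have hKZ : K ≤ Subgroup.normalizer (ZB : Set P) := by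
      intro k hk
      have hkB := Subgroup.mem_normalizer_iff.mp (hKB hk)
      rw [Subgroup.mem_normalizer_iff_map_conj_eq]
      refine Subgroup.eq_of_le_of_card_ge ?_ (Subgroup.card_map_of_injective (MulAut.conj k).injective).ge
      rintro _ ⟨z, hz, rfl⟩
      refine ⟨(hkB z).mp hz.1, Subgroup.mem_centralizer_iff.mpr fun b hb => ?_⟩
      show b * (k * z * k⁻¹) = k * z * k⁻¹ * b
      have hb' : k⁻¹ * b * k ∈ B := (hkB _).mpr (by simpa [mul_assoc] using hb)
      calc b * (k * z * k⁻¹) = k * ((k⁻¹ * b * k) * z) * k⁻¹ := by group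
        _ = k * (z * (k⁻¹ * b * k)) * k⁻¹ := by rw [Subgroup.mem_centralizer_iff.mp hz.2 _ hb']
        _ = k * z * k⁻¹ * b := by group
    by_cases hZE : ZB ≤ E
    · -- transport by h
      have hA' := ih A hAK hEA hAt x hx e he
      have hth : h * t * h⁻¹ ∈ ZB := by
        refine ⟨⟨t, hEA htE, rfl⟩, Subgroup.mem_centralizer_iff.mpr ?_⟩
        rintro _ ⟨a, ha, rfl⟩
        show h * a * h⁻¹ * (h * t * h⁻¹) = h * t * h⁻¹ * (h * a * h⁻¹)
        calc h * a * h⁻¹ * (h * t * h⁻¹) = h * (a * t) * h⁻¹ := by group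
          _ = h * (t * a) * h⁻¹ := by rw [hA' a ha]
          _ = _ := by group
      have hle : B ⊔ E ≤ Subgroup.centralizer {h * t * h⁻¹} := sup_le
        (fun a ha => Subgroup.mem_centralizer_singleton_iff.mpr (Subgroup.mem_centralizer_iff.mp hth.2 a ha))
        (fun a ha => Subgroup.mem_centralizer_singleton_iff.mpr (setLike_mul_comm (hZE hth) ha).symm)
      intro k hk
      have h1 := Subgroup.mem_centralizer_singleton_iff.mp (hle (hsup.symm ▸ hKh.le ⟨k, hk, rfl⟩))
      change h * k * h⁻¹ * (h * t * h⁻¹) = h * t * h⁻¹ * (h * k * h⁻¹) at h1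
      calc t * k = h⁻¹ * (h * t * h⁻¹ * (h * k * h⁻¹)) * h := by group
        _ = h⁻¹ * (h * k * h⁻¹ * (h * t * h⁻¹)) * h := by rw [h1]
        _ = k * t := by group
    · have hEn : E ≤ Subgroup.normalizer (ZB : Set P) := hK.trans hKZ
      have hlt' : E < E ⊔ ZB := lt_of_le_of_ne le_sup_left fun e => hZE (e ▸ le_sup_right)
      obtain ⟨y, hy, hyN, hyE⟩ := inf_normalizer_gt hP hlt'
      have hy' : y ∈ ((E ⊔ ZB : Subgroup P) : Set P) := hy
      rw [Subgroup.coe_mul_of_left_le_normalizer_right E ZB hEn] at hy'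
      obtain ⟨e₁, he₁, z, hz, rfl⟩ := hy'
      have hzN : z ∈ N := by
        have := mul_mem (inv_mem (Subgroup.le_normalizer he₁)) hyN
        simpa using this
      have hzE : z ∉ E := fun h' => hyE (mul_mem he₁ h')
      have hgen : E ⊔ Subgroup.zpowers z = N := by
        rcases eq_or_eq hE.2.2 (le_sup_left : E ≤ E ⊔ Subgroup.zpowers z) (sup_le Subgroup.le_normalizer (Subgroup.zpowers_le.mpr hzN)) with h' | h'
        · exact absurd (h' ▸ Subgroup.mem_sup_right (Subgroup.mem_zpowers z)) hzE
        · exact h'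
      have hx' : x ∈ ((E ⊔ Subgroup.zpowers z : Subgroup P) : Set P) := hgen.symm ▸ hx
      rw [Subgroup.coe_mul_of_right_le_normalizer_left E _ (Subgroup.zpowers_le.mpr hzN)] at hx'
      obtain ⟨a, ha, w, hw, rfl⟩ := hx'
      have hwZ : w ∈ ZB := Subgroup.zpowers_le.mpr hz hw
      refine hext fun b hb => ?_
      have htZ : t ∈ ZB := by
        have h1 : e * w⁻¹ * e⁻¹ ∈ ZB := (Subgroup.mem_normalizer_iff.mp (hEn he) _).mp (inv_mem hwZ)
        have h2 : a * (w * (e * w⁻¹ * e⁻¹)) * a⁻¹ ∈ ZB := (Subgroup.mem_normalizer_iff.mp (hEn ha) _).mp (mul_mem hwZ h1)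
        have hae : e * a⁻¹ = a⁻¹ * e := setLike_mul_comm he (inv_mem ha)
        have : t = a * (w * (e * w⁻¹ * e⁻¹)) * a⁻¹ := by
          have hea : e⁻¹ * a⁻¹ = a⁻¹ * e⁻¹ := setLike_mul_comm (inv_mem he) (inv_mem ha)
          calc t = a * w * e * w⁻¹ * (a⁻¹ * e⁻¹) := by rw [ht, commutatorElement_def]; group
            _ = a * w * e * w⁻¹ * (e⁻¹ * a⁻¹) := by rw [hea]
            _ = _ := by group
        rwa [this]
      exact (Subgroup.mem_centralizer_iff.mp htZ.2 b hb).symm

end

theorem nilpotencyClass_congr {G H : Type*} [Group G] [Group H] [Group.IsNilpotent G] [Group.IsNilpotent H] (e : G ≃* H) :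
    Group.nilpotencyClass G = Group.nilpotencyClass H :=
  le_antisymm (Group.nilpotencyClass_le_of_surjective e.symm.toMonoidHom e.symm.surjective)
    (Group.nilpotencyClass_le_of_surjective e.toMonoidHom e.surjective)

/-- The classes of the over-groups. -/
theorem class_eq : ∀ (n : ℕ) (P : Type u) [Group P] [Finite P], Nat.card P = n → IsPGroup p P → ∀ E : Subgroup P, Soft p E →
    E ≠ ⊥ → ∀ (i : ℕ) (K : Subgroup P) [Group.IsNilpotent K], E ≤ K → K ≠ ⊤ → K.index * p ^ i = E.index →
      Group.nilpotencyClass K = i + 1 := by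
  intro n
  induction n using Nat.strongRecOn with
  | ind n ih =>
  intro P _ _ hn hP E hE hE1 i K _ hEK hKt hidx
  haveI := hE.1
  have hrelK : E.relIndex K = p ^ i := by
    have h1 := Subgroup.relIndex_mul_index hEK
    rw [← hidx, mul_comm] at h1
    exact Nat.eq_of_mul_eq_mul_left (Nat.pos_of_ne_zero Subgroup.index_ne_zero_of_finite) h1
  have hKne : Nontrivial K := (Subgroup.nontrivial_iff_ne_bot K).mpr fun h => hE1 (le_bot_iff.mp (h ▸ hEK))
  rcases Nat.eq_zero_or_pos i with rfl | hi
  · rw [pow_zero, Subgroup.relIndex_eq_one] at hrelK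
    obtain rfl : K = E := le_antisymm hrelK hEK
    refine le_antisymm (Group.IsNilpotent.nilpotencyClass_le_one_iff.mpr inferInstance) ?_
    by_contra h
    have : Group.nilpotencyClass K = 0 := by omega
    rw [Group.nilpotencyClass_zero_iff_subsingleton] at this
    exact false_of_nontrivial_of_subsingleton K
  obtain ⟨i, rfl⟩ : ∃ j, i = j + 1 := ⟨i - 1, by omega⟩
  have hKE : K ≠ E := fun h => by
    rw [h, Subgroup.relIndex_self, pow_succ] at hrelK
    exact hp.out.ne_one (Nat.dvd_one.mp ⟨p ^ i, by rw [mul_comm]; exact hrelK⟩)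
  have hNK : Subgroup.normalizer (E : Set P) ≤ K := (hE.eq_or_normalizer_le hP hEK).resolve_left hKE
  have hNt : Subgroup.normalizer (E : Set P) ≠ ⊤ := fun h => hKt (top_le_iff.mp (h ▸ hNK))
  obtain ⟨hch, hrel⟩ := chain _ P rfl hP E hE
  set L := Subgroup.normalizer (K : Set P) with hL
  have hKL : K ≤ L := Subgroup.le_normalizer
  have hLp : K.relIndex L = p := hrel K hEK hKt
  -- work inside L
  let K' := K.subgroupOf L
  haveI hK'n : K'.Normal := Subgroup.normal_subgroupOf_iff_le_normalizer hKL |>.mpr le_rfl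
  let E' := E.subgroupOf L
  have hNE' : Subgroup.normalizer (E' : Set L) = (Subgroup.normalizer (E : Set P)).subgroupOf L := by
    ext y
    rw [Subgroup.mem_subgroupOf, Subgroup.mem_normalizer_iff, Subgroup.mem_normalizer_iff]
    constructor
    · intro h z
      by_cases hz : z ∈ L
      · exact h ⟨z, hz⟩
      · refine ⟨fun h' => absurd ((hEK.trans hKL) h') hz, fun h' => absurd ?_ hz⟩
        have := mul_mem (mul_mem (inv_mem y.2) ((hEK.trans hKL) h')) y.2
        simpa [mul_assoc] using this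
    · intro h z; exact h z
  let Z : Subgroup L := (K ⊓ Subgroup.centralizer (K : Set P)).subgroupOf L
  haveI : Z.Normal := ⟨fun z hz g => by
    refine ⟨hK'n.conj_mem z hz.1 g, Subgroup.mem_centralizer_iff.mpr fun k hk => ?_⟩
    have hk' : ((g⁻¹ * ⟨k, hKL hk⟩ * g⁻¹⁻¹ : L) : P) ∈ K := hK'n.conj_mem ⟨k, hKL hk⟩ hk g⁻¹
    simp only [Subgroup.coe_mul, InvMemClass.coe_inv, inv_inv] at hk'
    have h1 : (g : P)⁻¹ * k * (g : P) * (z : P) = (z : P) * ((g : P)⁻¹ * k * (g : P)) :=
      Subgroup.mem_centralizer_iff.mp hz.2 _ hk'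
    show k * ((g * z * g⁻¹ : L) : P) = ((g * z * g⁻¹ : L) : P) * k
    simp only [Subgroup.coe_mul, InvMemClass.coe_inv]
    calc k * ((g : P) * (z : P) * (g : P)⁻¹) = (g : P) * (((g : P)⁻¹ * k * (g : P)) * z) * (g : P)⁻¹ := by group
      _ = (g : P) * ((z : P) * ((g : P)⁻¹ * k * (g : P))) * (g : P)⁻¹ := by rw [h1]
      _ = _ := by group⟩
  have hZE : Z ≤ E' := fun z hz => hE.2.1 (Subgroup.centralizer_le hEK hz.2)
  have hZne : Z ≠ ⊥ := by
    intro h
    haveI : Nontrivial (Subgroup.center K) := (hP.to_subgroup K).center_nontrivial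
    obtain ⟨c, hc⟩ := exists_ne (1 : Subgroup.center K)
    have hmem : (⟨((c : K) : P), hKL (c : K).2⟩ : L) ∈ Z := ⟨(c : K).2, Subgroup.mem_centralizer_iff.mpr fun k hk =>
      congrArg Subtype.val (Subgroup.mem_center_iff.mp c.2 ⟨k, hk⟩)⟩
    rw [h, Subgroup.mem_bot] at hmem
    exact hc (Subtype.ext (Subtype.ext (congrArg Subtype.val hmem :)))
  have hsoft' : Soft p E' := by
    refine ⟨commutative_of_generators fun a ha => Subgroup.mem_centralizer_iff.mpr fun b hb => Subtype.ext (setLike_mul_comm (show ((b : L) : P) ∈ E from hb) (show ((a : L) : P) ∈ E from ha)), fun y hy => hE.2.1 ?_, ?_⟩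
    · rw [Subgroup.mem_centralizer_iff] at hy ⊢
      intro a ha
      exact congrArg Subtype.val (hy ⟨a, hKL (hEK ha)⟩ ha)
    · rw [hNE', Subgroup.relIndex_subgroupOf (hNK.trans hKL)]; exact hE.2.2
  have hPL : IsPGroup p L := hP.to_subgroup L
  have hT : ∀ x ∈ Subgroup.normalizer (E' : Set L), ∀ e ∈ E', ⁅x, e⁆ ∈ Z := by
    intro x hx e he
    rw [hNE'] at hx
    have hc := commute_of_proper hP hE K hEK hKt x hx e he
    refine ⟨?_, Subgroup.mem_centralizer_iff.mpr fun k hk => ?_⟩
    · show ((⁅x, e⁆ : L) : P) ∈ K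
      rw [commutatorElement_def]
      exact mul_mem (mul_mem (mul_mem (hNK hx) (hEK he)) (inv_mem (hNK hx))) (inv_mem (hEK he))
    · have h1 := (hc k hk).symm
      simp only [commutatorElement_def, Subgroup.coe_mul, InvMemClass.coe_inv] at h1 ⊢
      exact h1
  set q := QuotientGroup.mk' Z
  have hq : Function.Surjective q := QuotientGroup.mk'_surjective Z
  set M := (Subgroup.normalizer (E' : Set L)).map q
  have hN'le : Subgroup.normalizer (E' : Set L) ≤ K' := by rw [hNE']; exact fun y hy => hNK hy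
  have hN't : Subgroup.normalizer (E' : Set L) ≠ ⊤ := fun h => by
    have hK'top : K' = ⊤ := top_le_iff.mp (h ▸ hN'le)
    rw [Subgroup.relIndex_eq_one.mpr (Subgroup.subgroupOf_eq_top.mp hK'top)] at hLp
    exact hp.out.ne_one hLp.symm
  have hMsoft : Soft p M := soft_map Z (hZE.trans Subgroup.le_normalizer) (normalizer_commutative hsoft' Z hT)
    (fun x hx => cen_normalizer Z hZE x fun m hm => hx m (Subgroup.le_normalizer hm)) (hsoft'.base hPL hN't)
  have hlt : Nat.card (L ⧸ Z) < n := by
    have h1 : Nat.card L ≤ n := hn ▸ Subgroup.card_le_card_group L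
    refine lt_of_lt_of_le ?_ h1
    rw [Subgroup.card_eq_card_quotient_mul_card_subgroup Z]
    exact lt_mul_of_one_lt_right Nat.card_pos ((Subgroup.one_lt_card_iff_ne_bot Z).mpr hZne)
  have hkerK : q.ker ≤ K' := by rw [QuotientGroup.ker_mk']; exact fun z hz => hz.1
  have hkerN : q.ker ≤ Subgroup.normalizer (E' : Set L) := by rw [QuotientGroup.ker_mk']; exact hZE.trans Subgroup.le_normalizer
  haveI : Group.IsNilpotent (K'.map q) := ((hPL.to_quotient Z).to_subgroup _).isNilpotent
  -- the kernel of K → K̄ is the centre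
  let f : K →* K'.map q := (q.subgroupMap K').comp (Subgroup.subgroupOfEquivOfLe hKL).symm.toMonoidHom
  have hf : Function.Surjective f := (q.subgroupMap_surjective K').comp (Subgroup.subgroupOfEquivOfLe hKL).symm.surjective
  have hfker : f.ker = Subgroup.center K := by
    ext k
    have e1 : k ∈ f.ker ↔ (⟨(k : P), hKL k.2⟩ : L) ∈ Z := by
      rw [MonoidHom.mem_ker, ← QuotientGroup.eq_one_iff]
      exact ⟨fun h => congrArg Subtype.val h, fun h => Subtype.ext h⟩
    rw [e1, Subgroup.mem_center_iff]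
    exact ⟨fun h g => Subtype.ext (Subgroup.mem_centralizer_iff.mp h.2 g g.2),
      fun h => ⟨k.2, Subgroup.mem_centralizer_iff.mpr fun g hg => congrArg Subtype.val (h ⟨g, hg⟩)⟩⟩
  have hcls : Group.nilpotencyClass (K'.map q) = Group.nilpotencyClass (K ⧸ Subgroup.center K) :=
    (nilpotencyClass_congr ((QuotientGroup.quotientMulEquivOfEq hfker).symm.trans (QuotientGroup.quotientKerEquivOfSurjective f hf))).symm
  rw [Group.nilpotencyClass_eq_quotient_center_plus_one, ← hcls]
  have hK't : K'.map q ≠ ⊤ := fun h => by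
    have h2 : K' = ⊤ := by rw [← Subgroup.comap_map_eq_self hkerK, h, Subgroup.comap_top]
    rw [Subgroup.relIndex_eq_one.mpr (Subgroup.subgroupOf_eq_top.mp h2)] at hLp
    exact hp.out.ne_one hLp.symm
  have hidx' : (K'.map q).index * p ^ i = M.index := by
    rw [Subgroup.index_map_eq _ hq hkerK, Subgroup.index_map_eq _ hq hkerN]
    show K.relIndex L * p ^ i = _
    rw [hLp, hNE']
    show p * p ^ i = (Subgroup.normalizer (E : Set P)).relIndex L
    have h1 := Subgroup.relIndex_mul_relIndex E _ L Subgroup.le_normalizer (hNK.trans hKL)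
    rw [hE.2.2, ← Subgroup.relIndex_mul_relIndex E K L hEK hKL, hrelK, hLp, ← pow_succ] at h1
    rw [← pow_succ']
    rw [pow_succ' p (i + 1)] at h1
    exact (Nat.eq_of_mul_eq_mul_left hp.out.pos h1).symm
  have hMne : M ≠ ⊥ := by
    intro h
    have h1 := hMsoft.2.1
    rw [h] at h1
    have h2 : K'.map q ≤ ⊥ := fun y _ => h1 (Subgroup.mem_centralizer_iff.mpr fun b hb => by
      rw [Subgroup.mem_bot.mp hb, one_mul, mul_one])
    have h3 : M.relIndex (Subgroup.normalizer (M : Set (L ⧸ Z))) = 1 := Subgroup.relIndex_eq_one.mpr (fun y _ => h.symm ▸ h1 (Subgroup.mem_centralizer_iff.mpr fun b hb => by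
      rw [Subgroup.mem_bot.mp hb, one_mul, mul_one]))
    rw [hMsoft.2.2] at h3
    exact hp.out.ne_one h3
  rw [ih _ hlt (L ⧸ Z) rfl (hPL.to_quotient Z) M hMsoft hMne i (K'.map q) (Subgroup.map_mono hN'le) hK't hidx']

end Cfsg.Agent.GenA.Soft
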