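import Cfsg.Agent.Solvable.Thompson
import Cfsg.Agent.Lib.Characters.Burnside

/-!
A finite group with a splitting automorphism of prime order is nilpotent (Kegel, Thompson).
-/

set_option autoImplicit false

namespace Cfsg.Agent.GenA.Splitting

open Subgroup Cfsg
open Cfsg.Agent.Solvable.Thompson (map_eq_of_invariant invariant_of_map_eq hasNormalPComplement_of_nilpotent)
open scoped Pointwise IsMulCommutative

universe u

variable {G : Type u} [Group G] [Finite G] {p : ℕ} {φ : MulAut G}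

/-- `x * φ x * ⋯ * φ^(k-1) x`. -/
def nrm (φ : MulAut G) : ℕ → G → G
  | 0, _ => 1
  | k + 1, x => nrm φ k x * (φ ^ k) x

/-- `φ ^ p = 1` and all norms of length `p` are trivial. -/
def Split (p : ℕ) (φ : MulAut G) : Prop := φ ^ p = 1 ∧ ∀ x, nrm φ p x = 1

theorem nrm_succ' (φ : MulAut G) (k : ℕ) (x : G) : nrm φ (k + 1) x = x * φ (nrm φ k x) := by
  induction k with
  | zero => simp [nrm]
  | succ k ih =>
    show nrm φ (k + 1) x * (φ ^ (k + 1)) x = x * φ (nrm φ k x * (φ ^ k) x)
    rw [ih, map_mul, pow_succ', MulAut.mul_apply, mul_assoc]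

theorem twist_pow (φ : MulAut G) (g : G) (k : ℕ) (y : G) :
    ((MulAut.conj g * φ) ^ k) y = nrm φ k g * (φ ^ k) y * (nrm φ k g)⁻¹ := by
  induction k with
  | zero => simp [nrm]
  | succ k ih =>
    rw [pow_succ', MulAut.mul_apply, ih, MulAut.mul_apply, nrm_succ', pow_succ', MulAut.mul_apply]
    simp only [map_mul, map_inv, MulAut.conj_apply]
    group

theorem twist_nrm (φ : MulAut G) (g : G) (k : ℕ) (y : G) :
    nrm (MulAut.conj g * φ) k y * nrm φ k g = nrm φ k (y * g) := by
  induction k with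
  | zero => simp [nrm]
  | succ k ih =>
    show nrm _ k y * ((MulAut.conj g * φ) ^ k) y * (nrm φ k g * (φ ^ k) g) = nrm φ k (y * g) * (φ ^ k) (y * g)
    rw [twist_pow, ← ih, map_mul]
    group

theorem Split.twist (h : Split p φ) (g : G) : Split p (MulAut.conj g * φ) := by
  refine ⟨MulEquiv.ext fun y => ?_, fun y => ?_⟩
  · rw [twist_pow, h.2 g, h.1]; simp
  · have := twist_nrm φ g p y
    rwa [h.2 g, h.2 (y * g), mul_one] at this

theorem pow_eq_one_of_fixed (h : Split p φ) {y : G} (hy : φ y = y) : y ^ p = 1 := by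
  have : ∀ k, nrm φ k y = y ^ k ∧ (φ ^ k) y = y := by
    intro k
    induction k with
    | zero => simp [nrm]
    | succ k ih => exact ⟨by show nrm φ k y * (φ ^ k) y = _; rw [ih.1, ih.2, pow_succ], by rw [pow_succ', MulAut.mul_apply, ih.2, hy]⟩
  rw [← (this p).1, h.2]

theorem pow_mem {H : Subgroup G} (h : ∀ x ∈ H, φ x ∈ H) : ∀ (i : ℕ), ∀ x ∈ H, (φ ^ i) x ∈ H := by
  intro i
  induction i with
  | zero => exact fun x hx => by simpa using hx
  | succ i ih => exact fun x hx => by rw [pow_succ', MulAut.mul_apply]; exact h _ (ih x hx)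

theorem restrict_exists (hs : Split p φ) (H : Subgroup G) (h : ∀ x ∈ H, φ x ∈ H) :
    ∃ ψ : MulAut H, Split p ψ := by
  let f : H →* H :=
    { toFun := fun x => ⟨φ x, h x x.2⟩
      map_one' := Subtype.ext (map_one φ)
      map_mul' := fun a b => Subtype.ext (map_mul φ (a : G) b) }
  have hf : Function.Injective f := fun a b hab => Subtype.ext (φ.injective (congrArg Subtype.val hab))
  let ψ : MulAut H := MulEquiv.ofBijective f (Finite.injective_iff_bijective.mp hf)
  have hn : ∀ (n : ℕ) (x : H), ((ψ ^ n) x : G) = (φ ^ n) (x : G) := by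
    intro n x
    induction n with
    | zero => simp
    | succ n ih => rw [pow_succ', pow_succ', MulAut.mul_apply, MulAut.mul_apply, ← ih]; rfl
  have hN : ∀ (n : ℕ) (x : H), ((nrm ψ n x : H) : G) = nrm φ n (x : G) := by
    intro n x
    induction n with
    | zero => rfl
    | succ n ih =>
      show ((nrm ψ n x * (ψ ^ n) x : H) : G) = nrm φ n x * (φ ^ n) x
      rw [Subgroup.coe_mul, ih, hn]
  refine ⟨ψ, MulEquiv.ext fun x => Subtype.ext (by rw [hn, hs.1]; rfl), fun x => Subtype.ext ?_⟩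
  rw [hN, hs.2]; rfl

theorem quotient_exists (hs : Split p φ) (N : Subgroup G) [N.Normal] (h : ∀ x ∈ N, φ x ∈ N) :
    ∃ ψ : MulAut (G ⧸ N), Split p ψ := by
  let ψ : MulAut (G ⧸ N) := QuotientGroup.congr N N φ (map_eq_of_invariant h)
  have hn : ∀ (n : ℕ) (g : G), (ψ ^ n) (g : G ⧸ N) = ((φ ^ n) g : G ⧸ N) := by
    intro n g
    induction n with
    | zero => simp
    | succ n ih => rw [pow_succ', pow_succ', MulAut.mul_apply, MulAut.mul_apply, ih]; rfl
  have hN : ∀ (n : ℕ) (g : G), nrm ψ n (g : G ⧸ N) = ((nrm φ n g : G) : G ⧸ N) := by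
    intro n g
    induction n with
    | zero => rfl
    | succ n ih =>
      show nrm ψ n (g : G ⧸ N) * (ψ ^ n) (g : G ⧸ N) = ((nrm φ n g * (φ ^ n) g : G) : G ⧸ N)
      rw [ih, hn, QuotientGroup.mk_mul]
  refine ⟨ψ, MulEquiv.ext fun x => ?_, fun x => ?_⟩ <;> obtain ⟨g, rfl⟩ := QuotientGroup.mk_surjective x
  · rw [hn, hs.1]; rfl
  · rw [hN, hs.2]; rfl

theorem exists_invariant_sylow (hs : Split p φ) {r : ℕ} [Fact r.Prime] (P : Sylow r G) :
    ∃ g : G, Split p (MulAut.conj g * φ) ∧ ∀ x ∈ (P : Subgroup G), (MulAut.conj g * φ) x ∈ (P : Subgroup G) := by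
  obtain ⟨g, hg⟩ := MulAction.exists_smul_eq G (φ • P) P
  refine ⟨g, hs.twist g, fun x hx => ?_⟩
  rw [← hg, Sylow.coe_subgroup_smul]
  exact ⟨φ x, ⟨x, hx, rfl⟩, rfl⟩

theorem twist_mem {N : Subgroup G} [N.Normal] (h : ∀ x ∈ N, φ x ∈ N) (g : G) :
    ∀ x ∈ N, (MulAut.conj g * φ) x ∈ N := fun x hx =>
  Subgroup.Normal.conj_mem inferInstance _ (h x hx) g

theorem norm_eq_one (hs : Split p φ) {V : Subgroup G} [IsMulCommutative V] (f : ℕ → V →* V)
    (hf : ∀ i (v : V), ((f i v : V) : G) = (φ ^ i) (v : G)) (v : V) :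
    ∏ i ∈ Finset.range p, f i v = 1 := by
  refine Subtype.ext ?_
  rw [OneMemClass.coe_one, ← hs.2 (v : G)]
  suffices ∀ k, ((∏ i ∈ Finset.range k, f i v : V) : G) = nrm φ k (v : G) from this p
  intro k
  induction k with
  | zero => rfl
  | succ k ih => rw [Finset.prod_range_succ, Subgroup.coe_mul, ih, hf]; rfl

/-- The norm argument, `φ` fixed-point-free on `R`. -/
theorem le_centralizer_of_fpf [hp : Fact p.Prime] (hs : Split p φ)
    {V R : Subgroup G} [V.Normal] [IsMulCommutative V] (hV : ∀ x ∈ V, φ x ∈ V)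
    (hR : ∀ x ∈ R, φ x ∈ R) (hcop : (Nat.card R).Coprime (Nat.card V))
    (hfpf : ∀ x ∈ R, φ x = x → x = 1) : R ≤ centralizer (V : Set G) := by
  classical
  have : Fintype R := Fintype.ofFinite R
  let f : ℕ → V →* V := fun i =>
    { toFun := fun v => ⟨(φ ^ i) v, pow_mem hV i v v.2⟩
      map_one' := Subtype.ext (map_one _)
      map_mul' := fun a b => Subtype.ext (map_mul _ _ _) }
  have hnorm : ∀ w : V, ∏ i ∈ Finset.range p, f i w = 1 := norm_eq_one hs f fun i v => rfl
  let c : G → V →* V := fun g => (MulAut.conjNormal g : MulAut V).toMonoidHom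
  have hc : ∀ (g : G) (v : V), (c g v : G) = g * v * g⁻¹ := fun g v => MulAut.conjNormal_apply g v
  intro r hr v hv
  let v' : V := ⟨v, hv⟩
  have hterm : ∀ s : R, ∏ i ∈ Finset.range p, c ((s : G)⁻¹ * (φ ^ i) s) (f i v') = 1 := by
    intro s
    have h1 : ∀ i, c ((s : G)⁻¹ * (φ ^ i) s) (f i v') = c (s : G)⁻¹ (f i (c s v')) := by
      intro i
      refine Subtype.ext ?_
      rw [hc, hc]
      change (s : G)⁻¹ * (φ ^ i) s * (φ ^ i) v * ((s : G)⁻¹ * (φ ^ i) s)⁻¹ =
        (s : G)⁻¹ * (φ ^ i) (c s v' : G) * (s : G)⁻¹⁻¹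
      rw [hc, map_mul, map_mul, map_inv, show (v' : G) = v from rfl]
      group
    rw [Finset.prod_congr rfl fun i _ => h1 i, ← map_prod, hnorm, map_one]
  have hsum : ∀ i ∈ Finset.range p, i ≠ 0 →
      ∏ s : R, c ((s : G)⁻¹ * (φ ^ i) s) (f i v') = ∏ s : R, c s (f i v') := by
    intro i hi hi0
    have hinj : Function.Injective
        (fun s : R => (⟨(s : G)⁻¹ * (φ ^ i) s, mul_mem (inv_mem s.2) (pow_mem hR i s s.2)⟩ : R)) := by
      intro a b hab
      have h1 : (a : G)⁻¹ * (φ ^ i) a = (b : G)⁻¹ * (φ ^ i) b := congrArg Subtype.val hab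
      have h2 : (φ ^ i) ((a : G) * (b : G)⁻¹) = (a : G) * (b : G)⁻¹ := by
        rw [map_mul, map_inv, show (φ ^ i) (a : G) = (a : G) * ((b : G)⁻¹ * (φ ^ i) b) by
          rw [← h1, mul_inv_cancel_left]]
        group
      have hcp : Nat.Coprime i p := ((Nat.Prime.coprime_iff_not_dvd hp.out).mpr fun hd =>
        absurd (Nat.le_of_dvd (Nat.pos_of_ne_zero hi0) hd)
          (not_le.mpr (Finset.mem_range.mp hi))).symm
      obtain ⟨m, hm⟩ := exists_pow_eq_self_of_coprime (x := φ) (n := i)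
        (hcp.coprime_dvd_right (orderOf_dvd_of_pow_eq_one hs.1))
      have h3 : ∀ n : ℕ, ((φ ^ i) ^ n) ((a : G) * (b : G)⁻¹) = (a : G) * (b : G)⁻¹ := by
        intro n
        induction n with
        | zero => simp
        | succ n ih => rw [pow_succ, MulAut.mul_apply, h2, ih]
      have h4 := h3 m
      rw [hm] at h4
      exact Subtype.ext (mul_inv_eq_one.mp (hfpf _ (mul_mem a.2 (inv_mem b.2)) h4))
    exact Fintype.prod_bijective _ (Finite.injective_iff_bijective.mp hinj) _ _ fun s => rfl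
  have hfix : ∀ (w : V) (t : R), c t (∏ s : R, c s w) = ∏ s : R, c s w := by
    intro w t
    rw [map_prod]
    refine Fintype.prod_bijective (fun s => t * s) (Group.mulLeft_bijective t) _ _ fun s =>
      Subtype.ext ?_
    simp only [hc, Subgroup.coe_mul]
    group
  have hall : ∏ i ∈ Finset.range p, ∏ s : R, c ((s : G)⁻¹ * (φ ^ i) s) (f i v') = 1 := by
    rw [Finset.prod_comm]
    exact Finset.prod_eq_one fun s _ => hterm s
  obtain ⟨p', hp'⟩ : ∃ p', p = p' + 1 := ⟨p - 1, (Nat.sub_add_cancel hp.out.one_le).symm⟩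
  rw [hp', Finset.prod_range_succ'] at hall
  have h0 : ∏ s : R, c ((s : G)⁻¹ * (φ ^ 0) s) (f 0 v') = v' ^ Fintype.card R := by
    rw [← Finset.card_univ, ← Finset.prod_const]
    refine Finset.prod_congr rfl fun s _ => Subtype.ext ?_
    rw [hc]
    simp [f, v']
  rw [h0, mul_eq_one_iff_inv_eq] at hall
  have hfixv : c r (v' ^ Fintype.card R) = v' ^ Fintype.card R := by
    rw [← hall, map_inv, inv_inj, map_prod]
    refine Finset.prod_congr rfl fun i hi => ?_
    rw [hsum (i + 1) (Finset.mem_range.mpr (by have := Finset.mem_range.mp hi; omega)) i.succ_ne_zero]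
    exact hfix _ ⟨r, hr⟩
  have hcopv : (Fintype.card R).Coprime (orderOf v') := by
    rw [← Nat.card_eq_fintype_card]
    exact hcop.coprime_dvd_right (orderOf_dvd_natCard v')
  obtain ⟨m, hm⟩ := exists_pow_eq_self_of_coprime hcopv
  have hv' : c r v' = v' := by rw [← hm, map_pow, hfixv]
  have h5 := congrArg Subtype.val hv'
  rw [hc] at h5
  exact (mul_inv_eq_iff_eq_mul.mp h5).symm

/-- The norm argument for an invariant `p`-subgroup `R`. -/
theorem le_centralizer_of_p [hp : Fact p.Prime] (hs : Split p φ)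
    {V R : Subgroup G} [V.Normal] [IsMulCommutative V] (hV : ∀ x ∈ V, φ x ∈ V)
    (hR : ∀ x ∈ R, φ x ∈ R) (hcop : (Nat.card R).Coprime (Nat.card V))
    (hRp : IsPGroup p R) : R ≤ centralizer (V : Set G) := by
  classical
  by_contra hnot
  let c : G →* MulAut V := MulAut.conjNormal
  have hcomm : ∀ (g : G) (v : V), φ g * φ (v : G) * (φ g)⁻¹ = φ ((c g v : V) : G) := by
    intro g v; rw [MulAut.conjNormal_apply, map_mul, map_mul, map_inv]
  -- K is the kernel of the action of R
  set K := (c.comp R.subtype).ker with hK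
  haveI : K.Normal := inferInstance
  let fR : R →* R :=
    { toFun := fun x => ⟨φ x, hR x x.2⟩
      map_one' := Subtype.ext (map_one φ)
      map_mul' := fun a b => Subtype.ext (map_mul φ (a : G) b) }
  have hfR : Function.Injective fR := fun a b hab => Subtype.ext (φ.injective (congrArg Subtype.val hab))
  let ψ : MulAut R := MulEquiv.ofBijective fR (Finite.injective_iff_bijective.mp hfR)
  have hKinv : ∀ x ∈ K, ψ x ∈ K := by
    intro x hx
    rw [hK, MonoidHom.mem_ker] at hx ⊢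
    refine MulEquiv.ext fun v => Subtype.ext ?_
    obtain ⟨w, hw, hwv⟩ : ∃ w ∈ V, φ w = v := by
      have := (map_eq_of_invariant hV).ge v.2
      exact this
    have h1 : c (x : G) ⟨w, hw⟩ = ⟨w, hw⟩ := by
      have := DFunLike.congr_fun hx ⟨w, hw⟩; exact this
    show ((c (φ (x : G))) v : G) = _
    rw [MulAut.conjNormal_apply, ← hwv, hcomm (x : G) ⟨w, hw⟩, h1]
    exact hwv
  let χ : MulAut (R ⧸ K) := QuotientGroup.congr K K ψ (map_eq_of_invariant hKinv)
  have hKne : K ≠ ⊤ := fun h => hnot fun r hr v hv => by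
    have h1 : c r ⟨v, hv⟩ = ⟨v, hv⟩ := DFunLike.congr_fun (show (c.comp R.subtype) ⟨r, hr⟩ = 1 from (h.symm ▸ mem_top (⟨r, hr⟩ : R) : (⟨r, hr⟩ : R) ∈ K)) ⟨v, hv⟩
    have h2 := congrArg Subtype.val h1
    rw [MulAut.conjNormal_apply] at h2
    exact (mul_inv_eq_iff_eq_mul.mp h2).symm
  have hpow : ∀ (n : ℕ) (x : R), (χ ^ n) (x : R ⧸ K) = ((ψ ^ n) x : R ⧸ K) ∧ (((ψ ^ n) x : R) : G) = (φ ^ n) (x : G) := by
    intro n x
    induction n with
    | zero => simp
    | succ n ih =>
      refine ⟨?_, ?_⟩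
      · rw [pow_succ', pow_succ', MulAut.mul_apply, MulAut.mul_apply, ih.1]; rfl
      · rw [pow_succ', pow_succ', MulAut.mul_apply, MulAut.mul_apply, ← ih.2]; rfl
  have hχ : χ ^ p = 1 := MulEquiv.ext fun x => by
    obtain ⟨x, rfl⟩ := QuotientGroup.mk_surjective x
    rw [(hpow p x).1, show (ψ ^ p) x = x from Subtype.ext (by rw [(hpow p x).2, hs.1]; rfl)]; rfl
  have hdvd : p ∣ Nat.card (R ⧸ K) := by
    obtain ⟨k, hk⟩ := IsPGroup.iff_card.mp (hRp.to_quotient K)
    rcases k with _ | k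
    · rw [← Subgroup.index_eq_card, pow_zero] at hk
      exact absurd (Subgroup.index_eq_one.mp hk) hKne
    · rw [hk]; exact dvd_pow_self p (Nat.succ_ne_zero k)
  haveI : Fintype (R ⧸ K) := Fintype.ofFinite _
  rw [Nat.card_eq_fintype_card] at hdvd
  obtain ⟨b, hb, hb1⟩ := Equiv.Perm.exists_fixed_point_of_prime' (σ := (MulAut.toPerm (R ⧸ K)) χ) (n := 1) hdvd
    (by rw [pow_one, ← map_pow, hχ, map_one]) (a := 1) (map_one χ)
  change χ b = b at hb
  -- pass to a power of order p
  obtain ⟨j, hj⟩ := (hRp.to_quotient K) b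
  have hjex : ∃ j, b ^ p ^ j = 1 := ⟨j, hj⟩
  have hspec := Nat.find_spec hjex
  have hpos : Nat.find hjex ≠ 0 := fun h => hb1 (by rw [h, pow_zero, pow_one] at hspec; exact hspec)
  set i₀ := Nat.find hjex - 1
  have hi₀ : Nat.find hjex = i₀ + 1 := by omega
  obtain ⟨z, hz⟩ := QuotientGroup.mk_surjective (b ^ p ^ i₀)
  have hz1 : (z : R ⧸ K) ≠ 1 := hz.symm ▸ Nat.find_min hjex (by omega)
  have hzp : z ^ p ∈ K := by
    rw [← QuotientGroup.eq_one_iff, QuotientGroup.mk_pow, hz, ← pow_mul, ← pow_succ, ← hi₀, hspec]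
  have hzfix : χ (z : R ⧸ K) = z := by rw [hz, map_pow, hb]
  set t : MulAut V := c (z : G) with ht
  have htp : t ^ p = 1 := by
    rw [ht, ← map_pow]; exact hzp
  have ht1 : t ≠ 1 := fun h => hz1 ((QuotientGroup.eq_one_iff z).mpr h)
  have htφ : ∀ n : ℕ, c (φ ((z : G) ^ n)) = t ^ n := by
    intro n
    rw [map_pow, map_pow]
    congr 1
    have h1 : (ψ z : R)⁻¹ * z ∈ K := QuotientGroup.eq.mp hzfix
    rw [hK, MonoidHom.mem_ker, map_mul, map_inv, inv_mul_eq_one] at h1
    exact h1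
  let f : ℕ → V →* V := fun i =>
    { toFun := fun v => ⟨(φ ^ i) v, pow_mem hV i v v.2⟩
      map_one' := Subtype.ext (map_one _)
      map_mul' := fun a b => Subtype.ext (map_mul _ _ _) }
  apply ht1
  refine MulEquiv.ext fun v => ?_
  -- twisting by powers of z
  have htw : ∀ (j i : ℕ) (w : V), (((MulAut.conj ((z : G) ^ j) * φ) ^ i) (w : G)) = (((t ^ (i * j)) (f i w) : V) : G) := by
    intro j i w
    induction i with
    | zero => simp [f]
    | succ i ih =>
      have e : (t ^ ((i + 1) * j)) (f (i + 1) w) = c ((z : G) ^ j * φ ((z : G) ^ (i * j))) (f (i + 1) w) := by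
        rw [map_mul, htφ, MulAut.mul_apply, map_pow, add_mul, one_mul, add_comm, pow_add, MulAut.mul_apply]
      rw [e, pow_succ', MulAut.mul_apply, ih]
      show (z : G) ^ j * φ (((t ^ (i * j)) (f i w) : V) : G) * ((z : G) ^ j)⁻¹ = _
      rw [ht, ← map_pow, MulAut.conjNormal_apply, MulAut.conjNormal_apply, map_mul, map_mul, map_inv]
      show _ = (z : G) ^ j * φ ((z : G) ^ (i * j)) * ((φ ^ (i + 1)) (w : G)) * _
      rw [pow_succ', MulAut.mul_apply]
      show (z : G) ^ j * (φ ((z : G) ^ (i * j)) * φ ((φ ^ i) (w : G)) * (φ ((z : G) ^ (i * j)))⁻¹) * ((z : G) ^ j)⁻¹ = _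
      group
  have hnorm : ∀ j : ℕ, ∏ i ∈ Finset.range p, (t ^ (i * j)) (f i v) = 1 := by
    intro j
    let f' : ℕ → V →* V := fun i => (t ^ (i * j)).toMonoidHom.comp (f i)
    exact norm_eq_one (hs.twist ((z : G) ^ j)) f' (fun i w => (htw j i w).symm) v
  have htmod : ∀ m : ℕ, t ^ m = t ^ (m % p) := by
    intro m
    conv_lhs => rw [← Nat.mod_add_div m p, pow_add, pow_mul, htp, one_pow, mul_one]
  let g : ZMod p → MulAut V := fun a => t ^ a.val
  have hg : ∀ m : ℕ, g (m : ZMod p) = t ^ m := fun m => by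
    show t ^ ((m : ZMod p).val) = _
    rw [ZMod.val_natCast, ← htmod]
  have hT : ∀ (i : ℕ) (w : V), i ∈ Finset.range p → i ≠ 0 → ∏ a : ZMod p, (t ^ (i * a.val)) w = ∏ a : ZMod p, g a w := by
    intro i w hi hi0
    have hne : (i : ZMod p) ≠ 0 := fun h => by
      rw [ZMod.natCast_eq_zero_iff] at h
      exact absurd (Nat.le_of_dvd (Nat.pos_of_ne_zero hi0) h) (not_le.mpr (Finset.mem_range.mp hi))
    refine Fintype.prod_bijective (fun a => (i : ZMod p) * a) (mulLeft_bijective₀ _ hne) _ _ fun a => ?_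
    rw [← hg, Nat.cast_mul, ZMod.natCast_zmod_val]
  have hfix : ∀ w : V, t (∏ a : ZMod p, g a w) = ∏ a : ZMod p, g a w := by
    intro w
    rw [map_prod]
    refine Fintype.prod_bijective (fun a => a + 1) (Equiv.addRight (1 : ZMod p)).bijective _ _ fun a => ?_
    rw [← ZMod.natCast_zmod_val a, hg, ← Nat.cast_one, ← Nat.cast_add, hg, pow_succ', MulAut.mul_apply]
  have hall : ∏ i ∈ Finset.range p, ∏ a : ZMod p, (t ^ (i * a.val)) (f i v) = 1 := by
    rw [Finset.prod_comm]
    exact Finset.prod_eq_one fun a _ => hnorm a.val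
  obtain ⟨p', hp'⟩ : ∃ p', p = p' + 1 := ⟨p - 1, (Nat.sub_add_cancel hp.out.one_le).symm⟩
  have hsplit : (∏ i ∈ Finset.range p', ∏ a : ZMod p, g a (f (i + 1) v)) * v ^ p = 1 := by
    rw [← hall]
    conv_rhs => rw [show Finset.range p = Finset.range (p' + 1) by rw [hp'], Finset.prod_range_succ']
    congr 1
    · refine Finset.prod_congr rfl fun i hi => (hT (i + 1) _ ?_ i.succ_ne_zero).symm
      rw [Finset.mem_range] at hi ⊢; omega
    · simp [f, Finset.prod_const, Finset.card_univ]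
  rw [mul_eq_one_iff_inv_eq] at hsplit
  have hfixv : t (v ^ p) = v ^ p := by
    rw [← hsplit, map_inv, inv_inj, map_prod]
    exact Finset.prod_congr rfl fun i _ => hfix _
  have hcopv : Nat.Coprime p (orderOf v) := by
    obtain ⟨k, hk⟩ := IsPGroup.iff_card.mp hRp
    rcases k with _ | k
    · exfalso
      exact hz1 ((QuotientGroup.eq_one_iff z).mpr (by
        have hbot : R = ⊥ := Subgroup.card_eq_one.mp (by simpa using hk)
        have : (z : G) = 1 := mem_bot.mp (hbot.le z.2)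
        rw [show z = 1 from Subtype.ext this]; exact one_mem K))
    · exact (hcop.coprime_dvd_left (hk.symm ▸ dvd_pow_self p k.succ_ne_zero)).coprime_dvd_right (orderOf_dvd_natCard v)
  obtain ⟨m, hm⟩ := exists_pow_eq_self_of_coprime hcopv
  rw [MulAut.one_apply, ← hm, map_pow, hfixv]

theorem le_centralizer [hp : Fact p.Prime] (hs : Split p φ) {r : ℕ} [hr : Fact r.Prime]
    {V R : Subgroup G} [V.Normal] [IsMulCommutative V] (hV : ∀ x ∈ V, φ x ∈ V)
    (hR : ∀ x ∈ R, φ x ∈ R) (hcop : (Nat.card R).Coprime (Nat.card V))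
    (hRr : IsPGroup r R) : R ≤ centralizer (V : Set G) := by
  by_cases h : r = p
  · exact le_centralizer_of_p hs hV hR hcop (h ▸ hRr)
  refine le_centralizer_of_fpf hs hV hR hcop fun x hx hfix => ?_
  obtain ⟨k, hk⟩ := IsPGroup.iff_card.mp hRr
  have h1 : x ^ p = 1 := pow_eq_one_of_fixed hs hfix
  have h2 : x ^ r ^ k = 1 := by
    rw [← hk]; exact orderOf_dvd_iff_pow_eq_one.mp (R.orderOf_dvd_natCard hx)
  exact orderOf_eq_one_iff.mp (Nat.eq_one_of_dvd_coprimes (((Nat.coprime_primes hr.out hp.out).mpr h).pow_left k)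
    (orderOf_dvd_of_pow_eq_one h2) (orderOf_dvd_of_pow_eq_one h1))

theorem isNilpotent_aux [hp : Fact p.Prime] : ∀ (n : ℕ) (G : Type u) [Group G] [Finite G]
    (φ : MulAut G), Nat.card G = n → Split p φ → Group.IsNilpotent G := by
  intro n
  induction n using Nat.strongRecOn with
  | ind n ih =>
  intro G _ _ φ hn hs
  rcases subsingleton_or_nontrivial G with hs' | hnt
  · infer_instance
  have hsub : ∀ (φ' : MulAut G), Split p φ' → ∀ H : Subgroup G, H ≠ ⊤ → (∀ x ∈ H, φ' x ∈ H) → Group.IsNilpotent H :=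
    fun φ' hφ' H hH h =>
    let ⟨ψ, hψ⟩ := restrict_exists hφ' H h
    ih _ (hn ▸ lt_of_le_of_ne (card_le_card_group H) fun he => hH (eq_top_of_card_eq H he)) H ψ rfl hψ
  have hquo : ∀ (φ' : MulAut G), Split p φ' → ∀ (N : Subgroup G) [N.Normal], N ≠ ⊥ → (∀ x ∈ N, φ' x ∈ N) →
      Group.IsNilpotent (G ⧸ N) := fun φ' hφ' N _ hN h =>
    let ⟨ψ, hψ⟩ := quotient_exists hφ' N h
    ih _ (by
      rw [← hn, card_eq_card_quotient_mul_card_subgroup N]
      exact lt_mul_of_one_lt_right Nat.card_pos ((one_lt_card_iff_ne_bot _).mpr hN)) (G ⧸ N) ψ rfl hψ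
  have hchar : ∀ (H : Subgroup G) [H.Characteristic], ∀ x ∈ H, φ x ∈ H := fun H hH =>
    invariant_of_map_eq (characteristic_iff_map_eq.mp hH φ)
  by_cases hsolv : Group.IsSolvable G
  · obtain ⟨M, hMn, -, hM1, hMmin⟩ :=
      Cfsg.Agent.Hall.exists_minimal_normal (⊤ : Subgroup G) top_ne_bot
    obtain ⟨q, hq, -, hMp, -⟩ := Cfsg.Agent.Hall.minimal_normal_isElementaryAbelian hM1 hMmin
    haveI := Fact.mk hq
    set U := pCore q G with hU
    have hU1 : U ≠ ⊥ := fun h => hM1 (le_bot_iff.mp (h ▸ Cfsg.Agent.PLocal.Cores.le_pCore hMp))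
    have hUp : IsPGroup q U := Cfsg.Agent.PLocal.Cores.isPGroup_pCore
    have hUinv : ∀ x ∈ U, φ x ∈ U :=
      invariant_of_map_eq (Cfsg.Agent.PLocal.Cores.map_pCore_equiv (φ : G ≃* G))
    set V := Cfsg.Agent.PLocal.ThompsonComplement.Z U with hV
    have hVinv : ∀ x ∈ V, φ x ∈ V := invariant_of_map_eq (by
      rw [Cfsg.Agent.PLocal.ThompsonComplement.map_Z (φ : G ≃* G).injective.injOn,
        map_eq_of_invariant hUinv])
    haveI : V.Normal := normalizer_eq_top_iff.mp (top_le_iff.mp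
      ((normalizer_eq_top U).ge.trans (Cfsg.Agent.PLocal.ThompsonComplement.normalizer_le_Z U)))
    haveI : IsMulCommutative V := le_centralizer_iff_isMulCommutative.mp
      (inf_le_right.trans (centralizer_le inf_le_left))
    obtain ⟨P⟩ : Nonempty (Sylow q G) := inferInstance
    have hVP : V ≤ (P : Subgroup G) :=
      inf_le_left.trans (Cfsg.Agent.PLocal.Cores.pCore_le_sylow P)
    have hVne : V.subgroupOf P ≠ ⊥ := fun h =>
      Cfsg.Agent.PLocal.ThompsonComplement.Z_ne_bot hUp hU1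
        (show V = ⊥ by rw [← map_subgroupOf_eq_of_le hVP, h, Subgroup.map_bot])
    haveI := P.2.isNilpotent
    obtain ⟨w, hw, hw1⟩ := (bot_or_exists_ne_one _).resolve_left
      (Cfsg.Agent.Cores.inf_center_ne_bot (N := V.subgroupOf P) hVne)
    obtain ⟨hwV, hwC⟩ := mem_inf.mp hw
    rw [mem_subgroupOf] at hwV
    have hcentZ : centralizer ({(w : G)} : Set G) = ⊤ := by
      refine Cfsg.Agent.Cores.eq_top_of_sylow_le fun r hr _ => ?_
      haveI := Fact.mk hr
      by_cases hrq : r = q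
      · subst hrq
        refine ⟨P, fun y hy => ?_⟩
        rw [mem_centralizer_singleton_iff]
        exact congrArg Subtype.val (mem_center_iff.mp hwC ⟨y, hy⟩)
      · obtain ⟨R⟩ : Nonempty (Sylow r G) := inferInstance
        obtain ⟨g, hg, hRinv⟩ := exists_invariant_sylow hs R
        refine ⟨R, fun y hy => ?_⟩
        rw [mem_centralizer_singleton_iff]
        refine (le_centralizer hg (twist_mem hVinv g) hRinv ?_ R.2 hy (w : G) hwV).symm
        obtain ⟨a, ha⟩ := R.2.exists_card_eq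
        obtain ⟨b, hb⟩ := ((hUp.to_le inf_le_left : IsPGroup q V)).exists_card_eq
        rw [ha, hb]
        exact Nat.Coprime.pow _ _ ((Nat.coprime_primes hr hq).mpr hrq)
    have hwcent : (w : G) ∈ center G := mem_center_iff.mpr fun g =>
      mem_centralizer_singleton_iff.mp (hcentZ ▸ mem_top g)
    haveI := hquo φ hs (center G) (fun h => hw1 (Subtype.ext (mem_bot.mp (h ▸ hwcent)))) (hchar _)
    exact Subgroup.isNilpotent_of_ker_le_center (QuotientGroup.mk' (center G))
      (QuotientGroup.ker_mk' _).le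
  · exfalso
    have key : ∀ (φ' : MulAut G), Split p φ' → ∀ (M : Subgroup G) [M.Normal], (∀ x ∈ M, φ' x ∈ M) → M ≠ ⊥ → M ≠ ⊤ → False := by
      intro φ' hφ' M _ hinv hbot htop
      haveI := hsub φ' hφ' M htop hinv
      haveI := hquo φ' hφ' M hbot hinv
      exact hsolv (Cfsg.Agent.Solvable.HallOrder.isSolvable_of_quotient (N := M)
        inferInstance inferInstance)
    have hnp : ∀ q : ℕ, q.Prime → ¬ IsPGroup q G := fun q hq h => hsolv (by
      haveI := Fact.mk hq
      haveI := h.isNilpotent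
      infer_instance)
    obtain ⟨q, hq, hqd, hq2, hqp⟩ : ∃ q : ℕ, q.Prime ∧ q ∣ Nat.card G ∧ q ≠ 2 ∧ q ≠ p := by
      by_contra hcon
      push Not at hcon
      apply hsolv
      have hne : Nat.card G ≠ 0 := Nat.card_pos.ne'
      by_cases hp2 : p = 2
      · exfalso
        refine hnp 2 Nat.prime_two (IsPGroup.of_card (n := (Nat.card G).primeFactorsList.length) ?_)
        exact Nat.eq_prime_pow_of_unique_prime_dvd hne (fun {d} hd hdd => by_contra fun h => h ((hcon d hd hdd h).trans hp2))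
      obtain ⟨a, m, hm, hcard⟩ := Nat.exists_eq_pow_mul_and_not_dvd hne 2 (by norm_num)
      have hm0 : m ≠ 0 := fun h => hne (by rw [hcard, h, mul_zero])
      have hmp : m = p ^ m.primeFactorsList.length := Nat.eq_prime_pow_of_unique_prime_dvd hm0
        (fun {d} hd hdd => hcon d hd (hdd.trans (hcard ▸ dvd_mul_left m (2 ^ a))) (fun h => hm (h ▸ hdd)))
      exact Cfsg.Agent.Characters.burnside_pa_qb (a := a) (b := m.primeFactorsList.length) Nat.prime_two hp.out (by rw [← hmp]; exact hcard)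
    haveI := Fact.mk hq
    obtain ⟨P⟩ : Nonempty (Sylow q G) := inferInstance
    obtain ⟨g, hg, hPinv⟩ := exists_invariant_sylow hs P
    set φ' := MulAut.conj g * φ
    have hP1 : (P : Subgroup G) ≠ ⊥ := fun h => P.not_dvd_index (by rw [h, index_bot]; exact hqd)
    have hPtop : (P : Subgroup G) ≠ ⊤ := fun h => hnp q hq (by
      have hP := P.2
      rw [h] at hP
      exact hP.of_equiv topEquiv)
    have hPe := map_eq_of_invariant hPinv
    set J := thompsonSubgroupOf q (P : Subgroup G) with hJ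
    set Z := Cfsg.Agent.PLocal.ThompsonComplement.Z (P : Subgroup G) with hZ
    have hJe : J.map (φ' : G ≃* G).toMonoidHom = J := by
      rw [hJ, Cfsg.Agent.PLocal.ThompsonComplement.map_J (φ' : G ≃* G).injective.injOn, hPe]
    have hZe : Z.map (φ' : G ≃* G).toMonoidHom = Z := by
      rw [hZ, Cfsg.Agent.PLocal.ThompsonComplement.map_Z (φ' : G ≃* G).injective.injOn, hPe]
    have hN1 : normalizer (J : Set G) ≠ ⊤ := fun h => by
      haveI : J.Normal := normalizer_eq_top_iff.mp h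
      exact key φ' hg J (invariant_of_map_eq hJe)
        (Cfsg.Agent.PLocal.ThompsonComplement.J_ne_bot P.2 hP1)
        (fun h2 => hPtop (top_le_iff.mp (h2 ▸ Cfsg.Agent.PLocal.ThompsonComplement.J_le _)))
    have hN2 : centralizer (Z : Set G) ≠ ⊤ := fun h => by
      haveI : Z.Normal := normalizer_eq_top_iff.mp
        (top_le_iff.mp (h.ge.trans (centralizer_le_normalizer _)))
      exact key φ' hg Z (invariant_of_map_eq hZe)
        (Cfsg.Agent.PLocal.ThompsonComplement.Z_ne_bot P.2 hP1)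
        (fun h2 => hPtop (top_le_iff.mp (h2 ▸ inf_le_left)))
    have hi1 : ∀ x ∈ normalizer (J : Set G), φ' x ∈ normalizer (J : Set G) :=
      invariant_of_map_eq (by rw [map_equiv_normalizer_eq, hJe])
    have hi2 : ∀ x ∈ centralizer (Z : Set G), φ' x ∈ centralizer (Z : Set G) :=
      invariant_of_map_eq (by rw [← Cfsg.Agent.PLocal.ThompsonComplement.centralizer_map_equiv, hZe])
    have hnil : ∀ H : Subgroup G, Group.IsNilpotent H → HasNormalPComplement q H := by
      intro H hH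
      haveI := hH
      exact hasNormalPComplement_of_nilpotent
    have hG := Cfsg.Agent.PLocal.ThompsonComplement.hasNormalPComplement_of_thompson hq2 P
      (hnil _ (hsub φ' hg _ hN1 hi1)) (hnil _ (hsub φ' hg _ hN2 hi2))
    have hOinv : ∀ x ∈ pPrimeCore q G, φ x ∈ pPrimeCore q G :=
      invariant_of_map_eq (Cfsg.Agent.PLocal.Cores.map_pPrimeCore_equiv (φ : G ≃* G))
    obtain ⟨k, hk⟩ := Cfsg.Agent.Transfer.NormalPComplement.hasNormalPComplement_iff_pPrimeCore.mp hG
    haveI : (pPrimeCore q G).Normal := by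
      haveI := Cfsg.Agent.PLocal.Cores.pPrimeCore_characteristic (p := q) (G := G)
      infer_instance
    refine key φ hs _ hOinv (fun h => hnp q hq (IsPGroup.of_card (n := k) ?_)) fun h => ?_
    · rw [← hk, h, index_bot]
    · have hc := Cfsg.Agent.PLocal.Cores.coprime_card_pPrimeCore (p := q) (G := G)
      rw [h, card_top] at hc
      exact hq.ne_one (Nat.eq_one_of_dvd_coprimes hc hqd dvd_rfl)

end Cfsg.Agent.GenA.Splitting
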