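import Mathlib

/-!
Wielandt's join theorem for subnormal subgroups of finite groups, subgroups of nilpotent groups
are subnormal, and the maximal-subgroup climbing lemma.
-/

set_option autoImplicit false

namespace Cfsg.Agent.GenA.Subnormal

universe u

theorem sup_aux : ∀ (n : ℕ) (G : Type u) [Group G] [Finite G], Nat.card G < n →
    ∀ A B : Subgroup G, A.IsSubnormal → B.IsSubnormal → (A ⊔ B).IsSubnormal := by
  intro n
  induction n with
  | zero => intro G _ _ h; omega
  | succ n ih =>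
    intro G _ _ hn A B hA hB
    have hin : ∀ K : Subgroup G, K ≠ ⊤ → K.IsSubnormal → ∀ X Y : Subgroup G, X ≤ K → Y ≤ K →
        X.IsSubnormal → Y.IsSubnormal → (X ⊔ Y).IsSubnormal := by
      intro K hK hKsn X Y hX hY hXs hYs
      refine Subgroup.IsSubnormal.trans (sup_le hX hY) ?_ hKsn
      rw [Subgroup.subgroupOf_sup hX hY]
      refine ih K ?_ _ _ hXs.subgroupOf hYs.subgroupOf
      have : Nat.card K < Nat.card G := by
        refine lt_of_le_of_ne (Nat.card_le_card_of_injective _ K.subtype_injective) fun h => hK ?_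
        exact Subgroup.eq_top_of_card_eq _ h
      omega
    rcases eq_or_ne A ⊤ with rfl | hAtop
    · rw [top_sup_eq]; exact Subgroup.IsSubnormal.top
    obtain ⟨K₀, hK₀n, hAK₀, hK₀⟩ := hA.exists_normal_and_le_and_lt_top_of_ne hAtop
    set K := Subgroup.normalClosure (A : Set G) with hKdef
    have hAK : A ≤ K := Subgroup.le_normalClosure
    have hKtop : K ≠ ⊤ := fun h => hK₀.ne (eq_top_iff.mpr (h ▸ Subgroup.normalClosure_le_normal hAK₀))
    have hKn : K.Normal := Subgroup.normalClosure_normal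
    by_cases hH : K ⊔ B = ⊤
    swap
    · have hHsn : (K ⊔ B).IsSubnormal := by
        have h1 := (hB.map (QuotientGroup.mk'_surjective K)).comap (QuotientGroup.mk' K)
        rwa [Subgroup.comap_map_eq, QuotientGroup.ker_mk', sup_comm] at h1
      exact hin (K ⊔ B) hH hHsn A B (hAK.trans le_sup_left) le_sup_right hA hB
    -- `G = K B`; the closure `S` of `A` under `B` is all of `K`
    let 𝒮 : Set (Subgroup G) := (fun b => A.map (MulAut.conj b).toMonoidHom) '' (B : Set G)
    have h𝒮K : ∀ X ∈ 𝒮, X ≤ K := by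
      rintro _ ⟨b, _, rfl⟩ _ ⟨a, ha, rfl⟩
      exact hKn.conj_mem a (hAK ha) b
    have h𝒮sn : ∀ X ∈ 𝒮, X.IsSubnormal := by
      rintro _ ⟨b, _, rfl⟩
      exact hA.map (MulAut.conj b).surjective
    set S := sSup 𝒮
    have hS : S ≤ K ∧ S.IsSubnormal := by
      have key : ∀ s : Set (Subgroup G), s.Finite → s ⊆ 𝒮 → sSup s ≤ K ∧ (sSup s).IsSubnormal := by
        intro s hs
        refine Set.Finite.induction_on _ hs ?_ ?_
        · intro _; rw [sSup_empty]; exact ⟨bot_le, Subgroup.IsSubnormal.bot⟩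
        · intro X t _ _ ih' hsub
          obtain ⟨h1, h2⟩ := ih' ((Set.subset_insert X t).trans hsub)
          have hX := hsub (Set.mem_insert X t)
          rw [sSup_insert]
          exact ⟨sup_le (h𝒮K X hX) h1,
            hin K hKtop hKn.isSubnormal X _ (h𝒮K X hX) h1 (h𝒮sn X hX) h2⟩
      exact key 𝒮 (Set.toFinite _) subset_rfl
    have hSsub : S ≤ A ⊔ B := by
      refine sSup_le ?_
      rintro _ ⟨b, hb, rfl⟩ _ ⟨a, ha, rfl⟩
      exact mul_mem (mul_mem (Subgroup.mem_sup_right hb) (Subgroup.mem_sup_left ha))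
        (inv_mem (Subgroup.mem_sup_right hb))
    by_cases hSK : S = K
    · have htop : A ⊔ B = ⊤ := by
        rw [eq_top_iff, ← hH]
        exact sup_le (hSK ▸ hSsub) le_sup_right
      rw [htop]; exact Subgroup.IsSubnormal.top
    exfalso
    obtain ⟨N, hNn, hSN, hNlt⟩ := (hS.2.subgroupOf (K := K)).exists_normal_and_le_and_lt_top_of_ne
      (fun h => hSK (le_antisymm hS.1 (Subgroup.subgroupOf_eq_top.mp h)))
    -- the normal closure of `S` in `K`
    set K2 := Subgroup.closure {y : G | ∃ k ∈ K, ∃ s ∈ S, y = k * s * k⁻¹}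
    have hBS : ∀ b ∈ B, ∀ s ∈ S, b * s * b⁻¹ ∈ S := by
      intro b hb s hs
      have : S.map (MulAut.conj b).toMonoidHom ≤ S := by
        rw [Subgroup.map_le_iff_le_comap]
        refine sSup_le ?_
        rintro _ ⟨c, hc, rfl⟩
        rw [← Subgroup.map_le_iff_le_comap, Subgroup.map_map]
        exact le_sSup ⟨b * c, mul_mem hb hc, by simp only [map_mul]; rfl⟩
      exact this ⟨s, hs, rfl⟩
    have hK2n : K2.Normal := by
      rw [← Subgroup.normalizer_eq_top_iff, eq_top_iff, ← hH]
      have step : ∀ g : G, (∀ k ∈ K, g * k * g⁻¹ ∈ K) → ((∀ s ∈ S, g * s * g⁻¹ ∈ S) ∨ g ∈ K) →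
          ∀ y ∈ K2, g * y * g⁻¹ ∈ K2 := by
        intro g hgK hg y hy
        suffices K2 ≤ K2.comap (MulAut.conj g).toMonoidHom from this hy
        rw [Subgroup.closure_le]
        rintro _ ⟨k, hk, s, hs, rfl⟩
        show g * (k * s * k⁻¹) * g⁻¹ ∈ K2
        rcases hg with hg | hg
        · exact Subgroup.subset_closure ⟨g * k * g⁻¹, hgK k hk, g * s * g⁻¹, hg s hs, by group⟩
        · exact Subgroup.subset_closure ⟨g * k, mul_mem hg hk, s, hs, by group⟩
      refine sup_le ?_ ?_
      · intro g hg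
        rw [Subgroup.mem_normalizer_iff]
        refine fun y => ⟨step g (fun k hk => hKn.conj_mem k hk g) (Or.inr hg) y, fun hy => ?_⟩
        have := step g⁻¹ (fun k hk => hKn.conj_mem k hk g⁻¹) (Or.inr (inv_mem hg)) _ hy
        simpa [mul_assoc] using this
      · intro g hg
        rw [Subgroup.mem_normalizer_iff]
        refine fun y => ⟨step g (fun k hk => hKn.conj_mem k hk g) (Or.inl (hBS g hg)) y, fun hy => ?_⟩
        have := step g⁻¹ (fun k hk => hKn.conj_mem k hk g⁻¹) (Or.inl (hBS g⁻¹ (inv_mem hg))) _ hy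
        simpa [mul_assoc] using this
    have hAK2 : A ≤ K2 := by
      intro a ha
      refine Subgroup.subset_closure ⟨1, one_mem K, a, ?_, by simp⟩
      exact le_sSup (show A.map (MulAut.conj (1 : G)).toMonoidHom ∈ 𝒮 from ⟨1, one_mem B, rfl⟩) ⟨a, ha, by simp⟩
    have hK2N : K2 ≤ N.map K.subtype := by
      rw [Subgroup.closure_le]
      rintro _ ⟨k, hk, s, hs, rfl⟩
      exact ⟨⟨k, hk⟩ * ⟨s, hS.1 hs⟩ * ⟨k, hk⟩⁻¹, hNn.conj_mem _ (hSN (Subgroup.mem_subgroupOf.mpr hs)) _, rfl⟩
    have hKN : K ≤ N.map K.subtype := (Subgroup.normalClosure_le_normal hAK2).trans hK2N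
    refine hNlt.ne (eq_top_iff.mpr fun x _ => ?_)
    obtain ⟨y, hy, he⟩ := hKN x.2
    rwa [← Subtype.ext he]

variable {G : Type u} [Group G] [Finite G]

/-- Wielandt's join theorem: the join of two subnormal subgroups of a finite group is subnormal. -/
theorem isSubnormal_sup {A B : Subgroup G} (hA : A.IsSubnormal) (hB : B.IsSubnormal) :
    (A ⊔ B).IsSubnormal :=
  sup_aux _ G (Nat.lt_succ_self _) A B hA hB

theorem isSubnormal_sSup {s : Set (Subgroup G)} (h : ∀ X ∈ s, X.IsSubnormal) :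
    (sSup s).IsSubnormal := by
  have key : ∀ t : Set (Subgroup G), t.Finite → t ⊆ s → (sSup t).IsSubnormal := by
    intro t ht
    refine Set.Finite.induction_on _ ht ?_ ?_
    · intro _; rw [sSup_empty]; exact Subgroup.IsSubnormal.bot
    · intro X r _ _ ih hsub
      rw [sSup_insert]
      exact isSubnormal_sup (h X (hsub (Set.mem_insert X r))) (ih ((Set.subset_insert X r).trans hsub))
  exact key s (Set.toFinite s) subset_rfl

/-- Every subgroup of a finite nilpotent group is subnormal. -/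
theorem isSubnormal_of_isNilpotent [Group.IsNilpotent G] (H : Subgroup G) : H.IsSubnormal := by
  induction hk : Nat.card G - Nat.card H using Nat.strong_induction_on generalizing H with
  | _ k ih =>
    subst hk
    rcases eq_or_ne H ⊤ with rfl | hne
    · exact Subgroup.IsSubnormal.top
    have hlt := normalizerCondition_of_isNilpotent H (lt_top_iff_ne_top.mpr hne)
    refine Subgroup.IsSubnormal.step H _ hlt.le (ih _ ?_ _ rfl) Subgroup.normal_in_normalizer
    have h1 : Nat.card H < Nat.card (Subgroup.normalizer (H : Set G)) :=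
      lt_of_le_of_ne (Subgroup.card_le_of_le hlt.le) fun e => hlt.ne (Subgroup.eq_of_le_of_card_ge hlt.le e.ge)
    have h2 := Nat.card_le_card_of_injective _ (Subgroup.normalizer (H : Set G)).subtype_injective
    omega

/-- A subnormal subgroup inside a proper subgroup `M` is contained in an `M`-invariant subgroup of
`M` whose normalizer is not `M`. -/
theorem exists_invariant_normalizer_ne {M L : Subgroup G} (hM : M ≠ ⊤) (hL : L.IsSubnormal)
    (hLM : L ≤ M) :
    ∃ S : Subgroup G, L ≤ S ∧ S ≤ M ∧ S.IsSubnormal ∧ M ≤ Subgroup.normalizer (S : Set G) ∧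
      Subgroup.normalizer (S : Set G) ≠ M := by
  classical
  have mk : ∀ X : Subgroup G, X.IsSubnormal → X ≤ M →
      ∃ S : Subgroup G, X ≤ S ∧ S ≤ M ∧ S.IsSubnormal ∧ M ≤ Subgroup.normalizer (S : Set G) := by
    intro X hX hXM
    refine ⟨sSup ((fun m => X.map (MulAut.conj m).toMonoidHom) '' (M : Set G)), ?_, ?_, ?_, ?_⟩
    · intro x hx
      exact le_sSup (s := (fun m => X.map (MulAut.conj m).toMonoidHom) '' (M : Set G)) (a := X.map (MulAut.conj (1 : G)).toMonoidHom) ⟨1, one_mem M, rfl⟩ ⟨x, hx, by simp⟩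
    · refine sSup_le ?_
      rintro _ ⟨m, hm, rfl⟩ _ ⟨x, hx, rfl⟩
      exact mul_mem (mul_mem hm (hXM hx)) (inv_mem hm)
    · refine isSubnormal_sSup ?_
      rintro _ ⟨m, _, rfl⟩
      exact hX.map (MulAut.conj m).surjective
    · intro g hg
      have step : ∀ g ∈ M, ∀ y ∈ sSup ((fun m => X.map (MulAut.conj m).toMonoidHom) '' (M : Set G)),
          g * y * g⁻¹ ∈ sSup ((fun m => X.map (MulAut.conj m).toMonoidHom) '' (M : Set G)) := by
        intro g hg y hy
        have : sSup ((fun m => X.map (MulAut.conj m).toMonoidHom) '' (M : Set G)) ≤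
            (sSup ((fun m => X.map (MulAut.conj m).toMonoidHom) '' (M : Set G))).comap (MulAut.conj g).toMonoidHom := by
          refine sSup_le ?_
          rintro _ ⟨m, hm, rfl⟩
          rw [← Subgroup.map_le_iff_le_comap, Subgroup.map_map]
          exact le_sSup ⟨g * m, mul_mem hg hm, by simp only [map_mul]; rfl⟩
        exact this hy
      rw [Subgroup.mem_normalizer_iff]
      refine fun y => ⟨step g hg y, fun hy => ?_⟩
      simpa [mul_assoc] using step g⁻¹ (inv_mem hg) _ hy
  let Pr : Subgroup G → Prop := fun S => L ≤ S ∧ S ≤ M ∧ S.IsSubnormal ∧ M ≤ Subgroup.normalizer (S : Set G)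
  obtain ⟨S, hS⟩ := (Set.toFinite {S : Subgroup G | Pr S}).exists_maximal (mk L hL hLM)
  obtain ⟨hLS, hSM, hSsn, hMS⟩ := hS.1
  refine ⟨S, hLS, hSM, hSsn, hMS, fun heq => ?_⟩
  obtain hStop | ⟨K, hK, hKsn, hKn⟩ := Subgroup.IsSubnormal.iff_eq_top_or_exists.mp hSsn
  · exact hM (eq_top_iff.mpr (hStop ▸ hSM))
  have hKM : K ≤ M := heq ▸ (Subgroup.normal_subgroupOf_iff_le_normalizer hK.le).mp hKn
  obtain ⟨T, hKT, hTM, hTsn, hMT⟩ := mk K hKsn hKM
  exact hK.not_ge (hKT.trans (hS.2 ⟨hLS.trans (hK.le.trans hKT), hTM, hTsn, hMT⟩ (hK.le.trans hKT)))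

end Cfsg.Agent.GenA.Subnormal
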