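import Mathlib

/-!
A cyclic group of order prime to `p` acting semiregularly and symplectically on a space of
dimension `2 * n` over the field with `p` elements has order dividing `p ^ n + 1` or `p ^ n - 1`.
-/

set_option autoImplicit false

namespace Cfsg.Agent.GenA.SymplecticAction

open Polynomial Module

variable {p : ℕ} [hp : Fact p.Prime]

theorem pow_apply_eq {V : Type*} [AddCommGroup V] [Module (ZMod p) V]
    (B : LinearMap.BilinForm (ZMod p) V) {T : Module.End (ZMod p) V}
    (hinv : ∀ u v, B (T u) (T v) = B u v) (k : ℕ) (u v : V) : B ((T ^ k) u) ((T ^ k) v) = B u v := by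
  induction k generalizing u v with
  | zero => simp
  | succ k ih => rw [pow_succ, Module.End.mul_apply, Module.End.mul_apply, ih, hinv]

theorem adjoint_aeval {V : Type*} [AddCommGroup V] [Module (ZMod p) V]
    (B : LinearMap.BilinForm (ZMod p) V) {T : Module.End (ZMod p) V} {h : ℕ} (h0 : 0 < h)
    (hT : T ^ h = 1) (hinv : ∀ u v, B (T u) (T v) = B u v) (g : (ZMod p)[X]) (u v : V) :
    B (aeval T g u) v = B u (aeval (T ^ (h - 1)) g v) := by
  induction g using Polynomial.induction_on' with
  | add a b ha hb => simp only [map_add, LinearMap.add_apply, ha, hb]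
  | monomial k c =>
    rw [aeval_monomial, aeval_monomial, Algebra.algebraMap_eq_smul_one, smul_mul_assoc, one_mul,
      smul_mul_assoc, one_mul, LinearMap.smul_apply, LinearMap.smul_apply, map_smul, map_smul,
      LinearMap.smul_apply]
    congr 1
    rw [← pow_apply_eq B hinv k u (((T ^ (h - 1)) ^ k) v), ← Module.End.mul_apply, ← pow_mul, ← pow_add,
      show k + (h - 1) * k = h * k by rw [Nat.sub_mul, one_mul]; have := Nat.le_mul_of_pos_left k h0; omega,
      pow_mul, hT, one_pow, Module.End.one_apply]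

theorem finite_of_fin {V : Type*} [AddCommGroup V] [Module (ZMod p) V] [Finite V] :
    FiniteDimensional (ZMod p) V := Module.Finite.of_finite

/-- The irreducible case. -/
theorem irreducible_case {V : Type*} [AddCommGroup V] [Module (ZMod p) V] [Finite V] [Nontrivial V]
    (T : Module.End (ZMod p) V) {h : ℕ} (h0 : 0 < h) (hT : T ^ h = 1)
    (hsemi : ∀ (i : ℕ) (v : V), ¬ h ∣ i → (T ^ i) v = v → v = 0)
    (hirr : ∀ W : Submodule (ZMod p) V, (∀ w ∈ W, T w ∈ W) → W = ⊥ ∨ W = ⊤) :
    h ∣ p ^ finrank (ZMod p) V - 1 ∧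
    ∀ B : LinearMap.BilinForm (ZMod p) V, B.Nondegenerate → (∀ u v, B (T u) (T v) = B u v) →
      h ∣ 2 ∨ ∃ i, finrank (ZMod p) V = 2 * i ∧ h ∣ p ^ i + 1 := by
  haveI : FiniteDimensional (ZMod p) V := finite_of_fin
  have hint : IsIntegral (ZMod p) T := Algebra.IsIntegral.isIntegral T
  set m := minpoly (ZMod p) T with hm
  have hmon : m.Monic := minpoly.monic hint
  have hcomm : ∀ (g : (ZMod p)[X]) (v : V), T (aeval T g v) = aeval T g (T v) := by
    intro g v
    have : Commute T (aeval T g) := by
      rw [commute_iff_eq]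
      calc T * aeval T g = aeval T (X * g) := by rw [map_mul, aeval_X]
        _ = aeval T (g * X) := by rw [mul_comm]
        _ = aeval T g * T := by rw [map_mul, aeval_X]
    exact LinearMap.congr_fun this.eq v
  have hker : ∀ g : (ZMod p)[X], LinearMap.ker (aeval T g) = ⊥ ∨ aeval T g = 0 := by
    intro g
    refine (hirr _ fun w hw => ?_).imp id fun h => LinearMap.ker_eq_top.mp h
    rw [LinearMap.mem_ker] at hw ⊢
    rw [← hcomm, hw, map_zero]
  have hne1 : m ≠ 1 := minpoly.ne_one (ZMod p) T
  have hirm : Irreducible m := by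
    rw [hmon.irreducible_iff_natDegree]
    refine ⟨hne1, fun a b ha hb hab => ?_⟩
    have hz : aeval T (a * b) = 0 := by rw [hab, hm, minpoly.aeval]
    rcases hker a with h1 | h1
    · left
      have hb0 : aeval T b = 0 := by
        refine LinearMap.ext fun v => ?_
        have := LinearMap.congr_fun hz v
        rw [map_mul, Module.End.mul_apply] at this
        exact LinearMap.ker_eq_bot'.mp h1 _ this
      have hdeg := Polynomial.natDegree_le_of_dvd (minpoly.dvd (ZMod p) T hb0) hb.ne_zero
      rw [← hm, ← hab, ha.natDegree_mul hb] at hdeg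
      omega
    · have hdeg := Polynomial.natDegree_le_of_dvd (minpoly.dvd (ZMod p) T h1) ha.ne_zero
      rw [← hm, ← hab, ha.natDegree_mul hb] at hdeg
      right
      omega
  haveI : Fact (Irreducible m) := ⟨hirm⟩
  have key : ∀ a b : (ZMod p)[X], aeval (AdjoinRoot.root m) a = aeval (AdjoinRoot.root m) b ↔ aeval T a = aeval T b := by
    intro a b
    rw [AdjoinRoot.aeval_eq, AdjoinRoot.aeval_eq, AdjoinRoot.mk_eq_mk, hm, minpoly.dvd_iff, map_sub, sub_eq_zero]
  set α := AdjoinRoot.root m with hα
  -- dimension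
  obtain ⟨w, hw⟩ := exists_ne (0 : V)
  let ψ : Polynomial.degreeLT (ZMod p) m.natDegree →ₗ[ZMod p] V :=
    ((LinearMap.applyₗ w).comp (aeval T).toLinearMap).comp (Submodule.subtype _)
  have hψi : Function.Injective ψ := by
    rw [injective_iff_map_eq_zero]
    rintro ⟨g, hg⟩ hgw
    have hgw' : aeval T g w = 0 := hgw
    rcases hker g with h1 | h1
    · exact absurd (LinearMap.ker_eq_bot'.mp h1 _ hgw') hw
    · by_contra hne
      have hg0 : g ≠ 0 := fun e => hne (Subtype.ext e)
      have h2 := Polynomial.natDegree_le_of_dvd (minpoly.dvd (ZMod p) T h1) hg0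
      rw [Polynomial.mem_degreeLT, ← Polynomial.natDegree_lt_iff_degree_lt hg0, hm] at hg
      omega
  have hψs : Function.Surjective ψ := by
    let W : Submodule (ZMod p) V := LinearMap.range ((LinearMap.applyₗ w).comp (aeval T).toLinearMap)
    have hW : W = ⊤ := by
      refine (hirr W ?_).resolve_left ?_
      · rintro _ ⟨g, rfl⟩
        exact ⟨X * g, by simp [Module.End.mul_apply]⟩
      · intro hb
        have : w ∈ W := ⟨1, by simp⟩
        rw [hb] at this
        exact hw this
    intro v
    obtain ⟨g, hg⟩ : v ∈ W := by rw [hW]; trivial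
    refine ⟨⟨g %ₘ m, ?_⟩, ?_⟩
    · rw [Polynomial.mem_degreeLT]
      calc (g %ₘ m).degree < m.degree := Polynomial.degree_modByMonic_lt g hmon
        _ = _ := Polynomial.degree_eq_natDegree hmon.ne_zero
    · show aeval T (g %ₘ m) w = v
      rw [← hg]
      conv_rhs => rw [← Polynomial.modByMonic_add_div g m]
      simp [hm, minpoly.aeval]
  have hdim : finrank (ZMod p) V = m.natDegree := by
    rw [← (LinearEquiv.ofBijective ψ ⟨hψi, hψs⟩).finrank_eq, (Polynomial.degreeLTEquiv (ZMod p) m.natDegree).finrank_eq, Module.finrank_fin_fun]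
  haveI : Module.Finite (ZMod p) (AdjoinRoot m) := (AdjoinRoot.powerBasis hmon.ne_zero).finite
  haveI : Finite (AdjoinRoot m) := Module.finite_of_finite (ZMod p)
  have hdimL : finrank (ZMod p) (AdjoinRoot m) = m.natDegree := by
    rw [(AdjoinRoot.powerBasis hmon.ne_zero).finrank, AdjoinRoot.powerBasis_dim]
  have hdvd : ∀ k : ℕ, α ^ k = 1 → h ∣ k := by
    intro k hk
    by_contra hndvd
    obtain ⟨v, hv⟩ := exists_ne (0 : V)
    refine hv (hsemi k v hndvd ?_)
    have := (key (X ^ k) 1).mp (by simpa using hk)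
    simp only [map_pow, aeval_X, map_one] at this
    rw [this, Module.End.one_apply]
  have hα1 : α ^ h = 1 := by
    have := (key (X ^ h) 1).mpr (by simpa using hT)
    simpa using this
  have hα0 : α ≠ 0 := by
    intro e
    rw [e, zero_pow h0.ne'] at hα1
    exact zero_ne_one hα1
  refine ⟨hdvd _ ?_, fun B hB hinv => ?_⟩
  · letI := Fintype.ofFinite (AdjoinRoot m)
    rw [show p ^ finrank (ZMod p) V = Fintype.card (AdjoinRoot m) by
      rw [Module.card_eq_pow_finrank (K := ZMod p), ZMod.card, hdimL, hdim]]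
    exact FiniteField.pow_card_sub_one_eq_one α hα0
  -- the inverse of the root is a root
  have hroot : aeval (α ^ (h - 1)) m = 0 := by
    have h1 : aeval (T ^ (h - 1)) m = 0 := by
      refine LinearMap.ext fun v => ?_
      refine hB.2 _ fun u => ?_
      rw [← adjoint_aeval B h0 hT hinv, hm, minpoly.aeval]
      simp
    have h2 := (key (m.comp (X ^ (h - 1))) 0).mpr (by rw [map_zero, aeval_comp, map_pow, aeval_X, h1])
    rwa [map_zero, aeval_comp, map_pow, aeval_X] at h2
  let σ : AdjoinRoot m →ₐ[ZMod p] AdjoinRoot m :=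
    AdjoinRoot.liftAlgHom m (Algebra.ofId (ZMod p) (AdjoinRoot m)) (α ^ (h - 1)) hroot
  have hσα : σ α = α ^ (h - 1) := AdjoinRoot.lift_root hroot
  letI := Fintype.ofFinite (AdjoinRoot m)
  let σe : AdjoinRoot m ≃ₐ[ZMod p] AdjoinRoot m :=
    (Algebra.IsAlgebraic.algEquivEquivAlgHom (ZMod p) (AdjoinRoot m)).symm σ
  obtain ⟨⟨i, hi⟩, hiσ⟩ := (FiniteField.bijective_frobeniusAlgEquivOfAlgebraic_pow (ZMod p) (AdjoinRoot m)).2 σe
  have happ : ∀ (k : ℕ) (x : AdjoinRoot m),
      (FiniteField.frobeniusAlgEquivOfAlgebraic (ZMod p) (AdjoinRoot m) ^ k) x = x ^ p ^ k := by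
    intro k x
    rw [AlgEquiv.coe_pow, FiniteField.coe_frobeniusAlgEquivOfAlgebraic_iterate, ZMod.card]
  have hαi : α ^ p ^ i = α ^ (h - 1) := by
    rw [← happ, ← hσα]
    exact AlgEquiv.congr_fun hiσ α
  have hi1 : h ∣ p ^ i + 1 := by
    refine hdvd _ ?_
    rw [pow_succ, hαi, ← pow_succ, Nat.sub_add_cancel h0, hα1]
  rcases Nat.eq_zero_or_pos i with rfl | hipos
  · left
    simpa using hi1
  · right
    refine ⟨i, ?_, hi1⟩
    have hfix : α ^ p ^ (2 * i) = α := by
      have e : α ^ (p ^ i + 1) = 1 := by rw [pow_succ, hαi, ← pow_succ, Nat.sub_add_cancel h0, hα1]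
      have e1 : α ^ p ^ i = α⁻¹ := eq_inv_of_mul_eq_one_left (by rwa [← pow_succ])
      rw [two_mul, pow_add, pow_mul, e1, inv_pow, e1, inv_inv]
    have hone : FiniteField.frobeniusAlgEquivOfAlgebraic (ZMod p) (AdjoinRoot m) ^ (2 * i) = 1 := by
      apply AlgEquiv.ext
      intro x
      have := AdjoinRoot.algHom_ext (g₁ := (FiniteField.frobeniusAlgEquivOfAlgebraic (ZMod p) (AdjoinRoot m) ^ (2 * i)).toAlgHom)
        (g₂ := AlgHom.id (ZMod p) _) (by
          show (FiniteField.frobeniusAlgEquivOfAlgebraic (ZMod p) (AdjoinRoot m) ^ (2 * i)) α = α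
          rw [happ, hfix])
      exact AlgHom.congr_fun this x
    have hd := orderOf_dvd_of_pow_eq_one hone
    rw [FiniteField.orderOf_frobeniusAlgEquivOfAlgebraic] at hd
    rw [hdimL] at hi hd
    rw [hdim]
    obtain ⟨c, hc⟩ := hd
    rcases c with _ | _ | c
    · omega
    · omega
    · nlinarith

theorem combine {h d n : ℕ} (a : ℤ) (ha : a = 1 ∨ a = -1) (hd : (h : ℤ) ∣ (p : ℤ) ^ d - a)
    (hn : h ∣ p ^ n + 1 ∨ h ∣ p ^ n - 1) : h ∣ p ^ (d + n) + 1 ∨ h ∣ p ^ (d + n) - 1 := by
  obtain ⟨b, hb, hn'⟩ : ∃ b : ℤ, (b = 1 ∨ b = -1) ∧ (h : ℤ) ∣ (p : ℤ) ^ n - b := by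
    rcases hn with hn | hn
    · exact ⟨-1, Or.inr rfl, by rw [sub_neg_eq_add]; exact_mod_cast hn⟩
    · refine ⟨1, Or.inl rfl, ?_⟩
      have := Int.natCast_dvd_natCast.mpr hn
      rwa [Nat.cast_sub (Nat.one_le_pow _ _ hp.out.pos), Nat.cast_pow, Nat.cast_one] at this
  have hab : (h : ℤ) ∣ (p : ℤ) ^ (d + n) - a * b := by
    have e : (p : ℤ) ^ (d + n) - a * b = ((p : ℤ) ^ d - a) * (p : ℤ) ^ n + a * ((p : ℤ) ^ n - b) := by ring
    rw [e]
    exact dvd_add (hd.mul_right _) (hn'.mul_left _)
  have hc : a * b = 1 ∨ a * b = -1 := by rcases ha with rfl | rfl <;> rcases hb with rfl | rfl <;> simp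
  rcases hc with hc | hc <;> rw [hc] at hab
  · right
    rw [← Int.natCast_dvd_natCast, Nat.cast_sub (Nat.one_le_pow _ _ hp.out.pos), Nat.cast_pow, Nat.cast_one]
    exact hab
  · left
    rw [sub_neg_eq_add] at hab
    exact_mod_cast hab

/-- Semiregular cyclic symplectic groups. -/
theorem dvd_pow_pm_one {V : Type*} [AddCommGroup V] [Module (ZMod p) V] [Finite V]
    (B : LinearMap.BilinForm (ZMod p) V) (T : Module.End (ZMod p) V) {h : ℕ} (h0 : 0 < h)
    (hcop : h.Coprime p) (hT : T ^ h = 1)
    (hsemi : ∀ (i : ℕ) (v : V), ¬ h ∣ i → (T ^ i) v = v → v = 0)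
    (halt : B.IsAlt) (hB : B.Nondegenerate) (hinv : ∀ u v, B (T u) (T v) = B u v) {n : ℕ}
    (hn : finrank (ZMod p) V = 2 * n) : h ∣ p ^ n + 1 ∨ h ∣ p ^ n - 1 := by
  induction n using Nat.strong_induction_on generalizing V with
  | _ n ih =>
  rcases Nat.eq_zero_or_pos n with rfl | hn0
  · right; simp
  by_cases hh2 : h ∣ 2
  · left
    rcases (Nat.dvd_prime Nat.prime_two).mp hh2 with e | e
    · rw [e]; exact one_dvd _
    · subst e
      exact ((Nat.coprime_two_left.mp hcop).pow.add_one).two_dvd
  haveI : FiniteDimensional (ZMod p) V := finite_of_fin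
  obtain ⟨W, ⟨hWT, hW0⟩, hWmin⟩ := (Set.toFinite {W : Submodule (ZMod p) V | (∀ w ∈ W, T w ∈ W) ∧ W ≠ ⊥}).exists_minimal
    ⟨⊤, fun w _ => trivial, by
      intro e
      have := finrank_bot (ZMod p) V
      rw [← e, finrank_top] at this
      omega⟩
  haveI : Nontrivial W := Submodule.nontrivial_iff_ne_bot.mpr hW0
  have hWpow : ∀ (k : ℕ), ∀ w ∈ W, (T ^ k) w ∈ W := by
    intro k
    induction k with
    | zero => exact fun w hw => by simpa using hw
    | succ k ihk => exact fun w hw => by rw [pow_succ, Module.End.mul_apply]; exact ihk _ (hWT w hw)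
  let TW : Module.End (ZMod p) W := T.restrict hWT
  have hTW : ∀ (k : ℕ) (w : W), ((TW ^ k) w : V) = (T ^ k) w := by
    intro k
    induction k with
    | zero => simp
    | succ k ihk => exact fun w => by rw [pow_succ, pow_succ, Module.End.mul_apply, Module.End.mul_apply, ihk]; rfl
  have hirr := irreducible_case TW h0 (LinearMap.ext fun w => Subtype.ext (by rw [hTW, hT]; rfl))
    (fun i w hi hw => Subtype.ext (hsemi i w hi (by rw [← hTW, hw])))
    (fun U hU => by
      by_cases hU0 : U = ⊥
      · exact Or.inl hU0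
      · right
        have h1 := hWmin (y := U.map W.subtype) ⟨by
          rintro _ ⟨u, hu, rfl⟩
          exact ⟨TW u, hU u hu, rfl⟩, fun e => hU0 (Submodule.map_injective_of_injective W.subtype_injective (by rw [e, Submodule.map_bot]))⟩
          (Submodule.map_subtype_le _ _)
        rw [eq_top_iff]
        intro u _
        obtain ⟨u', hu', he⟩ := h1 u.2
        rwa [Subtype.ext he] at hu')
  set d := finrank (ZMod p) W with hd
  have hd0 : 0 < d := Module.finrank_pos
  have hrefl := halt.isRefl
  set O := B.orthogonal W with hO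
  have hOT : ∀ v ∈ O, T v ∈ O := by
    intro v hv w hw
    have hw' : (T ^ (h - 1)) w ∈ W := hWpow _ w hw
    have := hv _ hw'
    rw [← hinv, ← Module.End.mul_apply, ← pow_succ', Nat.sub_add_cancel h0, hT, Module.End.one_apply] at this
    exact this
  have hOpow : ∀ (k : ℕ) (v : V), v ∈ O → (T ^ k) v ∈ O := by
    intro k
    induction k with
    | zero => exact fun w hw => by simpa using hw
    | succ k ihk => exact fun w hw => by rw [pow_succ, Module.End.mul_apply]; exact ihk _ (hOT w hw)
  let TO : Module.End (ZMod p) O := T.restrict hOT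
  have hTO : ∀ (k : ℕ) (w : O), ((TO ^ k) w : V) = (T ^ k) w := by
    intro k
    induction k with
    | zero => simp
    | succ k ihk => exact fun w => by rw [pow_succ, pow_succ, Module.End.mul_apply, Module.End.mul_apply, ihk]; rfl
  have hOdim : finrank (ZMod p) O = 2 * n - d := by rw [hO, LinearMap.BilinForm.finrank_orthogonal hB, hn]
  have hdle : d ≤ 2 * n := hn ▸ Submodule.finrank_le W
  by_cases hdis : W ⊓ O = ⊥
  · -- nondegenerate
    have hWnd : (B.restrict W).Nondegenerate := B.nondegenerate_restrict_of_disjoint_orthogonal hrefl (disjoint_iff.mpr hdis)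
    rcases hirr.2 _ hWnd (fun u v => hinv u v) with h2 | ⟨i, hi, hi1⟩
    · exact absurd h2 hh2
    have hcompl := (LinearMap.BilinForm.restrict_nondegenerate_iff_isCompl_orthogonal hrefl).mp hWnd
    have hOnd : (B.restrict O).Nondegenerate := by
      refine (LinearMap.BilinForm.restrict_nondegenerate_iff_isCompl_orthogonal hrefl).mpr ?_
      rw [hO, LinearMap.BilinForm.orthogonal_orthogonal hB hrefl]
      exact hcompl.symm
    have := ih (n - i) (by omega) (B.restrict O) TO
      (LinearMap.ext fun w => Subtype.ext (by rw [hTO, hT]; rfl))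
      (fun k w hk hw => Subtype.ext (hsemi k w hk (by rw [← hTO, hw])))
      (fun v => halt v) hOnd (fun u v => hinv u v) (by omega)
    have h' := combine (p := p) (h := h) (d := i) (-1) (Or.inr rfl)
      (by rw [sub_neg_eq_add]; exact_mod_cast hi1) this
    rwa [Nat.add_sub_cancel' (by omega)] at h'
  · -- totally isotropic
    have hWO : W ≤ O := by
      have := hWmin (y := W ⊓ O) ⟨fun w hw => ⟨hWT w hw.1, hOT w hw.2⟩, hdis⟩ inf_le_left
      exact this.trans inf_le_right
    have hdn : d ≤ n := by
      have := Submodule.finrank_mono hWO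
      omega
    let R : Submodule (ZMod p) O := W.comap O.subtype
    have hRdim : finrank (ZMod p) R = d := (Submodule.comapSubtypeEquivOfLe hWO).finrank_eq
    let B1 : O →ₗ[ZMod p] (O ⧸ R) →ₗ[ZMod p] ZMod p :=
      { toFun := fun u => R.liftQ (B.restrict O u) (fun w hw => by
          rw [LinearMap.mem_ker]
          exact hrefl _ _ (u.2 (w : V) hw))
        map_add' := fun u v => Submodule.linearMap_qext _ (by ext; simp)
        map_smul' := fun c u => Submodule.linearMap_qext _ (by ext; simp) }
    let B' : LinearMap.BilinForm (ZMod p) (O ⧸ R) := R.liftQ B1 (fun w hw => by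
      rw [LinearMap.mem_ker]
      refine Submodule.linearMap_qext _ (LinearMap.ext fun v => ?_)
      exact v.2 (w : V) hw)
    have hB' : ∀ u v : O, B' (Submodule.Quotient.mk u) (Submodule.Quotient.mk v) = B u v := fun u v => rfl
    haveI : Finite (O ⧸ R) := Finite.of_surjective _ R.mkQ_surjective
    let T' : Module.End (ZMod p) (O ⧸ R) := R.mapQ R TO (fun w hw => hWT w hw)
    have hT' : ∀ (k : ℕ) (u : O), (T' ^ k) (Submodule.Quotient.mk u) = Submodule.Quotient.mk ((TO ^ k) u) := by
      intro k
      induction k with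
      | zero => simp
      | succ k ihk => exact fun u => by rw [pow_succ, pow_succ, Module.End.mul_apply, Module.End.mul_apply, ← ihk]; rfl
    have := ih (n - d) (by omega) B' T'
      (LinearMap.ext fun q => by
        obtain ⟨u, rfl⟩ := Submodule.Quotient.mk_surjective _ q
        rw [hT']
        congr 1
        exact Subtype.ext (by rw [hTO, hT]; rfl))
      (fun k q hk hq => by
        obtain ⟨u, rfl⟩ := Submodule.Quotient.mk_surjective _ q
        rw [hT', Submodule.Quotient.eq] at hq
        let S : W →ₗ[ZMod p] W := (TW ^ k) - 1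
        have hS : Function.Injective S := by
          rw [injective_iff_map_eq_zero]
          intro w hw
          refine Subtype.ext (hsemi k w hk ?_)
          rw [← hTW]
          exact congrArg Subtype.val (sub_eq_zero.mp hw)
        have hq' : (T ^ k) (u : V) - u ∈ W := by rw [← hTO]; exact hq
        obtain ⟨w, hw⟩ := (Finite.injective_iff_surjective.mp hS) ⟨_, hq'⟩
        have hw' : (T ^ k) (w : V) - w = (T ^ k) (u : V) - u := by
          rw [← hTW]; exact congrArg Subtype.val hw
        have h3 : (u : V) - w = 0 := hsemi k _ hk (by rw [map_sub]; linear_combination (norm := abel) -hw')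
        rw [Submodule.Quotient.mk_eq_zero]
        show (u : V) ∈ W
        rw [sub_eq_zero.mp h3]
        exact w.2)
      (fun q => by
        obtain ⟨u, rfl⟩ := Submodule.Quotient.mk_surjective _ q
        rw [hB']
        exact halt _)
      (by
        have hsep : ∀ u : O, (∀ v : O, B u v = 0) → (Submodule.Quotient.mk u : O ⧸ R) = 0 := by
          intro u hu
          rw [Submodule.Quotient.mk_eq_zero]
          show (u : V) ∈ W
          rw [← LinearMap.BilinForm.orthogonal_orthogonal hB hrefl W]
          exact fun v hv => hrefl _ _ (hu ⟨v, hv⟩)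
        constructor
        · intro q hq
          obtain ⟨u, rfl⟩ := Submodule.Quotient.mk_surjective _ q
          exact hsep u fun v => by rw [← hB']; exact hq _
        · intro q hq
          obtain ⟨u, rfl⟩ := Submodule.Quotient.mk_surjective _ q
          exact hsep u fun v => hrefl _ _ (by rw [← hB']; exact hq _))
      (fun q r => by
        obtain ⟨u, rfl⟩ := Submodule.Quotient.mk_surjective _ q
        obtain ⟨v, rfl⟩ := Submodule.Quotient.mk_surjective _ r
        exact hinv u v)
      (by
        have := R.finrank_quotient_add_finrank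
        omega)
    have hd1 : (h : ℤ) ∣ (p : ℤ) ^ d - 1 := by
      have := Int.natCast_dvd_natCast.mpr hirr.1
      rwa [Nat.cast_sub (Nat.one_le_pow _ _ hp.out.pos), Nat.cast_pow, Nat.cast_one] at this
    have h' := combine (p := p) (h := h) (d := d) 1 (Or.inl rfl) hd1 this
    rwa [Nat.add_sub_cancel' hdn] at h'

end Cfsg.Agent.GenA.SymplecticAction
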