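/-
A saturated fusion system on a 2-group in which every element is conjugate into the centre has
abelian underlying group, and the consequences for finite groups.
-/
import Mathlib
import Cfsg.Agent.Lib.Fusion.Group

set_option autoImplicit false

namespace Cfsg.Agent.GenA.TwoCentral

open Cfsg Cfsg.FusionSystem Cfsg.Agent.Fusion.Basic Cfsg.Agent.Fusion.Saturation

variable {Ω : Type*} [Group Ω] {S : Subgroup Ω} {F : FusionSystem S} {P : Subgroup Ω} {f : Ω → Ω}

theorem isHomOn_map_pow (h : IsHomOn P f) {x : Ω} (hx : x ∈ P) (n : ℕ) : f (x ^ n) = f x ^ n := by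
  induction n with
  | zero => simp [h.map_one]
  | succ n ih => rw [pow_succ, pow_succ, h _ (P.pow_mem hx n) _ hx, ih]

/-- The centre of `S`, inside the ambient group. -/
abbrev Z (S : Subgroup Ω) : Subgroup Ω := S ⊓ Subgroup.centralizer (S : Set Ω)

theorem comm_of_mem_Z {z y : Ω} (hz : z ∈ Z S) (hy : y ∈ S) : Commute y z := hz.2 y hy

theorem mem_cz {x y : Ω} (hy : y ∈ S) (h : Commute x y) :
    y ∈ centralizerIn S (Subgroup.zpowers x) := by
  refine ⟨hy, ?_⟩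
  rintro _ ⟨n, rfl⟩
  exact h.zpow_left n

variable [Finite S]

/-- The image of `S` under a map defined on `S` is `S`. -/
theorem img_self {α : Ω → Ω} (hα : IsMap F S α) : img α S = S :=
  eq_of_le_card hα.img_le_S (le_of_eq hα.card_img.symm)

theorem map_Z {α : Ω → Ω} (hα : IsMap F S α) {z : Ω} (hz : z ∈ Z S) : α z ∈ Z S := by
  refine ⟨hα.mem hz.1, fun y hy => ?_⟩
  rw [SetLike.mem_coe, ← img_self hα, hα.mem_img] at hy
  obtain ⟨x, hx, rfl⟩ := hy
  rw [← hα.map_mul hx hz.1, ← hα.map_mul hz.1 hx, (comm_of_mem_Z hz hx).eq]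

variable (hS : IsPGroup 2 S) (hF : F.IsSaturated 2)

include hS hF

/-- A map with central image extends to the centralizer of its source. -/
theorem extend_central (hf : IsMap F P f) (hc : ∀ y ∈ P, f y ∈ Z S) :
    ∃ g, IsMap F (centralizerIn S P) g ∧ ∀ y ∈ P, g y = f y := by
  have hle : img f P ≤ Z S := img_le hc
  have hfc : F.IsFullyCentralized (img f P) := by
    refine ⟨hf.img_le_S, fun Q _ => ?_⟩
    have h1 : centralizerIn S (img f P) = S := by
      refine le_antisymm centralizerIn_le fun y hy => ⟨hy, fun z hz => ?_⟩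
      exact ((hle hz).2 y hy).symm
    rw [h1]
    exact card_le_card centralizerIn_le
  haveI : Fact (Nat.Prime 2) := ⟨Nat.prime_two⟩
  obtain ⟨g, hg, hge⟩ := exists_extension hS hF hf hfc
  exact ⟨g, hg.restrict centralizerIn_le_nSub, hge⟩

/-- A map between central elements extends to an automorphism of `S`. -/
theorem extend_elt {z : Ω} (hz : z ∈ Z S) (hf : IsMap F (Subgroup.zpowers z) f)
    (hfz : f z ∈ Z S) : ∃ α, IsMap F S α ∧ α z = f z := by
  have hzm : z ∈ Subgroup.zpowers z := Subgroup.mem_zpowers z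
  have hc : ∀ y ∈ Subgroup.zpowers z, f y ∈ Z S := by
    intro y hy
    obtain ⟨n, hn⟩ := Subgroup.mem_zpowers_iff.1 hy
    have h1 : f y = (f z) ^ n := by
      have h2 := map_zpow hf.hom ⟨z, hzm⟩ n
      simp only [IsMap.hom_apply, SubgroupClass.coe_zpow, hn] at h2
      exact h2
    rw [h1]
    exact Subgroup.zpow_mem _ hfz n
  obtain ⟨g, hg, hge⟩ := extend_central hS hF hf hc
  exact ⟨g, hg.restrict fun y hy => mem_cz hy (comm_of_mem_Z hz hy).symm, hge z hzm⟩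

/-- No central element other than those of order at most two is inverted by the system. -/
theorem sq_eq_one_of_inverted {z : Ω} (hz : z ∈ Z S) {α : Ω → Ω} (hα : IsMap F S α)
    (hαz : α z = z⁻¹) : z * z = 1 := by
  haveI : Fact (Nat.Prime 2) := ⟨Nat.prime_two⟩
  obtain ⟨β, hβ, hβe⟩ := hα.exists_aut (img_self hα)
  obtain ⟨Q, hSQ, hA, -⟩ := hF S le_rfl
  have hQ : Q = S := eq_of_le_card (isConj_le hSQ).2 (le_of_eq (isConj_card hSQ).symm)
  subst hQ
  obtain ⟨-, R, hR⟩ := hA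
  have hβz : autFun β z = z⁻¹ := by rw [hβe z hz.1, hαz]
  have hβz' : autFun β z⁻¹ = z := by
    rw [(autFun_isHom β).map_inv hz.1, hβz, inv_inv]
  have hodd : ∀ k : ℕ, autFun (β ^ (2 * k + 1)) z = z⁻¹ := by
    intro k
    induction k with
    | zero => simpa using hβz
    | succ k ih =>
      rw [show 2 * (k + 1) + 1 = 1 + (1 + (2 * k + 1)) by ring, pow_add, pow_add, pow_one,
        autFun_mul, autFun_mul, ih, hβz', hβz]
  obtain ⟨j, m, hm, hord⟩ := Nat.exists_eq_pow_mul_and_not_dvd (orderOf_pos β).ne' 2 (by norm_num)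
  let β' : F.autGroup Q := ⟨β ^ m, Subgroup.pow_mem _ hβ m⟩
  have hp : IsPGroup 2 (Subgroup.zpowers β') := by
    rintro ⟨_, n, rfl⟩
    refine ⟨j, Subtype.ext ?_⟩
    have h1 : β' ^ 2 ^ j = 1 := by
      refine Subtype.ext ?_
      rw [SubgroupClass.coe_pow]
      show (β ^ m) ^ 2 ^ j = 1
      rw [← pow_mul, mul_comm, ← hord, pow_orderOf_eq_one]
    show (β' ^ n) ^ 2 ^ j = 1
    rw [← zpow_natCast, ← zpow_mul, mul_comm, zpow_mul, zpow_natCast, h1, one_zpow]
  obtain ⟨c, hc⟩ := exists_conj_le_sylow R hp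
  have h2 := hc β' (Subgroup.mem_zpowers _)
  rw [hR] at h2
  obtain ⟨g, hg, hge⟩ := mem_autInducedBy_iff'.1 (Subgroup.mem_subgroupOf.1 h2)
  have hcz : autFun (c : MulAut Q) z ∈ Z Q :=
    map_Z (isMap_of_mem_autGroup le_rfl c.2) hz
  have h3 := hge _ hcz.1
  rw [Subgroup.coe_mul, Subgroup.coe_mul, Subgroup.coe_inv, autFun_mul, autFun_mul,
    autFun_inv_apply, cj_apply, (comm_of_mem_Z hcz hg.1).eq, mul_inv_cancel_right] at h3
  obtain ⟨k, hk⟩ : Odd m := Nat.odd_iff.2 (Nat.two_dvd_ne_zero.1 hm)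
  have h4 := congrArg (autFun (c : MulAut Q)⁻¹) h3
  rw [autFun_inv_apply, autFun_inv_apply] at h4
  have h5 : autFun (β ^ m) z = z := h4
  rw [hk, hodd k] at h5
  exact mul_eq_one_iff_eq_inv.2 h5.symm

variable (h : ∀ x ∈ S, ∃ z ∈ Z S, F.IsConjElt x z)

include h

/-- Every element is moved into the centre by a map defined on its centralizer. -/
theorem exists_to_center {x : Ω} (hx : x ∈ S) :
    ∃ φ, IsMap F (centralizerIn S (Subgroup.zpowers x)) φ ∧ φ x ∈ Z S := by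
  obtain ⟨z, hz, φ, hφ, hφx⟩ := h x hx
  have hc : ∀ y ∈ Subgroup.zpowers x, ext φ y ∈ Z S := by
    intro y hy
    obtain ⟨n, hn⟩ := Subgroup.mem_zpowers_iff.1 hy
    have hy' : (⟨y, hy⟩ : Subgroup.zpowers x) = ⟨x, Subgroup.mem_zpowers x⟩ ^ n :=
      Subtype.ext hn.symm
    rw [ext_of_mem φ hy, hy', map_zpow, hφx]
    exact Subgroup.zpow_mem _ hz n
  obtain ⟨g, hg, hge⟩ := extend_central hS hF (IsMap.of_hom hφ) hc
  refine ⟨g, hg, ?_⟩
  rw [hge x (Subgroup.mem_zpowers x)]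
  exact hc x (Subgroup.mem_zpowers x)

theorem comm_of_involutions {a b : Ω} (ha : a ∈ S) (hb : b ∈ S) (ha2 : a * a = 1)
    (hb2 : b * b = 1) : Commute a b := by
  have hai : a⁻¹ = a := inv_eq_of_mul_eq_one_right ha2
  have hbi : b⁻¹ = b := inv_eq_of_mul_eq_one_right hb2
  obtain ⟨x, hxdef⟩ : ∃ x, x = a * b := ⟨_, rfl⟩
  have hxS : x ∈ S := hxdef ▸ S.mul_mem ha hb
  have hax : a * x * a⁻¹ = x⁻¹ := by
    rw [hxdef, mul_inv_rev, hai, hbi, ← mul_assoc, ha2, one_mul]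
  obtain ⟨φ, hφ, hv⟩ := exists_to_center hS hF h hxS
  have hxle : Subgroup.zpowers x ≤ centralizerIn S (Subgroup.zpowers x) :=
    Subgroup.zpowers_le.2 (mem_cz hxS (Commute.refl x))
  have hφ' := hφ.restrict hxle
  obtain ⟨g, hg, hgimg, hgf, -⟩ := hφ'.exists_inv
  have hvle : Subgroup.zpowers (φ x) ≤ img φ (Subgroup.zpowers x) :=
    Subgroup.zpowers_le.2 (mem_img_self φ (Subgroup.mem_zpowers x))
  have hinv : ∀ y ∈ Subgroup.zpowers x, cj a y ∈ Subgroup.zpowers x := by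
    intro y hy
    obtain ⟨n, rfl⟩ := Subgroup.mem_zpowers_iff.1 hy
    have h1 : cj a (x ^ n) = (a * x * a⁻¹) ^ n := map_zpow (MulAut.conj a).toMonoidHom x n
    rw [h1, hax]
    exact Subgroup.zpow_mem _ (Subgroup.inv_mem _ (Subgroup.mem_zpowers x)) n
  have hcomp : IsMap F (img φ (Subgroup.zpowers x)) (fun y => φ (cj a (g y))) := by
    have h1 : IsMap F (Subgroup.zpowers x) (fun y => φ (cj a y)) :=
      hφ'.comp (isMap_cj (hφ'.le) ha) hinv
    exact h1.comp hg fun y hy => le_of_eq hgimg (mem_img_self g hy)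
  have hfx : φ (cj a (g (φ x))) = (φ x)⁻¹ := by
    rw [hgf x (Subgroup.mem_zpowers x), cj_apply, hax, hφ'.map_inv (Subgroup.mem_zpowers x)]
  obtain ⟨α, hα, hαv⟩ := extend_elt hS hF hv (hcomp.restrict hvle)
    (by show φ (cj a (g (φ x))) ∈ Z S; rw [hfx]; exact Subgroup.inv_mem _ hv)
  have h2 := sq_eq_one_of_inverted hS hF hv hα (hαv.trans hfx)
  have hx2 : x * x = 1 := by
    refine hφ'.inj (Subgroup.mul_mem _ (Subgroup.mem_zpowers x) (Subgroup.mem_zpowers x))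
      (Subgroup.one_mem _) ?_
    rw [hφ'.map_mul (Subgroup.mem_zpowers x) (Subgroup.mem_zpowers x), h2, hφ'.map_one]
  rw [hxdef] at hx2
  have h3 : a * b = (a * b)⁻¹ := eq_inv_of_mul_eq_one_left hx2
  rw [mul_inv_rev, hai, hbi] at h3
  exact h3

theorem exists_root {z s : Ω} {j : ℕ} (hz : z ∈ Z S) (hs : s ∈ S) (he : s ^ 2 ^ j = z) :
    ∃ u ∈ Z S, u ^ 2 ^ j = z := by
  obtain ⟨φ, hφ, hv⟩ := exists_to_center hS hF h hs
  have hsC : s ∈ centralizerIn S (Subgroup.zpowers s) := mem_cz hs (Commute.refl s)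
  have hzC : z ∈ centralizerIn S (Subgroup.zpowers s) := he ▸ Subgroup.pow_mem _ hsC _
  have hzv : φ z = φ s ^ 2 ^ j := by rw [← he, isHomOn_map_pow hφ.isHom hsC]
  obtain ⟨g, hg, -, hgf, -⟩ := hφ.exists_inv
  have hzZ : φ z ∈ Z S := hzv ▸ Subgroup.pow_mem _ hv _
  have hzle : Subgroup.zpowers (φ z) ≤ img φ (centralizerIn S (Subgroup.zpowers s)) :=
    Subgroup.zpowers_le.2 (mem_img_self φ hzC)
  have hgz : g (φ z) = z := hgf z hzC
  obtain ⟨α, hα, hαz⟩ := extend_elt hS hF hzZ (hg.restrict hzle) (hgz.symm ▸ hz)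
  refine ⟨α (φ s), map_Z hα hv, ?_⟩
  rw [← isHomOn_map_pow hα.isHom hv.1, ← hzv, hαz, hgz]

theorem comm_involution : ∀ (j : ℕ), ∀ s ∈ S, s ^ 2 ^ j = 1 →
    ∀ y ∈ S, y * y = 1 → Commute s y := by
  intro j
  induction j with
  | zero =>
    intro s _ h1 y _ _
    rw [pow_zero, pow_one] at h1
    subst h1
    exact Commute.one_left y
  | succ j ih =>
    intro s hs h1 y hy hy2
    obtain ⟨w, hwdef⟩ : ∃ w, w = s ^ 2 ^ j := ⟨_, rfl⟩
    have hwS : w ∈ S := hwdef ▸ S.pow_mem hs _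
    have hw2 : w * w = 1 := by
      rw [hwdef, ← pow_add, ← two_mul, ← pow_succ', h1]
    have hwy : Commute w y := comm_of_involutions hS hF h hwS hy hw2 hy2
    obtain ⟨φ, hφ, hz⟩ := exists_to_center hS hF h hwS
    have hsC : s ∈ centralizerIn S (Subgroup.zpowers w) :=
      mem_cz hs (hwdef ▸ (Commute.refl s).pow_left _)
    have hyC : y ∈ centralizerIn S (Subgroup.zpowers w) := mem_cz hy hwy
    have hzs : φ s ^ 2 ^ j = φ w := by rw [hwdef, isHomOn_map_pow hφ.isHom hsC]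
    obtain ⟨u, hu, hue⟩ := exists_root hS hF h hz (hφ.mem hsC) hzs
    have hcu : Commute (φ s) u⁻¹ := (comm_of_mem_Z hu (hφ.mem hsC)).inv_right
    have h2 : (φ s * u⁻¹) ^ 2 ^ j = 1 := by
      rw [hcu.mul_pow, inv_pow, hue, hzs, mul_inv_cancel]
    have hy2' : φ y * φ y = 1 := by rw [← hφ.map_mul hyC hyC, hy2, hφ.map_one]
    have h3 := ih _ (S.mul_mem (hφ.mem hsC) (S.inv_mem hu.1)) h2 _ (hφ.mem hyC) hy2'
    have h4 : Commute (φ s) (φ y) := by
      have h5 := h3.mul_left (comm_of_mem_Z hu (hφ.mem hyC)).symm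
      rwa [inv_mul_cancel_right] at h5
    refine hφ.inj (Subgroup.mul_mem _ hsC hyC) (Subgroup.mul_mem _ hyC hsC) ?_
    rw [hφ.map_mul hsC hyC, hφ.map_mul hyC hsC]
    exact h4.eq

theorem mem_Z_of_pow : ∀ (j : ℕ), ∀ s ∈ S, s ^ 2 ^ j = 1 → s ∈ Z S := by
  intro j
  induction j with
  | zero =>
    intro s _ h1
    rw [pow_zero, pow_one] at h1
    exact h1 ▸ Subgroup.one_mem _
  | succ j ih =>
    intro s hs h1
    obtain ⟨w, hwdef⟩ : ∃ w, w = s ^ 2 ^ j := ⟨_, rfl⟩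
    have hwS : w ∈ S := hwdef ▸ S.pow_mem hs _
    have hw2 : w * w = 1 := by
      rw [hwdef, ← pow_add, ← two_mul, ← pow_succ', h1]
    have hwZ : w ∈ Z S := by
      refine ⟨hwS, fun t ht => ?_⟩
      obtain ⟨k, hk⟩ := hS ⟨t, ht⟩
      have hk' : t ^ 2 ^ k = 1 := congrArg Subtype.val hk
      exact (comm_involution hS hF h k t ht hk' w hwS hw2).eq
    obtain ⟨u, hu, hue⟩ := exists_root hS hF h hwZ hs hwdef.symm
    have hcu : Commute s u⁻¹ := (comm_of_mem_Z hu hs).inv_right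
    have h2 : (s * u⁻¹) ^ 2 ^ j = 1 := by
      rw [hcu.mul_pow, inv_pow, hue, ← hwdef, mul_inv_cancel]
    have h3 := ih _ (S.mul_mem hs (S.inv_mem hu.1)) h2
    simpa using Subgroup.mul_mem _ h3 hu

/-- **Abelian underlying group.** -/
theorem abelian : IsMulCommutative S := by
  refine ⟨⟨fun a b => Subtype.ext ?_⟩⟩
  obtain ⟨k, hk⟩ := hS b
  exact (mem_Z_of_pow hS hF h k b b.2 (congrArg Subtype.val hk)).2 a a.2

omit hS hF h

/-! ### Finite groups -/

section Group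

variable {G : Type*} [Group G] [Finite G]

theorem mem_sylow_of_centralizes {p : ℕ} (P : Sylow p G) {y : G} {k : ℕ} (hy : y ^ p ^ k = 1)
    (hc : ∀ a ∈ (P : Subgroup G), a * y = y * a) : y ∈ (P : Subgroup G) := by
  have hY : IsPGroup p (Subgroup.zpowers y) := by
    rintro ⟨_, n, rfl⟩
    refine ⟨k, Subtype.ext ?_⟩
    show (y ^ n) ^ p ^ k = 1
    rw [← zpow_natCast, ← zpow_mul, mul_comm, zpow_mul, zpow_natCast, hy, one_zpow]
  have hN : Subgroup.zpowers y ≤ Subgroup.normalizer ((P : Subgroup G) : Set G) :=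
    (Subgroup.zpowers_le.2 (Subgroup.mem_centralizer_iff.2 hc)).trans
      (Subgroup.centralizer_le_normalizer _)
  have hsup := hY.to_sup_of_normal_right' P.2 hN
  have heq := P.3 hsup le_sup_right
  exact heq.le (Subgroup.mem_sup_left (Subgroup.mem_zpowers y))

/-- If every 2-element is 2-central, the Sylow 2-subgroups are abelian. -/
theorem abelian_of_two_central (P : Sylow 2 G)
    (h : ∀ x ∈ (P : Subgroup G), ∃ Q : Sylow 2 G,
      (Q : Subgroup G) ≤ Subgroup.centralizer ({x} : Set G)) :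
    IsMulCommutative (P : Subgroup G) := by
  haveI : Fact (Nat.Prime 2) := ⟨Nat.prime_two⟩
  refine abelian (F := groupFusionSystem (P : Subgroup G)) P.2
    (Cfsg.Agent.Fusion.Group.group_saturated P) fun x hx => ?_
  obtain ⟨Q, hQ⟩ := h x hx
  obtain ⟨g, rfl⟩ := MulAction.exists_smul_eq G P Q
  obtain ⟨k, hk⟩ := P.2 ⟨x, hx⟩
  have hk' : x ^ 2 ^ k = 1 := congrArg Subtype.val hk
  have hc : ∀ a ∈ (P : Subgroup G), a * (g⁻¹ * x * g) = g⁻¹ * x * g * a := by
    intro a ha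
    have h1 : g * a * g⁻¹ ∈ Subgroup.centralizer ({x} : Set G) := by
      refine hQ ?_
      rw [Sylow.coe_subgroup_smul]
      exact Subgroup.smul_mem_pointwise_smul a (MulAut.conj g) _ ha
    have h2 : x * (g * a * g⁻¹) = g * a * g⁻¹ * x := Subgroup.mem_centralizer_singleton_iff.1 h1
      |>.symm
    calc a * (g⁻¹ * x * g) = g⁻¹ * (g * a * g⁻¹ * x) * g := by group
      _ = g⁻¹ * (x * (g * a * g⁻¹)) * g := by rw [h2]
      _ = g⁻¹ * x * g * a := by group
  have hyk : (g⁻¹ * x * g) ^ 2 ^ k = 1 := by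
    have h1 : (g⁻¹ * x * g) ^ 2 ^ k = g⁻¹ * x ^ 2 ^ k * g := by
      simpa using conj_pow (a := g⁻¹) (b := x) (i := 2 ^ k)
    rw [h1, hk', mul_one, inv_mul_cancel]
  have hyP := mem_sylow_of_centralizes P hyk hc
  refine ⟨g⁻¹ * x * g, ⟨hyP, hc⟩, ?_⟩
  have hle : Subgroup.zpowers x ≤ (P : Subgroup G) := Subgroup.zpowers_le.2 hx
  have himg : ∀ y ∈ Subgroup.zpowers x, cj g⁻¹ y ∈ (P : Subgroup G) := by
    intro y hy
    obtain ⟨n, rfl⟩ := Subgroup.mem_zpowers_iff.1 hy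
    have h1 : cj g⁻¹ (x ^ n) = (g⁻¹ * x * g⁻¹⁻¹) ^ n :=
      map_zpow (MulAut.conj g⁻¹).toMonoidHom x n
    rw [h1, inv_inv]
    exact Subgroup.zpow_mem _ hyP n
  obtain ⟨φ, hφ, hφe⟩ := Cfsg.Agent.Fusion.Group.isMap_group_iff.2
    ⟨hle, himg, g⁻¹, fun _ _ => rfl⟩
  refine ⟨φ, hφ, ?_⟩
  rw [hφe]
  simp [cj]

/-- An element with class size prime to `p` centralizes a Sylow `p`-subgroup. -/
theorem exists_sylow_le_centralizer {p : ℕ} [Fact p.Prime] {x : G}
    (h : ¬ p ∣ (Subgroup.centralizer ({x} : Set G)).index) :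
    ∃ Q : Sylow p G, (Q : Subgroup G) ≤ Subgroup.centralizer ({x} : Set G) := by
  let C := Subgroup.centralizer ({x} : Set G)
  let T : Sylow p C := default
  have hp : IsPGroup p ((T : Subgroup C).map C.subtype) := T.2.map _
  have hi : ¬ p ∣ ((T : Subgroup C).map C.subtype).index := by
    rw [Subgroup.index_map_subtype]
    exact fun hd => (Fact.out : p.Prime).dvd_mul.1 hd |>.elim T.not_dvd_index h
  exact ⟨hp.toSylow hi, Subgroup.map_subtype_le _⟩

theorem two_central_of_abelian (P : Sylow 2 G) (hP : IsMulCommutative (P : Subgroup G)) {x : G}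
    {k : ℕ} (hx : orderOf x = 2 ^ k) :
    ∃ Q : Sylow 2 G, (Q : Subgroup G) ≤ Subgroup.centralizer ({x} : Set G) := by
  haveI : Fact (Nat.Prime 2) := ⟨Nat.prime_two⟩
  have hX : IsPGroup 2 (Subgroup.zpowers x) :=
    IsPGroup.of_card (n := k) (by rw [Nat.card_zpowers, hx])
  obtain ⟨Q, hQ⟩ := hX.exists_le_sylow
  refine ⟨Q, fun y hy => Subgroup.mem_centralizer_singleton_iff.2 ?_⟩
  obtain ⟨g, rfl⟩ := MulAction.exists_smul_eq G P Q
  have hxQ : x ∈ ((g • P : Sylow 2 G) : Subgroup G) := hQ (Subgroup.mem_zpowers x)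
  rw [Sylow.coe_subgroup_smul] at hxQ hy
  obtain ⟨a, ha, rfl⟩ := hxQ
  obtain ⟨b, hb, rfl⟩ := hy
  have hab : b * a = a * b := congrArg Subtype.val (hP.is_comm.comm ⟨b, hb⟩ ⟨a, ha⟩)
  simp only [MulDistribMulAction.toMonoidEnd_apply, MulDistribMulAction.toMonoidHom_apply,
    MulAut.smul_def, MulAut.conj_apply]
  rw [show g * b * g⁻¹ * (g * a * g⁻¹) = g * (b * a) * g⁻¹ by group, hab]
  group

end Group

end Cfsg.Agent.GenA.TwoCentral
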