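import Mathlib
import Cfsg.Agent.S3761
import Cfsg.Agent.Lib.PGroups.UniqueSubgroup
import Cfsg.Agent.Lib.PGroups.AbelianNormal
import Cfsg.Agent.Lib.PGroups.Normal

/-! Number of generators of a 2-group of linear maps in odd characteristic. -/

set_option autoImplicit false

namespace Cfsg.Agent.GenA.TwoLinear

open Module

/-- `G` can be generated by `d` elements. -/
def Gens (G : Type*) [Group G] (d : ℕ) : Prop :=
  ∃ S : Finset G, S.card ≤ d ∧ Subgroup.closure (S : Set G) = ⊤

theorem Gens.mono {G : Type*} [Group G] {a b : ℕ} (h : Gens G a) (hab : a ≤ b) : Gens G b := by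
  obtain ⟨S, h1, h2⟩ := h
  exact ⟨S, h1.trans hab, h2⟩

theorem gens_of_hom {P A : Type*} [Group P] [Group A] (φ : P →* A) {a b : ℕ}
    (hA : Gens φ.range a) (hK : Gens φ.ker b) : Gens P (a + b) := by
  classical
  obtain ⟨SA, hSA, hA⟩ := hA
  obtain ⟨SK, hSK, hK⟩ := hK
  let g := Function.surjInv φ.rangeRestrict_surjective
  refine ⟨SA.image g ∪ SK.image Subtype.val, ?_, ?_⟩
  · exact (Finset.card_union_le _ _).trans
      (add_le_add (Finset.card_image_le.trans hSA) (Finset.card_image_le.trans hSK))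
  set H := Subgroup.closure ((SA.image g ∪ SK.image Subtype.val : Finset P) : Set P) with hH
  have hker : φ.ker ≤ H := by
    intro x hx
    have : H.subgroupOf φ.ker = ⊤ := by
      rw [eq_top_iff, ← hK, Subgroup.closure_le]
      intro y hy
      exact Subgroup.mem_subgroupOf.2 (Subgroup.subset_closure
        (Finset.mem_coe.2 (Finset.mem_union_right _ (Finset.mem_image_of_mem _ hy))))
    exact Subgroup.mem_subgroupOf.1 (this ▸ Subgroup.mem_top (⟨x, hx⟩ : φ.ker))
  have hmap : H.map φ.rangeRestrict = ⊤ := by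
    rw [eq_top_iff, ← hA, Subgroup.closure_le]
    intro y hy
    exact ⟨g y, Subgroup.subset_closure
      (Finset.mem_coe.2 (Finset.mem_union_left _ (Finset.mem_image_of_mem _ hy))),
      Function.surjInv_eq φ.rangeRestrict_surjective y⟩
  rw [eq_top_iff]
  intro x _
  obtain ⟨h, hh, he⟩ := (show φ.rangeRestrict x ∈ H.map φ.rangeRestrict from hmap ▸ Subgroup.mem_top _)
  have : h⁻¹ * x ∈ φ.ker := by
    rw [MonoidHom.mem_ker, map_mul, map_inv]
    have := congrArg Subtype.val he
    simp only [MonoidHom.coe_rangeRestrict] at this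
    rw [this, inv_mul_cancel]
  simpa using H.mul_mem hh (hker this)

theorem gens_pair {P : Type*} [Group P] (u v : P) (h : Subgroup.closure ({u, v} : Set P) = ⊤) :
    Gens P 2 := by
  classical
  exact ⟨{u, v}, Finset.card_le_two, by simpa using h⟩

/-- A finite 2-group without normal four subgroups needs at most two generators. -/
theorem gens_two_of_no_four {P : Type*} [Group P] [Finite P] (hP : IsPGroup 2 P)
    (hno : ∀ E : Subgroup P, E.Normal → Nat.card E = 4 → (∀ e ∈ E, e ^ 2 = 1) → False) :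
    Gens P 2 := by
  haveI : Fact (Nat.Prime 2) := ⟨Nat.prime_two⟩
  let s : Set (Subgroup P) := {U | U.Normal ∧ IsMulCommutative U}
  obtain ⟨U, -, hU⟩ := (Set.toFinite s).exists_le_maximal
    (show (⊥ : Subgroup P) ∈ s from ⟨inferInstance, inferInstance⟩)
  obtain ⟨hUn, hUc⟩ := hU.prop
  haveI := hUn
  haveI := hUc
  have hcomm : ∀ x ∈ U, ∀ y ∈ U, x * y = y * x := fun x hx y hy =>
    congrArg Subtype.val (mul_comm' (⟨x, hx⟩ : U) ⟨y, hy⟩)
  have hcyc : IsCyclic U := by
    refine PGroups.UniqueSubgroup.isCyclic_of_abelian (hP.to_subgroup U) fun x y hx hy hx1 => ?_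
    by_contra hyx
    let W : Subgroup P :=
      { carrier := {a | a ∈ U ∧ a ^ 2 = 1}
        one_mem' := ⟨U.one_mem, one_pow 2⟩
        mul_mem' := fun {a b} ha hb => ⟨U.mul_mem ha.1 hb.1, by
          rw [(show Commute a b from hcomm a ha.1 b hb.1).mul_pow 2, ha.2, hb.2, one_mul]⟩
        inv_mem' := fun {a} ha => ⟨U.inv_mem ha.1, by rw [inv_pow, ha.2, inv_one]⟩ }
    haveI : W.Normal := ⟨fun a ha g => ⟨hUn.conj_mem a ha.1 g, by rw [conj_pow, ha.2, mul_one, mul_inv_cancel]⟩⟩
    have hxW : (x : P) ∈ W := ⟨x.2, by exact_mod_cast congrArg Subtype.val hx⟩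
    have hyW : (y : P) ∈ W := ⟨y.2, by exact_mod_cast congrArg Subtype.val hy⟩
    obtain ⟨j, hj⟩ := IsPGroup.iff_card.1 (hP.to_subgroup W)
    have hj2 : 2 ≤ j := by
      by_contra hc
      push_neg at hc
      have hle : Nat.card W ≤ 2 := by rw [hj]; interval_cases j <;> norm_num
      have h2 : Nat.card (Subgroup.zpowers (x : P)) = 2 := by
        rw [Nat.card_zpowers]; exact orderOf_eq_prime hxW.2 (by simpa using hx1)
      have := Subgroup.eq_of_le_of_card_ge (Subgroup.zpowers_le.2 hxW) (by omega)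
      obtain ⟨i, hi⟩ := this.symm ▸ hyW
      exact hyx ⟨i, Subtype.ext (by simpa using hi)⟩
    obtain ⟨E, hEn, hEW, hE⟩ := PGroups.Normal.exists_normal_le_card hP W 2
      (hj ▸ Nat.pow_le_pow_right (by norm_num) hj2)
    exact hno E hEn (by simpa using hE) fun e he => (hEW he).2
  have hC : Subgroup.centralizer (U : Set P) = U :=
    PGroups.AbelianNormal.centralizer_eq_self hP U fun B hBn hBc hle =>
      le_antisymm (hU.2 ⟨hBn, hBc⟩ hle) hle
  obtain ⟨u, hu⟩ := isCyclic_iff_exists_zpowers_eq_top.1 hcyc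
  have hu' : Subgroup.zpowers (u : P) = U := by
    have := congrArg (Subgroup.map U.subtype) hu
    rwa [MonoidHom.map_zpowers, ← MonoidHom.range_eq_map, Subgroup.range_subtype] at this
  by_cases hab : IsMulCommutative P
  · have : U = ⊤ := by
      rw [← hC, eq_top_iff]
      exact fun x _ => Subgroup.mem_centralizer_iff.2 fun y _ => mul_comm' y x
    refine gens_pair (u : P) 1 (eq_top_iff.2 ((this.symm.trans hu'.symm).le.trans ?_))
    exact Subgroup.zpowers_le.2 (Subgroup.subset_closure (by simp))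
  obtain ⟨n, hn⟩ := IsPGroup.iff_card.1 (hP.to_subgroup U)
  rcases Cfsg.Agent.S3761.result hP hab U hcyc n hn hC with ⟨-, hcard, -⟩ | ⟨-, hel, hc4, hchar⟩
  · have hidx : U.index = 2 := by
      have := U.card_mul_index
      rw [hn, hcard, pow_succ] at this
      exact Nat.eq_of_mul_eq_mul_left (pow_pos two_pos n) this
    obtain ⟨g, hg⟩ : ∃ g, g ∉ U := by
      by_contra! h
      rw [(Subgroup.eq_top_iff' U).2 h, Subgroup.index_top] at hidx
      exact absurd hidx (by norm_num)
    refine gens_pair (u : P) g (eq_top_iff.2 fun x _ => ?_)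
    have hUle : U ≤ Subgroup.closure ({(u : P), g} : Set P) :=
      hu'.symm.le.trans (Subgroup.zpowers_le.2 (Subgroup.subset_closure (by simp)))
    by_cases hx : x ∈ U
    · exact hUle hx
    · have h1 : x * g⁻¹ ∈ U :=
        (Subgroup.mul_mem_iff_of_index_two hidx).2 (by simp [hx, hg])
      simpa using mul_mem (hUle h1) (Subgroup.subset_closure (show g ∈ ({(u : P), g} : Set P) by simp))
  · exact (hno _ (Subgroup.normal_of_characteristic (h := hchar)) (by simpa using hc4) hel.2).elim

section Rep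

variable {k : Type*} [Field k] {V : Type*} [AddCommGroup V] [Module k V] {P : Type*} [Group P]

/-- The restriction of a representation to an invariant subspace. -/
def res (ρ : Representation k P V) (W : Submodule k V) (h : ∀ g, ∀ w ∈ W, ρ g w ∈ W) :
    Representation k P W where
  toFun g := (ρ g).restrict (h g)
  map_one' := LinearMap.ext fun w => Subtype.ext (by simp)
  map_mul' a b := LinearMap.ext fun w => Subtype.ext (by simp)

theorem res_apply (ρ : Representation k P V) (W : Submodule k V) (h : ∀ g, ∀ w ∈ W, ρ g w ∈ W)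
    (g : P) (w : W) : (res ρ W h g w : V) = ρ g w := rfl

/-- The representation on the quotient by an invariant subspace. -/
def quo (ρ : Representation k P V) (W : Submodule k V) (h : ∀ g, ∀ w ∈ W, ρ g w ∈ W) :
    Representation k P (V ⧸ W) where
  toFun g := W.mapQ W (ρ g) (h g)
  map_one' := LinearMap.ext fun v => by
    induction v using Submodule.Quotient.induction_on
    simp
  map_mul' a b := LinearMap.ext fun v => by
    induction v using Submodule.Quotient.induction_on
    simp

theorem inj_of_two_steps [Finite P] (hP : IsPGroup 2 P) (h2 : (2 : k) ≠ 0)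
    (ρ : Representation k P V) (hρ : Function.Injective ρ) (W : Submodule k V) {g : P}
    (hW : ∀ w ∈ W, ρ g w = w) (hQ : ∀ v, ρ g v - v ∈ W) : g = 1 := by
  obtain ⟨j, hj⟩ := hP g
  refine hρ (LinearMap.ext fun v => ?_)
  have hk : ∀ m : ℕ, ρ (g ^ m) v = v + (m : k) • (ρ g v - v) := by
    intro m
    induction m with
    | zero => simp
    | succ m ih =>
      rw [pow_succ', map_mul, Module.End.mul_apply, ih, map_add, map_smul, hW _ (hQ v)]
      push_cast
      rw [add_smul, one_smul]
      abel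
  have := hk (2 ^ j)
  rw [hj, map_one, Module.End.one_apply, left_eq_add, smul_eq_zero] at this
  rcases this with h | h
  · push_cast at h
    exact absurd h (pow_ne_zero j h2)
  · rw [map_one, Module.End.one_apply]
    exact sub_eq_zero.1 h

theorem apply_inv_apply (ρ : Representation k P V) (g : P) (v : V) : ρ g (ρ g⁻¹ v) = v := by
  rw [← Module.End.mul_apply, ← map_mul, mul_inv_cancel, map_one, Module.End.one_apply]

theorem inv_apply_apply (ρ : Representation k P V) (g : P) (v : V) : ρ g⁻¹ (ρ g v) = v := by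
  rw [← Module.End.mul_apply, ← map_mul, inv_mul_cancel, map_one, Module.End.one_apply]

theorem rep_injective (ρ : Representation k P V) (g : P) : Function.Injective (ρ g) :=
  Function.LeftInverse.injective (inv_apply_apply ρ g)

/-- The action of `P` on the lines. -/
def lineAction (ρ : Representation k P V) :
    MulAction P {L : Submodule k V // finrank k L = 1} where
  smul g L := ⟨L.1.map (ρ g), (Submodule.equivMapOfInjective _ (rep_injective ρ g) L.1).finrank_eq ▸ L.2⟩
  one_smul L := Subtype.ext (show L.1.map (ρ 1) = L.1 by rw [map_one]; exact Submodule.map_id _)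
  mul_smul a b L := Subtype.ext
    (show L.1.map (ρ (a * b)) = (L.1.map (ρ b)).map (ρ a) by rw [map_mul]; exact Submodule.map_comp _ _ _)

/-- A 2-group of linear maps on a space of odd dimension fixes a line. -/
theorem exists_line [Finite k] [Finite V] [Finite P] (hP : IsPGroup 2 P) (hk : Odd (Nat.card k))
    (hn : Odd (finrank k V)) (ρ : Representation k P V) :
    ∃ L : Submodule k V, finrank k L = 1 ∧ ∀ g, ∀ v ∈ L, ρ g v ∈ L := by
  haveI : Fact (Nat.Prime 2) := ⟨Nat.prime_two⟩
  letI := lineAction ρ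
  have hcard : Odd (Nat.card {L : Submodule k V // finrank k L = 1}) := by
    rw [← Nat.card_congr (Projectivization.equivSubmodule k V), Projectivization.card_of_finrank k V rfl,
      Finset.odd_sum_iff_odd_card_odd]
    rw [Finset.filter_true_of_mem (fun i _ => hk.pow), Finset.card_range]
    exact hn
  have hmod := hP.card_modEq_card_fixedPoints {L : Submodule k V // finrank k L = 1}
  have : Nat.card (MulAction.fixedPoints P {L : Submodule k V // finrank k L = 1}) ≠ 0 := by
    intro h0
    rw [h0, Nat.modEq_zero_iff_dvd] at hmod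
    exact (Nat.not_even_iff_odd.2 hcard) (even_iff_two_dvd.2 hmod)
  obtain ⟨⟨L, hL⟩⟩ := (Nat.card_ne_zero.1 this).1
  refine ⟨L.1, L.2, fun g v hv => ?_⟩
  have h := congrArg Subtype.val (hL g)
  exact h ▸ Submodule.mem_map_of_mem hv

end Rep

/-- The arithmetical conditions on a bound for the number of generators. -/
structure Bound (p : ℕ) (f : ℕ → ℕ) : Prop where
  one : 1 ≤ f 1
  two : ∀ n, 2 ≤ n → 2 ≤ f n
  add : ∀ a b, 1 ≤ a → 1 ≤ b → f a + f b ≤ f (a + b)
  dbl : ∀ m, 1 ≤ m → 2 * f m + 1 ≤ f (2 * m) ∨ (p = 3 ∧ (m = 1 ∨ Odd m))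

theorem zmod_three_cases : ∀ r : ZMod 3, r ≠ 0 → r = 1 ∨ r = -1 := by decide

universe u

theorem gens_linear {p : ℕ} [hp : Fact p.Prime] (hodd : p ≠ 2) {f : ℕ → ℕ} (hf : Bound p f) :
    ∀ (n : ℕ) (V : Type u) [AddCommGroup V] [Module (ZMod p) V] [Finite V],
      finrank (ZMod p) V = n → ∀ (P : Type u) [Group P] [Finite P], IsPGroup 2 P →
      ∀ ρ : Representation (ZMod p) P V, Function.Injective ρ → Gens P (f n) := by
  classical
  haveI : Fact (Nat.Prime 2) := ⟨Nat.prime_two⟩
  have h2 : (2 : ZMod p) ≠ 0 := by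
    intro h
    have h' : ((2 : ℕ) : ZMod p) = 0 := by exact_mod_cast h
    exact hodd ((Nat.prime_dvd_prime_iff_eq hp.out Nat.prime_two).1 ((ZMod.natCast_eq_zero_iff 2 p).1 h'))
  intro n
  induction n using Nat.strong_induction_on with
  | _ n ih =>
  intro V _ _ _ hn P _ _ hP ρ hρ
  rcases Nat.eq_zero_or_pos n with rfl | hnpos
  · haveI : Subsingleton V := finrank_zero_iff.1 hn
    haveI : Subsingleton P := hρ.subsingleton
    exact ⟨∅, by simp, Subsingleton.elim _ _⟩
  -- reducible case
  by_cases hred : ∃ W : Submodule (ZMod p) V, W ≠ ⊥ ∧ W ≠ ⊤ ∧ ∀ g, ∀ w ∈ W, ρ g w ∈ W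
  · obtain ⟨W, hW0, hW1, hW⟩ := hred
    have hab : finrank (ZMod p) (V ⧸ W) + finrank (ZMod p) W = n := hn ▸ W.finrank_quotient_add_finrank
    have hapos : 1 ≤ finrank (ZMod p) W :=
      Nat.one_le_iff_ne_zero.2 fun h => hW0 (Submodule.finrank_eq_zero.1 h)
    have hbpos : 1 ≤ finrank (ZMod p) (V ⧸ W) := by
      have := Submodule.finrank_lt hW1
      omega
    let φ : P →* (Module.End (ZMod p) W)ˣ := (res ρ W hW).toHomUnits
    haveI : Finite (Module.End (ZMod p) W) := Finite.of_injective (fun e => (e : W → W)) DFunLike.coe_injective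
    have hA : Gens φ.range (f (finrank (ZMod p) W)) := by
      refine ih _ (by omega) W rfl φ.range ?_ ((Units.coeHom _).comp φ.range.subtype) ?_
      · exact hP.of_surjective φ.rangeRestrict φ.rangeRestrict_surjective
      · exact Units.val_injective.comp Subtype.val_injective
    haveI : Finite (V ⧸ W) := Finite.of_surjective _ W.mkQ_surjective
    have hK : Gens φ.ker (f (finrank (ZMod p) (V ⧸ W))) := by
      refine ih _ (by omega) (V ⧸ W) rfl φ.ker (hP.to_subgroup _)
        ((quo ρ W hW).comp φ.ker.subtype) ?_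
      intro a b hab
      have key : ∀ c : φ.ker, quo ρ W hW c = 1 → c = 1 := by
        intro c hc
        apply Subtype.ext
        refine inj_of_two_steps hP h2 ρ hρ W (fun w hw => ?_) (fun v => ?_)
        · have h1 : res ρ W hW c = 1 := congrArg Units.val c.2
          exact congrArg Subtype.val (LinearMap.congr_fun h1 ⟨w, hw⟩)
        · exact (Submodule.Quotient.eq W).1 (LinearMap.congr_fun hc (Submodule.Quotient.mk v))
      have h1 : quo ρ W hW ((a * b⁻¹ : φ.ker) : P) = 1 := by
        simp only [MonoidHom.comp_apply, Subgroup.coe_subtype] at hab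
        rw [Subgroup.coe_mul, map_mul, hab, ← map_mul, Subgroup.coe_inv, mul_inv_cancel, map_one]
      exact mul_inv_eq_one.1 (key _ h1)
    refine (gens_of_hom φ hA hK).mono ?_
    have := hf.add _ _ hapos hbpos
    rw [Nat.add_comm (finrank (ZMod p) W)] at this
    rw [hab] at this
    exact this
  push_neg at hred
  have irred : ∀ W : Submodule (ZMod p) V, (∀ g, ∀ w ∈ W, ρ g w ∈ W) → W = ⊥ ∨ W = ⊤ := by
    intro W hW
    by_contra hne
    push_neg at hne
    obtain ⟨g, w, hw, hw'⟩ := hred W hne.1 hne.2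
    exact hw' (hW g w hw)
  obtain rfl | hn2 : n = 1 ∨ 2 ≤ n := by omega
  · obtain ⟨v, hv, hgen⟩ := finrank_eq_one_iff'.1 hn
    haveI : IsCyclic P := by
      refine isCyclic_of_injective_ringHom (R := ZMod p) (LinearMap.det.comp ρ) ?_
      intro a b hab
      refine hρ ?_
      obtain ⟨x, hx⟩ := hgen (ρ a v)
      obtain ⟨y, hy⟩ := hgen (ρ b v)
      have hs : ∀ (T : Module.End (ZMod p) V) (c : ZMod p), c • v = T v → T = c • 1 := by
        intro T c hc
        refine LinearMap.ext fun w => ?_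
        obtain ⟨d, rfl⟩ := hgen w
        rw [map_smul, ← hc, LinearMap.smul_apply, Module.End.one_apply, smul_comm]
      simp only [MonoidHom.comp_apply] at hab
      rw [hs _ _ hx, hs _ _ hy, LinearMap.det_smul, LinearMap.det_smul, hn, pow_one, pow_one,
        map_one, mul_one, mul_one] at hab
      rw [hs _ _ hx, hs _ _ hy, hab]
    obtain ⟨g, hg⟩ := isCyclic_iff_exists_zpowers_eq_top.1 (inferInstance : IsCyclic P)
    exact Gens.mono ⟨{g}, by simp, by rw [Finset.coe_singleton, ← Subgroup.zpowers_eq_closure, hg]⟩ hf.one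
  by_cases hfour : ∀ E : Subgroup P, E.Normal → Nat.card E = 4 → (∀ e ∈ E, e ^ 2 = 1) → False
  · exact (gens_two_of_no_four hP hfour).mono (hf.two n hn2)
  push_neg at hfour
  obtain ⟨E, hEn, hE4, hE2, -⟩ := hfour
  haveI := hEn
  obtain ⟨M, hMn, hME, hM⟩ := PGroups.Normal.exists_normal_le_card hP E 1 (by omega)
  rw [pow_one] at hM
  haveI := hMn
  obtain ⟨cM, hcM, hMeq⟩ := Nat.card_eq_two_iff' (1 : M) |>.1 hM
  set c : P := cM.1 with hc
  have hc1 : c ≠ 1 := fun h => hcM (Subtype.ext h)
  have hcE : c ∈ E := hME cM.2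
  have hMmem : ∀ x ∈ M, x = 1 ∨ x = c := by
    intro x hx
    by_cases h : x = 1
    · exact Or.inl h
    · exact Or.inr (congrArg Subtype.val (hMeq ⟨x, hx⟩ (fun h' => h (congrArg Subtype.val h'))))
  have hccent : ∀ g : P, g * c * g⁻¹ = c := fun g =>
    (hMmem _ (hMn.conj_mem c cM.2 g)).resolve_left (fun h => hc1 (conj_eq_one_iff.1 h))
  -- the central involution acts as -1
  have hcneg : ∀ v, ρ c v = -v := by
    have hinv : ∀ g, ∀ w ∈ LinearMap.ker (ρ c - 1), ρ g w ∈ LinearMap.ker (ρ c - 1) := by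
      intro g w hw
      simp only [LinearMap.mem_ker, LinearMap.sub_apply, Module.End.one_apply, sub_eq_zero] at hw ⊢
      rw [← Module.End.mul_apply, ← map_mul, eq_mul_inv_iff_mul_eq.1 (hccent g).symm, map_mul,
        Module.End.mul_apply, hw]
    rcases irred _ hinv with h | h
    · intro v
      have hmem : v + ρ c v ∈ LinearMap.ker (ρ c - 1) := by
        have hcc : ρ c (ρ c v) = v := by
          rw [← Module.End.mul_apply, ← map_mul, ← pow_two, hE2 c hcE, map_one, Module.End.one_apply]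
        rw [LinearMap.mem_ker, LinearMap.sub_apply, Module.End.one_apply, map_add, hcc, sub_eq_zero,
          add_comm]
      rw [h, Submodule.mem_bot] at hmem
      exact eq_neg_of_add_eq_zero_right hmem
    · rw [LinearMap.ker_eq_top, sub_eq_zero, ← map_one ρ] at h
      exact absurd (hρ h) hc1
  obtain ⟨z, hzE, hzM⟩ : ∃ z ∈ E, z ∉ M := by
    by_contra! h
    have := Nat.le_of_dvd (by omega) (Subgroup.card_dvd_of_le (show E ≤ M from h))
    omega
  have hz1 : z ≠ 1 := fun h => hzM (h ▸ M.one_mem)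
  have hzc : z ≠ c := fun h => hzM (h ▸ cM.2)
  have hEmem : ∀ x ∈ E, x = 1 ∨ x = c ∨ x = z ∨ x = c * z := by
    intro x hx
    have hidx : (M.subgroupOf E).index = 2 := by
      have h := (M.subgroupOf E).card_mul_index
      rw [Nat.card_congr (Subgroup.subgroupOfEquivOfLe hME).toEquiv, hM, hE4] at h
      omega
    by_cases hxM : x ∈ M
    · rcases hMmem x hxM with h | h
      · exact Or.inl h
      · exact Or.inr (Or.inl h)
    · have := (Subgroup.mul_mem_iff_of_index_two hidx (a := (⟨x, hx⟩ : E)) (b := ⟨z⁻¹, E.inv_mem hzE⟩)).2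
        (by simp [Subgroup.mem_subgroupOf, hxM, hzM])
      rcases hMmem _ (Subgroup.mem_subgroupOf.1 this) with h | h
      · exact Or.inr (Or.inr (Or.inl (mul_inv_eq_one.1 h)))
      · exact Or.inr (Or.inr (Or.inr (mul_inv_eq_iff_eq_mul.1 h)))
  have hconj : ∀ g : P, g * z * g⁻¹ = z ∨ g * z * g⁻¹ = c * z := by
    intro g
    rcases hEmem _ (hEn.conj_mem z hzE g) with h | h | h | h
    · exact absurd (conj_eq_one_iff.1 h) hz1
    · exact absurd (mul_left_cancel (mul_right_cancel (h.trans (hccent g).symm))) hzc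
    · exact Or.inl h
    · exact Or.inr h
  have hρcz : ∀ v, ρ (c * z) v = -ρ z v := fun v => by rw [map_mul, Module.End.mul_apply, hcneg]
  have hzz : ∀ v, ρ z (ρ z v) = v := fun v => by
    rw [← Module.End.mul_apply, ← map_mul, ← pow_two, hE2 z hzE, map_one, Module.End.one_apply]
  let W1 : Submodule (ZMod p) V := LinearMap.ker (ρ z - 1)
  let W2 : Submodule (ZMod p) V := LinearMap.ker (ρ z + 1)
  have hm1 : ∀ v, v ∈ W1 ↔ ρ z v = v := fun v => by
    simp [W1, LinearMap.mem_ker, sub_eq_zero]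
  have hm2 : ∀ v, v ∈ W2 ↔ ρ z v = -v := fun v => by
    simp [W2, LinearMap.mem_ker, add_eq_zero_iff_eq_neg]
  have hmove : ∀ g : P, ∀ v, ρ (g * z * g⁻¹) (ρ g v) = ρ g (ρ z v) := fun g v => by
    rw [map_mul, map_mul, Module.End.mul_apply, Module.End.mul_apply, inv_apply_apply]
  have hsame : ∀ g, g * z * g⁻¹ = z → (∀ v ∈ W1, ρ g v ∈ W1) ∧ (∀ v ∈ W2, ρ g v ∈ W2) := by
    intro g hg
    refine ⟨fun v hv => (hm1 _).2 ?_, fun v hv => (hm2 _).2 ?_⟩
    · conv_lhs => rw [← hg, hmove, (hm1 v).1 hv]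
    · conv_lhs => rw [← hg, hmove, (hm2 v).1 hv, map_neg]
  have hswap : ∀ g, g * z * g⁻¹ = c * z → (∀ v ∈ W1, ρ g v ∈ W2) ∧ (∀ v ∈ W2, ρ g v ∈ W1) := by
    intro g hg
    refine ⟨fun v hv => (hm2 _).2 ?_, fun v hv => (hm1 _).2 ?_⟩
    · have := hmove g v
      rw [hg, hρcz, (hm1 v).1 hv] at this
      exact neg_eq_iff_eq_neg.1 this
    · have := hmove g v
      rw [hg, hρcz, (hm2 v).1 hv, map_neg] at this
      exact neg_injective this
  have hhalf : ∀ v : V, v + v = 0 → v = 0 := fun v h => by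
    rw [← two_smul (ZMod p)] at h
    exact (smul_eq_zero.1 h).resolve_left h2
  have hcompl : IsCompl W1 W2 := by
    refine IsCompl.of_eq (eq_bot_iff.2 fun v hv => ?_) (eq_top_iff.2 fun v _ => ?_)
    · refine hhalf v ?_
      nth_rewrite 1 [← (hm1 v).1 hv.1]
      rw [(hm2 v).1 hv.2, neg_add_cancel]
    · have : v = (2 : ZMod p)⁻¹ • (v + ρ z v) + (2 : ZMod p)⁻¹ • (v - ρ z v) := by
        rw [← smul_add, add_add_sub_cancel, ← two_smul (ZMod p) v, smul_smul, inv_mul_cancel₀ h2, one_smul]
      rw [this]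
      refine Submodule.add_mem_sup (Submodule.smul_mem _ _ ((hm1 _).2 ?_)) (Submodule.smul_mem _ _ ((hm2 _).2 ?_))
      · rw [map_add, hzz, add_comm]
      · rw [map_sub, hzz, neg_sub]
  let C0 : Subgroup P :=
    { carrier := {g | g * z * g⁻¹ = z}
      one_mem' := by simp
      mul_mem' := fun {a b} ha hb => by
        show a * b * z * (a * b)⁻¹ = z
        calc a * b * z * (a * b)⁻¹ = a * (b * z * b⁻¹) * a⁻¹ := by group
          _ = z := by rw [show b * z * b⁻¹ = z from hb]; exact ha
      inv_mem' := fun {a} ha => by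
        show a⁻¹ * z * a⁻¹⁻¹ = z
        conv_lhs => rw [← (show a * z * a⁻¹ = z from ha)]
        group }
  obtain ⟨t, ht⟩ : ∃ t : P, t * z * t⁻¹ = c * z := by
    by_contra! h
    have hinv : ∀ g, ∀ w ∈ W1, ρ g w ∈ W1 := fun g =>
      (hsame g ((hconj g).resolve_right (h g))).1
    rcases irred W1 hinv with hW | hW
    · have : ρ z = ρ c := LinearMap.ext fun v => by
        have hv : v + ρ z v ∈ W1 := (hm1 _).2 (by rw [map_add, hzz, add_comm])
        rw [hW, Submodule.mem_bot] at hv
        rw [hcneg]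
        exact eq_neg_of_add_eq_zero_right hv
      exact hzc (hρ this)
    · have : ρ z = ρ 1 := LinearMap.ext fun v => by
        rw [map_one, Module.End.one_apply]
        exact (hm1 v).1 (hW ▸ Submodule.mem_top)
      exact hz1 (hρ this)
  have hgen : ∀ g : P, g ∈ C0 ∨ t⁻¹ * g ∈ C0 := by
    intro g
    rcases hconj g with h | h
    · exact Or.inl h
    · refine Or.inr ?_
      show t⁻¹ * g * z * (t⁻¹ * g)⁻¹ = z
      calc t⁻¹ * g * z * (t⁻¹ * g)⁻¹ = t⁻¹ * (g * z * g⁻¹) * t := by group
        _ = t⁻¹ * (t * z * t⁻¹) * t := by rw [h, ht]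
        _ = z := by group
  have htinv : t⁻¹ * z * t⁻¹⁻¹ = c * z := by
    rcases hconj t⁻¹ with h | h
    · have h' : t * z * t⁻¹ = z := by
        conv_lhs => rw [← h]
        group
      rw [ht] at h'
      exact absurd (mul_eq_right.1 h') hc1
    · exact h
  have hdim : finrank (ZMod p) W1 = finrank (ZMod p) W2 := by
    refine le_antisymm ?_ ?_
    · exact LinearMap.finrank_le_finrank_of_injective (f := (ρ t).restrict (hswap t ht).1)
        (fun a b h => Subtype.ext (rep_injective ρ t (congrArg Subtype.val h)))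
    · exact LinearMap.finrank_le_finrank_of_injective (f := (ρ t).restrict (hswap t ht).2)
        (fun a b h => Subtype.ext (rep_injective ρ t (congrArg Subtype.val h)))
  set m := finrank (ZMod p) W1 with hm
  have hn' : n = 2 * m := by
    have := Submodule.finrank_add_eq_of_isCompl hcompl
    omega
  have hm0 : 1 ≤ m := by omega
  let ρ0 : Representation (ZMod p) C0 V := ρ.comp C0.subtype
  have hinv1 : ∀ g : C0, ∀ w ∈ W1, ρ0 g w ∈ W1 := fun g => (hsame g g.2).1
  have hinv2 : ∀ g : C0, ∀ w ∈ W2, ρ0 g w ∈ W2 := fun g => (hsame g g.2).2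
  rcases hf.dbl m hm0 with hdbl | ⟨hp3, hm⟩
  · let φ : C0 →* (Module.End (ZMod p) W1)ˣ := (res ρ0 W1 hinv1).toHomUnits
    haveI : Finite (Module.End (ZMod p) W1) := Finite.of_injective (fun e => (e : W1 → W1)) DFunLike.coe_injective
    have hA : Gens φ.range (f m) := by
      refine ih m (by omega) W1 rfl φ.range ?_ ((Units.coeHom _).comp φ.range.subtype)
        (Units.val_injective.comp Subtype.val_injective)
      exact (hP.to_subgroup C0).of_surjective φ.rangeRestrict φ.rangeRestrict_surjective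
    have hK : Gens φ.ker (f m) := by
      refine ih m (by omega) W2 hdim.symm φ.ker ((hP.to_subgroup C0).to_subgroup _)
        ((res ρ0 W2 hinv2).comp φ.ker.subtype) ?_
      intro a b hab
      refine Subtype.ext (Subtype.ext (hρ (LinearMap.ext fun v => ?_)))
      obtain ⟨w1, hw1, w2, hw2, rfl⟩ := Submodule.mem_sup.1 (hcompl.sup_eq_top ▸ Submodule.mem_top : v ∈ W1 ⊔ W2)
      have e1 : ∀ c : φ.ker, ρ (c : C0) w1 = w1 := fun c => by
        have h1 : res ρ0 W1 hinv1 (c : C0) = 1 := congrArg Units.val c.2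
        exact congrArg Subtype.val (LinearMap.congr_fun h1 ⟨w1, hw1⟩)
      have e2 := congrArg Subtype.val (LinearMap.congr_fun hab ⟨w2, hw2⟩)
      rw [map_add, map_add, e1 a, e1 b]
      exact congrArg (w1 + ·) e2
    obtain ⟨S, hS, hS'⟩ := gens_of_hom φ hA hK
    refine Gens.mono ⟨insert t (S.image Subtype.val), ?_, ?_⟩ (show (f m + f m) + 1 ≤ f n by rw [hn']; omega)
    · exact (Finset.card_insert_le _ _).trans (Nat.add_le_add_right (Finset.card_image_le.trans hS) 1)
    rw [eq_top_iff]
    intro g _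
    have hC : C0 ≤ Subgroup.closure ((insert t (S.image Subtype.val) : Finset P) : Set P) := by
      intro x hx
      have : (Subgroup.closure ((insert t (S.image Subtype.val) : Finset P) : Set P)).subgroupOf C0 = ⊤ := by
        rw [eq_top_iff, ← hS', Subgroup.closure_le]
        intro y hy
        exact Subgroup.mem_subgroupOf.2 (Subgroup.subset_closure
          (Finset.mem_coe.2 (Finset.mem_insert_of_mem (Finset.mem_image_of_mem _ hy))))
      exact Subgroup.mem_subgroupOf.1 (this ▸ Subgroup.mem_top (⟨x, hx⟩ : C0))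
    rcases hgen g with h | h
    · exact hC h
    · simpa using mul_mem (Subgroup.subset_closure
        (show t ∈ ((insert t (S.image Subtype.val) : Finset P) : Set P) by simp)) (hC h)
  subst hp3
  rcases eq_or_ne m 1 with hm1' | hm1'
  · refine (gens_pair z t ?_).mono (hf.two n hn2)
    rw [eq_top_iff]
    set H := Subgroup.closure ({z, t} : Set P)
    have hzH : z ∈ H := Subgroup.subset_closure (by simp)
    have htH : t ∈ H := Subgroup.subset_closure (by simp)
    have hcH : c ∈ H := by
      rw [show c = t * z * t⁻¹ * z⁻¹ by rw [ht, mul_inv_cancel_right]]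
      exact mul_mem (mul_mem (mul_mem htH hzH) (inv_mem htH)) (inv_mem hzH)
    obtain ⟨v1, hv1, hg1⟩ := finrank_eq_one_iff'.1 hm1'
    obtain ⟨v2, hv2, hg2⟩ := finrank_eq_one_iff'.1 (hdim.symm.trans hm1')
    have key : ∀ g ∈ C0, g ∈ H := by
      intro g hg
      obtain ⟨a, ha⟩ := hg1 ⟨ρ g v1, (hsame g hg).1 _ v1.2⟩
      obtain ⟨b, hb⟩ := hg2 ⟨ρ g v2, (hsame g hg).2 _ v2.2⟩
      have ha' : a • (v1 : V) = ρ g v1 := congrArg Subtype.val ha
      have hb' : b • (v2 : V) = ρ g v2 := congrArg Subtype.val hb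
      have hv1' : (v1 : V) ≠ 0 := fun h => hv1 (Subtype.ext h)
      have hv2' : (v2 : V) ≠ 0 := fun h => hv2 (Subtype.ext h)
      have ha0 : a ≠ 0 := by
        rintro rfl
        rw [zero_smul] at ha'
        exact hv1' (rep_injective ρ g (ha'.symm.trans (map_zero _).symm))
      have hb0 : b ≠ 0 := by
        rintro rfl
        rw [zero_smul] at hb'
        exact hv2' (rep_injective ρ g (hb'.symm.trans (map_zero _).symm))
      have agree : ∀ x : P, ρ x v1 = a • (v1 : V) → ρ x v2 = b • (v2 : V) → g = x := by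
        intro x hx1 hx2
        refine hρ (LinearMap.ext fun v => ?_)
        obtain ⟨w1, hw1, w2, hw2, rfl⟩ := Submodule.mem_sup.1 (hcompl.sup_eq_top ▸ Submodule.mem_top : v ∈ W1 ⊔ W2)
        obtain ⟨d1, hd1⟩ := hg1 ⟨w1, hw1⟩
        obtain ⟨d2, hd2⟩ := hg2 ⟨w2, hw2⟩
        have e1 : d1 • (v1 : V) = w1 := congrArg Subtype.val hd1
        have e2 : d2 • (v2 : V) = w2 := congrArg Subtype.val hd2
        simp only [← e1, ← e2, map_add, map_smul, hx1, hx2, ← ha', ← hb']
      have hz1' : ρ z (v1 : V) = v1 := (hm1 _).1 v1.2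
      have hz2' : ρ z (v2 : V) = -(v2 : V) := (hm2 _).1 v2.2
      have hdec : ∀ r : ZMod 3, r ≠ 0 → r = 1 ∨ r = -1 := zmod_three_cases
      rcases hdec a ha0 with rfl | rfl <;> rcases hdec b hb0 with rfl | rfl
      · rw [agree 1 (by simp) (by simp)]; exact one_mem _
      · rw [agree z (by simp [hz1']) (by simp [hz2'])]; exact hzH
      · rw [agree (c * z) (by simp [hcneg, hz1']) (by simp [hcneg, hz2'])]; exact mul_mem hcH hzH
      · rw [agree c (by simp [hcneg]) (by simp [hcneg])]; exact hcH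
    intro g _
    rcases hgen g with h | h
    · exact key g h
    · simpa using mul_mem htH (key _ h)
  · exfalso
    obtain ⟨L, hL, hLinv⟩ := exists_line (hP.to_subgroup C0) (by rw [Nat.card_zmod]; decide)
      (show Odd (finrank (ZMod 3) W1) from hm.resolve_left hm1') (res ρ0 W1 hinv1)
    let L' : Submodule (ZMod 3) V := L.map W1.subtype
    have hL' : finrank (ZMod 3) L' = 1 :=
      (Submodule.equivMapOfInjective _ W1.injective_subtype L).finrank_eq ▸ hL
    have hC0L : ∀ g ∈ C0, ∀ w ∈ L', ρ g w ∈ L' := by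
      rintro g hg w ⟨x, hx, rfl⟩
      exact ⟨res ρ0 W1 hinv1 ⟨g, hg⟩ x, hLinv ⟨g, hg⟩ x hx, rfl⟩
    let X : Submodule (ZMod 3) V := L' ⊔ L'.map (ρ t)
    have hconjC : ∀ g ∈ C0, t⁻¹ * g * t ∈ C0 := by
      intro g hg
      show t⁻¹ * g * t * z * (t⁻¹ * g * t)⁻¹ = z
      have e : g * (c * z) * g⁻¹ = c * z := by
        rw [show g * (c * z) * g⁻¹ = (g * c * g⁻¹) * (g * z * g⁻¹) by group, hccent,
          show g * z * g⁻¹ = z from hg]
      calc t⁻¹ * g * t * z * (t⁻¹ * g * t)⁻¹ = t⁻¹ * (g * (t * z * t⁻¹) * g⁻¹) * t := by group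
        _ = t⁻¹ * (t * z * t⁻¹) * t := by rw [ht, e, ← ht]
        _ = z := by group
    have hCX : ∀ g ∈ C0, X.map (ρ g) ≤ X := by
      intro g hg
      rw [Submodule.map_sup]
      refine sup_le_sup ?_ ?_
      · rintro _ ⟨w, hw, rfl⟩; exact hC0L g hg w hw
      · rintro _ ⟨_, ⟨w, hw, rfl⟩, rfl⟩
        refine ⟨ρ (t⁻¹ * g * t) w, hC0L _ (hconjC g hg) w hw, ?_⟩
        rw [← Module.End.mul_apply, ← map_mul, ← Module.End.mul_apply, ← map_mul]
        congr 2
        group
    have httC : t * t ∈ C0 := by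
      show t * t * z * (t * t)⁻¹ = z
      calc t * t * z * (t * t)⁻¹ = t * (t * z * t⁻¹) * t⁻¹ := by group
        _ = t * (c * z) * t⁻¹ := by rw [ht]
        _ = (t * c * t⁻¹) * (t * z * t⁻¹) := by group
        _ = z := by rw [hccent, ht, ← mul_assoc, ← pow_two, hE2 c hcE, one_mul]
    have htX : X.map (ρ t) ≤ X := by
      rw [Submodule.map_sup]
      refine sup_le le_sup_right (le_trans ?_ le_sup_left)
      rintro _ ⟨_, ⟨w, hw, rfl⟩, rfl⟩
      rw [← Module.End.mul_apply, ← map_mul]
      exact hC0L _ httC w hw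
    have hXinv : ∀ g, ∀ w ∈ X, ρ g w ∈ X := by
      intro g w hw
      rcases hgen g with h | h
      · exact hCX g h ⟨w, hw, rfl⟩
      · have h1 := htX ⟨_, hCX _ h ⟨w, hw, rfl⟩, rfl⟩
        rwa [← Module.End.mul_apply, ← map_mul, mul_inv_cancel_left] at h1
    have hXle : finrank (ZMod 3) X ≤ 2 := by
      have h1 := Submodule.finrank_add_le_finrank_add_finrank L' (L'.map (ρ t))
      have h2' := (Submodule.equivMapOfInjective _ (rep_injective ρ t) L').finrank_eq
      show finrank (ZMod 3) ↥(L' ⊔ L'.map (ρ t)) ≤ 2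
      omega
    rcases irred X hXinv with h | h
    · have : L' = ⊥ := le_bot_iff.1 (h ▸ le_sup_left)
      rw [this, finrank_bot] at hL'
      exact zero_ne_one hL'
    · rw [h, finrank_top, hn, hn'] at hXle
      obtain ⟨j, hj⟩ := hm.resolve_left hm1'
      omega

end Cfsg.Agent.GenA.TwoLinear
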