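import Mathlib
import Cfsg.Agent.Lib.Hall.Solvable

/-!
Groups with at most two conjugacy classes of maximal subgroups are solvable.
The simple case: if `p` divides `|G : M₂|`, a `p`-subgroup fixing two points of `G/M₁` fixes a
point of `G/M₂`; hence `|G : M₂|` divides `|G : M₁| - 1`, and symmetrically.
-/

open MulAction Pointwise

namespace Cfsg.Agent.GenA.TwoMaxClasses

variable {G : Type*} [Group G]

theorem stab_mk (M : Subgroup G) (g : G) :
    stabilizer G (g : G ⧸ M) = MulAut.conj g • M := by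
  have : (g : G ⧸ M) = g • ((1 : G) : G ⧸ M) := by
    rw [MulAction.Quotient.smul_coe, smul_eq_mul, mul_one]
  rw [this, stabilizer_smul_eq_stabilizer_map_conj, stabilizer_quotient]
  rfl

theorem exists_conj_le [Finite G] {M₁ M₂ : Subgroup G}
    (hall : ∀ M : Subgroup G, IsCoatom M → ∃ g : G, M = MulAut.conj g • M₁ ∨ M = MulAut.conj g • M₂)
    {H : Subgroup G} (hH : H ≠ ⊤) :
    (∃ a : G ⧸ M₁, H ≤ stabilizer G a) ∨ ∃ a : G ⧸ M₂, H ≤ stabilizer G a := by
  obtain ⟨K, hK, hHK⟩ := (eq_top_or_exists_le_coatom H).resolve_left hH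
  obtain ⟨g, hg | hg⟩ := hall K hK
  · exact Or.inl ⟨g, by rw [stab_mk, ← hg]; exact hHK⟩
  · exact Or.inr ⟨g, by rw [stab_mk, ← hg]; exact hHK⟩

/-- A `p`-subgroup fixing two points of `G/M₁` fixes a point of `G/M₂`. -/
theorem fixes_of_fixes_two [Finite G] [IsSimpleGroup G] {M₁ M₂ : Subgroup G} (h1 : M₁ ≠ ⊤)
    (hall : ∀ M : Subgroup G, IsCoatom M → ∃ g : G, M = MulAut.conj g • M₁ ∨ M = MulAut.conj g • M₂)
    {p : ℕ} [Fact p.Prime] {X₀ : Subgroup G} (hX₀ : IsPGroup p X₀) {a₀ b₀ : G ⧸ M₁} (hab : a₀ ≠ b₀)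
    (ha₀ : X₀ ≤ stabilizer G a₀) (hb₀ : X₀ ≤ stabilizer G b₀) :
    ∃ d : G ⧸ M₂, X₀ ≤ stabilizer G d := by
  by_contra hcon
  let P : Subgroup G → Prop := fun X => IsPGroup p X ∧
    (∃ a b : G ⧸ M₁, a ≠ b ∧ X ≤ stabilizer G a ∧ X ≤ stabilizer G b) ∧
    ∀ d : G ⧸ M₂, ¬ X ≤ stabilizer G d
  have hP₀ : P X₀ := ⟨hX₀, ⟨a₀, b₀, hab, ha₀, hb₀⟩, fun d hd => hcon ⟨d, hd⟩⟩
  obtain ⟨X, -, ⟨hXp, ⟨a, b, hne, haX, hbX⟩, hX2⟩, hmax⟩ := Finite.exists_le_maximal hP₀
  -- the normalizer of `X` is proper
  have hNtop : Subgroup.normalizer (X : Set G) ≠ ⊤ := by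
    intro htop
    have hn : X.Normal := Subgroup.normalizer_eq_top_iff.mp htop
    rcases hn.eq_bot_or_eq_top with h | h
    · exact hX2 ((1 : G) : G ⧸ M₂) (h ▸ bot_le)
    · obtain ⟨g, rfl⟩ := QuotientGroup.mk_surjective a
      rw [h, top_le_iff, stab_mk] at haX
      refine h1 ?_
      rw [← inv_smul_smul (MulAut.conj g) M₁, haX]
      exact le_antisymm le_top fun x _ =>
        Subgroup.mem_pointwise_smul_iff_inv_smul_mem.mpr (Subgroup.mem_top _)
  rcases exists_conj_le hall hNtop with ⟨c, hc⟩ | ⟨d, hd⟩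
  swap
  · exact hX2 d (le_trans Subgroup.le_normalizer hd)
  have hcX : X ≤ stabilizer G c := le_trans Subgroup.le_normalizer hc
  obtain ⟨a, hac, haX⟩ : ∃ a', a' ≠ c ∧ X ≤ stabilizer G a' := by
    by_cases h : a = c
    · exact ⟨b, fun hb => hne (h.trans hb.symm), hbX⟩
    · exact ⟨a, h, haX⟩
  -- `X` is a Sylow subgroup of the stabilizer of `a`
  have hmaxA : ∀ Q : Subgroup G, IsPGroup p Q → X ≤ Q → Q ≤ stabilizer G a → Q = X := by
    intro Q hQ hXQ hQa
    by_contra hne'
    haveI : Group.IsNilpotent Q := hQ.isNilpotent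
    have hnc := Group.normalizerCondition_of_isNilpotent (G := Q) (X.subgroupOf Q)
      (lt_top_iff_ne_top.mpr fun h => hne' (le_antisymm (Subgroup.subgroupOf_eq_top.mp h) hXQ))
    obtain ⟨y, hy, hy'⟩ := SetLike.exists_of_lt hnc
    have hyN : (y : G) ∈ Subgroup.normalizer (X : Set G) := by
      rw [Subgroup.mem_normalizer_iff] at hy ⊢
      intro x
      constructor
      · intro hx
        have := (hy ⟨x, hXQ hx⟩).mp (by simpa [Subgroup.mem_subgroupOf] using hx)
        simpa [Subgroup.mem_subgroupOf] using this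
      · intro hx
        have hxQ : x ∈ Q := by
          have h3 : (y : G)⁻¹ * ((y : G) * x * (y : G)⁻¹) * (y : G) ∈ Q :=
            Q.mul_mem (Q.mul_mem (Q.inv_mem y.2) (hXQ hx)) y.2
          simpa [mul_assoc] using h3
        have := (hy ⟨x, hxQ⟩).mpr (by simpa [Subgroup.mem_subgroupOf] using hx)
        simpa [Subgroup.mem_subgroupOf] using this
    let Y := Q ⊓ Subgroup.normalizer (X : Set G)
    have hXY : X ≤ Y := le_inf hXQ Subgroup.le_normalizer
    have hYP : P Y := ⟨hQ.to_le inf_le_left,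
      ⟨a, c, hac, le_trans inf_le_left hQa, le_trans inf_le_right hc⟩,
      fun d hd => hX2 d (le_trans hXY hd)⟩
    exact hy' (Subgroup.mem_subgroupOf.mpr (hmax hYP hXY (Subgroup.mem_inf.mpr ⟨y.2, hyN⟩)))
  let Sa : Sylow p (stabilizer G a) :=
    { toSubgroup := X.subgroupOf (stabilizer G a)
      isPGroup' := hXp.comap_subtype
      is_maximal' := by
        intro Q hQ hle
        have h1 := hmaxA (Q.map (stabilizer G a).subtype) (hQ.map _)
          (by rw [← Subgroup.map_subgroupOf_eq_of_le haX]; exact Subgroup.map_mono hle)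
          (Subgroup.map_subtype_le Q)
        rw [Subgroup.subgroupOf, ← h1, Subgroup.comap_map_eq_self_of_injective
          (stabilizer G a).subtype_injective] }
  have hSa : Nat.card (Sa : Subgroup (stabilizer G a)) = Nat.card X :=
    Nat.card_congr (Subgroup.subgroupOfEquivOfLe haX).toEquiv
  obtain ⟨g, hg⟩ := exists_smul_eq G a c
  have hcard : Nat.card (stabilizer G c) = Nat.card (stabilizer G a) := by
    exact (Nat.card_congr (stabilizerEquivStabilizer hg.symm).toEquiv).symm
  let Sc : Sylow p (stabilizer G c) := Sylow.ofCard (X.subgroupOf (stabilizer G c)) (by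
    rw [Nat.card_congr (Subgroup.subgroupOfEquivOfLe hcX).toEquiv, hcard, ← hSa,
      Sa.card_eq_multiplicity])
  let X' : Subgroup G := MulAut.conj g • X
  have hX' : X' ≤ stabilizer G c := by
    rw [← hg, stabilizer_smul_eq_stabilizer_map_conj]
    exact Subgroup.map_mono haX
  let Sc' : Sylow p (stabilizer G c) := Sylow.ofCard (X'.subgroupOf (stabilizer G c)) (by
    rw [Nat.card_congr (Subgroup.subgroupOfEquivOfLe hX').toEquiv,
      ← Nat.card_congr (Subgroup.equivSMul (MulAut.conj g) X).toEquiv, hcard, ← hSa,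
      Sa.card_eq_multiplicity])
  obtain ⟨h, hh⟩ := exists_smul_eq (stabilizer G c) Sc' Sc
  have hN : (h : G) * g ∈ Subgroup.normalizer (X : Set G) := by
    rw [Subgroup.mem_normalizer_iff]
    intro x
    have key : ∀ z : stabilizer G c, z ∈ (Sc' : Subgroup (stabilizer G c)) ↔
        h * z * h⁻¹ ∈ (Sc : Subgroup (stabilizer G c)) := by
      intro z
      rw [← hh, Sylow.coe_subgroup_smul]
      exact (Subgroup.smul_mem_pointwise_smul_iff (a := MulAut.conj h)).symm
    have hmem : ∀ y : G, y ∈ X' ↔ g⁻¹ * y * g ∈ X := by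
      intro y
      rw [Subgroup.mem_pointwise_smul_iff_inv_smul_mem]
      simp [MulAut.smul_def]
    constructor
    · intro hx
      have hy : g * x * g⁻¹ ∈ X' := (hmem _).mpr (by simpa [mul_assoc] using hx)
      have := (key ⟨_, hX' hy⟩).mp (by simpa [Sc', Subgroup.mem_subgroupOf] using hy)
      simpa [Sc, Subgroup.mem_subgroupOf, mul_assoc] using this
    · intro hx
      have hyc : (g * x * g⁻¹) ∈ stabilizer G c := by
        have h3 := (stabilizer G c).mul_mem ((stabilizer G c).mul_mem
          ((stabilizer G c).inv_mem h.2) (hcX hx)) h.2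
        simpa [mul_assoc] using h3
      have h4 := (key ⟨_, hyc⟩).mpr (by
        simpa [Sc, Subgroup.mem_subgroupOf, mul_assoc] using hx)
      have h5 := (hmem _).mp (by simpa [Sc', Subgroup.mem_subgroupOf] using h4)
      simpa [mul_assoc] using h5
  have h6 : ((h : G) * g) • a = c := by rw [mul_smul, hg]; exact h.2
  have h7 : ((h : G) * g) • c = c := hc hN
  exact hac (smul_left_cancel _ (h6.trans h7.symm))

theorem index_dvd_index_sub_one [Finite G] [IsSimpleGroup G] {M₁ M₂ : Subgroup G} (h1 : IsCoatom M₁)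
    (hnp : ∀ p : ℕ, p.Prime → ¬ IsPGroup p G)
    (hall : ∀ M : Subgroup G, IsCoatom M → ∃ g : G, M = MulAut.conj g • M₁ ∨ M = MulAut.conj g • M₂) :
    M₂.index ∣ M₁.index - 1 := by
  classical
  haveI : Fintype (G ⧸ M₁) := Fintype.ofFinite _
  rw [Nat.dvd_iff_prime_pow_dvd_dvd]
  intro p k hp hpk
  rcases Nat.eq_zero_or_pos k with rfl | hk
  · simp
  haveI := Fact.mk hp
  let S : Sylow p G := default
  have hS : (S : Subgroup G) ≠ ⊤ := by
    intro h
    exact hnp p hp fun x => by
      obtain ⟨j, hj⟩ := S.isPGroup' ⟨x, h ▸ Subgroup.mem_top x⟩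
      exact ⟨j, congrArg Subtype.val hj⟩
  rcases exists_conj_le hall hS with ⟨c, hc⟩ | ⟨d, hd⟩
  swap
  · exfalso
    have : (S : Subgroup G).index = (stabilizer G d).index * (S : Subgroup G).relIndex (stabilizer G d) := by
      rw [mul_comm, Subgroup.relIndex_mul_index hd]
    refine S.not_dvd_index ?_
    have h2 : (stabilizer G d).index = M₂.index := by
      rw [index_stabilizer_of_transitive]; rfl
    rw [this, h2]
    exact dvd_mul_of_dvd_left (dvd_trans (dvd_pow_self p hk.ne') hpk) _
  have hn : M₁.index = Fintype.card (G ⧸ M₁) := by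
    rw [Subgroup.index, Nat.card_eq_fintype_card]
  have hsum := Fintype.card_congr (selfEquivSigmaOrbits (S : Subgroup G) (G ⧸ M₁))
  rw [Fintype.card_sigma] at hsum
  let w₀ : orbitRel.Quotient (S : Subgroup G) (G ⧸ M₁) := Quotient.mk'' c
  rw [← Finset.add_sum_erase _ _ (Finset.mem_univ w₀)] at hsum
  have hdiv : ∀ w : orbitRel.Quotient (S : Subgroup G) (G ⧸ M₁), w ≠ w₀ →
      p ^ k ∣ Nat.card (orbit (S : Subgroup G) w.out) := by
    intro w hw
    have hwc : w.out ≠ c := fun h => hw (by rw [← Quotient.out_eq' w, h])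
    let T : Subgroup G := (S : Subgroup G) ⊓ stabilizer G w.out
    obtain ⟨d, hd⟩ := fixes_of_fixes_two (M₁ := M₁) (M₂ := M₂) h1.1 hall (X₀ := T)
      (S.isPGroup'.to_le inf_le_left) hwc inf_le_right (le_trans inf_le_left hc)
    have hTd : Nat.card T * M₂.index ∣ Nat.card G := by
      have h2 : (stabilizer G d).index = M₂.index := by
        rw [index_stabilizer_of_transitive]; rfl
      rw [← h2, ← Subgroup.card_mul_index (stabilizer G d)]
      exact Nat.mul_dvd_mul_right (Subgroup.card_dvd_of_le hd) _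
    obtain ⟨i, hi⟩ := (S.isPGroup'.to_le (inf_le_left : T ≤ S)).exists_card_eq
    have h3 : p ^ (i + k) ∣ Nat.card G := by
      rw [pow_add, ← hi]; exact dvd_trans (Nat.mul_dvd_mul_left _ hpk) hTd
    have h4 := S.pow_dvd_card_of_pow_dvd_card h3
    have h5 : stabilizer (S : Subgroup G) w.out = T.subgroupOf S := by
      ext x
      exact ⟨fun h => ⟨x.2, h⟩, fun h => h.2⟩
    have h6 : Nat.card (orbit (S : Subgroup G) w.out) * Nat.card T = Nat.card (S : Subgroup G) := by
      have h7 := Subgroup.card_mul_index (stabilizer (S : Subgroup G) w.out)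
      rw [index_stabilizer, ← Nat.card_coe_set_eq, h5, Nat.card_congr (Subgroup.subgroupOfEquivOfLe
        (inf_le_left : T ≤ S)).toEquiv, mul_comm] at h7
      exact h7
    rw [← h6, pow_add, hi, mul_comm (Nat.card _) (p ^ i)] at h4
    exact Nat.dvd_of_mul_dvd_mul_left (pow_pos hp.pos i) h4
  have hone : Fintype.card (orbit (S : Subgroup G) w₀.out) = 1 := by
    rw [Fintype.card_eq_one_iff]
    have hfix : ∀ x : (S : Subgroup G), x • c = c := fun x => hc x.2
    have hout : w₀.out = c := by
      have : w₀.out ∈ orbit (S : Subgroup G) c := Quotient.exact' (Quotient.out_eq' w₀)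
      obtain ⟨x, hx⟩ := this
      exact hx.symm.trans (hfix x)
    refine ⟨⟨w₀.out, mem_orbit_self _⟩, ?_⟩
    rintro ⟨y, x, rfl⟩
    apply Subtype.ext
    show x • w₀.out = w₀.out
    rw [hout]; exact hfix x
  rw [hn, hsum, hone, Nat.add_sub_cancel_left]
  refine Finset.dvd_sum fun w hw => ?_
  rw [← Nat.card_eq_fintype_card]
  exact hdiv w (Finset.ne_of_mem_erase hw)

theorem not_simple_of_two_classes [Finite G] [IsSimpleGroup G] {M₁ M₂ : Subgroup G}
    (hnp : ∀ p : ℕ, p.Prime → ¬ IsPGroup p G)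
    (h1 : IsCoatom M₁) (h2 : IsCoatom M₂)
    (hall : ∀ M : Subgroup G, IsCoatom M → ∃ g : G, M = MulAut.conj g • M₁ ∨ M = MulAut.conj g • M₂) :
    False := by
  have a := index_dvd_index_sub_one h1 hnp hall
  have b := index_dvd_index_sub_one (M₂ := M₁) h2 hnp (fun M hM => by
    obtain ⟨g, hg⟩ := hall M hM; exact ⟨g, hg.symm⟩)
  have e1 := M₁.one_lt_index_of_ne_top h1.1
  have e2 := M₂.one_lt_index_of_ne_top h2.1
  have c1 := Nat.le_of_dvd (by omega) a
  have c2 := Nat.le_of_dvd (by omega) b
  omega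

theorem normal_le_conj {N M : Subgroup G} [N.Normal] (g : G) (h : N ≤ M) :
    N ≤ MulAut.conj g • M := fun x hx =>
  Subgroup.mem_pointwise_smul_iff_inv_smul_mem.mpr
    (h (by simpa [MulAut.smul_def] using ‹N.Normal›.conj_mem x hx g⁻¹))

theorem isSolvable_aux : ∀ (n : ℕ) (G : Type*) [Group G] [Finite G], Nat.card G = n →
    (∃ M₁ M₂ : Subgroup G, ∀ M : Subgroup G, IsCoatom M →
      ∃ g : G, M = MulAut.conj g • M₁ ∨ M = MulAut.conj g • M₂) → Group.IsSolvable G := by
  intro n
  induction n using Nat.strong_induction_on with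
  | _ n ih =>
  intro G _ _ hn ⟨M₁, M₂, hall⟩
  classical
  by_cases htriv : Subsingleton G
  · exact ⟨⟨0, Subsingleton.elim _ _⟩⟩
  haveI : Nontrivial G := not_subsingleton_iff_nontrivial.mp htriv
  by_cases hs : IsSimpleGroup G
  · by_contra hns
    have hnp : ∀ p : ℕ, p.Prime → ¬ IsPGroup p G := fun p hp h => by
      haveI := Fact.mk hp
      haveI := h.isNilpotent
      exact hns inferInstance
    obtain ⟨K, hK, -⟩ := (eq_top_or_exists_le_coatom (⊥ : Subgroup G)).resolve_left bot_ne_top
    -- both given subgroups may be replaced by coatoms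
    have hco : ∀ M : Subgroup G, ∀ g : G, IsCoatom (MulAut.conj g • M) → IsCoatom M := fun M g h =>
      (OrderIso.isCoatom_iff
        ((MulAut.conj g).mapSubgroup) M).mp h
    by_cases h1 : IsCoatom M₁ <;> by_cases h2 : IsCoatom M₂
    · exact not_simple_of_two_classes hnp h1 h2 hall
    · exact not_simple_of_two_classes hnp h1 h1 (fun M hM => by
        obtain ⟨g, hg | hg⟩ := hall M hM
        · exact ⟨g, Or.inl hg⟩
        · exact absurd (hco _ g (hg ▸ hM)) h2)
    · exact not_simple_of_two_classes hnp h2 h2 (fun M hM => by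
        obtain ⟨g, hg | hg⟩ := hall M hM
        · exact absurd (hco _ g (hg ▸ hM)) h1
        · exact ⟨g, Or.inr hg⟩)
    · obtain ⟨g, hg | hg⟩ := hall K hK
      · exact h1 (hco _ g (hg ▸ hK))
      · exact h2 (hco _ g (hg ▸ hK))
  · have : ∃ N₀ : Subgroup G, N₀.Normal ∧ N₀ ≠ ⊥ ∧ N₀ ≠ ⊤ := by
      by_contra hcon; push_neg at hcon
      exact hs ⟨fun H hH => or_iff_not_imp_left.mpr fun h => hcon H hH h⟩
    obtain ⟨N₀, hN₀n, hN₀b, hN₀t⟩ := this
    obtain ⟨N, hNle, ⟨hNn, hNb⟩, hNmin⟩ :=
      Finite.exists_le_minimal (p := fun H : Subgroup G => H.Normal ∧ H ≠ ⊥) ⟨hN₀n, hN₀b⟩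
    haveI := hNn
    have hNt : N ≠ ⊤ := fun h => hN₀t (top_le_iff.mp (h ▸ hNle))
    -- the quotient is solvable
    let π := QuotientGroup.mk' N
    have hq : Group.IsSolvable (G ⧸ N) := by
      refine ih (Nat.card (G ⧸ N)) ?_ (G ⧸ N) rfl ⟨M₁.map π, M₂.map π, fun K hK => ?_⟩
      · rw [← hn, Subgroup.card_eq_card_quotient_mul_card_subgroup N]
        exact lt_mul_of_one_lt_right Nat.card_pos ((Subgroup.one_lt_card_iff_ne_bot N).mpr hNb)
      · have hK' : IsCoatom (K.comap π) :=
          Subgroup.isCoatom_comap_of_surjective (QuotientGroup.mk'_surjective N) hK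
        obtain ⟨g, hg⟩ := hall _ hK'
        refine ⟨π g, ?_⟩
        have hm : ∀ M : Subgroup G, (MulAut.conj g • M).map π = MulAut.conj (π g) • M.map π := by
          intro M
          change (M.map (MulAut.conj g).toMonoidHom).map π =
            (M.map π).map (MulAut.conj (π g)).toMonoidHom
          rw [Subgroup.map_map, Subgroup.map_map]
          congr 1
        have hKK : (K.comap π).map π = K :=
          Subgroup.map_comap_eq_self_of_surjective (QuotientGroup.mk'_surjective N) K
        rcases hg with h | h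
        · left; rw [← hm, ← h, hKK]
        · right; rw [← hm, ← h, hKK]
    suffices hNs : Group.IsSolvable N by
      haveI := hNs; haveI := hq
      exact solvable_of_ker_le_range N.subtype π (by rw [QuotientGroup.ker_mk', Subgroup.range_subtype])
    by_contra hNs
    -- some maximal subgroup contains `N`
    obtain ⟨L, hL, hNL⟩ := (eq_top_or_exists_le_coatom N).resolve_left hNt
    obtain ⟨gL, hgL⟩ := hall L hL
    have hback : ∀ M : Subgroup G, ∀ g : G, N ≤ MulAut.conj g • M → N ≤ M := by
      intro M g h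
      have := normal_le_conj (N := N) g⁻¹ h
      rwa [map_inv, inv_smul_smul] at this
    -- if `N` lies in both, it is nilpotent
    have hboth : ¬ (N ≤ M₁ ∧ N ≤ M₂) := by
      rintro ⟨a, b⟩
      apply hNs
      have hle : N ≤ frattini G := by
        simp only [frattini, Order.radical]
        refine le_iInf₂ fun K hK => ?_
        obtain ⟨g, rfl | rfl⟩ := hall K hK
        · exact normal_le_conj g a
        · exact normal_le_conj g b
      haveI : Group.IsNilpotent (frattini G) := frattini_nilpotent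
      exact solvable_of_solvable_injective (f := Subgroup.inclusion hle)
        (Subgroup.inclusion_injective hle)
    obtain ⟨A, B, hA, hB, hall'⟩ : ∃ A B : Subgroup G, N ≤ A ∧ ¬ N ≤ B ∧
        ∀ M : Subgroup G, IsCoatom M → ∃ g : G, M = MulAut.conj g • A ∨ M = MulAut.conj g • B := by
      rcases hgL with h | h
      · have := hback _ _ (h ▸ hNL)
        exact ⟨M₁, M₂, this, fun b => hboth ⟨this, b⟩, hall⟩
      · have := hback _ _ (h ▸ hNL)
        exact ⟨M₂, M₁, this, fun b => hboth ⟨b, this⟩, fun M hM => by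
          obtain ⟨g, hg⟩ := hall M hM; exact ⟨g, hg.symm⟩⟩
    apply hB
    have hcard : Nat.card N ∣ Nat.card (B ⊓ N : Subgroup G) := by
      rw [Nat.dvd_iff_prime_pow_dvd_dvd]
      intro r k hr hrk
      rcases Nat.eq_zero_or_pos k with rfl | hk
      · simp
      haveI := Fact.mk hr
      let R : Sylow r N := default
      let R' : Subgroup G := (R : Subgroup N).map N.subtype
      have hR : r ^ k ∣ Nat.card R' := by
        rw [Subgroup.card_map_of_injective N.subtype_injective]
        exact R.pow_dvd_card_of_pow_dvd_card hrk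
      have hRN : R' ≤ N := Subgroup.map_subtype_le _
      have hnt : Subgroup.normalizer (R' : Set G) ≠ ⊤ := by
        intro htop
        have hRn : R'.Normal := Subgroup.normalizer_eq_top_iff.mp htop
        have hRb : R' ≠ ⊥ := by
          intro h
          rw [h, Subgroup.card_bot, Nat.dvd_one] at hR
          exact hr.ne_one ((Nat.pow_eq_one.mp hR).resolve_right hk.ne')
        have : N ≤ R' := hNmin ⟨hRn, hRb⟩ hRN
        apply hNs
        have : IsPGroup r N := (R.isPGroup'.map N.subtype).to_le this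
        haveI := this.isNilpotent
        infer_instance
      obtain ⟨K, hK, hle⟩ := (eq_top_or_exists_le_coatom _).resolve_left hnt
      have hNK : ¬ N ≤ K := by
        intro h
        apply hK.1
        rw [← top_le_iff, ← Sylow.normalizer_sup_eq_top R]
        exact sup_le hle h
      obtain ⟨g, hg | hg⟩ := hall' K hK
      · exact absurd (hg ▸ normal_le_conj g hA) hNK
      · refine dvd_trans hR ?_
        have hsub : MulAut.conj g⁻¹ • R' ≤ B ⊓ N := by
          refine le_inf ?_ ?_
          · have h3 : R' ≤ K := le_trans Subgroup.le_normalizer hle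
            rw [hg] at h3
            have := Subgroup.pointwise_smul_le_pointwise_smul_iff (a := MulAut.conj g⁻¹) |>.mpr h3
            rw [map_inv, inv_smul_smul] at this
            rwa [map_inv]
          · intro x hx
            obtain ⟨y, hy, rfl⟩ := Subgroup.mem_map.mp hx
            exact hNn.conj_mem y (hRN hy) g⁻¹
        rw [Nat.card_congr (Subgroup.equivSMul (MulAut.conj g⁻¹) R').toEquiv]
        exact Subgroup.card_dvd_of_le hsub
    have := Subgroup.eq_of_le_of_card_ge (inf_le_right : B ⊓ N ≤ N)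
      (Nat.le_of_dvd Nat.card_pos hcard)
    exact inf_eq_right.mp this

theorem isSolvable [Finite G] {M₁ M₂ : Subgroup G}
    (hall : ∀ M : Subgroup G, IsCoatom M → ∃ g : G, M = MulAut.conj g • M₁ ∨ M = MulAut.conj g • M₂) :
    Group.IsSolvable G :=
  isSolvable_aux _ G rfl ⟨M₁, M₂, hall⟩

/-- A prime-power cyclic group has totally ordered subgroups. -/
theorem le_or_le_of_zpowers_eq_top [Finite G] {p : ℕ} [Fact p.Prime] (hG : IsPGroup p G) {x : G}
    (hx : Subgroup.zpowers x = ⊤) {A B : Subgroup G} [A.Normal] [B.Normal] : A ≤ B ∨ B ≤ A := by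
  suffices h : ∀ C D : Subgroup G, C.Normal → D.Normal → C.index ∣ D.index → D ≤ C by
    obtain ⟨u, hu⟩ := hG.index A
    obtain ⟨v, hv⟩ := hG.index B
    rcases Nat.le_total u v with huv | huv
    · exact Or.inr (h A B ‹_› ‹_› (hu ▸ hv ▸ pow_dvd_pow p huv))
    · exact Or.inl (h B A ‹_› ‹_› (hu ▸ hv ▸ pow_dvd_pow p huv))
  intro C D hC hD hdvd y hy
  obtain ⟨i, rfl⟩ : y ∈ Subgroup.zpowers x := hx ▸ Subgroup.mem_top y
  have hgen : ∀ q : G ⧸ D, q ∈ Subgroup.zpowers (x : G ⧸ D) := by
    intro q
    obtain ⟨z, rfl⟩ := QuotientGroup.mk_surjective q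
    obtain ⟨j, rfl⟩ : z ∈ Subgroup.zpowers x := hx ▸ Subgroup.mem_top z
    exact ⟨j, by simp⟩
  have hord : orderOf (x : G ⧸ D) = D.index := by
    rw [orderOf_eq_card_of_forall_mem_zpowers hgen]; rfl
  have h1 : (D.index : ℤ) ∣ i := by
    rw [← hord, orderOf_dvd_iff_zpow_eq_one, ← QuotientGroup.mk_zpow, QuotientGroup.eq_one_iff]
    exact hy
  obtain ⟨j, rfl⟩ := dvd_trans (Int.natCast_dvd_natCast.mpr hdvd) h1
  show x ^ ((C.index : ℤ) * j) ∈ C
  rw [zpow_mul, zpow_natCast]
  exact C.zpow_mem (C.pow_index_mem x) j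

theorem card_primeFactors [Finite G] {M₁ M₂ : Subgroup G} (h1 : IsCoatom M₁) (h2 : IsCoatom M₂)
    (hne : ∀ g : G, M₂ ≠ MulAut.conj g • M₁)
    (hall : ∀ M : Subgroup G, IsCoatom M → ∃ g : G, M = MulAut.conj g • M₁ ∨ M = MulAut.conj g • M₂) :
    (Nat.card G).primeFactors.card = 2 := by
  classical
  haveI := isSolvable hall
  apply le_antisymm
  · have hsub : ∀ p ∈ (Nat.card G).primeFactors,
        M₁.index.primeFactors = {p} ∨ M₂.index.primeFactors = {p} := by
      intro p hp
      rw [Nat.mem_primeFactors] at hp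
      obtain ⟨hpp, hpd, -⟩ := hp
      obtain ⟨H, hH1, hH2⟩ := Cfsg.Agent.Hall.exists_hall {q | q ≠ p} G
      have hidx : ∀ q : ℕ, q.Prime → q ∣ H.index → q = p := fun q hq hd =>
        of_not_not fun h => hH2 q hq h hd
      have hne1 : H.index ≠ 1 := by
        intro h
        have := Subgroup.card_mul_index H
        rw [h, mul_one] at this
        exact hH1 p hpp (this ▸ hpd) rfl
      have htop : H ≠ ⊤ := fun h => hne1 (h ▸ Subgroup.index_top)
      obtain ⟨K, hK, hHK⟩ := (eq_top_or_exists_le_coatom H).resolve_left htop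
      have hKp : K.index.primeFactors = {p} := by
        have hK1 : K.index ≠ 1 := fun h => hK.1 (Subgroup.index_eq_one.mp h)
        have hsub : K.index.primeFactors ⊆ {p} := by
          intro q hq
          rw [Nat.mem_primeFactors] at hq
          exact Finset.mem_singleton.mpr
            (hidx q hq.1 (dvd_trans hq.2.1 (Subgroup.index_dvd_of_le hHK)))
        refine (Finset.subset_singleton_iff.mp hsub).resolve_left fun h => ?_
        rcases Nat.primeFactors_eq_empty.mp h with h | h
        · exact Subgroup.index_ne_zero_of_finite h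
        · exact hK1 h
      have hidxg : ∀ (g : G) (M : Subgroup G), (MulAut.conj g • M).index = M.index := by
        intro g M
        exact Subgroup.index_map_equiv M (MulAut.conj g)
      obtain ⟨g, hg | hg⟩ := hall K hK
      · left; rw [← hKp, hg, hidxg]
      · right; rw [← hKp, hg, hidxg]
    have hle : (Nat.card G).primeFactors.card ≤
        ({M₁.index.primeFactors, M₂.index.primeFactors} : Finset (Finset ℕ)).card :=
      Finset.card_le_card_of_injOn (fun p => ({p} : Finset ℕ))
        (fun p hp => by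
          rcases hsub p hp with h | h <;> simp [h])
        (fun a _ b _ h => Finset.singleton_injective h)
    exact le_trans hle Finset.card_le_two
  · by_contra hlt
    push_neg at hlt
    haveI : Nontrivial G := by
      by_contra h
      rw [not_nontrivial_iff_subsingleton] at h
      exact h1.1 (Subsingleton.elim _ _)
    obtain ⟨p, hp, hpd⟩ := Nat.exists_prime_and_dvd (Finite.one_lt_card (α := G)).ne'
    haveI := Fact.mk hp
    have hG : IsPGroup p G := by
      rw [IsPGroup.iff_card]
      refine ⟨_, Nat.eq_prime_pow_of_unique_prime_dvd Nat.card_pos.ne' fun {d} hd hdd => ?_⟩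
      exact Finset.card_le_one.mp (by omega) d
        (Nat.mem_primeFactors.mpr ⟨hd, hdd, Nat.card_pos.ne'⟩) p
        (Nat.mem_primeFactors.mpr ⟨hp, hpd, Nat.card_pos.ne'⟩)
    haveI := hG.isNilpotent
    have hnorm : ∀ {M : Subgroup G}, IsCoatom M → M.Normal := fun {M} hM =>
      Subgroup.NormalizerCondition.normal_of_coatom M Group.normalizerCondition_of_isNilpotent hM
    haveI := hnorm h1
    haveI := hnorm h2
    have hne' : M₁ ≠ M₂ := fun h => hne 1 (by rw [map_one, one_smul, h])
    have hnle : ¬ (M₁ ≤ M₂ ∨ M₂ ≤ M₁) := by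
      rintro (h | h)
      · exact h2.1 (h1.2 _ (lt_of_le_of_ne h hne'))
      · exact h1.1 (h2.2 _ (lt_of_le_of_ne h hne'.symm))
    obtain ⟨x, hx1, hx2⟩ : ∃ x, x ∉ M₁ ∧ x ∉ M₂ := by
      push_neg at hnle
      obtain ⟨⟨a, ha, ha'⟩, ⟨b, hb, hb'⟩⟩ :=
        And.intro (SetLike.not_le_iff_exists.mp hnle.1) (SetLike.not_le_iff_exists.mp hnle.2)
      refine ⟨a * b, fun h => hb' ?_, fun h => ha' ?_⟩
      · simpa using M₁.mul_mem (M₁.inv_mem ha) h
      · simpa using M₂.mul_mem h (M₂.inv_mem hb)
    have hx : Subgroup.zpowers x = ⊤ := by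
      by_contra h
      obtain ⟨K, hK, hle⟩ := (eq_top_or_exists_le_coatom _).resolve_left h
      obtain ⟨g, rfl | rfl⟩ := hall K hK
      · exact hx1 (by simpa [Subgroup.Normal.conj_smul_eq_self] using hle (Subgroup.mem_zpowers x))
      · exact hx2 (by simpa [Subgroup.Normal.conj_smul_eq_self] using hle (Subgroup.mem_zpowers x))
    exact hnle (le_or_le_of_zpowers_eq_top hG hx)

end Cfsg.Agent.GenA.TwoMaxClasses
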