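import Mathlib
import Cfsg.Agent.GenA.Subnormal

/-!
If `A` is a proper subgroup of a finite group `G` with normal closure `G`, then either the proper
subgroups `H` containing `A` and generated by their `H`-conjugates of `A` generate `G`, or `A` lies
in a unique maximal subgroup (a generalisation of Wielandt's zipper lemma).
-/

set_option autoImplicit false

namespace Cfsg.Agent.GenA.UniqueMax

variable {G : Type*} [Group G]

/-- Conjugate of a subgroup. -/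
def cj (g : G) (H : Subgroup G) : Subgroup G := H.map (MulAut.conj g).toMonoidHom

theorem mem_cj {g x : G} {H : Subgroup G} : x ∈ cj g H ↔ g⁻¹ * x * g ∈ H := by
  constructor
  · rintro ⟨y, hy, rfl⟩
    simpa [mul_assoc] using hy
  · exact fun h => ⟨_, h, by simp [mul_assoc]⟩

theorem cj_cj (g h : G) (H : Subgroup G) : cj g (cj h H) = cj (g * h) H := by
  ext x
  simp only [mem_cj, mul_inv_rev]
  constructor <;> intro hx <;> simpa [mul_assoc] using hx

theorem cj_one (H : Subgroup G) : cj 1 H = H := by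
  ext x; simp [mem_cj]

theorem cj_le_cj {g : G} {H K : Subgroup G} : cj g H ≤ cj g K ↔ H ≤ K :=
  Subgroup.map_le_map_iff_of_injective (MulAut.conj g).injective

theorem cj_injective (g : G) : Function.Injective (cj g) :=
  fun _ _ h => Subgroup.map_injective (MulAut.conj g).injective h

theorem cj_inv_cj (g : G) (H : Subgroup G) : cj g⁻¹ (cj g H) = H := by
  rw [cj_cj, inv_mul_cancel, cj_one]

theorem cj_cj_inv (g : G) (H : Subgroup G) : cj g (cj g⁻¹ H) = H := by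
  rw [cj_cj, mul_inv_cancel, cj_one]

theorem cj_eq_iff {g : G} {H : Subgroup G} : cj g H = H ↔ g ∈ Subgroup.normalizer (H : Set G) := by
  rw [Subgroup.mem_normalizer_iff]
  constructor
  · intro h x
    have h1 : g * x * g⁻¹ ∈ cj g H ↔ g * x * g⁻¹ ∈ H := by rw [h]
    rw [mem_cj] at h1
    simpa [mul_assoc] using h1
  · intro h
    ext x
    rw [mem_cj, h (g⁻¹ * x * g)]
    simp [mul_assoc]

theorem cj_of_mem {g : G} {H : Subgroup G} (h : g ∈ H) : cj g H = H :=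
  cj_eq_iff.mpr (Subgroup.le_normalizer h)

theorem cj_normalizer (g : G) (H : Subgroup G) :
    cj g (Subgroup.normalizer (H : Set G)) = Subgroup.normalizer (cj g H : Set G) := by
  ext x
  rw [mem_cj, ← cj_eq_iff, ← cj_eq_iff, cj_cj]
  constructor
  · intro h
    rw [show x * g = g * (g⁻¹ * x * g) by group, ← cj_cj, h]
  · intro h
    rw [show g⁻¹ * x * g = g⁻¹ * (x * g) by group, ← cj_cj, h, cj_inv_cj]

theorem cj_le_normalizer_iff {g : G} {W Z : Subgroup G} :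
    cj g W ≤ Subgroup.normalizer (cj g Z : Set G) ↔ W ≤ Subgroup.normalizer (Z : Set G) := by
  rw [← cj_normalizer, cj_le_cj]

theorem card_cj (g : G) (H : Subgroup G) : Nat.card ↥(cj g H) = Nat.card ↥H :=
  Subgroup.card_map_of_injective (f := (MulAut.conj g).toMonoidHom) (MulAut.conj g).injective

theorem cj_top (g : G) : cj g ⊤ = ⊤ :=
  Subgroup.map_top_of_surjective _ (MulAut.conj g).surjective

theorem isCoatom_cj (g : G) {M : Subgroup G} (hM : IsCoatom M) : IsCoatom (cj g M) := by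
  refine ⟨fun h => hM.1 ?_, fun X hX => ?_⟩
  · rw [← cj_inv_cj g M, h, cj_top]
  · have : M < cj g⁻¹ X := by
      refine lt_of_le_of_ne ?_ ?_
      · rw [← cj_inv_cj g M]; exact cj_le_cj.mpr hX.le
      · intro h; apply hX.ne; rw [h, cj_cj_inv]
    rw [← cj_cj_inv g X, hM.2 _ this, cj_top]

/-! ### relative subnormality -/

/-- `A` is a subnormal subgroup of `X`. -/
def SN (A X : Subgroup G) : Prop := A ≤ X ∧ (A.subgroupOf X).IsSubnormal

theorem SN.refl (A : Subgroup G) : SN A A :=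
  ⟨le_rfl, by rw [Subgroup.subgroupOf_self]; exact Subgroup.IsSubnormal.top⟩

theorem SN.of_normal {A X : Subgroup G} (h : A ≤ X) (hn : X ≤ Subgroup.normalizer (A : Set G)) :
    SN A X :=
  ⟨h, ((Subgroup.normal_subgroupOf_iff_le_normalizer h).mpr hn).isSubnormal⟩

theorem SN.restrict {A X Y : Subgroup G} (h : SN A X) (hA : A ≤ Y) (hY : Y ≤ X) : SN A Y :=
  ⟨hA, h.2.comap (Subgroup.inclusion hY)⟩

theorem SN.trans {A B X : Subgroup G} (h1 : SN A B) (h2 : SN B X) : SN A X := by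
  refine ⟨h1.1.trans h2.1, Subgroup.IsSubnormal.trans (K := B.subgroupOf X) ?_ ?_ h2.2⟩
  · exact Subgroup.comap_mono h1.1
  · exact h1.2.comap (f := MonoidHom.mk' (fun x : ↥(B.subgroupOf X) => (⟨((x : ↥X) : G), x.2⟩ : ↥B))
      fun _ _ => rfl)

theorem SN.bot (X : Subgroup G) : SN ⊥ X :=
  ⟨bot_le, by rw [Subgroup.bot_subgroupOf]; exact Subgroup.IsSubnormal.bot⟩

theorem SN.sSup [Finite G] {s : Set (Subgroup G)} {X : Subgroup G} (h : ∀ B ∈ s, SN B X) :
    SN (sSup s) X := by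
  refine Set.Finite.induction_on (motive := fun t _ => t ⊆ s → SN (SupSet.sSup t) X) s (Set.toFinite s) ?_ ?_ subset_rfl
  · intro _; rw [sSup_empty]; exact SN.bot X
  · intro B r _ _ ih hsub
    rw [sSup_insert]
    have h1 := h B (hsub (Set.mem_insert B r))
    have h2 := ih ((Set.subset_insert B r).trans hsub)
    refine ⟨sup_le h1.1 h2.1, ?_⟩
    rw [Subgroup.subgroupOf_sup h1.1 h2.1]
    exact Cfsg.Agent.GenA.Subnormal.isSubnormal_sup h1.2 h2.2

theorem SN.sup [Finite G] {A B X : Subgroup G} (h1 : SN A X) (h2 : SN B X) : SN (A ⊔ B) X := by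
  rw [← sSup_pair]
  refine SN.sSup ?_
  rintro C (rfl | rfl)
  · exact h1
  · exact h2

theorem SN.cj {A X : Subgroup G} (g : G) (h : SN A X) : SN (cj g A) (cj g X) := by
  refine ⟨cj_le_cj.mpr h.1, ?_⟩
  let f : ↥(UniqueMax.cj g X) →* ↥X :=
    MonoidHom.mk' (fun x => ⟨g⁻¹ * (x : G) * g, mem_cj.mp x.2⟩) fun a b => Subtype.ext (by
      show g⁻¹ * ((a : G) * b) * g = g⁻¹ * (a : G) * g * (g⁻¹ * (b : G) * g)
      group)
  have : (UniqueMax.cj g A).subgroupOf (UniqueMax.cj g X) = (A.subgroupOf X).comap f := by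
    ext x
    exact mem_cj (g := g) (x := (x : G)) (H := A)
  rw [this]
  exact h.2.comap f

/-- A proper subnormal subgroup lies in a proper normal subgroup. -/
theorem SN.exists_normal {A X : Subgroup G} (h : SN A X) (hne : A ≠ X) :
    ∃ K, A ≤ K ∧ K < X ∧ X ≤ Subgroup.normalizer (K : Set G) ∧ SN A K := by
  have hne' : A.subgroupOf X ≠ ⊤ := fun e =>
    hne (le_antisymm h.1 (Subgroup.subgroupOf_eq_top.mp e))
  obtain ⟨K, hKn, hAK, hK⟩ := h.2.exists_normal_and_le_and_lt_top_of_ne hne'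
  have hle : A ≤ K.map X.subtype := fun x hx => ⟨⟨x, h.1 hx⟩, hAK hx, rfl⟩
  refine ⟨K.map X.subtype, hle, lt_of_le_of_ne (Subgroup.map_subtype_le K) fun e => hK.ne ?_, ?_,
    h.restrict hle (Subgroup.map_subtype_le K)⟩
  · apply Subgroup.map_injective X.subtype_injective
    rw [e, ← MonoidHom.range_eq_map, Subgroup.range_subtype]
  · intro x hx
    rw [← cj_eq_iff]
    ext y
    rw [mem_cj]
    constructor
    · rintro ⟨k, hk, he⟩
      exact ⟨_, hKn.conj_mem k hk ⟨x, hx⟩, by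
        show x * (k : G) * x⁻¹ = y
        rw [show (k : G) = x⁻¹ * y * x from he]; group⟩
    · rintro ⟨k, hk, rfl⟩
      exact ⟨_, hKn.conj_mem k hk ⟨x, hx⟩⁻¹, by simp⟩

/-- A subnormal subgroup that is not normal has a different conjugate normalising it. -/
theorem exists_cj_le_normalizer [Finite G] {A : Subgroup G} : ∀ {X : Subgroup G}, SN A X →
    ¬ X ≤ Subgroup.normalizer (A : Set G) →
    ∃ y ∈ X, cj y A ≤ Subgroup.normalizer (A : Set G) ∧ cj y A ≠ A := by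
  intro X
  induction hk : Nat.card X using Nat.strong_induction_on generalizing X with
  | _ k ih =>
    intro hsn hX
    subst hk
    have hne : A ≠ X := by rintro rfl; exact hX Subgroup.le_normalizer
    obtain ⟨K, hAK, hKX, hXK, hsK⟩ := hsn.exists_normal hne
    by_cases hK : K ≤ Subgroup.normalizer (A : Set G)
    · obtain ⟨y, hy, hy'⟩ := SetLike.not_le_iff_exists.mp hX
      refine ⟨y, hy, le_trans ?_ hK, fun e => hy' (cj_eq_iff.mp e)⟩
      rw [← cj_eq_iff.mpr (hXK hy)]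
      exact cj_le_cj.mpr hAK
    · have hlt : Nat.card K < Nat.card X := by
        refine lt_of_le_of_ne (Subgroup.card_le_of_le hKX.le) fun e => hKX.ne ?_
        exact Subgroup.eq_of_le_of_card_ge hKX.le e.ge
      obtain ⟨y, hy, h⟩ := ih _ hlt rfl hsK hK
      exact ⟨y, hKX.le hy, h⟩

/-! ### combinatorial core -/

section Chain

variable {α : Type*} (S : Set α) (mv : α → α → Prop)

/-- Elements whose only mover normal in `S \ {A}` is `B`, hereditarily. -/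
inductive Bl (A B : α) : α → Prop
  | mk (Z : α) : Z ∈ S → Z ≠ A → ¬ mv A Z → mv B Z →
      (∀ W ∈ S, mv W Z → W ≠ B → Bl A B W) → Bl A B Z

theorem Bl.step {A B : α} (σ : α ≃ α) (hσ : ∀ x y, mv (σ x) (σ y) ↔ mv x y)
    (hσS : ∀ x, (x ∈ S ∧ x ≠ A) ↔ (σ x ∈ S ∧ σ x ≠ A))
    (hA0 : A ∈ S) (hB : B ∈ S) (hAB : A ≠ B) (hBfix : ∀ x ∈ S, ¬ mv x B) (hmv : mv A (σ B))
    (hA : ∀ Z ∈ S, ∀ x ∈ S, Z ≠ A → x ≠ A → ¬ mv A Z → mv x Z → mv A x →
      ∃ x' ∈ S, x' ≠ A ∧ x' ≠ x ∧ mv x' Z ∧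
        ((∀ w ∈ S, w ≠ A → ¬ mv w x) → ∀ w ∈ S, w ≠ A → ¬ mv w x'))
    {Z : α} (h : Bl S mv A B Z) :
    Bl S mv B A (σ Z) ∧ ∀ W ∈ S, mv W Z → (σ W ∈ S ∧ σ W ≠ A ∧ mv (σ W) (σ Z)) := by
  induction h with
  | mk Z hZ hZA hAZ hBZ hrest ih =>
    obtain ⟨hσB, hσBA⟩ := (hσS B).mp ⟨hB, hAB.symm⟩
    obtain ⟨hσZ, hσZA⟩ := (hσS Z).mp ⟨hZ, hZA⟩
    have hσBfix : ∀ w ∈ S, w ≠ A → ¬ mv w (σ B) := by
      intro w hw hwA
      obtain ⟨u, rfl⟩ := σ.surjective w
      rw [hσ]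
      exact hBfix u ((hσS u).mpr ⟨hw, hwA⟩).1
    have hmvB : mv (σ B) (σ Z) := (hσ B Z).mpr hBZ
    have hmoved : ∀ W, Bl S mv A B W → mv (σ B) (σ W) := by
      rintro W ⟨W, -, -, -, hBW, -⟩
      exact (hσ B W).mpr hBW
    have h1 : σ Z ≠ B := fun e => hBfix _ hσB (e ▸ hmvB)
    have h2 : ¬ mv B (σ Z) := by
      intro hB'
      obtain ⟨w, hw⟩ := σ.surjective B
      obtain ⟨hwS, hwA⟩ := (hσS w).mpr (by rw [hw]; exact ⟨hB, hAB.symm⟩)
      have hwB : w ≠ B := fun e => hBfix A hA0 (by rw [e] at hw; rwa [hw] at hmv)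
      have hwZ : mv w Z := by rw [← hσ, hw]; exact hB'
      have := hmoved w (hrest w hwS hwZ hwB)
      rw [hw] at this
      exact hBfix _ hσB this
    have h3 : mv A (σ Z) := by
      by_contra hA'
      obtain ⟨x', hx', hx'A, hne, hx'Z, hfix⟩ := hA _ hσZ _ hσB hσZA hσBA hA' hmvB hmv
      have hfix' := hfix hσBfix
      obtain ⟨w, rfl⟩ := σ.surjective x'
      obtain ⟨hwS, hwA⟩ := (hσS w).mpr ⟨hx', hx'A⟩
      have hwB : w ≠ B := fun e => hne (by rw [e])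
      have := hmoved w (hrest w hwS ((hσ w Z).mp hx'Z) hwB)
      exact hfix' _ hσB hσBA this
    refine ⟨.mk _ hσZ h1 h2 h3 ?_, ?_⟩
    · intro W hW hWZ hWA
      obtain ⟨w, rfl⟩ := σ.surjective W
      obtain ⟨hwS, hwA⟩ := (hσS w).mpr ⟨hW, hWA⟩
      by_cases hwB : w = B
      · rw [hwB]
        refine .mk _ hσB ?_ ?_ hmv fun W' hW' hW'B hW'A => absurd hW'B (hσBfix W' hW' hW'A)
        · exact fun e => hBfix A hA0 (e ▸ hmv)
        · exact hσBfix B hB hAB.symm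
      · exact (ih w hwS ((hσ w Z).mp hWZ) hwB).1
    · intro W hW hWZ
      have hWA : W ≠ A := fun e => hAZ (e ▸ hWZ)
      obtain ⟨a, b⟩ := (hσS W).mp ⟨hW, hWA⟩
      exact ⟨a, b, (hσ W Z).mpr hWZ⟩

end Chain

/-! ### the core configuration -/

/-- Every member `B` of the conjugation-invariant set `C` is subnormal in all proper subgroups
containing it, except in subgroups of the maximal subgroup `phi B`. -/
structure Config (C : Set (Subgroup G)) where
  conj_mem : ∀ B ∈ C, ∀ g : G, cj g B ∈ C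
  phi : Subgroup G → Subgroup G
  coatom : ∀ B ∈ C, IsCoatom (phi B)
  le_phi : ∀ B ∈ C, B ≤ phi B
  bad : ∀ B ∈ C, ¬ SN B (phi B)
  good : ∀ B ∈ C, ∀ X : Subgroup G, X ≠ ⊤ → B ≤ X → ¬ X ≤ phi B → SN B X
  not_normal : ∀ B ∈ C, ∀ N : Subgroup G, N ≠ ⊤ → B ≤ N → Subgroup.normalizer (N : Set G) ≠ ⊤
  eq_of_phi : ∀ B ∈ C, ∀ B' ∈ C, ∀ M : Subgroup G, phi B = phi B' → IsCoatom M → M ≠ phi B →
    B ≤ M → B' ≤ M → B = B'

namespace Config

variable {C : Set (Subgroup G)} (c : Config C)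

include c

theorem normalizer_coatom {B M : Subgroup G} (hB : B ∈ C) (hM : IsCoatom M) (h : B ≤ M) :
    Subgroup.normalizer (M : Set G) = M := by
  rcases eq_or_lt_of_le (Subgroup.le_normalizer (H := M)) with h' | h'
  · exact h'.symm
  · exact absurd (hM.2 _ h') (c.not_normal B hB M hM.1 h)

theorem sn_of_ne {B M : Subgroup G} (hB : B ∈ C) (hM : IsCoatom M) (h : B ≤ M) (hne : M ≠ c.phi B) :
    SN B M :=
  c.good B hB M hM.1 h fun hle =>
    (hle.lt_or_eq).elim (fun hlt => (c.coatom B hB).1 (hM.2 _ hlt)) hne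

theorem phi_cj {B : Subgroup G} (hB : B ∈ C) (g : G) : c.phi (cj g B) = cj g (c.phi B) := by
  by_contra hne
  have h1 := c.sn_of_ne (c.conj_mem B hB g) (isCoatom_cj g (c.coatom B hB))
    (cj_le_cj.mpr (c.le_phi B hB)) (Ne.symm hne)
  have h2 := h1.cj g⁻¹
  rw [cj_inv_cj, cj_inv_cj] at h2
  exact c.bad B hB h2

theorem cj_eq_of_mem {B : Subgroup G} (hB : B ∈ C) {g : G} (h : g ∈ c.phi B) :
    c.phi (cj g B) = c.phi B := by
  rw [c.phi_cj hB, cj_of_mem h]

theorem normalizer_le_phi {B : Subgroup G} (hB : B ∈ C) :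
    Subgroup.normalizer (B : Set G) ≤ c.phi B := by
  intro n hn
  have h := c.phi_cj hB n
  rw [cj_eq_iff.mpr hn] at h
  rw [← c.normalizer_coatom hB (c.coatom B hB) (c.le_phi B hB), ← cj_eq_iff]
  exact h.symm

theorem inf_le_normalizer {B M : Subgroup G} (hB : B ∈ C) (hM : IsCoatom M) (h : B ≤ M)
    (hne : M ≠ c.phi B) : c.phi B ⊓ M ≤ Subgroup.normalizer (B : Set G) := by
  intro d hd
  rw [← cj_eq_iff]
  have hphi := c.cj_eq_of_mem hB hd.1
  refine c.eq_of_phi _ (c.conj_mem B hB d) B hB M hphi hM (by rw [hphi]; exact hne) ?_ h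
  rw [← cj_of_mem hd.2]
  exact cj_le_cj.mpr h

theorem impossible [Finite G] {A₁ M₁ : Subgroup G} (hA₁ : A₁ ∈ C) (hM₁ : IsCoatom M₁)
    (hne₁ : M₁ ≠ c.phi A₁) (hle₁ : A₁ ≤ M₁) : False := by
  classical
  obtain ⟨⟨A, M'⟩, ⟨hA, hM', hM'ne, hAM'⟩, hmax⟩ := Set.exists_max_image
    {p : Subgroup G × Subgroup G | p.1 ∈ C ∧ IsCoatom p.2 ∧ p.2 ≠ c.phi p.1 ∧ p.1 ≤ p.2}
    (fun p => {B : Subgroup G | B ∈ C ∧ B ≤ c.phi p.1 ⊓ p.2}.ncard) (Set.toFinite _)
    ⟨(A₁, M₁), hA₁, hM₁, hne₁, hle₁⟩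
  set S := {B : Subgroup G | B ∈ C ∧ B ≤ c.phi A ⊓ M'} with hSdef
  set R := sSup S with hRdef
  have hAS : A ∈ S := ⟨hA, le_inf (c.le_phi A hA) hAM'⟩
  have hRA : R ≤ c.phi A := sSup_le fun B hB => hB.2.trans inf_le_left
  have hRM' : R ≤ M' := sSup_le fun B hB => hB.2.trans inf_le_right
  have hleR : ∀ B ∈ S, B ≤ R := fun B hB => le_sSup hB
  have hmemS : ∀ B ∈ C, B ≤ R → B ∈ S := fun B hB h => ⟨hB, h.trans (le_inf hRA hRM')⟩
  -- members of `S` normalised by `R`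
  let Nrm : Subgroup G → Prop := fun W => W ∈ S ∧ R ≤ Subgroup.normalizer (W : Set G)
  have hSeq : ∀ W M : Subgroup G, Nrm W → IsCoatom M → M ≠ c.phi W → R ≤ M →
      ∀ B ∈ C, B ≤ c.phi W → B ≤ M → B ∈ S := by
    intro W M hW hM hne hRM B hB h1 h2
    have hsub : S ⊆ {B : Subgroup G | B ∈ C ∧ B ≤ c.phi W ⊓ M} := fun B hB =>
      ⟨hB.1, le_inf ((hleR B hB).trans (hW.2.trans (c.normalizer_le_phi hW.1.1))) ((hleR B hB).trans hRM)⟩
    have hcard := hmax (W, M) ⟨hW.1.1, hM, hne, (hleR W hW.1).trans hRM⟩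
    rw [Set.eq_of_subset_of_ncard_le hsub hcard]
    exact ⟨hB, le_inf h1 h2⟩
  have hother : ∀ M : Subgroup G, ∃ M₂, IsCoatom M₂ ∧ M₂ ≠ M ∧ R ≤ M₂ := by
    intro M
    rcases ne_or_eq (c.phi A) M with h | h
    · exact ⟨_, c.coatom A hA, h, hRA⟩
    · exact ⟨_, hM', h ▸ hM'ne, hRM'⟩
  have hNA : Nrm A :=
    ⟨hAS, (le_inf hRA hRM').trans (c.inf_le_normalizer hA hM' hAM' hM'ne)⟩
  have hinj : ∀ W W' : Subgroup G, Nrm W → Nrm W' → c.phi W = c.phi W' → W = W' := by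
    intro W W' hW hW' he
    obtain ⟨M₂, hM₂, hne, hR₂⟩ := hother (c.phi W)
    exact c.eq_of_phi W hW.1.1 W' hW'.1.1 M₂ he hM₂ hne ((hleR W hW.1).trans hR₂) ((hleR W' hW'.1).trans hR₂)
  have hbad : ∀ M : Subgroup G, IsCoatom M → R ≤ M → ∀ B ∈ S, c.phi B = M → Nrm B := by
    intro M hM hRM B hB he
    obtain ⟨M₂, hM₂, hne, hR₂⟩ := hother M
    subst he
    exact ⟨hB, (le_inf hRM hR₂).trans (c.inf_le_normalizer hB.1 hM₂ ((hleR B hB).trans hR₂) hne)⟩
  have hcjR : ∀ n ∈ Subgroup.normalizer (R : Set G), ∀ B ∈ S, cj n B ∈ S := by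
    intro n hn B hB
    refine hmemS _ (c.conj_mem B hB.1 n) ?_
    rw [← cj_eq_iff.mpr hn]
    exact cj_le_cj.mpr (hleR B hB)
  have hcjN : ∀ n ∈ Subgroup.normalizer (R : Set G), ∀ W, Nrm W → Nrm (cj n W) := by
    intro n hn W hW
    refine ⟨hcjR n hn W hW.1, ?_⟩
    rw [← cj_eq_iff.mpr hn]
    exact cj_le_normalizer_iff.mpr hW.2
  have hRne : Subgroup.normalizer (R : Set G) ≠ ⊤ :=
    c.not_normal A hA R (fun h => (c.coatom A hA).1 (eq_top_iff.mpr (h ▸ hRA))) (hleR A hAS)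
  -- moving a member
  have hmoves : ∀ W M : Subgroup G, Nrm W → IsCoatom M → M ≠ c.phi W →
      Subgroup.normalizer (R : Set G) ≤ M →
      ∃ x : G, x ∈ c.phi W ∧ cj x W ≠ W ∧
        (∀ B, (B ∈ S ∧ B ≠ W) ↔ (cj x B ∈ S ∧ cj x B ≠ W)) ∧
        ∀ W' : Subgroup G, Nrm W' → W' ≠ W →
          ¬ W ≤ Subgroup.normalizer (cj x W' : Set G) := by
    intro W M hW hM hne hNM
    have hRM : R ≤ M := Subgroup.le_normalizer.trans hNM
    have hRW : R ≤ c.phi W := hW.2.trans (c.normalizer_le_phi hW.1.1)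
    set T := sSup (S \ {W}) with hTdef
    have hne' : ∀ B ∈ S, B ≠ W → c.phi B ≠ c.phi W := fun B hB hBW he =>
      hBW (c.eq_of_phi B hB.1 W hW.1.1 M he hM (he ▸ hne) ((hleR B hB).trans hRM) ((hleR W hW.1).trans hRM))
    have hTsn : SN T (c.phi W) := SN.sSup fun B hB =>
      c.sn_of_ne hB.1.1 (c.coatom W hW.1.1) ((hleR B hB.1).trans hRW) (hne' B hB.1 hB.2).symm
    have hTR : T ≤ R := sSup_le fun B hB => hleR B hB.1
    have hWT : ¬ W ≤ T := fun h =>
      c.bad W hW.1.1 ((SN.of_normal h (hTR.trans hW.2)).trans hTsn)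
    have hmemT : ∀ B ∈ C, B ≤ T → B ∈ S ∧ B ≠ W := fun B hB h =>
      ⟨hmemS B hB (h.trans hTR), fun e => hWT (e ▸ h)⟩
    have hWne : c.phi W ≠ M := fun e => hne e.symm
    obtain ⟨x, hxW, hxT, hxM⟩ :
        ∃ x, x ∈ c.phi W ∧ x ∈ Subgroup.normalizer (T : Set G) ∧ x ∉ M := by
      by_contra hcon
      push Not at hcon
      by_cases hn : c.phi W ≤ Subgroup.normalizer (T : Set G)
      · refine hne ?_
        have hle : c.phi W ≤ M := fun x hx => hcon x hx (hn hx)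
        rcases hle.lt_or_eq with h | h
        · exact absurd ((c.coatom W hW.1.1).2 _ h) hM.1
        · exact h.symm
      · obtain ⟨y, hy, hyT, hyne⟩ := exists_cj_le_normalizer hTsn hn
        have hle : cj y T ≤ T := by
          rw [cj, Subgroup.map_le_iff_le_comap]
          refine sSup_le fun B hB => ?_
          rw [← Subgroup.map_le_iff_le_comap]
          change cj y B ≤ T
          have hBT : cj y B ≤ cj y T := cj_le_cj.mpr (le_sSup hB)
          have h1 : cj y B ≤ c.phi W := by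
            rw [← cj_of_mem hy]
            exact cj_le_cj.mpr ((hleR B hB.1).trans hRW)
          have h2 : cj y B ≤ M := fun z hz => hcon z (h1 hz) (hyT (hBT hz))
          refine le_sSup ⟨hSeq W M hW hM hne hRM _ (c.conj_mem B hB.1.1 y) h1 h2, fun e => ?_⟩
          have he : c.phi W = cj y (c.phi B) := by rw [← c.phi_cj hB.1.1, show cj y B = W from e]
          exact hne' B hB.1 hB.2 (cj_injective y (he.symm.trans (cj_of_mem hy).symm))
        exact hyne (Subgroup.eq_of_le_of_card_ge hle (by rw [card_cj]))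
    have hxTeq : cj x T = T := cj_eq_iff.mpr hxT
    refine ⟨x, hxW, fun e => hxM (hNM ?_), fun B => ?_, fun W' hW' hW'ne hle => ?_⟩
    · have hRWT : R = W ⊔ T := by
        refine le_antisymm (sSup_le fun B hB => ?_) (sup_le (hleR W hW.1) hTR)
        by_cases h : B = W
        · exact h ▸ le_sup_left
        · exact (le_sSup (show B ∈ S \ {W} from ⟨hB, h⟩)).trans le_sup_right
      rw [← cj_eq_iff, hRWT]
      show Subgroup.map _ (W ⊔ T) = W ⊔ T
      rw [Subgroup.map_sup]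
      exact congrArg₂ (· ⊔ ·) e hxTeq
    · constructor
      · intro hB
        refine hmemT _ (c.conj_mem B hB.1.1 x) ?_
        rw [← hxTeq]
        exact cj_le_cj.mpr (le_sSup (show B ∈ S \ {W} from hB))
      · intro hB
        have hC : B ∈ C := by
          have := c.conj_mem _ hB.1.1 x⁻¹
          rwa [cj_inv_cj] at this
        refine hmemT B hC ?_
        rw [← cj_le_cj (g := x), hxTeq]
        exact le_sSup (show cj x B ∈ S \ {W} from hB)
    · have hZ : cj x W' ∈ S ∧ cj x W' ≠ W := by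
        refine hmemT _ (c.conj_mem W' hW'.1.1 x) ?_
        rw [← hxTeq]
        exact cj_le_cj.mpr (le_sSup (show W' ∈ S \ {W} from ⟨hW'.1, hW'ne⟩))
      have hneZ := hne' _ hZ.1 hZ.2
      have hWphi : W ≤ c.phi (cj x W') := hle.trans (c.normalizer_le_phi hZ.1.1)
      have hcjW : cj x W ≤ c.phi (cj x W') := by
        rw [c.phi_cj hW'.1.1]
        exact cj_le_cj.mpr ((hleR W hW.1).trans (hW'.2.trans (c.normalizer_le_phi hW'.1.1)))
      have hphi := c.cj_eq_of_mem hW.1.1 hxW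
      have heq := c.eq_of_phi _ (c.conj_mem W hW.1.1 x) W hW.1.1 _ hphi (c.coatom _ hZ.1.1)
        (by rw [hphi]; exact hneZ) hcjW hWphi
      refine hxM (hNM ?_)
      have hRWT : R = W ⊔ T := by
        refine le_antisymm (sSup_le fun B hB => ?_) (sup_le (hleR W hW.1) hTR)
        by_cases h : B = W
        · exact h ▸ le_sup_left
        · exact (le_sSup (show B ∈ S \ {W} from ⟨hB, h⟩)).trans le_sup_right
      rw [← cj_eq_iff, hRWT]
      show Subgroup.map _ (W ⊔ T) = W ⊔ T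
      rw [Subgroup.map_sup]
      exact congrArg₂ (· ⊔ ·) heq hxTeq
  -- two moved members
  obtain ⟨P, Q, hP, hQ, hPQ, ⟨MP, hMP, hMPne, hNP⟩, ⟨MQ, hMQ, hMQne, hNQ⟩⟩ :
      ∃ P Q : Subgroup G, Nrm P ∧ Nrm Q ∧ P ≠ Q ∧
        (∃ M, IsCoatom M ∧ M ≠ c.phi P ∧ Subgroup.normalizer (R : Set G) ≤ M) ∧
        (∃ M, IsCoatom M ∧ M ≠ c.phi Q ∧ Subgroup.normalizer (R : Set G) ≤ M) := by
    have hsecond : ∃ B, Nrm B ∧ B ≠ A := by
      by_contra hone
      push Not at hone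
      have hNRA : Subgroup.normalizer (R : Set G) ≤ c.phi A := fun n hn =>
        c.normalizer_le_phi hA (cj_eq_iff.mp (hone _ (hcjN n hn A hNA)))
      have hsn : SN R M' := SN.sSup fun B hB => c.sn_of_ne hB.1 hM' ((hleR B hB).trans hRM') (by
        intro e
        have := hone B (hbad M' hM' hRM' B hB e.symm)
        rw [this] at e
        exact hM'ne e)
      by_cases hn : M' ≤ Subgroup.normalizer (R : Set G)
      · rcases (hn.trans hNRA).lt_or_eq with h | h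
        · exact (c.coatom A hA).1 (hM'.2 _ h)
        · exact hM'ne h
      · obtain ⟨y, hy, hyR, hyne⟩ := exists_cj_le_normalizer hsn hn
        refine hyne (Subgroup.eq_of_le_of_card_ge ?_ (by rw [card_cj]))
        rw [cj, Subgroup.map_le_iff_le_comap]
        refine sSup_le fun B hB => ?_
        rw [← Subgroup.map_le_iff_le_comap]
        change cj y B ≤ R
        refine hleR _ ⟨c.conj_mem B hB.1 y, le_inf (((cj_le_cj.mpr (hleR B hB)).trans hyR).trans hNRA) ?_⟩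
        rw [← cj_of_mem hy]
        exact cj_le_cj.mpr ((hleR B hB).trans hRM')
    obtain ⟨B, hB, hBA⟩ := hsecond
    obtain ⟨Ms, hMs, hNMs⟩ := (eq_top_or_exists_le_coatom (Subgroup.normalizer (R : Set G))).resolve_left hRne
    by_cases htwo : ∃ P Q, Nrm P ∧ Nrm Q ∧ P ≠ Q ∧ Ms ≠ c.phi P ∧ Ms ≠ c.phi Q
    · obtain ⟨P, Q, h1, h2, h3, h4, h5⟩ := htwo
      exact ⟨P, Q, h1, h2, h3, ⟨Ms, hMs, h4, hNMs⟩, ⟨Ms, hMs, h5, hNMs⟩⟩
    push Not at htwo
    -- exactly two members, one of them bad in `Ms`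
    obtain ⟨P, Q, hP, hQ, hPQ, hQs⟩ : ∃ P Q, Nrm P ∧ Nrm Q ∧ P ≠ Q ∧ c.phi Q = Ms := by
      rcases eq_or_ne (c.phi A) Ms with h | h
      · exact ⟨B, A, hB, hNA, hBA, h⟩
      · exact ⟨A, B, hNA, hB, hBA.symm, (htwo A B hNA hB hBA.symm h.symm).symm⟩
    have hPs : Ms ≠ c.phi P := fun e => hPQ (hinj P Q hP hQ (e.symm.trans hQs.symm))
    have honly : ∀ W, Nrm W → W = P ∨ W = Q := fun W hW => by
      by_contra hh
      push Not at hh
      exact hh.2 (hinj W Q hW hQ ((htwo P W hP hW hh.1.symm hPs).symm.trans hQs.symm))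
    refine ⟨P, Q, hP, hQ, hPQ, ⟨Ms, hMs, hPs, hNMs⟩,
      ⟨c.phi P, c.coatom P hP.1.1, fun e => hPQ (hinj P Q hP hQ e), fun n hn => ?_⟩⟩
    have hnQ : cj n Q = Q := hinj _ Q (hcjN n hn Q hQ) hQ (c.cj_eq_of_mem hQ.1.1 (hQs ▸ hNMs hn))
    refine c.normalizer_le_phi hP.1.1 (cj_eq_iff.mp ?_)
    rcases honly _ (hcjN n hn P hP) with h | h
    · exact h
    · exact absurd (cj_injective n (h.trans hnQ.symm)) hPQ
  obtain ⟨x, hxP, -, hxS, hxmv⟩ := hmoves P MP hP hMP hMPne hNP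
  obtain ⟨y, hyQ, -, hyS, hymv⟩ := hmoves Q MQ hQ hMQ hMQne hNQ
  let mv : Subgroup G → Subgroup G → Prop := fun W Z => ¬ W ≤ Subgroup.normalizer (Z : Set G)
  let σ : G → (Subgroup G ≃ Subgroup G) := fun g =>
    ⟨cj g, cj g⁻¹, cj_inv_cj g, cj_cj_inv g⟩
  have hfix : ∀ W, Nrm W → ∀ w ∈ S, ¬ mv w W := fun W hW w hw h => h ((hleR w hw).trans hW.2)
  have hA' : ∀ W, Nrm W → ∀ Z ∈ S, ∀ x ∈ S, Z ≠ W → x ≠ W → ¬ mv W Z → mv x Z → mv W x →
      ∃ x' ∈ S, x' ≠ W ∧ x' ≠ x ∧ mv x' Z ∧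
        ((∀ w ∈ S, w ≠ W → ¬ mv w x) → ∀ w ∈ S, w ≠ W → ¬ mv w x') := by
    intro W hW Z hZ x hx _ hxW hWZ hxZ hWx
    obtain ⟨a, haW, ha⟩ := SetLike.not_le_iff_exists.mp hWx
    have haR : a ∈ Subgroup.normalizer (R : Set G) := Subgroup.le_normalizer (hleR W hW.1 haW)
    have haR' : a⁻¹ ∈ Subgroup.normalizer (R : Set G) := inv_mem haR
    have haWeq : cj a W = W := cj_of_mem haW
    have haZ : cj a Z = Z := cj_eq_iff.mpr ((not_not.mp hWZ) haW)
    refine ⟨cj a x, hcjR a haR x hx, fun e => hxW (cj_injective a (e.trans haWeq.symm)),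
      fun e => ha (cj_eq_iff.mp e), ?_, fun h w hw hwW => ?_⟩
    · show ¬ _
      rw [← haZ, cj_le_normalizer_iff]
      exact hxZ
    · show ¬ ¬ _
      rw [not_not, ← cj_cj_inv a w, cj_le_normalizer_iff]
      refine not_not.mp (h _ (hcjR _ haR' w hw) fun e => hwW ?_)
      rw [← cj_cj_inv a w, e, haWeq]
  have hσ : ∀ g u v, mv (σ g u) (σ g v) ↔ mv u v := fun g u v => not_congr cj_le_normalizer_iff
  have stepP : ∀ Z, Bl S mv P Q Z → Bl S mv Q P (σ x Z) ∧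
      ∀ W ∈ S, mv W Z → (σ x W ∈ S ∧ σ x W ≠ P ∧ mv (σ x W) (σ x Z)) := fun Z h =>
    Bl.step S mv (σ x) (hσ x) hxS hP.1 hQ.1 hPQ (hfix Q hQ) (hxmv Q hQ hPQ.symm) (hA' P hP) h
  have stepQ : ∀ Z, Bl S mv Q P Z → Bl S mv P Q (σ y Z) ∧
      ∀ W ∈ S, mv W Z → (σ y W ∈ S ∧ σ y W ≠ Q ∧ mv (σ y W) (σ y Z)) := fun Z h =>
    Bl.step S mv (σ y) (hσ y) hyS hQ.1 hP.1 hPQ.symm (hfix P hP) (hymv P hP hPQ) (hA' Q hQ) h
  have base : Bl S mv Q P (σ x Q) := by
    obtain ⟨h1, h2⟩ := (hxS Q).mp ⟨hQ.1, hPQ.symm⟩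
    refine .mk _ h1 ?_ ?_ (hxmv Q hQ hPQ.symm) fun W hW hWZ hWP => absurd hWZ ?_
    · intro e
      exact hfix Q hQ P hP.1 (e ▸ hxmv Q hQ hPQ.symm)
    · obtain ⟨w, hw⟩ := (σ x).surjective Q
      exact fun h => hfix Q hQ w ((hxS w).mpr (by rw [show cj x w = Q from hw]; exact ⟨hQ.1, hPQ.symm⟩)).1
        ((hσ x w Q).mp (by rw [hw]; exact h))
    · obtain ⟨w, rfl⟩ := (σ x).surjective W
      rw [hσ]
      exact hfix Q hQ w ((hxS w).mpr ⟨hW, hWP⟩).1
  obtain ⟨Z, hZ, hZmax⟩ := Set.exists_max_image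
    {Z | Bl S mv P Q Z ∨ Bl S mv Q P Z} (fun Z => {W | W ∈ S ∧ mv W Z}.ncard) (Set.toFinite _)
    ⟨_, Or.inr base⟩
  have grow : ∀ (A B : Subgroup G) (g : G) (Z : Subgroup G), A ∈ S → Bl S mv B A (σ g Z) →
      (∀ W ∈ S, mv W Z → (σ g W ∈ S ∧ σ g W ≠ A ∧ mv (σ g W) (σ g Z))) →
      {W | W ∈ S ∧ mv W Z}.ncard < {W | W ∈ S ∧ mv W (σ g Z)}.ncard := by
    intro A B g Z hAS h himg
    rw [← Set.ncard_image_of_injective _ (σ g).injective]
    refine Set.ncard_lt_ncard ⟨?_, fun hsup => ?_⟩ (Set.toFinite _)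
    · rintro _ ⟨W, ⟨hW, hWZ⟩, rfl⟩
      exact ⟨(himg W hW hWZ).1, (himg W hW hWZ).2.2⟩
    · obtain ⟨W, ⟨hW, hWZ⟩, he⟩ := hsup (show A ∈ {W | W ∈ S ∧ mv W (σ g Z)} from
        ⟨hAS, by cases h; assumption⟩)
      exact (himg W hW hWZ).2.1 he
  rcases hZ with h | h
  · obtain ⟨h1, h2⟩ := stepP Z h
    exact (hZmax _ (Or.inr h1)).not_gt (grow P Q x Z hP.1 h1 h2)
  · obtain ⟨h1, h2⟩ := stepQ Z h
    exact (hZmax _ (Or.inl h1)).not_gt (grow Q P y Z hQ.1 h1 h2)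

end Config

/-! ### the theorem -/

/-- `H` contains `A` and is generated by its conjugates of `A`. -/
def Gen (A H : Subgroup G) : Prop :=
  A ≤ H ∧ ∀ N : Subgroup G, A ≤ N → N ≤ H → H ≤ Subgroup.normalizer (N : Set G) → N = H

/-- The proper subgroups containing `A` and generated by their conjugates of `A`. -/
def fam (A : Subgroup G) : Set (Subgroup G) := {H | H ≠ ⊤ ∧ Gen A H}

theorem gen_self (A : Subgroup G) : Gen A A :=
  ⟨le_rfl, fun _ h1 h2 _ => le_antisymm h2 h1⟩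

theorem gen_sSup {A : Subgroup G} (hA : A ≠ ⊤) : Gen A (sSup (fam A)) := by
  refine ⟨le_sSup (s := fam A) ⟨hA, gen_self A⟩, fun N h1 h2 h3 => le_antisymm h2 (sSup_le fun H hH => ?_)⟩
  have hle : H ≤ sSup (fam A) := le_sSup hH
  have := hH.2.2 (N ⊓ H) (le_inf h1 hH.2.1) inf_le_right (fun h hh => by
    rw [← cj_eq_iff]
    show Subgroup.map _ (N ⊓ H) = _
    rw [Subgroup.map_inf _ _ _ (MulAut.conj h).injective]
    exact congrArg₂ (· ⊓ ·) (cj_eq_iff.mpr (h3 (hle hh))) (cj_of_mem hh))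
  exact this ▸ inf_le_left

theorem gen_trans {A H K : Subgroup G} (h1 : Gen A H) (h2 : Gen H K) : Gen A K := by
  refine ⟨h1.1.trans h2.1, fun N a b d => h2.2 N ?_ b d⟩
  have := h1.2 (N ⊓ H) (le_inf a h1.1) inf_le_right (fun h hh => by
    rw [← cj_eq_iff]
    show Subgroup.map _ (N ⊓ H) = _
    rw [Subgroup.map_inf _ _ _ (MulAut.conj h).injective]
    exact congrArg₂ (· ⊓ ·) (cj_eq_iff.mpr (d (h2.1 hh))) (cj_of_mem hh))
  exact this ▸ inf_le_left

theorem SN.exists_gen [Finite G] {A X : Subgroup G} (h : A ≤ X) :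
    ∃ H, A ≤ H ∧ SN H X ∧ Gen A H := by
  obtain ⟨H, hH⟩ := (Set.toFinite {K : Subgroup G | A ≤ K ∧ SN K X}).exists_minimal ⟨X, h, SN.refl X⟩
  obtain ⟨hAH, hHX⟩ := hH.1
  exact ⟨H, hAH, hHX, hAH, fun N h1 h2 h3 =>
    le_antisymm h2 (hH.2 ⟨h1, (SN.of_normal h2 h3).trans hHX⟩ h2)⟩

/-- The alternative: the join of `fam A` is everything, or `A` lies in a unique maximal subgroup. -/
theorem sSup_fam_eq_top_or_unique [Finite G] : ∀ A : Subgroup G,
    (∀ N : Subgroup G, N.Normal → A ≤ N → N = ⊤) → A ≠ ⊤ → sSup (fam A) ≠ ⊤ →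
    ∀ M M' : Subgroup G, IsCoatom M → A ≤ M → IsCoatom M' → A ≤ M' → M = M' := by
  classical
  by_contra hcon
  obtain ⟨A, hAbad, hmax'⟩ := (Set.toFinite {A : Subgroup G | ¬ ((∀ N : Subgroup G, N.Normal → A ≤ N → N = ⊤) →
    A ≠ ⊤ → sSup (fam A) ≠ ⊤ → ∀ M M' : Subgroup G, IsCoatom M → A ≤ M → IsCoatom M' → A ≤ M' → M = M')}).exists_maximal
    (by simpa only [not_forall, Set.Nonempty, Set.mem_setOf_eq] using hcon)
  simp only [Set.mem_setOf_eq, not_forall] at hAbad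
  obtain ⟨hN, hA, hY, M₁, M₂, hM₁, hA₁, hM₂, hA₂, hne⟩ := hAbad
  have hmax : ∀ B : Subgroup G, A < B → B ≠ ⊤ → sSup (fam B) ≠ ⊤ →
      ∀ M M' : Subgroup G, IsCoatom M → B ≤ M → IsCoatom M' → B ≤ M' → M = M' := fun B hB =>
    (not_not.mp fun hb => hB.not_ge (hmax' hb hB.le)) fun N a b => hN N a (hB.le.trans b)
  have hnn : ∀ N : Subgroup G, N ≠ ⊤ → A ≤ N → Subgroup.normalizer (N : Set G) ≠ ⊤ := fun N h1 h2 e =>
    h1 (hN N (Subgroup.normalizer_eq_top_iff.mp e) h2)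
  set Y := sSup (fam A) with hYdef
  have hAY : A ≤ Y := (gen_sSup hA).1
  obtain ⟨M₀, hM₀, hNY⟩ := (eq_top_or_exists_le_coatom (Subgroup.normalizer (Y : Set G))).resolve_left (hnn Y hY hAY)
  have hYM₀ : Y ≤ M₀ := Subgroup.le_normalizer.trans hNY
  -- a proper subgroup not in `M₀` has `A` subnormal
  have hgood : ∀ X : Subgroup G, X ≠ ⊤ → A ≤ X → ¬ X ≤ M₀ → SN A X := by
    intro X hX hAX hXM
    obtain ⟨H, hAH, hHX, hgen⟩ := SN.exists_gen hAX
    rcases hAH.lt_or_eq with hlt | heq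
    · exfalso
      have hHne : H ≠ ⊤ := fun e => hX (eq_top_iff.mpr (e ▸ hHX.1))
      have hHY : sSup (fam H) ≠ ⊤ := fun e => hY (eq_top_iff.mpr (e.ge.trans
        (sSup_le fun K hK => le_sSup ⟨hK.1, gen_trans hgen hK.2⟩)))
      obtain ⟨MX, hMX, hXMX⟩ := (eq_top_or_exists_le_coatom X).resolve_left hX
      exact hXM (hmax H hlt hHne hHY MX M₀ hMX (hHX.1.trans hXMX) hM₀ ((le_sSup (show H ∈ fam A from ⟨hHne, hgen⟩)).trans hYM₀) ▸ hXMX)
    · exact heq ▸ hHX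
  have hAM₀ : A ≤ M₀ := hAY.trans hYM₀
  -- `A` is not subnormal in `M₀`
  have hbadA : ¬ SN A M₀ := by
    intro hsn
    have hall : ∀ X : Subgroup G, X ≠ ⊤ → A ≤ X → SN A X := fun X hX hAX => by
      by_cases h : X ≤ M₀
      · exact hsn.restrict hAX h
      · exact hgood X hX hAX h
    obtain ⟨Mn, hMn, hNA⟩ := (eq_top_or_exists_le_coatom (Subgroup.normalizer (A : Set G))).resolve_left (hnn A hA le_rfl)
    have key : ∀ M : Subgroup G, IsCoatom M → A ≤ M → M = Mn := by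
      intro M hM hAM
      by_cases hn : M ≤ Subgroup.normalizer (A : Set G)
      · rcases (hn.trans hNA).lt_or_eq with h | h
        · exact absurd (hM.2 _ h) hMn.1
        · exact h
      obtain ⟨y, hy, hyN, hyne⟩ := exists_cj_le_normalizer (hall M hM.1 hAM) hn
      have hyM : cj y A ≤ M := by rw [← cj_of_mem hy]; exact cj_le_cj.mpr hAM
      have hlt : A < A ⊔ cj y A := by
        refine lt_of_le_of_ne le_sup_left fun e => hyne ?_
        exact Subgroup.eq_of_le_of_card_ge (le_sup_right.trans e.ge) (by rw [card_cj])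
      have hPne : A ⊔ cj y A ≠ ⊤ := fun e => hM.1 (eq_top_iff.mpr (e ▸ sup_le hAM hyM))
      refine hmax _ hlt hPne ?_ M Mn hM (sup_le hAM hyM) hMn (sup_le (Subgroup.le_normalizer.trans hNA) (hyN.trans hNA))
      intro e
      refine hPne (eq_top_iff.mpr (e.ge.trans (sSup_le fun K hK => ?_)))
      have h1 : A ≤ cj y⁻¹ K := by rw [← cj_inv_cj y A]; exact cj_le_cj.mpr (le_sup_right.trans hK.2.1)
      have h2 := (hall (cj y⁻¹ K) (fun e => hK.1 (by rw [← cj_cj_inv y K, e, cj_top])) h1).cj y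
      rw [cj_cj_inv] at h2
      have h3 := (hall K hK.1 (le_sup_left.trans hK.2.1)).sup h2
      by_cases hPK : A ⊔ cj y A = K
      · exact hPK.ge
      · obtain ⟨N, hPN, hNK, hKN, -⟩ := h3.exists_normal hPK
        exact absurd (hK.2.2 N hPN hNK.le hKN) hNK.ne
    exact hne ((key M₁ hM₁ hA₁).trans (key M₂ hM₂ hA₂).symm)
  -- uniqueness of the bad maximal subgroup
  have huniqA : ∀ M : Subgroup G, IsCoatom M → A ≤ M → ¬ SN A M → M = M₀ := fun M hM hAM h => by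
    by_contra hMne
    exact h (hgood M hM.1 hAM fun hle => hle.lt_or_eq.elim (fun hlt => hM₀.1 (hM.2 _ hlt)) hMne)
  have hEx : ∀ B, (∃ g, cj g A = B) → ∃ M, IsCoatom M ∧ B ≤ M ∧ ¬ SN B M ∧
      ∀ X : Subgroup G, X ≠ ⊤ → B ≤ X → ¬ X ≤ M → SN B X := by
    rintro _ ⟨g, rfl⟩
    refine ⟨cj g M₀, isCoatom_cj g hM₀, cj_le_cj.mpr hAM₀, fun h => hbadA ?_, fun X hX h1 h2 => ?_⟩
    · have := h.cj g⁻¹
      rwa [cj_inv_cj, cj_inv_cj] at this
    · have := (hgood (cj g⁻¹ X) (fun e => hX (by rw [← cj_cj_inv g X, e, cj_top]))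
        (by rw [← cj_inv_cj g A]; exact cj_le_cj.mpr h1)
        (fun h => h2 (by rw [← cj_cj_inv g X]; exact cj_le_cj.mpr h))).cj g
      rwa [cj_cj_inv] at this
  choose φ hφ1 hφ2 hφ3 hφ4 using hEx
  let phi : Subgroup G → Subgroup G := fun B => if h : ∃ g, cj g A = B then φ B h else ⊥
  have hphi : ∀ B (h : ∃ g, cj g A = B), phi B = φ B h := fun B h => dif_pos h
  -- at most one conjugate bad in `M₀` inside another maximal subgroup
  have hU : ∀ (g : G) (M : Subgroup G), phi (cj g A) = M₀ → IsCoatom M → M ≠ M₀ → A ≤ M →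
      cj g A ≤ M → cj g A = A := by
    intro g M hg hM hMne hAM hgM
    have hex : ∃ h, cj h A = cj g A := ⟨g, rfl⟩
    rw [hphi _ hex] at hg
    by_contra hne'
    have hlt : A < A ⊔ cj g A := by
      refine lt_of_le_of_ne le_sup_left fun e => hne' ?_
      exact Subgroup.eq_of_le_of_card_ge (le_sup_right.trans e.ge) (by rw [card_cj])
    have hgM₀ : cj g A ≤ M₀ := hg ▸ hφ2 _ hex
    have hle : A ⊔ cj g A ≤ M₀ := sup_le hAM₀ hgM₀
    refine hMne (hmax _ hlt (fun e => hM₀.1 (eq_top_iff.mpr (e ▸ hle))) ?_ M M₀ hM (sup_le hAM hgM) hM₀ hle)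
    intro e
    refine hM₀.1 (eq_top_iff.mpr (e.ge.trans (sSup_le fun K hK => ?_)))
    by_contra hKM
    have h3 := (hgood K hK.1 (le_sup_left.trans hK.2.1) hKM).sup
      (hφ4 _ hex K hK.1 (le_sup_right.trans hK.2.1) (hg ▸ hKM))
    by_cases hPK : A ⊔ cj g A = K
    · exact hKM (hPK ▸ hle)
    · obtain ⟨N, hPN, hNK, hKN, -⟩ := h3.exists_normal hPK
      exact absurd (hK.2.2 N hPN hNK.le hKN) hNK.ne
  have hphicj : ∀ g : G, phi (cj g A) = cj g M₀ := by
    intro g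
    have hex : ∃ h, cj h A = cj g A := ⟨g, rfl⟩
    rw [hphi _ hex]
    have := huniqA (cj g⁻¹ (φ _ hex)) (isCoatom_cj _ (hφ1 _ hex))
      ((cj_inv_cj g A).ge.trans (cj_le_cj.mpr (hφ2 _ hex)))
      (fun h => hφ3 _ hex (by have := h.cj g; rwa [cj_cj_inv] at this))
    rw [← this, cj_cj_inv]
  let cfg : Config {B : Subgroup G | ∃ g, cj g A = B} :=
    { conj_mem := fun B hB g => by obtain ⟨h, rfl⟩ := hB; exact ⟨g * h, (cj_cj g h A).symm⟩
      phi := phi
      coatom := fun B hB => by rw [hphi B hB]; exact hφ1 B hB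
      le_phi := fun B hB => by rw [hphi B hB]; exact hφ2 B hB
      bad := fun B hB => by rw [hphi B hB]; exact hφ3 B hB
      good := fun B hB X => by rw [hphi B hB]; exact hφ4 B hB X
      not_normal := fun B hB N h1 h2 e => by
        obtain ⟨g, rfl⟩ := hB
        have hn := Subgroup.normalizer_eq_top_iff.mp e
        refine h1 (hN N hn fun a ha => ?_)
        simpa [mul_assoc] using hn.conj_mem _ (h2 (show g * a * g⁻¹ ∈ cj g A from ⟨a, ha, rfl⟩)) g⁻¹
      eq_of_phi := fun B hB B' hB' M he hM hMne h1 h2 => by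
        obtain ⟨g, rfl⟩ := hB
        obtain ⟨g', rfl⟩ := hB'
        rw [hphicj, hphicj] at he
        rw [hphicj] at hMne
        have := hU (g⁻¹ * g') (cj g⁻¹ M) (by rw [hphicj, ← cj_cj, ← he, cj_inv_cj]) (isCoatom_cj _ hM)
          (fun e => hMne (by rw [← e, cj_cj_inv]))
          (by rw [← cj_inv_cj g A]; exact cj_le_cj.mpr h1)
          (by rw [← cj_cj]; exact cj_le_cj.mpr h2)
        rw [← cj_cj] at this
        exact (congrArg (cj g) this).symm.trans (cj_cj_inv g _) }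
  have hmemA : A ∈ {B : Subgroup G | ∃ g, cj g A = B} := ⟨1, cj_one A⟩
  have hphiA : phi A = M₀ := by have := hphicj 1; rwa [cj_one, cj_one] at this
  by_cases h : M₁ = M₀
  · exact cfg.impossible hmemA hM₂ (show M₂ ≠ phi A by rw [hphiA]; exact fun e => hne (h.trans e.symm)) hA₂
  · exact cfg.impossible hmemA hM₁ (show M₁ ≠ phi A by rw [hphiA]; exact h) hA₁

end Cfsg.Agent.GenA.UniqueMax
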