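import Mathlib
import Cfsg.Prelude.Def_Local
import Cfsg.Agent.S0033
import Cfsg.Agent.S3734
import Cfsg.Agent.Lib.CN.Basic
import Cfsg.Agent.Lib.Coprime.Generation
import Cfsg.Agent.Lib.Coprime.FrobeniusPGroup
import Cfsg.Agent.OddLocal.Coprime

/-!
Ward's theorem, the module step: for an elementary group `A` of order `p^2` without fixed points on a solvable
group `N`, with `W` abelian, `Q` a `q`-group faithful on `W` and `T` a `t`-group, all invariant, `T` centralises `Q`.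
-/

set_option autoImplicit false

namespace Cfsg.Agent.GenA.Ward

open Cfsg Subgroup
open scoped Pointwise commutatorElement

variable {Γ : Type*} [Group Γ] [Finite Γ]

/-- An elementary group of order `p^2` acting coprimely without fixed points. -/
structure Setup (p : ℕ) (A N : Subgroup Γ) : Prop where
  prime : p.Prime
  elem : IsElementaryAbelian p A
  card : Nat.card A = p ^ 2
  norm : A ≤ normalizer (N : Set Γ)
  cop : (Nat.card N).Coprime p
  fpf : N ⊓ centralizer (A : Set Γ) = ⊥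

theorem commute_of_mem {A : Subgroup Γ} (h : IsMulCommutative A) {a b : Γ} (ha : a ∈ A) (hb : b ∈ A) :
    Commute a b := congrArg Subtype.val (h.is_comm.comm (⟨a, ha⟩ : A) ⟨b, hb⟩)

theorem mem_cent_zpowers {a x : Γ} : x ∈ centralizer (zpowers a : Set Γ) ↔ a * x = x * a := by
  refine ⟨fun h => mem_centralizer_iff.mp h a (mem_zpowers a), fun h => mem_centralizer_iff.mpr fun y hy => ?_⟩
  obtain ⟨i, rfl⟩ := mem_zpowers_iff.mp hy
  exact ((show Commute a x from h).zpow_left i).eq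

variable {p : ℕ} {A N : Subgroup Γ} (h : Setup p A N)

include h

theorem Setup.orderOf_eq {a : Γ} (ha : a ∈ A) (ha1 : a ≠ 1) : orderOf a = p := by
  haveI := Fact.mk h.prime
  exact orderOf_eq_prime (h.elem.2 a ha) ha1

theorem Setup.eq_one_of_mem_powers {a b : Γ} (ha : a ∈ A) {H : Subgroup Γ} (hb : b ∈ zpowers a) (hb1 : b ≠ 1)
    (hH : b ∈ H) : a ∈ H := by
  rcases eq_or_ne a 1 with rfl | ha1
  · exact one_mem H
  have hle : zpowers b ≤ zpowers a := zpowers_le.mpr hb
  have hbA : b ∈ A := zpowers_le.mpr ha hb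
  have he := eq_of_le_of_card_ge hle (by rw [Nat.card_zpowers, Nat.card_zpowers, h.orderOf_eq ha ha1, h.orderOf_eq hbA hb1])
  exact zpowers_le.mpr hH (he ▸ mem_zpowers a)

theorem Setup.span {a b : Γ} (ha : a ∈ A) (ha1 : a ≠ 1) (hb : b ∈ A) (hb2 : b ∉ zpowers a) :
    zpowers a ⊔ zpowers b = A := by
  haveI := Fact.mk h.prime
  have hle : zpowers a ⊔ zpowers b ≤ A := sup_le (zpowers_le.mpr ha) (zpowers_le.mpr hb)
  refine eq_of_le_of_card_ge hle ?_
  obtain ⟨k, -, hk⟩ := (Nat.dvd_prime_pow h.prime).mp (h.card ▸ card_dvd_of_le hle)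
  rw [h.card, hk]
  refine Nat.pow_le_pow_right h.prime.pos ?_
  by_contra hlt
  have he : zpowers a = zpowers a ⊔ zpowers b := eq_of_le_of_card_ge le_sup_left (by
    rw [hk, Nat.card_zpowers, h.orderOf_eq ha ha1]
    exact (Nat.pow_le_pow_right h.prime.pos (show k ≤ 1 by omega)).trans_eq (pow_one p))
  exact hb2 (he ▸ mem_sup_right (mem_zpowers b))

theorem Setup.exists_indep (a : Γ) (ha : a ∈ A) : ∃ b ∈ A, b ≠ 1 ∧ b ∉ zpowers a := by
  by_contra hcon
  push_neg at hcon
  have hle : A ≤ zpowers a := fun b hb => by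
    rcases eq_or_ne b 1 with rfl | hb1
    · exact one_mem _
    · exact hcon b hb hb1
  have h1 := Nat.card_le_card_of_injective _ (inclusion_injective hle)
  rw [h.card, Nat.card_zpowers] at h1
  rcases eq_or_ne a 1 with rfl | ha1
  · rw [orderOf_one] at h1
    exact absurd h1 (not_le.mpr (Nat.one_lt_pow two_ne_zero h.prime.one_lt))
  · rw [h.orderOf_eq ha ha1, pow_two] at h1
    exact absurd h1 (not_le.mpr (lt_mul_of_one_lt_left h.prime.pos h.prime.one_lt))

theorem Setup.not_cyclic : ¬ IsCyclic A := by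
  intro hc
  obtain ⟨⟨a, ha⟩, hgen⟩ := hc.exists_generator
  obtain ⟨b, hb, -, hbn⟩ := h.exists_indep a ha
  obtain ⟨i, hi⟩ := mem_zpowers_iff.mp (hgen ⟨b, hb⟩)
  exact hbn (mem_zpowers_iff.mpr ⟨i, congrArg Subtype.val hi⟩)

theorem Setup.fix_both {a b x : Γ} (ha : a ∈ A) (ha1 : a ≠ 1) (hb : b ∈ A) (hb2 : b ∉ zpowers a)
    (hx : x ∈ N) (hxa : a * x = x * a) (hxb : b * x = x * b) : x = 1 := by
  have h1 : x ∈ N ⊓ centralizer (A : Set Γ) := by
    refine ⟨hx, ?_⟩
    have h2 : A ≤ centralizer ({x} : Set Γ) := by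
      rw [← h.span ha ha1 hb hb2]
      exact sup_le (zpowers_le.mpr (mem_centralizer_singleton_iff.mpr hxa))
        (zpowers_le.mpr (mem_centralizer_singleton_iff.mpr hxb))
    exact mem_centralizer_iff.mpr fun c hc => mem_centralizer_singleton_iff.mp (h2 hc)
  rwa [h.fpf, mem_bot] at h1

theorem Setup.norm_inf_cent {B : Subgroup Γ} (hB : A ≤ normalizer (B : Set Γ)) {b : Γ} (hb : b ∈ A) :
    A ≤ normalizer ((B ⊓ centralizer ({b} : Set Γ) : Subgroup Γ) : Set Γ) := by
  refine le_normalizer_iff.mpr fun a ha x hx => ⟨(le_normalizer_iff.mp hB) a ha x hx.1, ?_⟩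
  have hab := commute_of_mem h.elem.1 ha hb
  have hxb : Commute x b := mem_centralizer_singleton_iff.mp hx.2
  exact mem_centralizer_singleton_iff.mpr ((hab.mul_left hxb).mul_left hab.inv_left).eq

theorem Setup.cop_of_le {B : Subgroup Γ} (hB : B ≤ N) : (Nat.card A).Coprime (Nat.card B) := by
  rw [h.card]
  exact ((h.cop.coprime_dvd_left (card_dvd_of_le hB)).symm).pow_left 2

theorem Setup.cop_zpowers {a : Γ} (ha : a ∈ A) {B : Subgroup Γ} (hB : B ≤ N) :
    (Nat.card (zpowers a)).Coprime (Nat.card B) :=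
  (h.cop_of_le hB).coprime_dvd_left (card_dvd_of_le (zpowers_le.mpr ha))

/-- An invariant subgroup is generated by the fixed points of the elements of `A`. -/
theorem Setup.gen {B : Subgroup Γ} (hBN : B ≤ N) (hBA : A ≤ normalizer (B : Set Γ)) {S : Subgroup Γ}
    (hS : ∀ c ∈ A, c ≠ 1 → B ⊓ centralizer ({c} : Set Γ) ≤ S) : B ≤ S := by
  haveI := h.elem.1
  calc B = Coprime.fixedGen A B := (Coprime.fixedGen_eq h.not_cyclic hBA (h.cop_of_le hBN)).symm
    _ ≤ S := iSup₂_le fun c hc => hS c hc.1 hc.2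

/-- `B = ⁅B, a⁆ C_B(a)`. -/
theorem Setup.decomp {B : Subgroup Γ} (hBN : B ≤ N) (hBA : A ≤ normalizer (B : Set Γ)) {a : Γ} (ha : a ∈ A)
    {x : Γ} (hx : x ∈ B) : ∃ c ∈ B, a * c = c * a ∧ ∃ u ∈ ⁅B, zpowers a⁆, x = u * c := by
  obtain ⟨c, hc, u, hu, e⟩ := Coprime.exists_eq_centralizer_mul_commutator ((zpowers_le.mpr ha).trans hBA)
    (h.cop_zpowers ha hBN) (Or.inl (Coprime.isSolvable_of_isMulCommutative _)) (inv_mem hx)
  exact ⟨c⁻¹, inv_mem hc.1, ((show Commute a c from mem_cent_zpowers.mp hc.2).inv_right).eq,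
    u⁻¹, inv_mem hu, by rw [← mul_inv_rev, ← e, inv_inv]⟩

/-- If `b` centralises `B`, an element outside `⟨b⟩` generates `B` by commutators. -/
theorem Setup.le_of_commutators {B : Subgroup Γ} (hBN : B ≤ N) (hBA : A ≤ normalizer (B : Set Γ)) {a b : Γ}
    (hb : b ∈ A) (hb1 : b ≠ 1) (ha : a ∈ A) (hab : a ∉ zpowers b) (hBb : ∀ x ∈ B, b * x = x * b) {S : Subgroup Γ}
    (hS : ∀ x ∈ B, ∀ c ∈ zpowers a, x * c * x⁻¹ * c⁻¹ ∈ S) : B ≤ S := by
  have h1 := Coprime.commutator_sup_inf_centralizer ((zpowers_le.mpr ha).trans hBA)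
    (h.cop_zpowers ha hBN) (Or.inl (Coprime.isSolvable_of_isMulCommutative _))
  rw [show B ⊓ centralizer (zpowers a : Set Γ) = ⊥ from le_bot_iff.mp fun x hx =>
    h.fix_both hb hb1 ha hab (hBN hx.1) (hBb x hx.1) (mem_cent_zpowers.mp hx.2), sup_bot_eq] at h1
  rw [← h1]
  exact commutator_le.mpr fun x hx c hc => by rw [commutatorElement_def]; exact hS x hx c hc

/-- The centraliser in `N` of a nontrivial element of `A` is nilpotent. -/
theorem Setup.nilpotent {a : Γ} (ha : a ∈ A) (ha1 : a ≠ 1) :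
    Group.IsNilpotent ↥(N ⊓ centralizer ({a} : Set Γ)) := by
  haveI := Fact.mk h.prime
  set C := N ⊓ centralizer ({a} : Set Γ) with hC
  obtain ⟨b, hb, hb1, hb2⟩ := h.exists_indep a ha
  have hbn : b ∈ normalizer (C : Set Γ) := h.norm_inf_cent h.norm ha hb
  set φ : MulAut C := C.normalizerMonoidHom ⟨b, hbn⟩ with hφ
  have hfix : ∀ x : C, φ x = x → x = 1 := by
    intro x hx
    have h1 : b * (x : Γ) * b⁻¹ = x := congrArg Subtype.val hx
    exact Subtype.ext (h.fix_both ha ha1 hb hb2 x.2.1 (mem_centralizer_singleton_iff.mp x.2.2).symm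
      (mul_inv_eq_iff_eq_mul.mp h1))
  by_cases h1 : φ = 1
  · have : Subsingleton C := ⟨fun x y => by
      rw [hfix x (by rw [h1]; rfl), hfix y (by rw [h1]; rfl)]⟩
    infer_instance
  · refine Cfsg.Agent.S0033.result φ hfix p h.prime (orderOf_eq_prime ?_ h1)
    rw [hφ, ← map_pow, show (⟨b, hbn⟩ : normalizer (C : Set Γ)) ^ p = 1 from Subtype.ext (h.elem.2 b hb), map_one]

theorem Setup.commute_of_coprime {a : Γ} (ha : a ∈ A) (ha1 : a ≠ 1) {x y : Γ} (hx : x ∈ N) (hy : y ∈ N)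
    (hxa : a * x = x * a) (hya : a * y = y * a) (hco : (orderOf x).Coprime (orderOf y)) : x * y = y * x :=
  CN.commute_of_coprime (h.nilpotent ha ha1) ⟨hx, mem_centralizer_singleton_iff.mpr hxa.symm⟩
    ⟨hy, mem_centralizer_singleton_iff.mpr hya.symm⟩ hco

omit h

/-- A group `R` on which an element of prime order has no fixed points centralises `W` if that element has none
on `W` either. -/
theorem frobenius {R W : Subgroup Γ} {a : Γ} {p : ℕ} (hp : p.Prime) (hap : a ^ p = 1)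
    (haR : a ∈ normalizer (R : Set Γ)) (haW : a ∈ normalizer (W : Set Γ)) (hRW : R ≤ normalizer (W : Set Γ))
    [hW : IsMulCommutative W] (hR : ∀ r ∈ R, a * r = r * a → r = 1) (hWa : ∀ w ∈ W, a * w = w * a → w = 1)
    (hcop : (Nat.card R).Coprime (Nat.card W)) : R ≤ centralizer (W : Set Γ) := by
  classical
  haveI := Fact.mk hp
  set W' := ⁅W, R⁆ with hW'
  have hW'W : W' ≤ W := Coprime.commutator_le_of_le_normalizer hRW
  rw [← Coprime.commutator_eq_bot_iff_le_centralizer', ← hW']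
  letI : CommGroup W' :=
    { (inferInstance : Group W') with
      mul_comm := fun x y => Subtype.ext (commute_of_mem hW (hW'W x.2) (hW'W y.2)).eq }
  set M := normalizer (W' : Set Γ)
  have hRM : R ≤ M := normalizer_commutator_ge_right W R
  have haM : a ∈ M := by
    show a ∈ normalizer (W' : Set Γ)
    rw [← Coprime.conj_smul_eq_self_iff, hW', Coprime.conj_smul_commutator,
      Coprime.conj_smul_eq_self_iff.mpr haW, Coprime.conj_smul_eq_self_iff.mpr haR]
  let ψ : M →* MulAut W' := W'.normalizerMonoidHom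
  refine le_bot_iff.mp fun w hw => ?_
  have hmem : (⟨w, hw⟩ : W') ∈ (⊥ : Subgroup W') :=
    Coprime.FrobeniusPGroup.mem_of_norms ψ (R.subgroupOf M) ⟨a, haM⟩ (p := p) (Subtype.ext hap)
      (fun r hr => (mem_normalizer_iff.mp haR r).mp hr)
      (fun r hr e => Subtype.ext (hR r hr (congrArg Subtype.val e)))
      (by rw [Nat.card_congr (subgroupOfEquivOfLe hRM).toEquiv]
          exact hcop.coprime_dvd_right (card_dvd_of_le hW'W))
      ⊥ (fun r _ x hx => by rw [mem_bot] at hx ⊢; rw [hx, map_one])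
      (fun x => by
        rw [mem_bot]
        have hfix : ψ ⟨a, haM⟩ (∏ i ∈ Finset.range p, ψ (⟨a, haM⟩ ^ i) x) =
            ∏ i ∈ Finset.range p, ψ (⟨a, haM⟩ ^ i) x := by
          have hap' : (⟨a, haM⟩ : M) ^ p = 1 := Subtype.ext hap
          set g : ℕ → W' := fun i => ψ (⟨a, haM⟩ ^ i) x with hg
          calc ψ ⟨a, haM⟩ (∏ i ∈ Finset.range p, g i) = ∏ i ∈ Finset.range p, g (i + 1) := by
                rw [map_prod]
                refine Finset.prod_congr rfl fun i _ => ?_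
                simp only [hg, pow_succ', map_mul, MulAut.mul_apply]
            _ = ∏ i ∈ Finset.range p, g i := by
                apply mul_right_cancel (b := g 0)
                rw [← Finset.prod_range_succ' g p, Finset.prod_range_succ]
                simp only [hg, hap', pow_zero]
        set P := ∏ i ∈ Finset.range p, ψ (⟨a, haM⟩ ^ i) x
        exact Subtype.ext (hWa P (hW'W P.2) (mul_inv_eq_iff_eq_mul.mp (congrArg Subtype.val hfix))))
      (fun x hx => by
        refine Subtype.ext ((mem_bot).mp ((Coprime.inf_centralizer_inf_commutator (A := R) (V := W) hRW hcop).le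
          ⟨⟨hW'W x.2, mem_centralizer_iff.mpr fun r hr => ?_⟩, x.2⟩))
        exact mul_inv_eq_iff_eq_mul.mp (congrArg Subtype.val (hx ⟨r, hRM hr⟩ hr)))
      ⟨w, hw⟩
  exact congrArg Subtype.val (mem_bot.mp hmem)

/-- The elements of `S` acting trivially on `X` modulo `H`. -/
def tr (X H : Subgroup Γ) (hHX : H ≤ X) : Subgroup Γ :=
  let S : Submonoid Γ :=
    { carrier := {g | g ∈ normalizer (X : Set Γ) ∧ ∀ x ∈ X, g * x * g⁻¹ * x⁻¹ ∈ H}
      one_mem' := ⟨one_mem _, fun x _ => by simp [one_mem]⟩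
      mul_mem' := by
        rintro g k ⟨hg, hg'⟩ ⟨hk, hk'⟩
        refine ⟨mul_mem hg hk, fun x hx => ?_⟩
        have h1 := hk' x hx
        have h2 : g * (k * x * k⁻¹ * x⁻¹) * g⁻¹ ∈ H := by
          rw [show g * (k * x * k⁻¹ * x⁻¹) * g⁻¹ =
            g * (k * x * k⁻¹ * x⁻¹) * g⁻¹ * (k * x * k⁻¹ * x⁻¹)⁻¹ * (k * x * k⁻¹ * x⁻¹) by group]
          exact mul_mem (hg' _ (hHX h1)) h1
        have h3 := mul_mem h2 (hg' x hx)
        have e : g * k * x * (g * k)⁻¹ * x⁻¹ = g * (k * x * k⁻¹ * x⁻¹) * g⁻¹ * (g * x * g⁻¹ * x⁻¹) := by group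
        rw [e]; exact h3 }
  { S with
    inv_mem' := fun {g} hg => by
      have h1 : g⁻¹ = g ^ (orderOf g - 1) := by
        rw [inv_eq_iff_mul_eq_one, ← pow_succ', Nat.sub_add_cancel (orderOf_pos g), pow_orderOf_eq_one]
      rw [h1]
      exact pow_mem (S := S) hg _ }

theorem mem_tr {X H : Subgroup Γ} {hHX : H ≤ X} {g : Γ} :
    g ∈ tr X H hHX ↔ g ∈ normalizer (X : Set Γ) ∧ ∀ x ∈ X, g * x * g⁻¹ * x⁻¹ ∈ H := Iff.rfl

theorem normalizes_of_tr {X H : Subgroup Γ} {hHX : H ≤ X} {g : Γ} (hg : g ∈ tr X H hHX) :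
    g ∈ normalizer (H : Set Γ) :=
  mem_normalizer_fintype fun x hx => by simpa using mul_mem (hg.2 x (hHX hx)) hx

theorem conj_mem_tr {X H : Subgroup Γ} {hHX : H ≤ X} {g k : Γ} (hk : k ∈ normalizer (X : Set Γ))
    (hkH : k ∈ normalizer (H : Set Γ)) (hg : g ∈ tr X H hHX) : k * g * k⁻¹ ∈ tr X H hHX := by
  refine ⟨mul_mem (mul_mem hk hg.1) (inv_mem hk), fun x hx => ?_⟩
  have h1 := (mem_normalizer_iff.mp hkH _).mp (hg.2 (k⁻¹ * x * k) (by
    simpa using (mem_normalizer_iff.mp (inv_mem hk) x).mp hx))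
  have e : k * g * k⁻¹ * x * (k * g * k⁻¹)⁻¹ * x⁻¹ = k * (g * (k⁻¹ * x * k) * g⁻¹ * (k⁻¹ * x * k)⁻¹) * k⁻¹ := by
    group
  rw [e]; exact h1

end Cfsg.Agent.GenA.Ward
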