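import Cfsg.Agent.GenA.WardModule
import Cfsg.Agent.Lib.Cores.Fitting
import Cfsg.Agent.Lib.Coprime.Sylow
import Cfsg.Agent.Lib.PLocal.PSolvable

/-!
Ward's theorem: a solvable group with an elementary group of order `p^2` acting without fixed points has nilpotent
quotient by its Fitting subgroup.
-/

set_option autoImplicit false

namespace Cfsg.Agent.GenA.Ward

open Cfsg Subgroup
open scoped Pointwise commutatorElement

/-- A solvable group is nilpotent if the Sylow subgroups centralise the cores of the other primes. -/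
theorem isNilpotent_of_cores {X : Type*} [Group X] [Finite X] [Group.IsSolvable X]
    (H : ∀ q t : ℕ, q.Prime → t.Prime → q ≠ t → ∀ T : Sylow t X,
      (T : Subgroup X) ≤ centralizer (pCore q X : Set X)) : Group.IsNilpotent X := by
  rw [← Cores.fittingSubgroup_eq_top_iff]
  set F := fittingSubgroup X with hF
  refine Cores.eq_top_of_sylow_le fun t ht _ => ?_
  haveI := Fact.mk ht
  obtain ⟨T⟩ : Nonempty (Sylow t X) := inferInstance
  refine ⟨T, ?_⟩
  set D : Subgroup X := ⨅ q : {q : ℕ // q.Prime ∧ q ≠ t}, centralizer (pCore (q : ℕ) X : Set X) with hD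
  haveI hDn : D.Normal := normal_iInf_normal fun q => inferInstance
  have hTD : (T : Subgroup X) ≤ D := le_iInf fun q => H q t q.2.1 ht q.2.2 T
  refine hTD.trans ?_
  set C := centralizer (pCore t X : Set X) with hC
  obtain ⟨k, hk⟩ : ∃ k, C.index = t ^ k := by
    refine ⟨_, Nat.eq_prime_pow_of_unique_prime_dvd C.index_ne_zero_of_finite fun {s} hs hsd => ?_⟩
    by_contra hst
    haveI := Fact.mk hs
    obtain ⟨S⟩ : Nonempty (Sylow s X) := inferInstance
    exact S.not_dvd_index (hsd.trans (index_dvd_of_le (H t s ht hs (Ne.symm hst) S)))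
  set Z := F ⊓ centralizer (F : Set X) with hZ
  have hDC : D ⊓ C ≤ Z := by
    have h1 : D ⊓ C ≤ centralizer (F : Set X) := by
      rw [Subgroup.le_centralizer_iff, hF, Cores.fittingSubgroup_eq_iSup]
      refine iSup_le fun q => Subgroup.le_centralizer_iff.mp ?_
      by_cases hq : (q : ℕ) = t
      · rw [hq]; exact inf_le_right
      · exact inf_le_left.trans (iInf_le _ (⟨q, Nat.prime_of_mem_primeFactors q.2, hq⟩ : {q : ℕ // q.Prime ∧ q ≠ t}))
    exact le_inf (h1.trans Cores.centralizer_fittingSubgroup_le) h1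
  let E : Subgroup X :=
    { carrier := {z | z ∈ Z ∧ (orderOf z).Coprime t}
      one_mem' := ⟨one_mem _, by simp⟩
      mul_mem' := by
        rintro x y ⟨hx, hx'⟩ ⟨hy, hy'⟩
        refine ⟨mul_mem hx hy, ?_⟩
        exact (hx'.mul_left hy').coprime_dvd_left
          ((show Commute x y from (mem_centralizer_iff.mp hx.2 y hy.1).symm).orderOf_mul_dvd_mul_orderOf)
      inv_mem' := by
        rintro x ⟨hx, hx'⟩
        exact ⟨inv_mem hx, by rwa [orderOf_inv]⟩ }
  have hEc : E.subgroupOf D ≤ center D := by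
    intro z hz
    obtain ⟨hzZ, hzt⟩ := hz
    refine mem_center_iff.mpr fun y => Subtype.ext ?_
    have key : zpowers (z : X) ≤ centralizer ({(y : X)} : Set X) := by
      refine CN.le_of_forall_isPGroup fun q hq w hw hwq => ?_
      haveI := Fact.mk hq
      by_cases hw1 : w = 1
      · exact hw1 ▸ one_mem _
      have hwF : w ∈ F := (zpowers_le.mpr hzZ.1) hw
      have hqt : q ≠ t := by
        rintro rfl
        obtain ⟨n, hn⟩ := hwq.exists_card_eq
        rw [Nat.card_zpowers] at hn
        exact hw1 (orderOf_eq_one_iff.mp (Nat.eq_one_of_dvd_coprimes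
          ((hzt.coprime_dvd_left (orderOf_dvd_of_mem_zpowers hw)).pow_right n) dvd_rfl hn.dvd))
      have h1 : IsPGroup q ((zpowers w).subgroupOf F) := hwq.comap_subtype
      obtain ⟨S, hS⟩ := h1.exists_le_sylow
      have h2 : w ∈ pCore q X := by
        rw [← Cores.sylow_fitting_map S]
        exact ⟨⟨w, hwF⟩, hS (show (⟨w, hwF⟩ : F) ∈ (zpowers w).subgroupOf F from mem_zpowers w), rfl⟩
      have h3 : (y : X) ∈ centralizer (pCore q X : Set X) :=
        (iInf_le _ (⟨q, hq, hqt⟩ : {q : ℕ // q.Prime ∧ q ≠ t}) : D ≤ _) y.2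
      exact mem_centralizer_singleton_iff.mpr (mem_centralizer_iff.mp h3 w h2)
    exact (mem_centralizer_singleton_iff.mp (key (mem_zpowers _))).symm
  haveI : (E.subgroupOf D).Normal := ⟨fun z hz g => by
    rw [mem_center_iff.mp (hEc hz) g, mul_inv_cancel_right]; exact hz⟩
  have hQ : IsPGroup t (D ⧸ E.subgroupOf D) := by
    intro g
    obtain ⟨x, rfl⟩ := QuotientGroup.mk'_surjective _ g
    have hz : (x : X) ^ C.index ∈ Z := hDC ⟨pow_mem x.2 _, C.pow_index_mem _⟩
    set z := (x : X) ^ C.index with hzd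
    refine ⟨k + (orderOf z).factorization t, ?_⟩
    rw [← map_pow]
    refine (QuotientGroup.eq_one_iff _).mpr ?_
    show (x : X) ^ t ^ (k + (orderOf z).factorization t) ∈ E
    rw [pow_add, pow_mul, ← hk, ← hzd]
    refine ⟨pow_mem hz _, ?_⟩
    rw [orderOf_pow_of_dvd (pow_ne_zero _ ht.ne_zero) (Nat.ordProj_dvd _ _)]
    exact (Nat.coprime_ordCompl ht (orderOf_pos z).ne').symm
  haveI := hQ.isNilpotent
  exact Cores.le_fittingSubgroup (Subgroup.isNilpotent_of_ker_le_center (QuotientGroup.mk' (E.subgroupOf D))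
    (by rw [QuotientGroup.ker_mk']; exact hEc))

variable {Γ : Type*} [Group Γ] [Finite Γ] {p : ℕ} {A N : Subgroup Γ}

/-- The Fitting subgroup of `N` inside `Γ`. -/
def fit (N : Subgroup Γ) : Subgroup Γ := (fittingSubgroup N).map N.subtype

instance fit_normal (N : Subgroup Γ) [N.Normal] : (fit N).Normal := by
  haveI : (fittingSubgroup N).Characteristic := Cores.fittingSubgroup_characteristic
  unfold fit
  infer_instance

theorem le_fit {N C : Subgroup Γ} [C.Normal] (hCN : C ≤ N) (hC : Group.IsNilpotent C) : C ≤ fit N := by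
  rw [← map_subgroupOf_eq_of_le hCN]
  exact map_mono (Cores.le_fittingSubgroup (Cores.isNilpotent_subgroupOf hC N))

theorem map_sylow_eq {G H : Type*} [Group G] [Group H] [Finite G] {q : ℕ} [Fact q.Prime] (f : G →* H)
    (W : Subgroup G) (S : Sylow q W) (hW : IsPGroup q (W.map f)) :
    ((S : Subgroup W).map W.subtype).map f = W.map f := by
  have hsurj := f.subgroupMap_surjective W
  have : ((S.mapSurjective hsurj : Sylow q ↥(W.map f)) : Subgroup ↥(W.map f)) = ⊤ :=
    ((S.mapSurjective hsurj).is_maximal' (hW.to_subgroup ⊤) le_top).symm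
  rw [Sylow.coe_mapSurjective] at this
  have h2 := congrArg (Subgroup.map (W.map f).subtype) this
  rw [map_map, ← MonoidHom.range_eq_map, range_subtype] at h2
  rw [map_map, ← h2]
  congr 1

theorem Setup.map {Γ' : Type*} [Group Γ'] [Finite Γ'] (h : Setup p A N) (f : Γ →* Γ') (hker : f.ker ≤ N) :
    Setup p (A.map f) (N.map f) := by
  have hcA : (Nat.card A).Coprime (Nat.card N) := h.cop_of_le le_rfl
  haveI := h.elem.1
  have hinj : Function.Injective (f.comp A.subtype) := by
    refine (injective_iff_map_eq_one _).mpr fun a ha => Subtype.ext ?_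
    exact disjoint_def.mp (Coprime.disjoint_of_coprime hcA) a.2 (hker ha)
  refine ⟨h.prime, ⟨⟨⟨?_⟩⟩, ?_⟩, ?_, ?_, h.cop.coprime_dvd_left (card_map_dvd _ _), ?_⟩
  · rintro ⟨_, a, ha, rfl⟩ ⟨_, b, hb, rfl⟩
    exact Subtype.ext (by simp only [Subgroup.coe_mul, ← map_mul, (commute_of_mem h.elem.1 ha hb).eq])
  · rintro _ ⟨a, ha, rfl⟩
    rw [← map_pow, h.elem.2 a ha, map_one]
  · have e : A.map f = (f.comp A.subtype).range := by rw [MonoidHom.range_comp, range_subtype]
    rw [e, ← h.card]
    exact (Nat.card_congr (MonoidHom.ofInjective hinj).toEquiv).symm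
  · exact (map_mono h.norm).trans (le_normalizer_map f)
  · rw [← Coprime.map_inf_centralizer f h.norm hcA (Or.inl (Coprime.isSolvable_of_isMulCommutative A)), h.fpf,
      Subgroup.map_bot]

/-- Modulo the Fitting subgroup, Sylow subgroups centralise the cores of the other primes. -/
theorem step [N.Normal] (h : Setup p A N) (hsol : Group.IsSolvable N) {q t : ℕ} [Fact q.Prime] [Fact t.Prime]
    (hqt : q ≠ t) : ∀ T' : Sylow t ↥(N.map (QuotientGroup.mk' (fit N))),
    (T' : Subgroup ↥(N.map (QuotientGroup.mk' (fit N)))) ≤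
      centralizer (pCore q ↥(N.map (QuotientGroup.mk' (fit N))) : Set ↥(N.map (QuotientGroup.mk' (fit N)))) := by
  classical
  set F := fit N with hF
  set f := QuotientGroup.mk' F with hf
  have hfs : Function.Surjective f := QuotientGroup.mk'_surjective F
  set N' := N.map f with hN'
  haveI hN'n : N'.Normal := Normal.map inferInstance f hfs
  have hFN : F ≤ N := map_subtype_le _
  have hFnil : Group.IsNilpotent F := Cores.isNilpotent_map _ _ Cores.fittingSubgroup_isNilpotent
  haveI := h.elem.1
  have hAsol : Group.IsSolvable A := Coprime.isSolvable_of_isMulCommutative A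
  -- the preimage of `O_q` and an invariant Sylow subgroup
  set Oq := (pCore q ↥N').map N'.subtype with hOq
  haveI : (pCore q ↥N').Characteristic := Cores.pCore_characteristic q
  haveI hOqn : Oq.Normal := by rw [hOq]; infer_instance
  have hOqp : IsPGroup q Oq := (Cores.pCore_isPGroup q).map _
  set M := Oq.comap f with hM
  haveI hMn : M.Normal := hOqn.comap f
  have hMN : M ≤ N := by
    refine le_trans (comap_mono (map_subtype_le _ : Oq ≤ N')) (le_of_eq ?_)
    rw [hN', comap_map_eq, hf, QuotientGroup.ker_mk', sup_eq_left.mpr hFN]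
  have hFM : F ≤ M := by rw [hM]; exact le_trans (le_of_eq (QuotientGroup.ker_mk' F).symm) (MonoidHom.ker_le_comap _ _)
  have hMmap : M.map f = Oq := map_comap_eq_self_of_surjective hfs _
  obtain ⟨S, hSA⟩ := Coprime.exists_invariant_sylow q (A := A) (K := M) le_normalizer_of_normal (h.cop_of_le hMN) (Or.inl hAsol)
  set Q := (S : Subgroup M).map M.subtype with hQ
  have hQp : IsPGroup q Q := S.isPGroup'.map _
  have hQM : Q ≤ M := map_subtype_le _
  have hQmap : Q.map f = Oq := (map_sylow_eq f M S (hMmap.symm ▸ hOqp)).trans hMmap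
  -- `T` inside the normalizer of `Q`
  set NQ := N ⊓ normalizer (Q : Set Γ) with hNQ
  have hNQA : A ≤ normalizer (NQ : Set Γ) :=
    le_trans (le_inf h.norm (hSA.trans le_normalizer)) inf_normalizer_le_normalizer_inf
  obtain ⟨T₀, hTA⟩ := Coprime.exists_invariant_sylow t (A := A) (K := NQ) hNQA (h.cop_of_le inf_le_left) (Or.inl hAsol)
  set T := (T₀ : Subgroup NQ).map NQ.subtype with hT
  have hTp : IsPGroup t T := T₀.isPGroup'.map _
  have hTN : T ≤ N := (map_subtype_le _).trans inf_le_left
  have hTQ : T ≤ normalizer (Q : Set Γ) := (map_subtype_le _).trans inf_le_right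
  -- `⁅Q, T⁆ ≤ F`
  have hcomm : ⁅Q, T⁆ ≤ F := by
    set Fp := (pPrimeCore q ↥F).map F.subtype with hFp
    set Fq := (pCore q ↥F).map F.subtype with hFq
    haveI : (pPrimeCore q ↥F).Characteristic := Cores.pPrimeCore_characteristic q
    haveI : (pCore q ↥F).Characteristic := Cores.pCore_characteristic q
    haveI hFpn : Fp.Normal := by rw [hFp]; infer_instance
    haveI hFqn : Fq.Normal := by rw [hFq]; infer_instance
    have hFpF : Fp ≤ F := map_subtype_le _
    have hFpc : (Nat.card Fp).Coprime q := by rw [hFp, card_subtype]; exact Cores.pPrimeCore_card_coprime q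
    have hFpQ : (Nat.card Q).Coprime (Nat.card Fp) := by
      obtain ⟨n, hn⟩ := hQp.exists_card_eq
      rw [hn]; exact hFpc.symm.pow_left n
    haveI hFpnil : Group.IsNilpotent Fp := Cores.isNilpotent_to_le hFpF hFnil
    obtain ⟨j, hj⟩ : ∃ j, Fp.relIndex M = q ^ j := by
      obtain ⟨i, hi⟩ : ∃ i, Fp.relIndex F = q ^ i := by
        refine ⟨_, Nat.eq_prime_pow_of_unique_prime_dvd ((Fp.subgroupOf F).index_ne_zero_of_finite) fun {s} hs hsd => ?_⟩
        by_contra hsq
        haveI := Fact.mk hs
        obtain ⟨Ss⟩ : Nonempty (Sylow s F) := inferInstance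
        haveI : (Ss : Subgroup F).Normal :=
          (Group.isNilpotent_of_finite_tfae.out 0 3 rfl rfl).1 hFnil s inferInstance Ss
        have hle : (Ss : Subgroup F) ≤ pPrimeCore q ↥F := Cores.le_pPrimeCore (by
          obtain ⟨n, hn⟩ := Ss.isPGroup'.exists_card_eq
          rw [hn]; exact ((Nat.coprime_primes hs Fact.out).mpr hsq).pow_left n)
        refine Ss.not_dvd_index (hsd.trans ?_)
        rw [relIndex, hFp, subgroupOf, comap_map_eq_self_of_injective F.subtype_injective]
        exact index_dvd_of_le hle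
      obtain ⟨i', hi'⟩ := hOqp.exists_card_eq
      refine ⟨i + i', ?_⟩
      rw [← relIndex_mul_relIndex Fp F M hFpF hFM, hi, pow_add, ← hi', ← hMmap, ← relIndex_ker, hf, QuotientGroup.ker_mk']
    set CM := M ⊓ centralizer (Fp : Set Γ) with hCM
    haveI hCMn : CM.Normal := inferInstance
    have hCMF : CM ≤ F := by
      refine le_fit (inf_le_left.trans hMN) ?_
      set E := Fp.subgroupOf CM with hE
      haveI : E.Normal := hFpn.subgroupOf CM
      have hEc : E ≤ center CM := fun z hz => mem_center_iff.mpr fun y =>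
        Subtype.ext (mem_centralizer_iff.mp y.2.2 z hz).symm
      have hQg : IsPGroup q (CM ⧸ E) := by
        obtain ⟨i, -, hi⟩ := (Nat.dvd_prime_pow (Fact.out : q.Prime)).mp
          ((PLocal.PSolvable.relIndex_dvd_of_le_right (A := Fp) (inf_le_left : CM ≤ M)).trans (dvd_of_eq hj))
        exact IsPGroup.of_card (n := i) ((index_eq_card E).symm.trans hi)
      haveI := hQg.isNilpotent
      exact Subgroup.isNilpotent_of_ker_le_center (QuotientGroup.mk' E) (by rw [QuotientGroup.ker_mk']; exact hEc)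
    set Φ := (frattini ↥Fp).map Fp.subtype with hΦ
    haveI hΦn : Φ.Normal := by rw [hΦ]; infer_instance
    set N0 := Φ ⊔ Fq with hN0
    have hN0F : N0 ≤ F := sup_le ((map_subtype_le _).trans hFpF) (map_subtype_le _)
    set g := QuotientGroup.mk' N0 with hg
    have hgker : g.ker = N0 := QuotientGroup.ker_mk' N0
    have hS := h.map g (by rw [hgker]; exact hN0F.trans hFN)
    have hdisj : Fp ⊓ Fq = ⊥ := by
      obtain ⟨n, hn⟩ := ((Cores.pCore_isPGroup (G := ↥F) q).map F.subtype).exists_card_eq
      exact disjoint_iff.mp (Coprime.disjoint_of_coprime (by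
        rw [show Nat.card Fq = q ^ n from hn]; exact hFpc.pow_right n))
    haveI : IsMulCommutative (Fp.map g) := by
      refine ⟨⟨?_⟩⟩
      rintro ⟨_, a, ha, rfl⟩ ⟨_, b, hb, rfl⟩
      apply Subtype.ext
      show g a * g b = g b * g a
      rw [← commutatorElement_eq_one_iff_mul_comm, ← map_commutatorElement]
      exact (QuotientGroup.eq_one_iff _).mpr (mem_sup_left (mem_map_of_mem Fp.subtype
        (Coprime.commutator_le_frattini Fp (commutator_mem_commutator (mem_top (⟨a, ha⟩ : Fp)) (mem_top (⟨b, hb⟩ : Fp))))))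
    have hfaith : Q.map g ⊓ centralizer ((Fp.map g : Subgroup _) : Set _) = ⊥ := by
      refine le_bot_iff.mp ?_
      rintro _ ⟨⟨x, hx, rfl⟩, hc⟩
      have hxC : zpowers x ≤ centralizer (Fp : Set Γ) := by
        refine Coprime.le_centralizer_of_frattini le_normalizer_of_normal
          ((hFpQ.coprime_dvd_left (card_dvd_of_le (zpowers_le.mpr hx))).coprime_dvd_right (card_subgroup_dvd_card _)) ?_
        intro a ha w hw
        have h1 : g a * g w = g w * g a :=
          (mem_centralizer_iff.mp ((zpowers_le.mpr (show x ∈ (centralizer ((Fp.map g : Subgroup _) : Set _)).comap g from hc)) ha)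
            (g w) (mem_map_of_mem g hw)).symm
        have h2 : a * w * a⁻¹ * w⁻¹ ∈ N0 := by
          rw [← hgker, MonoidHom.mem_ker, map_mul, map_mul, map_mul, map_inv, map_inv, h1]
          group
        have h3 : a * w * a⁻¹ * w⁻¹ ∈ Fp := mul_mem (hFpn.conj_mem w hw a) (inv_mem hw)
        obtain ⟨u, hu, v, hv, e⟩ := (Coprime.mem_sup_of_le_normalizer (N := Φ) (H := Fq) le_normalizer_of_normal).mp h2
        have hv' : v ∈ Fp ⊓ Fq := ⟨by
          have := mul_mem (inv_mem ((map_subtype_le _ : Φ ≤ Fp) hu)) (e.symm ▸ h3 : u * v ∈ Fp)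
          simpa using this, hv⟩
        rw [hdisj, mem_bot] at hv'
        rw [← e, hv', mul_one]
        exact hu
      have hxF : x ∈ F := hCMF ⟨hQM hx, hxC (mem_zpowers x)⟩
      have h1 : IsPGroup q ((zpowers x).subgroupOf F) := (hQp.to_le (zpowers_le.mpr hx)).comap_subtype
      obtain ⟨Sx, hSx⟩ := h1.exists_le_sylow
      haveI : (Sx : Subgroup F).Normal :=
        (Group.isNilpotent_of_finite_tfae.out 0 3 rfl rfl).1 hFnil q inferInstance Sx
      exact mem_bot.mpr ((QuotientGroup.eq_one_iff x).mpr (mem_sup_right ⟨⟨x, hxF⟩,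
        Cores.le_pCore (N := (Sx : Subgroup F)) Sx.isPGroup'
          (hSx (show (⟨x, hxF⟩ : F) ∈ (zpowers x).subgroupOf F from mem_zpowers x)), rfl⟩))
    have hn : ∀ {X Y : Subgroup Γ}, X ≤ normalizer (Y : Set Γ) → X.map g ≤ normalizer ((Y.map g : Subgroup _) : Set _) :=
      fun hXY => (map_mono hXY).trans (le_normalizer_map g)
    have hk := core hS hqt (hQp.map g) (hTp.map g) (map_mono (hFpF.trans hFN)) (map_mono (hQM.trans hMN)) (map_mono hTN)
      (hn le_normalizer_of_normal) (hn hSA) (hn hTA) (hn le_normalizer_of_normal) (hn le_normalizer_of_normal)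
      (hn hTQ) (hFpc.coprime_dvd_left (card_map_dvd _ _)) hfaith
    refine le_trans ?_ hN0F
    rw [← hgker, ← Subgroup.map_eq_bot_iff, map_commutator]
    exact Coprime.commutator_eq_bot_iff_le_centralizer'.mpr hk
  -- the image of `T` is a Sylow subgroup centralising `O_q`
  have hsup : NQ.map f = N' := by
    refine le_antisymm (map_mono inf_le_left) ?_
    rintro _ ⟨x, hx, rfl⟩
    have htop := Sylow.normalizer_sup_eq_top S
    have hxm : x ∈ normalizer (Q : Set Γ) ⊔ M := htop.symm ▸ mem_top x
    rw [sup_comm] at hxm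
    obtain ⟨m, hm, y, hy, rfl⟩ := (Coprime.mem_sup_of_le_normalizer (N := M) le_normalizer_of_normal).mp hxm
    have hyN : y ∈ N := by simpa using mul_mem (inv_mem (hMN hm)) hx
    rw [map_mul]
    refine mul_mem ?_ (mem_map_of_mem f ⟨hyN, hy⟩)
    obtain ⟨u, hu, e⟩ : f m ∈ Q.map f := hQmap.symm ▸ hm
    rw [← e]
    exact mem_map_of_mem f ⟨hMN (hQM hu), le_normalizer hu⟩
  obtain ⟨T₁, hT₁⟩ : ∃ T₁ : Sylow t ↥N', (T₁ : Subgroup ↥N').map N'.subtype = T.map f := by
    let φ : NQ →* ↥N' := (MulEquiv.subgroupCongr hsup).toMonoidHom.comp (f.subgroupMap NQ)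
    have hφ : Function.Surjective φ :=
      (MulEquiv.subgroupCongr hsup).surjective.comp (f.subgroupMap_surjective NQ)
    refine ⟨T₀.mapSurjective hφ, ?_⟩
    rw [Sylow.coe_mapSurjective, map_map, hT, map_map]
    congr 1
  intro T'
  obtain ⟨c, hc⟩ := MulAction.exists_smul_eq ↥N' T₁ T'
  have h1 : (T₁ : Subgroup ↥N') ≤ centralizer (pCore q ↥N' : Set ↥N') := by
    intro x hx
    refine mem_centralizer_iff.mpr fun y hy => ?_
    obtain ⟨u, hu, e1⟩ : (y : Γ ⧸ F) ∈ Q.map f := hQmap.symm ▸ mem_map_of_mem N'.subtype hy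
    obtain ⟨v, hv, e2⟩ : (x : Γ ⧸ F) ∈ T.map f := hT₁ ▸ mem_map_of_mem N'.subtype hx
    refine Subtype.ext ?_
    show (y : Γ ⧸ F) * x = x * y
    rw [← e1, ← e2, ← commutatorElement_eq_one_iff_mul_comm, ← map_commutatorElement]
    exact (QuotientGroup.eq_one_iff _).mpr (hcomm (commutator_mem_commutator hu hv))
  have hc' : (T' : Subgroup ↥N') = MulAut.conj c • (T₁ : Subgroup ↥N') := by
    rw [← Sylow.coe_subgroup_smul, hc]
  refine hc'.trans_le ?_
  refine (Subgroup.pointwise_smul_le_pointwise_smul_iff.mpr h1).trans (le_of_eq ?_)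
  exact Coprime.conj_smul_eq_self_iff.mpr (le_normalizer_of_normal (mem_top c))

/-- Ward's theorem. -/
theorem ward [N.Normal] (h : Setup p A N) (hsol : Group.IsSolvable N) :
    Group.IsNilpotent ↥(N.map (QuotientGroup.mk' (fit N))) := by
  haveI : Group.IsSolvable ↥(N.map (QuotientGroup.mk' (fit N))) := Coprime.isSolvable_map _ hsol
  exact isNilpotent_of_cores fun q t hq ht hqt T => by
    haveI := Fact.mk hq
    haveI := Fact.mk ht
    exact step h hsol hqt T

end Cfsg.Agent.GenA.Ward
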