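import Cfsg.Agent.GenA.WardCore

/-!
Ward's theorem: the action on a faithful abelian section.
-/

set_option autoImplicit false

namespace Cfsg.Agent.GenA.Ward

open Cfsg Subgroup
open scoped Pointwise commutatorElement

variable {Γ : Type*} [Group Γ] [Finite Γ]

/-- Translates in distinct pieces of an independent family cannot cancel. -/
theorem eq_one_of_mem_closure {W Z : Subgroup Γ} [IsMulCommutative W] [IsMulCommutative Z]
    (hZW : Z ≤ normalizer (W : Set Γ)) (hfix : ∀ w ∈ W, (∀ z ∈ Z, z * w = w * z) → w = 1)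
    (s : Finset (Subgroup Γ)) (hs : ∀ H ∈ s, H ≤ Z ∧ (H.relIndex Z).Prime) {H₀ : Subgroup Γ}
    (h₀ : H₀ ≤ Z ∧ (H₀.relIndex Z).Prime) (hnm : H₀ ∉ s) {w : Γ} (hw : w ∈ W ⊓ centralizer (H₀ : Set Γ))
    (hwc : w ∈ closure (⋃ H ∈ s, ((W ⊓ centralizer (H : Set Γ) : Subgroup Γ) : Set Γ))) : w = 1 := by
  classical
  induction s using Finset.induction generalizing w with
  | empty => simpa using hwc
  | @insert H₁ s hns ih =>
    obtain ⟨hz0, hz⟩ : H₁ ≤ Z ∧ (H₁.relIndex Z).Prime := hs _ (Finset.mem_insert_self H₁ s)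
    -- an element of `H₁` outside `H₀`
    obtain ⟨z, hzH₁, hzH₀⟩ : ∃ z ∈ H₁, z ∉ H₀ := by
      by_contra hcon
      push_neg at hcon
      have hle : H₁ ≤ H₀ := hcon
      have h1 : H₁.relIndex H₀ * H₀.relIndex Z = H₁.relIndex Z := relIndex_mul_relIndex _ _ _ hle h₀.1
      have h2 : H₁.relIndex H₀ = 1 := by
        rcases hz.eq_one_or_self_of_dvd _ ⟨_, h1.symm⟩ with e | e
        · exact e
        · rw [e] at h1
          exact absurd (Nat.eq_of_mul_eq_mul_left hz.pos (h1.trans (mul_one _).symm)) h₀.2.ne_one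
      exact hnm (Finset.mem_insert.mpr (Or.inl (le_antisymm (relIndex_eq_one.mp h2) hle)))
    have hzZ : z ∈ Z := hz0 hzH₁
    have hspan : H₀ ⊔ zpowers z = Z := by
      have hle : H₀ ⊔ zpowers z ≤ Z := sup_le h₀.1 (zpowers_le.mpr hzZ)
      have h1 : H₀.relIndex (H₀ ⊔ zpowers z) * (H₀ ⊔ zpowers z).relIndex Z = H₀.relIndex Z :=
        relIndex_mul_relIndex _ _ _ le_sup_left hle
      rcases h₀.2.eq_one_or_self_of_dvd _ ⟨_, h1.symm⟩ with e | e
      · exact absurd (relIndex_eq_one.mp e (mem_sup_right (mem_zpowers z))) hzH₀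
      · rw [e] at h1
        exact le_antisymm hle (relIndex_eq_one.mp (Nat.eq_of_mul_eq_mul_left h₀.2.pos (h1.trans (mul_one _).symm)))
    -- commutation with `z`
    have hcomm : ∀ {H : Subgroup Γ}, H ≤ Z → ∀ {x : Γ}, x ∈ W ⊓ centralizer (H : Set Γ) →
        z * x * z⁻¹ * x⁻¹ ∈ W ⊓ centralizer (H : Set Γ) := by
      intro H hH x hx
      have h1 : z * x * z⁻¹ ∈ W ⊓ centralizer (H : Set Γ) := by
        refine ⟨(le_normalizer_iff.mp hZW) z hzZ x hx.1, mem_centralizer_iff.mpr fun y hy => ?_⟩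
        have e := commute_of_mem inferInstance (hH hy) hzZ
        exact ((e.mul_right (show Commute y x from mem_centralizer_iff.mp hx.2 y hy)).mul_right e.inv_right).eq
      exact mul_mem h1 (inv_mem hx)
    set E : W →* Γ := {
      toFun := fun x => z * (x : Γ) * z⁻¹ * (x : Γ)⁻¹
      map_one' := by simp
      map_mul' := fun x y => by
        have h1 : z * (y : Γ) * z⁻¹ ∈ W := (le_normalizer_iff.mp hZW) z hzZ y y.2
        have e1 := commute_of_mem (A := W) inferInstance (mul_mem h1 (inv_mem y.2)) (inv_mem x.2)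
        calc z * ((x : Γ) * y) * z⁻¹ * ((x : Γ) * y)⁻¹
            = z * x * z⁻¹ * ((z * y * z⁻¹ * (y : Γ)⁻¹) * (x : Γ)⁻¹) := by group
          _ = z * x * z⁻¹ * ((x : Γ)⁻¹ * (z * y * z⁻¹ * (y : Γ)⁻¹)) := by rw [e1.eq]
          _ = _ := by group } with hE
    set U := closure (⋃ H ∈ s, ((W ⊓ centralizer (H : Set Γ) : Subgroup Γ) : Set Γ)) with hU
    have hgen : closure (⋃ H ∈ insert H₁ s, ((W ⊓ centralizer (H : Set Γ) : Subgroup Γ) : Set Γ)) ≤
        (U.comap E).map W.subtype := by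
      rw [closure_le]
      rintro x hx
      simp only [Set.mem_iUnion, Finset.mem_insert] at hx
      obtain ⟨H, hH, hxH⟩ := hx
      refine ⟨⟨x, hxH.1⟩, ?_, rfl⟩
      show z * x * z⁻¹ * x⁻¹ ∈ U
      rcases hH with rfl | hH
      · rw [show z * x * z⁻¹ * x⁻¹ = 1 by
          rw [show z * x = x * z from mem_centralizer_iff.mp hxH.2 z hzH₁]; group]
        exact one_mem _
      · exact subset_closure (Set.mem_biUnion hH (hcomm (hs H (Finset.mem_insert_of_mem hH)).1 hxH))
    obtain ⟨w', hw', rfl⟩ := hgen hwc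
    have h1 : z * (w' : Γ) * z⁻¹ * (w' : Γ)⁻¹ = 1 :=
      ih (fun H hH => hs H (Finset.mem_insert_of_mem hH)) (fun hn => hnm (Finset.mem_insert_of_mem hn))
        (hcomm h₀.1 hw) hw'
    have hwz : z * (w' : Γ) = w' * z := mul_inv_eq_iff_eq_mul.mp (mul_inv_eq_one.mp h1)
    refine hfix _ w'.2 fun y hy => ?_
    have hle : Z ≤ centralizer ({(w' : Γ)} : Set Γ) := by
      rw [← hspan]
      exact sup_le (fun u hu => mem_centralizer_singleton_iff.mpr (mem_centralizer_iff.mp hw.2 u hu))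
        (zpowers_le.mpr (mem_centralizer_singleton_iff.mpr hwz))
    exact mem_centralizer_singleton_iff.mp (hle hy)

variable {p : ℕ} {A N : Subgroup Γ}

/-- The elements of order dividing `q` in the centre of `Q`. -/
def omegaCenter (q : ℕ) (Q : Subgroup Γ) : Subgroup Γ where
  carrier := {x | x ∈ Q ∧ x ∈ centralizer (Q : Set Γ) ∧ x ^ q = 1}
  one_mem' := ⟨one_mem _, one_mem _, one_pow q⟩
  mul_mem' := by
    rintro x y ⟨hx, hxc, hxq⟩ ⟨hy, hyc, hyq⟩
    refine ⟨mul_mem hx hy, mul_mem hxc hyc, ?_⟩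
    rw [(show Commute x y from (mem_centralizer_iff.mp hxc y hy).symm).mul_pow, hxq, hyq, one_mul]
  inv_mem' := by
    rintro x ⟨hx, hxc, hxq⟩
    exact ⟨inv_mem hx, inv_mem hxc, by rw [inv_pow, hxq, inv_one]⟩

/-- If `Q` is faithful on the abelian group `W`, then `T` centralises `Q`. -/
theorem core (h : Setup p A N) {W Q T : Subgroup Γ} [hW : IsMulCommutative W] {q t : ℕ} [Fact q.Prime]
    [Fact t.Prime] (hqt : q ≠ t) (hQ : IsPGroup q Q) (hT : IsPGroup t T) (hWN : W ≤ N) (hQN : Q ≤ N) (hTN : T ≤ N)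
    (hAW : A ≤ normalizer (W : Set Γ)) (hAQ : A ≤ normalizer (Q : Set Γ)) (hAT : A ≤ normalizer (T : Set Γ))
    (hQW : Q ≤ normalizer (W : Set Γ)) (hTW : T ≤ normalizer (W : Set Γ)) (hTQ : T ≤ normalizer (Q : Set Γ))
    (hWq : (Nat.card W).Coprime q) (hfaith : Q ⊓ centralizer (W : Set Γ) = ⊥) :
    T ≤ centralizer (Q : Set Γ) := by
  classical
  haveI := Fact.mk h.prime
  have hp : p.Prime := h.prime
  have hq : q.Prime := Fact.out
  have hQWc : (Nat.card Q).Coprime (Nat.card W) := by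
    obtain ⟨k, hk⟩ := hQ.exists_card_eq
    rw [hk]; exact hWq.symm.pow_left k
  set Z := omegaCenter q Q with hZdef
  have hmemZ : ∀ x, x ∈ Z ↔ x ∈ Q ∧ x ∈ centralizer (Q : Set Γ) ∧ x ^ q = 1 := fun x => Iff.rfl
  have hZQ : Z ≤ Q := fun x hx => hx.1
  haveI hZc : IsMulCommutative Z :=
    ⟨⟨fun x y => Subtype.ext (mem_centralizer_iff.mp y.2.2.1 x x.2.1)⟩⟩
  have hnZ : ∀ g : Γ, g ∈ normalizer (Q : Set Γ) → g ∈ normalizer (Z : Set Γ) := by
    intro g hg
    refine mem_normalizer_fintype fun x hx => ?_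
    refine ⟨(mem_normalizer_iff.mp hg x).mp hx.1, mem_centralizer_iff.mpr fun y hy => ?_, by rw [conj_pow, hx.2.2]; group⟩
    have hy' : g⁻¹ * y * g ∈ Q := by simpa using (mem_normalizer_iff.mp (inv_mem hg) y).mp hy
    calc y * (g * x * g⁻¹) = g * ((g⁻¹ * y * g) * x) * g⁻¹ := by group
      _ = g * (x * (g⁻¹ * y * g)) * g⁻¹ := by rw [mem_centralizer_iff.mp hx.2.1 _ hy']
      _ = g * x * g⁻¹ * y := by group
  have hZA : A ≤ normalizer (Z : Set Γ) := fun a ha => hnZ a (hAQ ha)
  have hZT : T ≤ normalizer (Z : Set Γ) := fun a ha => hnZ a (hTQ ha)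
  have hZW : Z ≤ normalizer (W : Set Γ) := hZQ.trans hQW
  have hZN : Z ≤ N := hZQ.trans hQN
  have hZWc : (Nat.card Z).Coprime (Nat.card W) := hQWc.coprime_dvd_left (card_dvd_of_le hZQ)
  set W1 := ⁅W, Z⁆ with hW1
  have hW1W : W1 ≤ W := Coprime.commutator_le_of_le_normalizer hZW
  haveI : IsMulCommutative W1 :=
    ⟨⟨fun x y => Subtype.ext (commute_of_mem hW (hW1W x.2) (hW1W y.2)).eq⟩⟩
  have hfix1 : ∀ w ∈ W1, (∀ z ∈ Z, z * w = w * z) → w = 1 := fun w hw hc =>
    mem_bot.mp ((Coprime.inf_centralizer_inf_commutator (A := Z) (V := W) hZW hZWc).le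
      ⟨⟨hW1W hw, mem_centralizer_iff.mpr hc⟩, hw⟩)
  have hcW1 : ∀ g : Γ, g ∈ normalizer (W : Set Γ) → g ∈ normalizer (Z : Set Γ) → g ∈ normalizer (W1 : Set Γ) := by
    intro g hgW hgZ
    rw [← Coprime.conj_smul_eq_self_iff, hW1, Coprime.conj_smul_commutator,
      Coprime.conj_smul_eq_self_iff.mpr hgW, Coprime.conj_smul_eq_self_iff.mpr hgZ]
  have hZW1 : Z ≤ normalizer (W1 : Set Γ) := fun z hz => hcW1 z (hZW hz) (le_normalizer hz)
  -- the hyperplanes of `Z` with nontrivial fixed points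
  set Ω : Set (Subgroup Γ) :=
    {H | H ≤ Z ∧ (H.relIndex Z).Prime ∧ W1 ⊓ centralizer (H : Set Γ) ≠ ⊥} with hΩ
  set V : Subgroup Γ → Subgroup Γ := fun H => W1 ⊓ centralizer (H : Set Γ) with hV
  have hspan : ∀ H ∈ Ω, ∀ z ∈ Z, z ∉ H → H ⊔ zpowers z = Z := by
    intro H hH z hz hzH
    have hle : H ⊔ zpowers z ≤ Z := sup_le hH.1 (zpowers_le.mpr hz)
    have h1 : H.relIndex (H ⊔ zpowers z) * (H ⊔ zpowers z).relIndex Z = H.relIndex Z :=
      relIndex_mul_relIndex _ _ _ le_sup_left hle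
    rcases hH.2.1.eq_one_or_self_of_dvd _ ⟨_, h1.symm⟩ with e | e
    · exact absurd (relIndex_eq_one.mp e (mem_sup_right (mem_zpowers z))) hzH
    · rw [e] at h1
      exact le_antisymm hle (relIndex_eq_one.mp (Nat.eq_of_mul_eq_mul_left hH.2.1.pos (h1.trans (mul_one _).symm)))
  have hVfix : ∀ H ∈ Ω, ∀ z ∈ Z, z ∉ H → ∀ v ∈ V H, z * v = v * z → v = 1 := by
    intro H hH z hz hzH v hv hzv
    refine hfix1 v hv.1 fun y hy => ?_
    have hle : Z ≤ centralizer ({v} : Set Γ) := by
      rw [← hspan H hH z hz hzH]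
      exact sup_le (fun u hu => mem_centralizer_singleton_iff.mpr (mem_centralizer_iff.mp hv.2 u hu))
        (zpowers_le.mpr (mem_centralizer_singleton_iff.mpr hzv))
    exact mem_centralizer_singleton_iff.mp (hle hy)
  have hcover : ∀ S : Subgroup Γ, (∀ H ∈ Ω, V H ≤ S) → W1 ≤ S := by
    intro S hS
    obtain ⟨h1, -⟩ := Cfsg.Agent.S3734.result Z W1 hZc hZW1 (hZWc.coprime_dvd_right (card_dvd_of_le hW1W))
    rw [← h1]
    refine iSup₂_le fun B hB => ?_
    obtain ⟨hBZ, a, ha, hBa⟩ := hB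
    by_cases haB : a ∈ B
    · have hBeq : B = Z := by rw [← hBa, sup_eq_left.mpr (zpowers_le.mpr haB)]
      intro w hw
      rw [hfix1 w hw.1 fun z hz => mem_centralizer_iff.mp hw.2 z (show z ∈ B by rw [hBeq]; exact hz)]
      exact one_mem S
    by_cases hbot : W1 ⊓ centralizer (B : Set Γ) = ⊥
    · rw [hbot]; exact bot_le
    refine hS B ⟨hBZ, ?_, hbot⟩
    have ha1 : a ≠ 1 := fun e => haB (e ▸ one_mem B)
    have hoa : orderOf a = q := orderOf_eq_prime ha.2.2 ha1
    have hd : Disjoint B (zpowers a) := by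
      rw [disjoint_def]
      intro x hxB hxa
      by_contra hx1
      have hle : zpowers x ≤ zpowers a := zpowers_le.mpr hxa
      have hxo : orderOf x = q := orderOf_eq_prime ((hBZ hxB).2.2) hx1
      have he := eq_of_le_of_card_ge hle (by rw [Nat.card_zpowers, Nat.card_zpowers, hxo, hoa])
      exact haB (zpowers_le.mpr hxB (he ▸ mem_zpowers a))
    have hnB : zpowers a ≤ normalizer (B : Set Γ) := zpowers_le.mpr (mem_normalizer_fintype fun x hx => by
      rw [(commute_of_mem hZc ha (hBZ hx)).eq, mul_inv_cancel_right]; exact hx)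
    have hc := Coprime.card_sup_of_disjoint hnB hd
    rw [hBa, Nat.card_zpowers, hoa, ← relIndex_bot_left, ← relIndex_bot_left,
      ← relIndex_mul_relIndex ⊥ B Z bot_le hBZ] at hc
    rw [Nat.eq_of_mul_eq_mul_left (by rw [relIndex_bot_left]; exact Nat.card_pos) hc]
    exact hq
  have hconjΩ : ∀ g : Γ, g ∈ normalizer (W : Set Γ) → g ∈ normalizer (Z : Set Γ) → ∀ H ∈ Ω,
      MulAut.conj g • H ∈ Ω ∧ ∀ v ∈ V H, g * v * g⁻¹ ∈ V (MulAut.conj g • H) := by
    intro g hgW hgZ H hH
    have hZg : MulAut.conj g • Z = Z := Coprime.conj_smul_eq_self_iff.mpr hgZ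
    have hv : ∀ v ∈ V H, g * v * g⁻¹ ∈ V (MulAut.conj g • H) := by
      intro v hv
      refine ⟨(mem_normalizer_iff.mp (hcW1 g hgW hgZ) v).mp hv.1, mem_centralizer_iff.mpr fun y hy => ?_⟩
      calc y * (g * v * g⁻¹) = g * ((g⁻¹ * y * g) * v) * g⁻¹ := by group
        _ = g * (v * (g⁻¹ * y * g)) * g⁻¹ := by
          rw [mem_centralizer_iff.mp hv.2 _ (Coprime.mem_conj_smul.mp hy)]
        _ = g * v * g⁻¹ * y := by group
    refine ⟨⟨?_, ?_, ?_⟩, hv⟩
    · exact (Subgroup.pointwise_smul_le_pointwise_smul_iff.mpr hH.1).trans hZg.le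
    · rw [← hZg, Coprime.conj_smul_eq_map, Coprime.conj_smul_eq_map,
        relIndex_map_map_of_injective _ _ (MulAut.conj g).injective]
      exact hH.2.1
    · intro hbot
      refine hH.2.2 (le_bot_iff.mp fun v hv' => mem_bot.mpr ?_)
      have h1 : g * v * g⁻¹ = 1 := mem_bot.mp (hbot.le (hv v hv'))
      simpa using h1
  have hnA : ∀ a ∈ A, a ∈ normalizer (W : Set Γ) ∧ a ∈ normalizer (Z : Set Γ) := fun a ha => ⟨hAW ha, hZA ha⟩
  -- orbit sums
  have horbit : ∀ H ∈ Ω, ∀ (B : Subgroup Γ) (S : Set Γ), B ≤ A → S ⊆ A → A ≤ B ⊔ closure S →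
      (∀ c ∈ B, MulAut.conj c • H = H → c = 1) → ∀ v ∈ V H, (∀ s ∈ S, s * v = v * s) → v = 1 := by
    intro H hH B S hBA hSA hspanA hfree v hv hvS
    haveI : Fintype B := Fintype.ofFinite _
    letI : CommGroup W :=
      { (inferInstance : Group W) with mul_comm := fun x y => Subtype.ext (commute_of_mem hW x.2 y.2).eq }
    have hvW : ∀ c ∈ A, c * v * c⁻¹ ∈ W := fun c hc => (le_normalizer_iff.mp hAW) c hc v (hW1W hv.1)
    let f : B → W := fun c => ⟨c * v * (c : Γ)⁻¹, hvW c (hBA c.2)⟩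
    set P : W := ∏ c : B, f c with hP
    have hPfix : P = 1 := by
      have hle : A ≤ centralizer ({(P : Γ)} : Set Γ) := by
        refine hspanA.trans (sup_le ?_ ((closure_le _).mpr ?_))
        · intro d hd
          refine mem_centralizer_singleton_iff.mpr ?_
          have key : W.normalizerMonoidHom ⟨d, hAW (hBA hd)⟩ P = P := by
            rw [hP, map_prod]
            refine Fintype.prod_equiv (Equiv.mulLeft (⟨d, hd⟩ : B)) _ _ fun c => Subtype.ext ?_
            show d * ((c : Γ) * v * (c : Γ)⁻¹) * d⁻¹ = d * (c : Γ) * v * (d * (c : Γ))⁻¹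
            group
          exact mul_inv_eq_iff_eq_mul.mp (congrArg Subtype.val key)
        · intro s hs
          refine mem_centralizer_singleton_iff.mpr ?_
          have key : W.normalizerMonoidHom ⟨s, hAW (hSA hs)⟩ P = P := by
            rw [hP, map_prod]
            refine Finset.prod_congr rfl fun c _ => Subtype.ext ?_
            show s * ((c : Γ) * v * (c : Γ)⁻¹) * s⁻¹ = (c : Γ) * v * (c : Γ)⁻¹
            have e := commute_of_mem h.elem.1 (hSA hs) (hBA c.2)
            rw [((e.mul_right (show Commute s v from hvS s hs)).mul_right e.inv_right).eq, mul_inv_cancel_right]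
          exact mul_inv_eq_iff_eq_mul.mp (congrArg Subtype.val key)
      exact Subtype.ext ((mem_bot).mp (h.fpf.le
        ⟨hWN P.2, mem_centralizer_iff.mpr fun c hc => mem_centralizer_singleton_iff.mp (hle hc)⟩))
    set s : Finset (Subgroup Γ) := (Finset.univ.erase (1 : B)).image fun c : B => MulAut.conj (c : Γ) • H with hs
    have h1 : (∏ c ∈ Finset.univ.erase (1 : B), f c) = (f 1)⁻¹ := by
      rw [eq_inv_iff_mul_eq_one, Finset.prod_erase_mul _ _ (Finset.mem_univ _)]
      exact hPfix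
    have hmem : ∀ t : Finset B, 1 ∉ t →
        ((∏ c ∈ t, f c : W) : Γ) ∈ closure (⋃ H' ∈ t.image fun c : B => MulAut.conj (c : Γ) • H,
          ((W1 ⊓ centralizer (H' : Set Γ) : Subgroup Γ) : Set Γ)) := by
      intro t
      induction t using Finset.induction with
      | empty => intro _; simp [one_mem]
      | @insert c t hct ih =>
        intro h1t
        rw [Finset.prod_insert hct, Subgroup.coe_mul]
        refine mul_mem (subset_closure (Set.mem_biUnion (Finset.mem_image_of_mem _ (Finset.mem_insert_self c t)) ?_))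
          (closure_mono (Set.biUnion_subset_biUnion_left fun x hx => ?_) (ih fun hn => h1t (Finset.mem_insert_of_mem hn)))
        · exact (hconjΩ c (hnA c (hBA c.2)).1 (hnA c (hBA c.2)).2 H hH).2 v hv
        · exact Finset.image_subset_image (Finset.subset_insert c t) hx
    have hvc : v ∈ closure (⋃ H' ∈ s, ((W1 ⊓ centralizer (H' : Set Γ) : Subgroup Γ) : Set Γ)) := by
      have h2 := hmem (Finset.univ.erase (1 : B)) (Finset.notMem_erase (1 : B) _)
      rw [h1, Subgroup.coe_inv, inv_mem_iff] at h2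
      have h3 : ((f 1 : W) : Γ) = v := by simp [f]
      rw [h3] at h2
      exact h2
    refine eq_one_of_mem_closure hZW1 hfix1 s (fun H' hH' => ?_) ⟨hH.1, hH.2.1⟩ (fun hn => ?_) hv hvc
    · obtain ⟨c, -, rfl⟩ := Finset.mem_image.mp hH'
      exact ⟨(hconjΩ c (hnA c (hBA c.2)).1 (hnA c (hBA c.2)).2 H hH).1.1,
        (hconjΩ c (hnA c (hBA c.2)).1 (hnA c (hBA c.2)).2 H hH).1.2.1⟩
    · obtain ⟨c, hc, hce⟩ := Finset.mem_image.mp hn
      exact (Finset.mem_erase.mp hc).1 (Subtype.ext (hfree c c.2 hce))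
  -- a nontrivial element of `A` trivial on `Z / H`
  have htriv : ∀ H : Subgroup Γ, (hHZ : H ≤ Z) → ∀ a ∈ A, ∀ z ∈ Z, z ∉ H → a * z = z * a → a ∈ normalizer (H : Set Γ) →
      H ⊔ zpowers z = Z → a ∈ tr Z H hHZ := by
    intro H hHZ a ha z hz hzH hcom hn hsp
    refine ⟨hZA ha, fun x hx => ?_⟩
    obtain ⟨u, hu, y, hy, rfl⟩ := (Coprime.mem_sup_of_le_normalizer (N := H) (H := zpowers z)
      (zpowers_le.mpr (mem_normalizer_fintype fun x hx => by
        rw [(commute_of_mem hZc hz (hHZ hx)).eq, mul_inv_cancel_right]; exact hx))).mp (hsp.symm ▸ hx)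
    have hay : a * y = y * a := by
      obtain ⟨i, rfl⟩ := mem_zpowers_iff.mp hy
      exact ((show Commute a z from hcom).zpow_right i).eq
    have e : a * (u * y) * a⁻¹ * (u * y)⁻¹ = a * u * a⁻¹ * u⁻¹ :=
      calc a * (u * y) * a⁻¹ * (u * y)⁻¹ = a * u * a⁻¹ * (a * y * a⁻¹) * y⁻¹ * u⁻¹ := by group
        _ = a * u * a⁻¹ * u⁻¹ := by rw [hay]; group
    rw [e]
    exact mul_mem ((mem_normalizer_iff.mp hn u).mp hu) (inv_mem hu)
  have hLab : ∀ H, (hH : H ∈ Ω) → ∃ a ∈ A, a ≠ 1 ∧ a ∈ tr Z H hH.1 := by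
    intro H hH
    by_contra hcon
    push_neg at hcon
    obtain ⟨v0, hv0, hv1⟩ := (bot_or_exists_ne_one (V H)).resolve_left hH.2.2
    by_cases hfree : ∀ c ∈ A, MulAut.conj c • H = H → c = 1
    · exact hv1 (horbit H hH A ∅ le_rfl (Set.empty_subset _) le_sup_left hfree v0 hv0 (by simp))
    push_neg at hfree
    obtain ⟨a, ha, haH, ha1⟩ := hfree
    have han : a ∈ normalizer (H : Set Γ) := Coprime.conj_smul_eq_self_iff.mp haH
    have hCa : ∀ z ∈ Z, a * z = z * a → z ∈ H := fun z hz hc => by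
      by_contra hzH
      exact hcon a ha ha1 (htriv H hH.1 a ha z hz hzH hc han (hspan H hH z hz hzH))
    by_cases hall : ∀ c ∈ A, c ∈ normalizer (H : Set Γ)
    · have hZH : Z ≤ H := h.gen hZN hZA fun c hc hc1 x hx => by
        by_contra hxH
        exact hcon c hc hc1 (htriv H hH.1 c hc x hx.1 hxH (mem_centralizer_singleton_iff.mp hx.2).symm (hall c hc)
          (hspan H hH x hx.1 hxH))
      exact hH.2.1.ne_one (relIndex_eq_one.mpr hZH)
    push_neg at hall
    obtain ⟨b, hb, hbH⟩ := hall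
    have hab : a ∉ zpowers b := fun hm =>
      hbH (h.eq_one_of_mem_powers hb hm ha1 han)
    have hba : b ∉ zpowers a := fun hm => hbH ((zpowers_le.mpr han) hm)
    have hVa : ∀ v ∈ V H, a * v = v * a → v = 1 := by
      intro v hv hav
      refine horbit H hH (zpowers b) {a} (zpowers_le.mpr hb) (by simpa using ha) ?_ ?_ v hv (by simpa using hav)
      · rw [← zpowers_eq_closure, sup_comm, h.span ha ha1 hb hba]
      · intro c hc hcH
        by_contra hc1
        exact hbH (h.eq_one_of_mem_powers hb hc hc1 (Coprime.conj_smul_eq_self_iff.mp hcH))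
    set R := ⁅Z, zpowers a⁆ with hR
    have hRZ : R ≤ Z := Coprime.commutator_le_of_le_normalizer ((zpowers_le.mpr ha).trans hZA)
    have hRH : ¬ R ≤ H := by
      intro hle
      refine hcon a ha ha1 ⟨hZA ha, fun x hx => ?_⟩
      have h1 := hle (commutator_mem_commutator hx (mem_zpowers a))
      rw [commutatorElement_def] at h1
      simpa [mul_assoc] using inv_mem h1
    obtain ⟨z, hzR, hzH⟩ := SetLike.not_le_iff_exists.mp hRH
    haveI : IsMulCommutative (V H : Subgroup Γ) :=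
      ⟨⟨fun x y => Subtype.ext (commute_of_mem hW (hW1W x.2.1) (hW1W y.2.1)).eq⟩⟩
    have hcent : R ≤ centralizer (V H : Set Γ) := frobenius hp (h.elem.2 a ha)
      (by rw [← Coprime.conj_smul_eq_self_iff, hR, Coprime.conj_smul_commutator,
            Coprime.conj_smul_eq_self_iff.mpr (hZA ha), Coprime.conj_smul_eq_self_iff.mpr (le_normalizer (mem_zpowers a))])
      (mem_normalizer_fintype fun x hx => by
        have := (hconjΩ a (hnA a ha).1 (hnA a ha).2 H hH).2 x hx
        rwa [haH] at this)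
      (fun r hr => mem_normalizer_fintype fun x hx => by
        have := (hconjΩ r (hZW (hRZ hr)) (le_normalizer (hRZ hr)) H hH).2 x hx
        rwa [Coprime.conj_smul_eq_self_iff.mpr (mem_normalizer_fintype fun y hy => by
          rw [(commute_of_mem hZc (hRZ hr) (hH.1 hy)).eq, mul_inv_cancel_right]; exact hy)] at this)
      (fun r hr hc => mem_bot.mp ((Coprime.inf_centralizer_inf_commutator (A := zpowers a) (V := Z)
        ((zpowers_le.mpr ha).trans hZA) (h.cop_zpowers ha hZN)).le ⟨⟨hRZ hr, mem_cent_zpowers.mpr hc⟩, hr⟩))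
      hVa
      ((hZWc.coprime_dvd_left (card_dvd_of_le hRZ)).coprime_dvd_right (card_dvd_of_le (inf_le_left.trans hW1W)))
    exact hv1 (hVfix H hH z (hRZ hzR) hzH v0 hv0 (mem_centralizer_iff.mp (hcent hzR) v0 hv0).symm)
  have hLfix : ∀ H, (hH : H ∈ Ω) → ∀ a ∈ A, a ≠ 1 → a ∈ tr Z H hH.1 →
      ∃ z ∈ Z, z ∉ H ∧ a * z = z * a := by
    intro H hH a ha _ hat
    by_contra hcon
    push_neg at hcon
    refine hH.2.1.ne_one (relIndex_eq_one.mpr fun x hx => ?_)
    obtain ⟨c, hc, hac, u, hu, rfl⟩ := h.decomp hZN hZA ha hx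
    refine mul_mem ?_ (by by_contra hcH; exact hcon c hc hcH hac)
    refine (commutator_le.mpr fun y hy d hd => ?_) hu
    have h1 := (zpowers_le.mpr hat : zpowers a ≤ tr Z H hH.1) hd
    rw [commutatorElement_def]
    simpa [mul_assoc] using inv_mem (h1.2 y hy)
  have hVafix : ∀ H, (hH : H ∈ Ω) → ∀ a ∈ A, a ≠ 1 → a ∈ tr Z H hH.1 → ∀ v ∈ V H, a * v = v * a → v = 1 := by
    intro H hH a ha ha1 hat v hv hav
    obtain ⟨z, hz, hzH, hza⟩ := hLfix H hH a ha ha1 hat
    refine hVfix H hH z hz hzH v hv (h.commute_of_coprime ha ha1 (hZN hz) (hWN (hW1W hv.1)) hza hav ?_)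
    exact (hQWc.coprime_dvd_left (Subgroup.orderOf_dvd_natCard Q (hZQ hz))).coprime_dvd_right
      (Subgroup.orderOf_dvd_natCard W (hW1W hv.1))
  -- `T` centralises `Z`
  have hTZ : T ≤ centralizer (Z : Set Γ) := by
    refine h.gen hTN hAT fun b hb hb1 => ?_
    set T0 := T ⊓ centralizer ({b} : Set Γ) with hT0
    have hT0A : A ≤ normalizer (T0 : Set Γ) := h.norm_inf_cent hAT hb
    have hbT0 : ∀ x ∈ T0, b * x = x * b := fun x hx => (mem_centralizer_singleton_iff.mp hx.2).symm
    have hT0Z : ∀ g ∈ T0, g ∈ normalizer (W : Set Γ) ∧ g ∈ normalizer (Z : Set Γ) := fun g hg => ⟨hTW hg.1, hZT hg.1⟩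
    have htr : ∀ H, (hH : H ∈ Ω) → T0 ≤ tr Z H hH.1 := by
      intro H hH
      by_cases hbH : b ∈ tr Z H hH.1
      · intro g hg
        refine ⟨(hT0Z g hg).2, fun x hx => ?_⟩
        obtain ⟨c, hc, hbc, u, hu, rfl⟩ := h.decomp hZN hZA hb hx
        have hgc : g * c = c * g :=
          h.commute_of_coprime hb hb1 (hTN hg.1) (hZN hc) (hbT0 g hg) hbc
            (CN.coprime_orderOf_of_isPGroup hqt.symm hT hQ hg.1 (hZQ hc))
        have huH : ∀ y ∈ ⁅Z, zpowers b⁆, y ∈ H := by
          refine fun y hy => (commutator_le.mpr fun y hy d hd => ?_) hy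
          have h1 := (zpowers_le.mpr hbH : zpowers b ≤ tr Z H hH.1) hd
          rw [commutatorElement_def]
          simpa [mul_assoc] using inv_mem (h1.2 y hy)
        have hgu : g * u * g⁻¹ ∈ ⁅Z, zpowers b⁆ := by
          have hgn : g ∈ normalizer ((⁅Z, zpowers b⁆ : Subgroup Γ) : Set Γ) := by
            rw [← Coprime.conj_smul_eq_self_iff, Coprime.conj_smul_commutator,
              Coprime.conj_smul_eq_self_iff.mpr (hT0Z g hg).2,
              Coprime.conj_smul_eq_self_iff.mpr (mem_normalizer_fintype fun y hy => by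
                obtain ⟨i, rfl⟩ := mem_zpowers_iff.mp hy
                rw [((show Commute g b from (hbT0 g hg).symm).zpow_right i).eq, mul_inv_cancel_right]
                exact hy)]
          exact (mem_normalizer_iff.mp hgn u).mp hu
        have e : g * (u * c) * g⁻¹ * (u * c)⁻¹ = g * u * g⁻¹ * u⁻¹ :=
          calc g * (u * c) * g⁻¹ * (u * c)⁻¹ = g * u * g⁻¹ * (g * c * g⁻¹) * c⁻¹ * u⁻¹ := by group
            _ = _ := by rw [hgc]; group
        rw [e]
        exact mul_mem (huH _ hgu) (inv_mem (huH u hu))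
      · -- the set of hyperplanes on which `b` is not trivial
        have hΩb : ∀ g ∈ T0, ∀ H' ∈ Ω, (hH' : H' ≤ Z) → b ∉ tr Z H' hH' →
            MulAut.conj g • H' ∈ Ω ∧ ∀ hh : MulAut.conj g • H' ≤ Z, b ∉ tr Z (MulAut.conj g • H') hh := by
          intro g hg H' hH' hle hbn
          refine ⟨(hconjΩ g (hT0Z g hg).1 (hT0Z g hg).2 H' hH').1, fun hh hbm => hbn ⟨hZA hb, fun x hx => ?_⟩⟩
          have h1 := hbm.2 (g * x * g⁻¹) ((mem_normalizer_iff.mp (hT0Z g hg).2 x).mp hx)
          rw [Coprime.mem_conj_smul] at h1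
          have hc : Commute g b := (hbT0 g hg).symm
          have e : g⁻¹ * (b * (g * x * g⁻¹) * b⁻¹ * (g * x * g⁻¹)⁻¹) * g = b * x * b⁻¹ * x⁻¹ :=
            calc g⁻¹ * (b * (g * x * g⁻¹) * b⁻¹ * (g * x * g⁻¹)⁻¹) * g
                = (g⁻¹ * b * g) * x * (g⁻¹ * b * g)⁻¹ * x⁻¹ := by group
              _ = b * x * b⁻¹ * x⁻¹ := by rw [show g⁻¹ * b * g = b by rw [mul_assoc, ← hc.eq]; group]
          rwa [e] at h1
        have hcA : ∀ H', (hH' : H' ∈ Ω) → b ∉ tr Z H' hH'.1 → ∀ c ∈ A,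
            ∃ i : ℕ, MulAut.conj c • H' = MulAut.conj (b ^ i) • H' := by
          intro H' hH' hbn c hc
          obtain ⟨a, ha, ha1, hat⟩ := hLab H' hH'
          have hba : b ∉ zpowers a := fun hm => hbn ((zpowers_le.mpr hat) hm)
          have hn : zpowers b ≤ normalizer (zpowers a : Set Γ) := zpowers_le.mpr (mem_normalizer_fintype fun y hy => by
            rw [(commute_of_mem h.elem.1 hb ((zpowers_le.mpr ha) hy)).eq, mul_inv_cancel_right]; exact hy)
          obtain ⟨u, hu, y, hy, rfl⟩ := (Coprime.mem_sup_of_le_normalizer hn).mp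
            ((h.span ha ha1 hb hba).symm ▸ hc)
          obtain ⟨i, rfl⟩ := mem_powers_iff_mem_zpowers.mpr hy
          refine ⟨i, ?_⟩
          rw [(commute_of_mem h.elem.1 ((zpowers_le.mpr ha) hu) (pow_mem hb i)).eq, map_mul, mul_smul,
            Coprime.conj_smul_eq_self_iff.mpr (normalizes_of_tr ((zpowers_le.mpr hat) hu))]
        -- every element of `T0` acts on each orbit of `b`
        let P : Subgroup Γ :=
          let S : Submonoid Γ :=
            { carrier := {g | g ∈ T0 ∧ ∀ H', (hH' : H' ∈ Ω) → b ∉ tr Z H' hH'.1 →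
                ∃ i : ℕ, MulAut.conj g • H' = MulAut.conj (b ^ i) • H'}
              one_mem' := ⟨one_mem _, fun H' _ _ => ⟨0, by rw [pow_zero]⟩⟩
              mul_mem' := by
                rintro g k ⟨hg, hg'⟩ ⟨hk, hk'⟩
                refine ⟨mul_mem hg hk, fun H' hH' hbn => ?_⟩
                obtain ⟨i, hi⟩ := hk' H' hH' hbn
                obtain ⟨j, hj⟩ := hg' H' hH' hbn
                refine ⟨i + j, ?_⟩
                have hc : Commute g (b ^ i) := (show Commute g b from (hbT0 g hg).symm).pow_right i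
                rw [map_mul, mul_smul, hi, ← mul_smul, ← map_mul, hc.eq, map_mul, mul_smul, hj, ← mul_smul, ← map_mul,
                  ← pow_add] }
          { S with
            inv_mem' := fun {g} hg => by
              have h1 : g⁻¹ = g ^ (orderOf g - 1) := by
                rw [inv_eq_iff_mul_eq_one, ← pow_succ', Nat.sub_add_cancel (orderOf_pos g), pow_orderOf_eq_one]
              rw [h1]
              exact pow_mem (S := S) hg _ }
        obtain ⟨a, ha, ha1, hat⟩ := hLab H hH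
        have hab : a ∉ zpowers b := fun hm => hbH (h.eq_one_of_mem_powers hb hm ha1 hat)
        have hTP : T0 ≤ P := by
          refine h.le_of_commutators (inf_le_left.trans hTN) hT0A hb hb1 ha hab hbT0 fun x hx c hc => ?_
          have hcA' : c ∈ A := (zpowers_le.mpr ha) hc
          have hxT : x * c * x⁻¹ * c⁻¹ ∈ T0 := by
            rw [show x * c * x⁻¹ * c⁻¹ = x * (c * x⁻¹ * c⁻¹) by group]
            exact mul_mem hx ((le_normalizer_iff.mp hT0A) c hcA' x⁻¹ (inv_mem hx))
          refine ⟨hxT, fun H' hH' hbn => ?_⟩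
          obtain ⟨i, hi⟩ := hcA H' hH' hbn c⁻¹ (inv_mem hcA')
          obtain ⟨hH'', hbn''⟩ := hΩb x⁻¹ (inv_mem hx) H' hH' hH'.1 hbn
          obtain ⟨j, hj⟩ := hcA _ hH'' (hbn'' hH''.1) c hcA'
          refine ⟨i + j, ?_⟩
          have hc1 : Commute x⁻¹ (b ^ i) := ((show Commute x b from (hbT0 x hx).symm).inv_left).pow_right i
          have hc2 : Commute c (b ^ i) := (commute_of_mem h.elem.1 hcA' hb).pow_right i
          have hc3 : Commute x (b ^ (i + j)) := (show Commute x b from (hbT0 x hx).symm).pow_right _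
          calc MulAut.conj (x * c * x⁻¹ * c⁻¹) • H'
              = MulAut.conj (x * c * x⁻¹) • MulAut.conj c⁻¹ • H' := by rw [map_mul, mul_smul]
            _ = MulAut.conj (x * c * x⁻¹ * b ^ i) • H' := by rw [hi, ← mul_smul, ← map_mul]
            _ = MulAut.conj (x * b ^ i) • MulAut.conj c • MulAut.conj x⁻¹ • H' := by
              rw [← mul_smul, ← map_mul, ← mul_smul, ← map_mul,
                show x * c * x⁻¹ * b ^ i = x * b ^ i * c * x⁻¹ by
                  rw [mul_assoc (x * c), hc1.eq, ← mul_assoc, mul_assoc x c, hc2.eq, ← mul_assoc x]]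
            _ = MulAut.conj (x * b ^ (i + j) * x⁻¹) • H' := by
              rw [hj, ← mul_smul, ← map_mul, ← mul_smul, ← map_mul, pow_add]
              congr 2; group
            _ = MulAut.conj (b ^ (i + j)) • H' := by rw [hc3.eq, mul_inv_cancel_right]
        have hfixH : ∀ g ∈ T0, g ∈ normalizer (H : Set Γ) := by
          intro g hg
          obtain ⟨i, hi⟩ := (hTP hg).2 H hH hbH
          rw [← Coprime.conj_smul_eq_self_iff, hi]
          by_cases hbn : b ∈ normalizer (H : Set Γ)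
          · exact Coprime.conj_smul_eq_self_iff.mpr (pow_mem hbn i)
          have hk : ∀ k : ℕ, MulAut.conj (g ^ k) • H = MulAut.conj (b ^ (i * k)) • H := by
            intro k
            induction k with
            | zero => simp
            | succ k ih =>
              rw [pow_succ', map_mul, mul_smul, ih, ← mul_smul, ← map_mul,
                ((show Commute g b from (hbT0 g hg).symm).pow_right _).eq, map_mul, mul_smul, hi, ← mul_smul, ← map_mul,
                ← pow_add, Nat.mul_succ]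
          have h1 := hk (orderOf g)
          rw [pow_orderOf_eq_one, map_one, one_smul] at h1
          have h2 : b ^ (i * orderOf g) = 1 := by
            by_contra hne
            exact hbn (h.eq_one_of_mem_powers hb (pow_mem (mem_zpowers b) _) hne
              (Coprime.conj_smul_eq_self_iff.mp h1.symm))
          have h3 : p ∣ i * orderOf g := h.orderOf_eq hb hb1 ▸ orderOf_dvd_of_pow_eq_one h2
          have h4 : p ∣ i := ((h.cop.coprime_dvd_left (Subgroup.orderOf_dvd_natCard N (hTN hg.1))).symm).dvd_of_dvd_mul_right h3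
          have h5 : b ^ i = 1 := orderOf_dvd_iff_pow_eq_one.mp ((h.orderOf_eq hb hb1).symm ▸ h4)
          rw [h5, map_one, one_smul]
        refine h.le_of_commutators (inf_le_left.trans hTN) hT0A hb hb1 ha hab hbT0 fun x hx c hc => ?_
        have hct : c ∈ tr Z H hH.1 := (zpowers_le.mpr hat) hc
        exact mul_mem (conj_mem_tr (hT0Z x hx).2 (hfixH x hx) hct) (inv_mem hct)
    intro g hg
    refine mem_centralizer_iff.mpr fun z hz => ?_
    have hzQ : ∀ H, H ∈ Ω → g * z * g⁻¹ * z⁻¹ ∈ H := fun H hH => ((htr H hH) hg).2 z hz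
    set d := g * z * g⁻¹ * z⁻¹ with hd
    have hdZ : d ∈ Z := mul_mem ((mem_normalizer_iff.mp (hT0Z g hg).2 z).mp hz) (inv_mem hz)
    have hdW1 : W1 ≤ centralizer ({d} : Set Γ) := hcover _ fun H hH v hv =>
      mem_centralizer_singleton_iff.mpr (mem_centralizer_iff.mp hv.2 d (hzQ H hH)).symm
    have hdW : d ∈ centralizer (W : Set Γ) := by
      have hdn : zpowers d ≤ normalizer (W : Set Γ) := (zpowers_le.mpr hdZ).trans hZW
      refine Coprime.le_centralizer_of_commutator_commutator_eq_bot hdn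
        (hZWc.coprime_dvd_left (card_dvd_of_le (zpowers_le.mpr hdZ)))
        (Or.inl (Coprime.isSolvable_of_isMulCommutative _)) ?_ (mem_zpowers d)
      refine le_bot_iff.mp (le_trans (commutator_mono (commutator_mono le_rfl (zpowers_le.mpr hdZ)) le_rfl)
        (le_of_eq (Coprime.commutator_eq_bot_iff_le_centralizer'.mpr (zpowers_le.mpr ?_))))
      exact mem_centralizer_iff.mpr fun w hw => mem_centralizer_singleton_iff.mp (hdW1 hw)
    have hd1 : d = 1 := mem_bot.mp (hfaith.le ⟨hZQ hdZ, hdW⟩)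
    exact (mul_inv_eq_iff_eq_mul.mp (mul_inv_eq_one.mp (hd ▸ hd1))).symm
  -- `⁅Q, T⁆` centralises each piece
  have hpiece : ∀ H ∈ Ω, ∀ g ∈ T, ∀ x ∈ Q, g * x * g⁻¹ * x⁻¹ ∈ centralizer (V H : Set Γ) := by
    intro H hH
    obtain ⟨a, ha, ha1, hat⟩ := hLab H hH
    have hVa := hVafix H hH a ha ha1 hat
    haveI : IsMulCommutative (V H : Subgroup Γ) :=
      ⟨⟨fun x y => Subtype.ext (commute_of_mem hW (hW1W x.2.1) (hW1W y.2.1)).eq⟩⟩
    have hnV : ∀ g : Γ, g ∈ normalizer (W : Set Γ) → g ∈ normalizer (Z : Set Γ) → g ∈ normalizer (H : Set Γ) →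
        g ∈ normalizer ((V H : Subgroup Γ) : Set Γ) := fun g hgW hgZ hgH =>
      mem_normalizer_fintype fun v hv => by
        have := (hconjΩ g hgW hgZ H hH).2 v hv
        rwa [Coprime.conj_smul_eq_self_iff.mpr hgH] at this
    have hcH : ∀ g : Γ, (∀ z ∈ Z, g * z = z * g) → g ∈ normalizer (H : Set Γ) := fun g hg =>
      mem_normalizer_fintype fun y hy => by rw [hg y (hH.1 hy), mul_inv_cancel_right]; exact hy
    have hQV : Q ≤ normalizer ((V H : Subgroup Γ) : Set Γ) := fun x hx =>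
      hnV x (hQW hx) (hnZ x (le_normalizer hx)) (hcH x fun z hz => mem_centralizer_iff.mp hz.2.1 x hx)
    have hTV : T ≤ normalizer ((V H : Subgroup Γ) : Set Γ) := fun x hx =>
      hnV x (hTW hx) (hZT hx) (hcH x fun z hz => (mem_centralizer_iff.mp (hTZ hx) z hz).symm)
    have haV : a ∈ normalizer ((V H : Subgroup Γ) : Set Γ) := hnV a (hAW ha) (hZA ha) (normalizes_of_tr hat)
    set Q1 := Q ⊓ centralizer (V H : Set Γ) with hQ1
    have hnQ1 : ∀ g : Γ, g ∈ normalizer (Q : Set Γ) → g ∈ normalizer ((V H : Subgroup Γ) : Set Γ) →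
        g ∈ normalizer (Q1 : Set Γ) := by
      intro g hgQ hgV
      refine mem_normalizer_fintype fun x hx => ⟨(mem_normalizer_iff.mp hgQ x).mp hx.1,
        mem_centralizer_iff.mpr fun y hy => ?_⟩
      have hy' : g⁻¹ * y * g ∈ V H := by simpa using (mem_normalizer_iff.mp (inv_mem hgV) y).mp hy
      calc y * (g * x * g⁻¹) = g * ((g⁻¹ * y * g) * x) * g⁻¹ := by group
        _ = g * (x * (g⁻¹ * y * g)) * g⁻¹ := by rw [mem_centralizer_iff.mp hx.2 _ hy']
        _ = g * x * g⁻¹ * y := by group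
    have hQ1n : ∀ x ∈ Q, x ∈ normalizer (Q1 : Set Γ) := fun x hx => hnQ1 x (le_normalizer hx) (hQV hx)
    have hgenQ : Q ≤ Q1 ⊔ (Q ⊓ centralizer ({a} : Set Γ)) := h.gen hQN hAQ fun c hc hc1 => by
      by_cases hca : c ∈ zpowers a
      · intro x hx
        refine mem_sup_right ⟨hx.1, ?_⟩
        exact mem_centralizer_singleton_iff.mpr (mem_centralizer_singleton_iff.mp
          ((zpowers_le.mpr (h.eq_one_of_mem_powers ha hca hc1 (H := centralizer ({x} : Set Γ))
            (mem_centralizer_singleton_iff.mpr (mem_centralizer_singleton_iff.mp hx.2).symm)) :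
              zpowers a ≤ centralizer ({x} : Set Γ)) (mem_zpowers a))).symm
      refine le_sup_of_le_left (le_inf inf_le_left ?_)
      refine frobenius hp (h.elem.2 a ha) (h.norm_inf_cent hAQ hc ha) haV (inf_le_left.trans hQV)
        (fun r hr hra => h.fix_both hc hc1 ha (fun hm => hca ?_) (hQN hr.1)
          (mem_centralizer_singleton_iff.mp hr.2).symm hra) hVa
        ((hQWc.coprime_dvd_left (card_dvd_of_le inf_le_left)).coprime_dvd_right
          (card_dvd_of_le (inf_le_left.trans hW1W)))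
      have hle : zpowers a ≤ zpowers c := zpowers_le.mpr hm
      rw [eq_of_le_of_card_ge hle (by rw [Nat.card_zpowers, Nat.card_zpowers, h.orderOf_eq ha ha1, h.orderOf_eq hc hc1])]
      exact mem_zpowers c
    have hQdec : ∀ x ∈ Q, ∃ u ∈ Q1, ∃ v ∈ Q, a * v = v * a ∧ x = u * v := by
      intro x hx
      obtain ⟨u, hu, v, hv, e⟩ := (Coprime.mem_sup_of_le_normalizer
        (fun y hy => hQ1n y hy.1 : Q ⊓ centralizer ({a} : Set Γ) ≤ normalizer (Q1 : Set Γ))).mp (hgenQ hx)
      exact ⟨u, hu, v, hv.1, (mem_centralizer_singleton_iff.mp hv.2).symm, e.symm⟩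
    have key : ∀ g : Γ, g ∈ normalizer (Q : Set Γ) → g ∈ normalizer (Q1 : Set Γ) →
        (∀ v ∈ Q, a * v = v * a → g * v = v * g) → g ∈ tr Q Q1 inf_le_left := by
      intro g hgQ hg1 hgv
      refine ⟨hgQ, fun x hx => ?_⟩
      obtain ⟨u, hu, v, hv, hav, rfl⟩ := hQdec x hx
      have e : g * (u * v) * g⁻¹ * (u * v)⁻¹ = g * u * g⁻¹ * u⁻¹ :=
        calc g * (u * v) * g⁻¹ * (u * v)⁻¹ = g * u * g⁻¹ * (g * v * g⁻¹) * v⁻¹ * u⁻¹ := by group
          _ = _ := by rw [hgv v hv hav]; group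
      rw [e]
      exact mul_mem ((mem_normalizer_iff.mp hg1 u).mp hu) (inv_mem hu)
    have hat' : a ∈ tr Q Q1 inf_le_left :=
      key a (hAQ ha) (hnQ1 a (hAQ ha) haV) fun v _ hv => hv
    have hTtr : T ≤ tr Q Q1 inf_le_left := h.gen hTN hAT fun c hc hc1 => by
      by_cases hca : c ∈ zpowers a
      · intro g hg
        refine key g (hTQ hg.1) (hnQ1 g (hTQ hg.1) (hTV hg.1)) fun v hv hav => ?_
        have hga : a * g = g * a := mem_centralizer_singleton_iff.mp
          (h.eq_one_of_mem_powers ha hca hc1 (H := centralizer ({g} : Set Γ))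
            (mem_centralizer_singleton_iff.mpr (mem_centralizer_singleton_iff.mp hg.2).symm))
        exact h.commute_of_coprime ha ha1 (hTN hg.1) (hQN hv) hga hav
          (CN.coprime_orderOf_of_isPGroup hqt.symm hT hQ hg.1 hv)
      · refine h.le_of_commutators (inf_le_left.trans hTN) (h.norm_inf_cent hAT hc) hc hc1 ha (fun hm => hca ?_)
          (fun x hx => (mem_centralizer_singleton_iff.mp hx.2).symm) fun x hx d hd => ?_
        · have hle : zpowers a ≤ zpowers c := zpowers_le.mpr hm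
          rw [eq_of_le_of_card_ge hle (by rw [Nat.card_zpowers, Nat.card_zpowers, h.orderOf_eq ha ha1, h.orderOf_eq hc hc1])]
          exact mem_zpowers c
        · have hdt : d ∈ tr Q Q1 inf_le_left := (zpowers_le.mpr hat') hd
          exact mul_mem (conj_mem_tr (hTQ hx.1) (hnQ1 x (hTQ hx.1) (hTV hx.1)) hdt) (inv_mem hdt)
    exact fun g hg x hx => ((hTtr hg).2 x hx).2
  -- conclusion
  have hD : ⁅T, Q⁆ ≤ Q := by
    rw [commutator_comm]; exact Coprime.commutator_le_of_le_normalizer hTQ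
  have hDW1 : ⁅T, Q⁆ ≤ centralizer (W1 : Set Γ) := by
    refine commutator_le.mpr fun g hg x hx => ?_
    rw [commutatorElement_def]
    refine mem_centralizer_iff.mpr fun w hw => ?_
    have h1 : W1 ≤ centralizer ({g * x * g⁻¹ * x⁻¹} : Set Γ) := hcover _ fun H hH v hv =>
      mem_centralizer_singleton_iff.mpr (mem_centralizer_iff.mp (hpiece H hH g hg x hx) v hv)
    exact mem_centralizer_singleton_iff.mp (h1 hw)
  rw [Subgroup.le_centralizer_iff, ← Coprime.commutator_eq_bot_iff_le_centralizer']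
  by_contra hne
  haveI : Group.IsNilpotent Q := hQ.isNilpotent
  have hDn : ((⁅T, Q⁆ : Subgroup Γ).subgroupOf Q).Normal :=
    (normal_subgroupOf_iff_le_normalizer hD).mpr (normalizer_commutator_ge_right T Q)
  have hDne : (⁅T, Q⁆ : Subgroup Γ).subgroupOf Q ≠ ⊥ := fun e =>
    hne (le_bot_iff.mp fun x hx => by
      have h1 : (⟨x, hD hx⟩ : Q) ∈ (⁅T, Q⁆ : Subgroup Γ).subgroupOf Q := hx
      rw [e, mem_bot] at h1
      rw [mem_bot]
      exact congrArg Subtype.val h1)
  have h2 := OddLocal.Coprime.inf_center_ne_bot hDn hDne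
  haveI : Nontrivial ↥((⁅T, Q⁆ : Subgroup Γ).subgroupOf Q ⊓ center Q) := (nontrivial_iff_ne_bot _).mpr h2
  obtain ⟨k, hk⟩ := (hQ.to_subgroup ((⁅T, Q⁆ : Subgroup Γ).subgroupOf Q ⊓ center Q)).exists_card_eq
  obtain ⟨z, hz⟩ : ∃ z : ↥((⁅T, Q⁆ : Subgroup Γ).subgroupOf Q ⊓ center Q), orderOf z = q :=
    exists_prime_orderOf_dvd_card' q (hk ▸ dvd_pow_self q (by
      rintro rfl; rw [pow_zero] at hk; exact Finite.one_lt_card.ne' hk))
  have hzo : orderOf ((z : Q) : Γ) = q := by rw [Subgroup.orderOf_coe, Subgroup.orderOf_coe, hz]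
  have hzZ : ((z : Q) : Γ) ∈ Z := ⟨(z : Q).2,
    mem_centralizer_iff.mpr fun y hy => congrArg Subtype.val (mem_center_iff.mp z.2.2 ⟨y, hy⟩),
    hzo ▸ pow_orderOf_eq_one _⟩
  have hzW : ((z : Q) : Γ) ∈ centralizer (W : Set Γ) := by
    refine Coprime.le_centralizer_of_commutator_commutator_eq_bot ((zpowers_le.mpr hzZ).trans hZW)
      (hZWc.coprime_dvd_left (card_dvd_of_le (zpowers_le.mpr hzZ)))
      (Or.inl (Coprime.isSolvable_of_isMulCommutative _)) ?_ (mem_zpowers _)
    exact le_bot_iff.mp (le_trans (commutator_mono (commutator_mono le_rfl (zpowers_le.mpr hzZ)) le_rfl)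
      (le_of_eq (Coprime.commutator_eq_bot_iff_le_centralizer'.mpr (zpowers_le.mpr (hDW1 z.2.1)))))
  have h3 := mem_bot.mp (hfaith.le ⟨(z : Q).2, hzW⟩)
  rw [h3, orderOf_one] at hzo
  exact hq.ne_one hzo.symm

end Cfsg.Agent.GenA.Ward
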