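import Mathlib

/-!
# Fixed points of a `2`-group through the weights of a normal abelian subgroup of odd order
-/

namespace Cfsg.Agent.GenA.WeightFixed

open Module

/-- An algebraic closure of the field with two elements. -/
abbrev K : Type := AlgebraicClosure (ZMod 2)

variable {S : Type*} [Group S] {W : Type*} [AddCommGroup W] [Module K W]
  (A : Subgroup S) [A.Normal] (σ : Representation K S W)

/-- Conjugation action on weights. -/
noncomputable def tw (g : S) (μ : A →* Kˣ) : A →* Kˣ :=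
  μ.comp (MulAut.conjNormal g⁻¹ : A ≃* A).toMonoidHom

theorem tw_apply (g : S) (μ : A →* Kˣ) (a : A) :
    tw A g μ a = μ (MulAut.conjNormal g⁻¹ a) := rfl

theorem tw_one (μ : A →* Kˣ) : tw A 1 μ = μ := by
  ext a; simp [tw_apply]

theorem tw_mul (g h : S) (μ : A →* Kˣ) : tw A (g * h) μ = tw A g (tw A h μ) := by
  ext a; simp [tw_apply, map_mul, mul_inv_rev]

theorem tw_inv_tw (g : S) (μ : A →* Kˣ) : tw A g⁻¹ (tw A g μ) = μ := by
  rw [← tw_mul, inv_mul_cancel, tw_one]

theorem tw_tw_inv (g : S) (μ : A →* Kˣ) : tw A g (tw A g⁻¹ μ) = μ := by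
  rw [← tw_mul, mul_inv_cancel, tw_one]

theorem tw_pow_fix {g : S} {μ : A →* Kˣ} (h : tw A g μ = μ) : ∀ n : ℕ, tw A (g ^ n) μ = μ
  | 0 => by rw [pow_zero, tw_one]
  | n + 1 => by rw [pow_succ, tw_mul, h, tw_pow_fix h n]

theorem tw_trivial (g : S) : tw A g 1 = 1 := rfl

variable [Fintype A]

/-- Projection on the weight space of `μ`. -/
noncomputable def proj (μ : A →* Kˣ) : W →ₗ[K] W := ∑ a : A, ((μ a⁻¹ : Kˣ) : K) • σ a

theorem proj_apply (μ : A →* Kˣ) (w : W) :
    proj A σ μ w = ∑ a : A, ((μ a⁻¹ : Kˣ) : K) • σ a w := by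
  simp [proj, LinearMap.sum_apply]

theorem apply_proj (μ : A →* Kˣ) (b : A) (w : W) :
    σ b (proj A σ μ w) = ((μ b : Kˣ) : K) • proj A σ μ w := by
  rw [proj_apply, map_sum, Finset.smul_sum]
  refine Fintype.sum_equiv (Equiv.mulLeft b) _ _ fun a => ?_
  rw [map_smul, Equiv.coe_mulLeft, smul_smul, ← Module.End.mul_apply, ← map_mul,
    Subgroup.coe_mul]
  congr 1
  rw [← Units.val_mul, mul_inv_rev, map_mul μ, map_inv μ b, mul_comm (μ b), inv_mul_cancel_right]

theorem apply_proj_twist (g : S) (μ : A →* Kˣ) (w : W) :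
    σ g (proj A σ μ w) = proj A σ (tw A g μ) (σ g w) := by
  rw [proj_apply, proj_apply, map_sum]
  refine Fintype.sum_equiv (MulAut.conjNormal g : A ≃* A).toEquiv _ _ fun a => ?_
  rw [map_smul, MulEquiv.toEquiv_eq_coe, MulEquiv.coe_toEquiv, tw_apply]
  congr 1
  · rw [show MulAut.conjNormal g⁻¹ ((MulAut.conjNormal g a)⁻¹) = a⁻¹ from
      Subtype.ext (by simp [mul_assoc])]
  · rw [← Module.End.mul_apply, ← Module.End.mul_apply, ← map_mul, ← map_mul,
      MulAut.conjNormal_apply, inv_mul_cancel_right]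

theorem card_cast (hodd : Odd (Nat.card A)) : (Nat.card A : K) = 1 := by
  haveI : CharP K 2 := charP_of_injective_algebraMap (algebraMap (ZMod 2) K).injective 2
  rw [CharP.cast_eq_mod K 2, Nat.odd_iff.1 hodd, Nat.cast_one]

theorem sum_proj (hA : ∀ a b : A, a * b = b * a) (hodd : Odd (Nat.card A))
    [Fintype (A →* Kˣ)] (w : W) : ∑ μ : A →* Kˣ, proj A σ μ w = w := by
  letI : CommGroup A := { (inferInstance : Group A) with mul_comm := hA }
  haveI : CharP K 2 := charP_of_injective_algebraMap (algebraMap (ZMod 2) K).injective 2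
  haveI : NeZero ((Monoid.exponent A : ℕ) : K) := ⟨by
    intro h
    have h2 : 2 ∣ Monoid.exponent A := (CharP.cast_eq_zero_iff K 2 _).1 h
    exact Nat.not_even_iff_odd.2 hodd (even_iff_two_dvd.2 (h2.trans Group.exponent_dvd_nat_card))⟩
  simp only [proj_apply]
  rw [Finset.sum_comm]
  simp_rw [← Finset.sum_smul]
  rw [Finset.sum_eq_single 1]
  · have hc : Nat.card (A →* Kˣ) = Nat.card A :=
      CommGroup.card_monoidHom_of_hasEnoughRootsOfUnity A K
    simp only [inv_one, map_one, Units.val_one, Finset.sum_const, Finset.card_univ, nsmul_eq_mul,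
      mul_one, OneMemClass.coe_one, Module.End.one_apply]
    rw [← Nat.card_eq_fintype_card, hc, card_cast A hodd, one_smul]
  · intro a _ ha
    obtain ⟨φ, hφ⟩ := CommGroup.exists_apply_ne_one_of_hasEnoughRootsOfUnity A K
      (inv_ne_one.2 ha)
    have h1 : ((φ a⁻¹ : Kˣ) : K) * ∑ μ : A →* Kˣ, ((μ a⁻¹ : Kˣ) : K)
        = ∑ μ : A →* Kˣ, ((μ a⁻¹ : Kˣ) : K) := by
      rw [Finset.mul_sum]
      exact Fintype.sum_equiv (Equiv.mulLeft φ) _ _ fun μ => by simp
    have h2 : ∑ μ : A →* Kˣ, ((μ a⁻¹ : Kˣ) : K) = 0 := by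
      by_contra h
      exact hφ (Units.ext ((mul_eq_right₀ h).1 h1))
    rw [h2, zero_smul]
  · simp

theorem proj_proj_ne (hodd : Odd (Nat.card A)) {μ ν : A →* Kˣ} (h : μ ≠ ν) (w : W) :
    proj A σ ν (proj A σ μ w) = 0 := by
  rw [proj_apply]
  simp_rw [apply_proj, smul_smul, ← Finset.sum_smul]
  have h2 : ∑ a : A, ((ν a⁻¹ : Kˣ) : K) * ((μ a : Kˣ) : K) = 0 := by
    obtain ⟨b, hb⟩ : ∃ b, μ b ≠ ν b := by
      by_contra hh
      push Not at hh
      exact h (MonoidHom.ext hh)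
    by_contra hne
    have h1 : (((ν b)⁻¹ * μ b : Kˣ) : K) * ∑ a : A, ((ν a⁻¹ : Kˣ) : K) * ((μ a : Kˣ) : K)
        = ∑ a : A, ((ν a⁻¹ : Kˣ) : K) * ((μ a : Kˣ) : K) := by
      rw [Finset.mul_sum]
      refine Fintype.sum_equiv (Equiv.mulLeft b) _ _ fun a => ?_
      simp only [Equiv.coe_mulLeft, ← Units.val_mul, map_mul, mul_inv_rev, map_inv]
      congr 1
      rw [mul_comm (ν a)⁻¹ (ν b)⁻¹]
      exact mul_mul_mul_comm _ _ _ _
    have := Units.ext (((mul_eq_right₀ hne).1 h1).trans Units.val_one.symm)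
    rw [inv_mul_eq_one] at this
    exact hb this.symm
  rw [h2, zero_smul]

variable [Finite S]

/-- The orbit of a weight under a subgroup. -/
def orb (P : Subgroup S) (μ : A →* Kˣ) : Set (A →* Kˣ) := {ν | ∃ g ∈ P, tw A g μ = ν}

theorem orb_stable {P : Subgroup S} {μ ν : A →* Kˣ} (h : ν ∈ orb A P μ) {g : S} (hg : g ∈ P) :
    tw A g ν ∈ orb A P μ := by
  obtain ⟨k, hk, rfl⟩ := h
  exact ⟨g * k, mul_mem hg hk, tw_mul A g k μ⟩

theorem orb_self (P : Subgroup S) (μ : A →* Kˣ) : μ ∈ orb A P μ := ⟨1, one_mem _, tw_one A μ⟩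

theorem orb_symm {P : Subgroup S} {μ ν : A →* Kˣ} (h : ν ∈ orb A P μ) : μ ∈ orb A P ν := by
  obtain ⟨k, hk, rfl⟩ := h
  exact ⟨k⁻¹, inv_mem hk, tw_inv_tw A k μ⟩

theorem orb_trans {P : Subgroup S} {μ ν ξ : A →* Kˣ} (h : ν ∈ orb A P μ) (h' : ξ ∈ orb A P ν) :
    ξ ∈ orb A P μ := by
  obtain ⟨k, hk, rfl⟩ := h'
  exact orb_stable A h hk

/-- A fixed vector supported by one orbit. -/
theorem exists_fixed (hA : ∀ a b : A, a * b = b * a) (hodd : Odd (Nat.card A))
    {P : Subgroup S} (hP : IsPGroup 2 P) {μ : A →* Kˣ} {w : W} (hw : proj A σ μ w ≠ 0) :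
    ∃ v : W, v ≠ 0 ∧ (∀ g ∈ P, σ g v = v) ∧
      (∀ ν, ν ∉ orb A P μ → proj A σ ν v = 0) ∧ ∀ ν ∈ orb A P μ, proj A σ ν v ≠ 0 := by
  classical
  haveI : Fintype P := Fintype.ofFinite P
  set v0 := proj A σ μ w with hv0
  let f : (P → ZMod 2) →+ W := AddMonoidHom.mk'
    (fun c => ∑ g : P, (algebraMap (ZMod 2) K (c g)) • σ g v0)
    (fun c d => by simp [add_smul, Finset.sum_add_distrib])
  let Y : AddSubgroup W := f.range
  haveI : Finite Y := Set.finite_range f |>.to_subtype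
  have hstab : ∀ g : P, ∀ y ∈ Y, σ g y ∈ Y := by
    rintro g y ⟨c, rfl⟩
    refine ⟨fun h => c (g⁻¹ * h), ?_⟩
    show ∑ h : P, (algebraMap (ZMod 2) K (c (g⁻¹ * h))) • σ h v0
      = σ g (∑ h : P, (algebraMap (ZMod 2) K (c h)) • σ h v0)
    rw [map_sum]
    refine (Fintype.sum_equiv (Equiv.mulLeft g) _ _ fun h => ?_).symm
    rw [Equiv.coe_mulLeft, inv_mul_cancel_left, map_smul, ← Module.End.mul_apply, ← map_mul,
      ← Subgroup.coe_mul]
  letI : MulAction P Y :=
    { smul := fun g y => ⟨σ g y, hstab g y y.2⟩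
      one_smul := fun y => Subtype.ext (by show σ (1 : P) (y : W) = y; simp)
      mul_smul := fun g h y => Subtype.ext (by
        show σ (g * h : P) (y : W) = σ g (σ h y)
        rw [Subgroup.coe_mul, map_mul, Module.End.mul_apply]) }
  have hv0Y : v0 ∈ Y := ⟨Pi.single 1 1, by
    show ∑ g : P, (algebraMap (ZMod 2) K (Pi.single (M := fun _ => ZMod 2) 1 1 g)) • σ g v0 = v0
    rw [Finset.sum_eq_single 1]
    · simp
    · intro g _ hg; simp [hg]
    · simp⟩
  haveI : CharP K 2 := charP_of_injective_algebraMap (algebraMap (ZMod 2) K).injective 2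
  have h2 : (2 : ℕ) ∣ Nat.card Y := by
    have h : addOrderOf (⟨v0, hv0Y⟩ : Y) = 2 := by
      apply addOrderOf_eq_prime
      · refine Subtype.ext ?_
        show (2 : ℕ) • v0 = 0
        rw [← Nat.cast_smul_eq_nsmul K, CharP.cast_eq_zero, zero_smul]
      · exact fun h => hw (congrArg Subtype.val h)
    exact h ▸ addOrderOf_dvd_natCard _
  have h0 : (0 : Y) ∈ MulAction.fixedPoints P Y := fun g => Subtype.ext (map_zero (σ g))
  haveI := Fact.mk Nat.prime_two
  obtain ⟨y, hy, hy0⟩ := hP.exists_fixed_point_of_prime_dvd_card_of_fixed_point Y h2 h0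
  have hfix : ∀ g ∈ P, σ g (y : W) = y := fun g hg => congrArg Subtype.val (hy ⟨g, hg⟩)
  have hsupp : ∀ ν, ν ∉ orb A P μ → proj A σ ν (y : W) = 0 := by
    intro ν hν
    obtain ⟨c, hc⟩ := y.2
    rw [← hc]
    show proj A σ ν (∑ g : P, (algebraMap (ZMod 2) K (c g)) • σ g v0) = 0
    rw [map_sum]
    refine Finset.sum_eq_zero fun g _ => ?_
    rw [map_smul, hv0, apply_proj_twist, proj_proj_ne A σ hodd, smul_zero]
    exact fun h => hν ⟨g, g.2, h⟩
  have hyne : (y : W) ≠ 0 := fun h => hy0 (Subtype.ext h.symm)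
  refine ⟨y, hyne, hfix, hsupp, fun ν hν hν0 => hyne ?_⟩
  haveI : Fintype (A →* Kˣ) := Fintype.ofFinite _
  rw [← sum_proj A σ hA hodd (y : W)]
  refine Finset.sum_eq_zero fun ξ _ => ?_
  by_cases hξ : ξ ∈ orb A P μ
  · obtain ⟨g, hg, rfl⟩ := orb_trans A (orb_symm A hν) hξ
    have h := apply_proj_twist A σ g ν (y : W)
    rw [hν0, map_zero, hfix g hg] at h
    exact h.symm
  · exact hsupp ξ hξ

theorem not_orb_invariant {P : Subgroup S} (hP : IsPGroup 2 P) {q : ℕ} [Fact q.Prime] (hq : q ≠ 2)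
    {x : S} (hx : x ^ q = 1) (μ : A →* Kˣ) (hfree : ∀ ν ∈ orb A P μ, tw A x ν ≠ ν) :
    ∃ ν ∈ orb A P μ, tw A x ν ∉ orb A P μ := by
  classical
  by_contra hcon
  push Not at hcon
  letI : MulAction P (A →* Kˣ) :=
    { smul := fun g ν => tw A g ν
      one_smul := fun ν => tw_one A ν
      mul_smul := fun g h ν => tw_mul A g h ν }
  have horb : orb A P μ = MulAction.orbit P μ := by
    ext ν
    exact ⟨fun ⟨g, hg, h⟩ => ⟨⟨g, hg⟩, h⟩, fun ⟨g, h⟩ => ⟨g, g.2, h⟩⟩
  obtain ⟨k, hk⟩ := IsPGroup.iff_card.1 hP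
  haveI : Finite (orb A P μ) := Set.Finite.to_subtype (horb ▸ Set.finite_range _)
  have hcard : Nat.card (orb A P μ) ∣ 2 ^ k := by
    rw [horb, ← hk, Nat.card_congr (MulAction.orbitEquivQuotientStabilizer P μ)]
    exact Subgroup.card_quotient_dvd_card _
  let C := Subgroup.zpowers x
  have hC : IsPGroup q C := IsPGroup.of_card (n := (orderOf x).factorization q) (by
    rw [Nat.card_zpowers]
    rcases (Nat.dvd_prime (Fact.out : q.Prime)).1 (orderOf_dvd_of_pow_eq_one hx) with h | h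
    · rw [h]; simp
    · rw [h, (Fact.out : q.Prime).factorization_self, pow_one])
  have hmem : ∀ g ∈ C, ∀ ν ∈ orb A P μ, tw A g ν ∈ orb A P μ := by
    intro g hg ν hν
    obtain ⟨n, rfl⟩ := (Subgroup.mem_zpowers_iff).1 (show g ∈ Subgroup.zpowers x from hg)
    obtain ⟨m, hm⟩ := Submonoid.mem_powers_iff _ _ |>.1
      ((isOfFinOrder_of_finite x).mem_powers_iff_mem_zpowers.2 (Subgroup.zpow_mem_zpowers x n))
    rw [← hm]
    clear hm
    induction m generalizing ν with
    | zero => rwa [pow_zero, tw_one]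
    | succ m ih => rw [pow_succ, tw_mul]; exact ih _ (hcon ν hν)
  letI : MulAction C (orb A P μ) :=
    { smul := fun g ν => ⟨tw A g ν, hmem g g.2 ν ν.2⟩
      one_smul := fun ν => Subtype.ext (tw_one A (ν : A →* Kˣ))
      mul_smul := fun g h ν => Subtype.ext (tw_mul A g h (ν : A →* Kˣ)) }
  haveI : Finite C := inferInstance
  have hnd : ¬ q ∣ Nat.card (orb A P μ) := fun h =>
    hq ((Nat.prime_dvd_prime_iff_eq Fact.out Nat.prime_two).1
      ((Fact.out : q.Prime).dvd_of_dvd_pow (h.trans hcard)))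
  obtain ⟨ν, hν⟩ := hC.nonempty_fixed_point_of_prime_not_dvd_card _ hnd
  exact hfree ν ν.2 (congrArg Subtype.val (hν ⟨x, Subgroup.mem_zpowers x⟩))

/-- The main count. -/
theorem fixed_bounds (hA : ∀ a b : A, a * b = b * a) (hodd : Odd (Nat.card A)) [Nontrivial W]
    (hnofix : ∀ w : W, (∀ a : A, σ a w = w) → w = 0)
    {P : Subgroup S} (hP : IsPGroup 2 P) {q : ℕ} [Fact q.Prime] (hq : q ≠ 2) {x : S}
    (hx : x ^ q = 1) (hfree : ∀ μ : A →* Kˣ, μ ≠ 1 → tw A x μ ≠ μ) :
    (∃ v : Fin 2 → W, LinearIndependent K v ∧ ∀ i, ∀ g ∈ P, σ g (v i) = v i) ∧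
    (∃ v : W, (∀ g ∈ P, σ g v = v) ∧ σ x v ≠ v) ∧
    ((∀ g : S, g ∈ P ↔ x * g * x⁻¹ ∈ P) →
      ∃ v : Fin 3 → W, LinearIndependent K v ∧ ∀ i, ∀ g ∈ P, σ g (v i) = v i) := by
  classical
  haveI : Fintype (A →* Kˣ) := Fintype.ofFinite _
  obtain ⟨w, hw⟩ := exists_ne (0 : W)
  obtain ⟨μ, hμ⟩ : ∃ μ, proj A σ μ w ≠ 0 := by
    by_contra h
    push Not at h
    exact hw (by rw [← sum_proj A σ hA hodd w, Finset.sum_eq_zero fun μ _ => h μ])
  have hne1 : ∀ ν (u : W), proj A σ ν u ≠ 0 → ν ≠ 1 := by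
    rintro ν u hu rfl
    exact hu (hnofix _ fun a => by rw [apply_proj]; simp)
  have hfreeO : ∀ ν, ν ∈ orb A P μ → tw A x ν ≠ ν := by
    intro ν hν
    obtain ⟨g, -, rfl⟩ := hν
    refine hfree _ fun h => hne1 μ w hμ ?_
    rw [← tw_inv_tw A g μ, h, tw_trivial]
  obtain ⟨ν, hν, hxν⟩ := not_orb_invariant A hP hq hx μ hfreeO
  obtain ⟨v1, hv1, hf1, hs1, hn1⟩ := exists_fixed A σ hA hodd hP hμ
  have hν' : proj A σ (tw A x ν) (σ x v1) ≠ 0 := by
    rw [← apply_proj_twist]
    intro h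
    apply hn1 ν hν
    have := congrArg (σ x⁻¹) h
    rwa [map_zero, ← Module.End.mul_apply, ← map_mul, inv_mul_cancel, map_one,
      Module.End.one_apply] at this
  obtain ⟨v2, hv2, hf2, hs2, hn2⟩ := exists_fixed A σ hA hodd hP hν'
  refine ⟨⟨![v1, v2], ?_, fun i => by fin_cases i <;> assumption⟩, ⟨v1, hf1, ?_⟩, ?_⟩
  · rw [Fintype.linearIndependent_iff]
    intro c hc
    simp only [Fin.sum_univ_two, Matrix.cons_val_zero, Matrix.cons_val_one] at hc
    have hd : ∀ ξ, ξ ∈ orb A P μ → ξ ∉ orb A P (tw A x ν) := fun ξ h h' =>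
      hxν (orb_trans A h (orb_symm A h'))
    have h0 : c 0 = 0 := by
      have := congrArg (proj A σ μ) hc
      rw [map_add, map_smul, map_smul, hs2 μ (hd μ (orb_self A P μ)), smul_zero, add_zero,
        map_zero, smul_eq_zero] at this
      exact this.resolve_right (hn1 μ (orb_self A P μ))
    rw [h0, zero_smul, zero_add, smul_eq_zero] at hc
    intro i
    fin_cases i
    · exact h0
    · exact hc.resolve_right hv2
  · intro h
    have h' := hν'
    rw [h] at h'
    exact h' (hs1 _ hxν)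
  · intro hnorm
    -- `x` permutes the orbits
    have hperm : ∀ (ξ η : A →* Kˣ), η ∈ orb A P ξ → tw A x η ∈ orb A P (tw A x ξ) := by
      rintro ξ η ⟨g, hg, rfl⟩
      exact ⟨x * g * x⁻¹, (hnorm g).1 hg, by
        rw [← tw_mul, ← tw_mul]; congr 1; group⟩
    have hperm' : ∀ (ξ η : A →* Kˣ), tw A x η ∈ orb A P (tw A x ξ) → η ∈ orb A P ξ := by
      rintro ξ η ⟨g, hg, h⟩
      refine ⟨x⁻¹ * g * x, (hnorm _).2 (by simpa [mul_assoc] using hg), ?_⟩
      rw [tw_mul, tw_mul, h, tw_inv_tw]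
    have hnot : tw A x μ ∉ orb A P μ := by
      intro h
      apply hxν
      exact orb_trans A h (hperm μ ν hν)
    have hnot2 : tw A x (tw A x μ) ∉ orb A P μ := by
      intro h
      apply hnot
      have hstep : ∀ n : ℕ, tw A ((x * x) ^ n) μ ∈ orb A P μ := by
        intro n
        induction n with
        | zero => rw [pow_zero, tw_one]; exact orb_self A P μ
        | succ n ih =>
          rw [pow_succ', tw_mul, tw_mul]
          exact orb_trans A h (hperm _ _ (hperm _ _ ih))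
      have hodd : q % 2 = 1 := (Fact.out : q.Prime).eq_two_or_odd.resolve_left hq
      have : (x * x) ^ ((q + 1) / 2) = x := by
        rw [← pow_two, ← pow_mul, show 2 * ((q + 1) / 2) = q + 1 by omega, pow_succ, hx, one_mul]
      simpa [this] using hstep ((q + 1) / 2)
    have hw1 : proj A σ (tw A x μ) (σ x w) ≠ 0 := by
      rw [← apply_proj_twist]
      intro h
      apply hμ
      have := congrArg (σ x⁻¹) h
      rwa [map_zero, ← Module.End.mul_apply, ← map_mul, inv_mul_cancel, map_one,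
        Module.End.one_apply] at this
    have hw2 : proj A σ (tw A x (tw A x μ)) (σ x (σ x w)) ≠ 0 := by
      rw [← apply_proj_twist]
      intro h
      apply hw1
      have := congrArg (σ x⁻¹) h
      rwa [map_zero, ← Module.End.mul_apply, ← map_mul, inv_mul_cancel, map_one,
        Module.End.one_apply] at this
    obtain ⟨u1, hu1, hg1, ht1, hm1⟩ := exists_fixed A σ hA hodd hP hw1
    obtain ⟨u2, hu2, hg2, ht2, hm2⟩ := exists_fixed A σ hA hodd hP hw2
    refine ⟨![v1, u1, u2], ?_, fun i => by fin_cases i <;> assumption⟩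
    rw [Fintype.linearIndependent_iff]
    intro c hc
    simp only [Fin.sum_univ_three, Matrix.cons_val_zero, Matrix.cons_val_one,
      Matrix.cons_val_two, Matrix.tail_cons, Matrix.head_cons] at hc
    have h01 : μ ∉ orb A P (tw A x μ) := fun h => hnot (orb_symm A h)
    have h02 : μ ∉ orb A P (tw A x (tw A x μ)) := fun h => hnot2 (orb_symm A h)
    have h12 : tw A x μ ∉ orb A P (tw A x (tw A x μ)) := fun h =>
      h01 (hperm' _ _ h)
    have h0 : c 0 = 0 := by
      have := congrArg (proj A σ μ) hc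
      rw [map_add, map_add, map_smul, map_smul, map_smul, ht1 μ h01, ht2 μ h02, smul_zero,
        smul_zero, add_zero, add_zero, map_zero, smul_eq_zero] at this
      exact this.resolve_right (hn1 μ (orb_self A P μ))
    rw [h0, zero_smul, zero_add] at hc
    have h1 : c 1 = 0 := by
      have := congrArg (proj A σ (tw A x μ)) hc
      rw [map_add, map_smul, map_smul, ht2 _ h12, smul_zero, add_zero, map_zero,
        smul_eq_zero] at this
      exact this.resolve_right (hm1 _ (orb_self A P _))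
    rw [h1, zero_smul, zero_add, smul_eq_zero] at hc
    intro i
    fin_cases i
    · exact h0
    · exact h1
    · exact hc.resolve_right hu2

end Cfsg.Agent.GenA.WeightFixed
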