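import Mathlib
import Cfsg.Agent.GenA.WeightFixed

/-!
# Extension of scalars and fixed points
-/

namespace Cfsg.Agent.GenA.WeightFixed

open Module TensorProduct

variable {S : Type*} [Group S] {E : Type*} [AddCommGroup E] [Module (ZMod 2) E]
  (ρ : Representation (ZMod 2) S E)

/-- Extension of scalars of a representation. -/
noncomputable def ext2 : Representation K S (K ⊗[ZMod 2] E) where
  toFun g := (ρ g).baseChange K
  map_one' := by rw [map_one, Module.End.one_eq_id, LinearMap.baseChange_id]; rfl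
  map_mul' g h := by
    rw [map_mul, Module.End.mul_eq_comp, LinearMap.baseChange_comp, Module.End.mul_eq_comp]

theorem ext2_tmul (g : S) (c : K) (v : E) : ext2 ρ g (c ⊗ₜ v) = c ⊗ₜ ρ g v :=
  LinearMap.baseChange_tmul (ρ g) c v

/-- Common fixed points of a set of elements. -/
def fixSub (P : Set S) : Submodule (ZMod 2) E where
  carrier := {v | ∀ g ∈ P, ρ g v = v}
  add_mem' hu hv g hg := by rw [map_add, hu g hg, hv g hg]
  zero_mem' g _ := map_zero _
  smul_mem' c v hv g hg := by rw [map_smul, hv g hg]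

theorem fixed_mem_span (P : Set S) {u : K ⊗[ZMod 2] E} (hu : ∀ g ∈ P, ext2 ρ g u = u) :
    u ∈ Submodule.span K ((fun v : E => (1 : K) ⊗ₜ[ZMod 2] v) '' (fixSub ρ P : Set E)) := by
  classical
  obtain ⟨κ, B⟩ := Basis.exists_basis (ZMod 2) K
  let b := B.some
  let e := TensorProduct.equivFinsuppOfBasisLeft (N := E) b
  have heq : ∀ (g : S) (w : K ⊗[ZMod 2] E) (i : κ), e (ext2 ρ g w) i = ρ g (e w i) := by
    intro g w i
    induction w using TensorProduct.induction_on with
    | zero => simp
    | tmul c v =>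
      rw [ext2_tmul, TensorProduct.equivFinsuppOfBasisLeft_apply_tmul_apply,
        TensorProduct.equivFinsuppOfBasisLeft_apply_tmul_apply, map_smul]
    | add x y hx hy => simp only [map_add, Finsupp.add_apply, hx, hy]
  rw [← e.symm_apply_apply u, TensorProduct.equivFinsuppOfBasisLeft_symm_apply]
  refine Submodule.sum_mem _ fun i _ => ?_
  have : b i ⊗ₜ[ZMod 2] e u i = b i • ((1 : K) ⊗ₜ[ZMod 2] e u i) := by
    rw [TensorProduct.smul_tmul', smul_eq_mul, mul_one]
  show b i ⊗ₜ[ZMod 2] e u i ∈ _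
  rw [this]
  refine Submodule.smul_mem _ _ (Submodule.subset_span ⟨e u i, fun g hg => ?_, rfl⟩)
  rw [← heq, hu g hg]

theorem card_fixed_ge [Finite E] (P : Set S) {n : ℕ} (v : Fin n → K ⊗[ZMod 2] E)
    (hli : LinearIndependent K v) (hfix : ∀ i, ∀ g ∈ P, ext2 ρ g (v i) = v i) :
    2 ^ n ≤ Nat.card (fixSub ρ P) := by
  classical
  haveI : Module.Finite (ZMod 2) E := Module.Finite.of_finite
  let b := Module.finBasis (ZMod 2) (fixSub ρ P)
  set T : Set (K ⊗[ZMod 2] E) := Set.range fun i => (1 : K) ⊗ₜ[ZMod 2] (b i : E) with hT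
  have hle : Set.range v ⊆ Submodule.span K T := by
    rintro - ⟨i, rfl⟩
    refine (Submodule.span_le.2 ?_) (fixed_mem_span ρ P (hfix i))
    rintro - ⟨w, hw, rfl⟩
    have h := b.sum_repr ⟨w, hw⟩
    have h' := congrArg Subtype.val h
    simp only [Submodule.coe_sum, SetLike.val_smul] at h'
    show (1 : K) ⊗ₜ[ZMod 2] w ∈ Submodule.span K T
    rw [← h', TensorProduct.tmul_sum]
    refine Submodule.sum_mem _ fun j _ => ?_
    rw [TensorProduct.tmul_smul, ← algebraMap_smul K]
    exact Submodule.smul_mem _ _ (Submodule.subset_span ⟨j, rfl⟩)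
  haveI : Fintype T := Fintype.ofFinite T
  have h1 : n ≤ Fintype.card T := by
    simpa using linearIndependent_le_span_aux' v hli T hle
  have h2 : Fintype.card T ≤ Module.finrank (ZMod 2) (fixSub ρ P) := by
    rw [← Nat.card_eq_fintype_card]
    exact (Finite.card_range_le _).trans (Nat.card_fin _).le
  rw [Module.natCard_eq_pow_finrank (K := ZMod 2), Nat.card_zmod]
  exact Nat.pow_le_pow_right (by norm_num) (h1.trans h2)

end Cfsg.Agent.GenA.WeightFixed
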