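import Mathlib
import Cfsg.Prelude.Def_LocalEven
import Cfsg.Prelude.Def_Transfer
import Cfsg.Agent.Lib.Fusion.LocalModels
import Cfsg.Agent.Lib.PLocal.GlaubermanReplacement

/-!
An element `g` with `g ^ p ∈ V`, acting on an elementary abelian normal subgroup `V` with
`(g - 1) ^ (p - 1) ≠ 0`, gives a section `C_p ≀ C_p`.
-/

set_option autoImplicit false

namespace Cfsg.Agent.GenA.WreathSection

open Cfsg Subgroup
open Polynomial

variable {p : ℕ} [hp : Fact p.Prime]

/-- A free vector: the orbit of `v` under `T` is independent. -/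
theorem eq_zero_of_aeval {V : Type*} [AddCommGroup V] [Module (ZMod p) V] (T : Module.End (ZMod p) V)
    (hT : T ^ p = 1) {v : V} (hv : ((T - 1) ^ (p - 1)) v ≠ 0) (f : (ZMod p)[X]) (hdeg : f.degree < (p : ℕ))
    (hf : aeval T f v = 0) : f = 0 := by
  classical
  by_contra hne
  have hX : (X - 1 : (ZMod p)[X]) ^ p = X ^ p - 1 := by rw [sub_pow_char, one_pow]
  have hpr : Prime (X - 1 : (ZMod p)[X]) := by
    rw [← map_one Polynomial.C]; exact prime_X_sub_C 1
  obtain ⟨a, b, hab⟩ := exists_gcd_eq_mul_add_mul f ((X - 1 : (ZMod p)[X]) ^ p)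
  set d := GCDMonoid.gcd f ((X - 1 : (ZMod p)[X]) ^ p) with hd
  have h0 : aeval T ((X - 1 : (ZMod p)[X]) ^ p) v = 0 := by
    rw [hX, map_sub, map_pow, aeval_X, map_one, hT, sub_self, LinearMap.zero_apply]
  have hdv : aeval T d v = 0 := by
    rw [hab, mul_comm f a, mul_comm ((X - 1 : (ZMod p)[X]) ^ p) b, map_add, map_mul, map_mul,
      LinearMap.add_apply, Module.End.mul_apply, Module.End.mul_apply, hf, h0, map_zero, map_zero, add_zero]
  obtain ⟨j, hj, hdj⟩ := (dvd_prime_pow hpr p).mp (gcd_dvd_right f ((X - 1 : (ZMod p)[X]) ^ p))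
  rcases Nat.lt_or_ge j p with hjp | hjp
  · obtain ⟨u, hu⟩ := hdj
    refine hv ?_
    have h1 : (X - 1 : (ZMod p)[X]) ^ (p - 1) = ((X - 1) ^ (p - 1 - j) * (u : (ZMod p)[X])) * d := by
      rw [mul_assoc, mul_comm (u : (ZMod p)[X]) d, hd, hu, ← pow_add]
      congr 1
      omega
    have h2 := congrArg (fun q => aeval T q v) h1
    rw [map_mul, Module.End.mul_apply, hdv, map_zero] at h2
    simpa using h2
  · have hdf : (X - 1 : (ZMod p)[X]) ^ p ∣ f := by
      obtain rfl : j = p := le_antisymm hj hjp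
      exact hdj.symm.dvd.trans (gcd_dvd_left f _)
    have h1 := Polynomial.natDegree_le_of_dvd hdf hne
    rw [Polynomial.natDegree_pow, show (X - 1 : (ZMod p)[X]).natDegree = 1 by
      rw [← map_one Polynomial.C]; exact natDegree_X_sub_C 1, mul_one] at h1
    have h2 : f.natDegree < p := by
      rw [Polynomial.degree_eq_natDegree hne] at hdeg
      exact_mod_cast hdeg
    omega

/-- A small type with no algebraic instances. -/
def Carrier (N : ℕ) : Type := Fin N

instance (N : ℕ) : Finite (Carrier N) := inferInstanceAs (Finite (Fin N))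

variable {M : Type*} [Group M] [Finite M]

theorem exists_section (V : Subgroup M) [V.Normal] (hV : IsElementaryAbelian p V) (P : Subgroup M)
    (hVP : V ≤ P) (g₀ : M) (hg₀P : g₀ ∈ P) (hg₀ : g₀ ∉ V) (hg₀p : g₀ ^ p ∈ V)
    {v₀ : M} (hv₀ : v₀ ∈ V) (hne : (v₀ * g₀) ^ p ≠ g₀ ^ p) :
    ∃ (W : Type) (_ : Group W) (_ : Finite W),
      (∃ (B : Subgroup W) (t : W), B.Normal ∧ IsMulCommutative B ∧ (∀ b ∈ B, b ^ p = 1) ∧
        Nat.card B = p ^ p ∧ orderOf t = p ∧ t ∉ B ∧ Nat.card W = p ^ (p + 1) ∧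
        Nat.card ↥(B ⊓ Subgroup.centralizer ({t} : Set W)) = p) ∧ Cfsg.Involves W ↥P := by
  classical
  have hpp : p.Prime := hp.out
  let : CommGroup V := { (inferInstance : Group V) with mul_comm := hV.1.is_comm.comm }
  have hpV : ∀ v : Additive V, p • v = 0 := fun v => by
    apply Additive.toMul.injective
    rw [toMul_nsmul, toMul_zero]
    exact Subtype.ext (by simpa using hV.2 _ (Additive.toMul v).2)
  have : Module (ZMod p) (Additive V) := AddCommGroup.zmodModule hpV
  haveI : Module.Finite (ZMod p) (Additive V) := Module.Finite.of_finite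
  let φ : M →* MulAut V := MulAut.conjNormal
  have hφ : ∀ (h : M) (v : V), (φ h v : M) = h * v * h⁻¹ := fun h v => MulAut.conjNormal_apply h v
  let T : Module.End (ZMod p) (Additive V) := (MonoidHom.toAdditive (φ g₀).toMonoidHom).toZModLinearMap p
  let val : Additive V → M := fun v => ((Additive.toMul v : V) : M)
  have hval : ∀ a b, val (a + b) = val a * val b := fun a b => rfl
  have hvalinj : Function.Injective val := fun a b h => Additive.toMul.injective (Subtype.ext h)
  have hTv : ∀ v, val (T v) = g₀ * val v * g₀⁻¹ := fun v => hφ g₀ _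
  have hTi : ∀ (i : ℕ) v, val ((T ^ i) v) = g₀ ^ i * val v * (g₀ ^ i)⁻¹ := by
    intro i
    induction i with
    | zero => intro v; simp [val]
    | succ i ih =>
      intro v
      rw [pow_succ', Module.End.mul_apply, hTv, ih, pow_succ']
      group
  have hcomm : ∀ a ∈ V, ∀ b ∈ V, a * b = b * a := fun a ha b hb =>
    congrArg Subtype.val (hV.1.is_comm.comm (⟨a, ha⟩ : V) ⟨b, hb⟩)
  have hTp : T ^ p = 1 := by
    refine LinearMap.ext fun v => hvalinj ?_
    rw [hTi, Module.End.one_apply]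
    rw [hcomm _ hg₀p (val v) (Additive.toMul v).2, mul_inv_cancel_right]
  haveI : CharP (Module.End (ZMod p) (Additive V)) p := by
    haveI : Nontrivial (Additive V) := by
      refine ⟨⟨Additive.ofMul ⟨v₀, hv₀⟩, 0, fun h => hne ?_⟩⟩
      have : v₀ = 1 := congrArg val h
      rw [this, one_mul]
    exact charP_of_injective_algebraMap (algebraMap (ZMod p) (Module.End (ZMod p) (Additive V))).injective p
  set S := ∑ i ∈ Finset.range p, T ^ i with hS
  have hkey : ∀ (v : Additive V) (N : ℕ),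
      (val v * g₀) ^ N = val ((∑ i ∈ Finset.range N, T ^ i) v) * g₀ ^ N := by
    intro v N
    induction N with
    | zero => simp [val]
    | succ N ih =>
      rw [pow_succ, ih, Finset.sum_range_succ, LinearMap.add_apply, hval, hTi, pow_succ]
      group
  set w₀ : Additive V := Additive.ofMul ⟨v₀, hv₀⟩
  have hSv : S w₀ ≠ 0 := by
    intro h
    refine hne ?_
    rw [show v₀ = val w₀ from rfl, hkey, show (∑ i ∈ Finset.range p, T ^ i) w₀ = 0 from h]
    simp [val]
  have hS1 : S = (T - 1) ^ (p - 1) := by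
    have h := congrArg (aeval T) (show (X - 1 : (ZMod p)[X]) ^ (p - 1) = ∑ i ∈ Finset.range p, X ^ i by
      refine mul_right_cancel₀ (b := (X - 1 : (ZMod p)[X])) ?_ ?_
      · rw [← map_one Polynomial.C]; exact X_sub_C_ne_zero (1 : ZMod p)
      · rw [← pow_succ, Nat.sub_add_cancel hpp.one_le, geom_sum_mul, sub_pow_char, one_pow])
    rw [map_pow, map_sub, aeval_X, map_one, map_sum] at h
    simp only [map_pow, aeval_X] at h
    exact h.symm
  have hTS : T * S = S := by
    have h := mul_geom_sum T p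
    rw [hTp, sub_self, sub_mul, one_mul, sub_eq_zero] at h
    exact h
  let L : (Fin p → ZMod p) →ₗ[ZMod p] Additive V := Fintype.linearCombination (ZMod p) (fun i : Fin p => (T ^ (i : ℕ)) w₀)
  have hLinj : Function.Injective L := by
    refine (injective_iff_map_eq_zero L).mpr fun c hc => funext fun i => ?_
    let f : (ZMod p)[X] := ∑ j : Fin p, Polynomial.C (c j) * X ^ (j : ℕ)
    have hf : f = 0 := eq_zero_of_aeval T hTp (hS1 ▸ hSv) f (degree_sum_fin_lt c) (by
      rw [map_sum, LinearMap.sum_apply]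
      refine (Finset.sum_congr rfl fun j _ => ?_).trans hc
      rw [map_mul, aeval_C, map_pow, aeval_X, ← Algebra.smul_def, LinearMap.smul_apply])
    have h1 := congrArg (fun q : (ZMod p)[X] => q.coeff i) hf
    simp only [f, finsetSum_coeff, coeff_C_mul_X_pow, coeff_zero] at h1
    rw [Finset.sum_eq_single i (fun j _ hj => if_neg fun h => hj (Fin.ext h.symm)) (by simp), if_pos rfl] at h1
    exact h1
  let Lg : Multiplicative (Fin p → ZMod p) →* M :=
    { toFun := fun c => val (L (Multiplicative.toAdd c))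
      map_one' := by simp [val]
      map_mul' := fun a b => by simp [hval, toAdd_mul] }
  have hLginj : Function.Injective Lg := fun a b h => Multiplicative.toAdd.injective (hLinj (hvalinj h))
  set B := Lg.range with hB
  have hBV : B ≤ V := by rintro _ ⟨c, rfl⟩; exact (Additive.toMul (L (Multiplicative.toAdd c))).2
  have hBcard : Nat.card B = p ^ p := by
    rw [hB, ← Nat.card_congr (MonoidHom.ofInjective hLginj).toEquiv, Nat.card_congr Multiplicative.toAdd,
      Nat.card_fun, Nat.card_zmod, Nat.card_eq_fintype_card, Fintype.card_fin]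
  have hbasis : ∀ i : ℕ, (T ^ i) w₀ ∈ LinearMap.range L := by
    intro i
    refine ⟨Pi.single ⟨i % p, Nat.mod_lt _ hpp.pos⟩ 1, ?_⟩
    rw [Fintype.linearCombination_apply_single, one_smul]
    show (T ^ (i % p)) w₀ = _
    rw [← pow_eq_pow_mod i hTp]
  have hTrange : ∀ x ∈ LinearMap.range L, T x ∈ LinearMap.range L := by
    rintro _ ⟨c, rfl⟩
    rw [Fintype.linearCombination_apply, map_sum]
    refine Submodule.sum_mem _ fun j _ => ?_
    rw [map_smul]
    refine Submodule.smul_mem _ _ ?_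
    rw [← Module.End.mul_apply, ← pow_succ']
    exact hbasis _
  have hgN₀ : g₀ ∈ normalizer (B : Set M) := by
    refine PLocal.GlaubermanReplacement.mem_normalizer_of_conj_mem ?_
    rintro _ ⟨c, rfl⟩
    obtain ⟨d, hd⟩ := hTrange _ ⟨Multiplicative.toAdd c, rfl⟩
    refine ⟨Multiplicative.ofAdd d, ?_⟩
    show val (L d) = _
    rw [hd, hTv]
    rfl
  have hv₀B : v₀ ∈ B := by
    obtain ⟨c, hc⟩ := hbasis 0
    exact ⟨Multiplicative.ofAdd c, congrArg val hc⟩
  -- fixed points of `g₀` in `B`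
  have hfix : ∀ b ∈ B, g₀ * b = b * g₀ → ∃ k : ℕ, b = val (k • S w₀) := by
    rintro _ ⟨c, rfl⟩ hb
    obtain ⟨c, rfl⟩ := Multiplicative.ofAdd.surjective c
    have hTc : T (L c) = L c := hvalinj (by rw [hTv]; exact mul_inv_eq_iff_eq_mul.mpr hb)
    have hLc : ∀ n : ℕ, (T ^ n) (L c) = L c := fun n => by
      induction n with
      | zero => rfl
      | succ n ih => rw [pow_succ', Module.End.mul_apply, ih, hTc]
    let σ : Equiv.Perm (Fin p) := finRotate p
    have hrot : ∀ i : Fin p, ((σ i : Fin p) : ℕ) = ((i : ℕ) + 1) % p := by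
      obtain ⟨k, hk⟩ := Nat.exists_eq_succ_of_ne_zero hpp.ne_zero
      subst hk
      intro i
      show ((finRotate (k + 1) i : Fin (k + 1)) : ℕ) = _
      rw [finRotate_succ_apply, Fin.val_add, Fin.val_one', Nat.add_mod_mod]
    have hshift : L (fun i => c (σ.symm i)) = T (L c) := by
      simp only [L, Fintype.linearCombination_apply, map_sum, map_smul]
      refine (Equiv.sum_comp σ (fun i => c (σ.symm i) • (T ^ (i : ℕ)) w₀)).symm.trans ?_
      refine Finset.sum_congr rfl fun i _ => ?_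
      rw [Equiv.symm_apply_apply, ← Module.End.mul_apply, ← pow_succ', pow_eq_pow_mod ((i : ℕ) + 1) hTp]
      congr 3
      exact hrot i
    have hcσ := hLinj (hshift.trans hTc)
    have hconst : ∀ i, c i = c ⟨0, hpp.pos⟩ := by
      rintro ⟨i, hi⟩
      induction i with
      | zero => rfl
      | succ i ih =>
        rw [← ih (by omega)]
        have h1 := congrFun hcσ (σ ⟨i, by omega⟩)
        rw [Equiv.symm_apply_apply] at h1
        rw [h1]
        congr 1
        apply Fin.ext
        rw [hrot]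
        exact (Nat.mod_eq_of_lt hi).symm
    refine ⟨(c ⟨0, hpp.pos⟩).val, congrArg val ?_⟩
    show L c = _
    simp only [L, Fintype.linearCombination_apply]
    rw [hS, LinearMap.sum_apply, Finset.smul_sum, ← Fin.sum_univ_eq_sum_range (fun i => (c ⟨0, hpp.pos⟩).val • (T ^ i) w₀)]
    refine Finset.sum_congr rfl fun i _ => ?_
    rw [hconst i, ← Nat.cast_smul_eq_nsmul (ZMod p), ZMod.natCast_zmod_val]
  have hvalk : ∀ (k : ℕ) x, val (k • x) = val x ^ k := fun k x => by
    induction k with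
    | zero => simp [val]
    | succ k ih => rw [succ_nsmul, hval, ih, pow_succ]
  set s := val (S w₀) with hs
  have hsB : s ∈ B := by
    have : S w₀ ∈ LinearMap.range L := by
      rw [hS, LinearMap.sum_apply]
      exact Submodule.sum_mem _ fun i _ => hbasis i
    obtain ⟨c, hc⟩ := this
    exact ⟨Multiplicative.ofAdd c, congrArg val hc⟩
  have hsord : orderOf s = p := orderOf_eq_prime (hV.2 _ (hBV hsB)) fun h => hSv (hvalinj (by rw [← hs, h]; rfl))
  have hsg : g₀ * s = s * g₀ := by
    rw [← mul_inv_eq_iff_eq_mul, hs, ← hTv, ← Module.End.mul_apply, hTS]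
  have hfixB : B ⊓ centralizer ({g₀} : Set M) = zpowers s := by
    refine le_antisymm ?_ (zpowers_le.mpr ⟨hsB, mem_centralizer_singleton_iff.mpr hsg.symm⟩)
    rintro b ⟨hb, hbg⟩
    obtain ⟨k, hk⟩ := hfix b hb (mem_centralizer_singleton_iff.mp hbg).symm
    rw [hk, hvalk]
    exact npow_mem_zpowers _ _
  -- normalise `g₀ ^ p`
  obtain ⟨g, hgP, hgV, hgp, hgconj, hgB⟩ : ∃ g, g ∈ P ∧ g ∉ V ∧ g ^ p ∈ V ∧
      (∀ v ∈ V, g * v * g⁻¹ = g₀ * v * g₀⁻¹) ∧ (g ^ p ∈ B → g ^ p = 1) := by
    by_cases h : g₀ ^ p ∈ B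
    · obtain ⟨k, hk⟩ := hfix _ h ((Commute.refl g₀).pow_right p).eq
      obtain ⟨u, hu⟩ : ∃ u : Additive V, u = -(k • w₀) := ⟨_, rfl⟩
      have huV : val u ∈ V := (Additive.toMul u).2
      have hzero : (val u * g₀) ^ p = 1 := by
        rw [hkey, hu, hk, ← hS, map_neg, map_nsmul, ← hval, neg_add_cancel]
        rfl
      refine ⟨val u * g₀, P.mul_mem (hVP huV) hg₀P, fun hm => hg₀ ?_, hzero ▸ one_mem V, fun v hv => ?_, fun _ => hzero⟩
      · simpa using V.mul_mem (V.inv_mem huV) hm
      · calc val u * g₀ * v * (val u * g₀)⁻¹ = val u * (g₀ * v * g₀⁻¹) * (val u)⁻¹ := by group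
          _ = g₀ * v * g₀⁻¹ := by
            rw [hcomm _ huV _ (Subgroup.Normal.conj_mem inferInstance _ hv g₀), mul_inv_cancel_right]
    · exact ⟨g₀, hg₀P, hg₀, hg₀p, fun _ _ => rfl, fun h' => absurd h' h⟩
  have hgN : g ∈ normalizer (B : Set M) := PLocal.GlaubermanReplacement.mem_normalizer_of_conj_mem fun b hb => by
    rw [hgconj b (hBV hb)]
    exact (mem_normalizer_iff.mp hgN₀ b).mp hb
  set H := B ⊔ zpowers g with hH
  have hBH : B ≤ H := le_sup_left
  have hgH : g ∈ H := mem_sup_right (mem_zpowers g)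
  have hHP : H ≤ P := sup_le (hBV.trans hVP) (zpowers_le.mpr hgP)
  set Z := zpowers (g ^ p) with hZ
  have hZV : Z ≤ V := zpowers_le.mpr hgp
  have hzc : ∀ h ∈ H, h * g ^ p = g ^ p * h := by
    have : H ≤ centralizer ({g ^ p} : Set M) := sup_le
      (fun b hb => mem_centralizer_singleton_iff.mpr (hcomm _ (hBV hb) _ hgp))
      (zpowers_le.mpr (mem_centralizer_singleton_iff.mpr ((Commute.refl g).pow_right p).eq))
    exact fun h hh => mem_centralizer_singleton_iff.mp (this hh)
  haveI : (Z.subgroupOf H).Normal := ⟨fun z hz h => by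
    have hz' : (z : M) ∈ Z := hz
    show (h : M) * z * (h : M)⁻¹ ∈ Z
    obtain ⟨i, hi⟩ := hz'
    rw [← (show (g ^ p) ^ i = (z : M) from hi), (show Commute (h : M) (g ^ p) from hzc h h.2).zpow_right i |>.eq,
      mul_inv_cancel_right]
    exact zpow_mem (mem_zpowers _) i⟩
  have hBZ : B ⊓ Z = ⊥ := by
    rw [eq_bot_iff]
    rintro b ⟨hb, hbZ⟩
    by_cases h1 : g ^ p = 1
    · rw [hZ, h1, zpowers_one_eq_bot] at hbZ
      exact hbZ
    obtain ⟨i, rfl⟩ := hbZ
    by_cases hi : (p : ℤ) ∣ i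
    · obtain ⟨j, rfl⟩ := hi
      refine mem_bot.mpr ?_
      show (g ^ p) ^ ((p : ℤ) * j) = 1
      rw [zpow_mul, zpow_natCast, hV.2 _ hgp, one_zpow]
    · exfalso
      obtain ⟨u, v, huv⟩ := (Nat.prime_iff_prime_int.1 hpp).coprime_iff_not_dvd.2 hi
      refine h1 (hgB ?_)
      have h2 : (g ^ p) ^ (u * (p : ℤ) + v * i) = g ^ p := by rw [huv, zpow_one]
      rw [← h2, zpow_add, zpow_mul', zpow_mul', zpow_natCast, hV.2 _ hgp, one_zpow, one_mul]
      exact B.zpow_mem hb v
  set π := QuotientGroup.mk' (Z.subgroupOf H)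
  let iB : ↥B →* H ⧸ Z.subgroupOf H := π.comp (inclusion hBH)
  have hiB : Function.Injective iB := by
    refine (injective_iff_map_eq_one iB).mpr fun b hb => Subtype.ext ?_
    exact mem_bot.mp (hBZ ▸ mem_inf.mpr ⟨b.2, (show (b : M) ∈ Z from (QuotientGroup.eq_one_iff (inclusion hBH b)).mp hb)⟩)
  set t := π ⟨g, hgH⟩
  have hmemB : ∀ (h : H), π h ∈ iB.range → ∃ b ∈ B, ∃ z ∈ Z, (h : M) = b * z := by
    rintro h ⟨b, hb⟩
    refine ⟨b, b.2, (b : M)⁻¹ * h, (show (b : M)⁻¹ * (h : M) ∈ Z from (QuotientGroup.eq (a := inclusion hBH b) (b := h)).mp hb), ?_⟩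
    show (h : M) = (b : M) * ((b : M)⁻¹ * h)
    group
  have htB : t ∉ iB.range := by
    intro h
    obtain ⟨b, hb, z, hz, e⟩ := hmemB _ h
    exact hgV (show g ∈ V from (show g = b * z from e) ▸ V.mul_mem (hBV hb) (hZV hz))
  have htp : t ^ p = 1 := by
    rw [← map_pow]
    exact (QuotientGroup.eq_one_iff _).mpr (show g ^ p ∈ Z from mem_zpowers _)
  have htord : orderOf t = p := orderOf_eq_prime htp fun h => htB (h ▸ one_mem _)
  haveI hBn : iB.range.Normal := by
    have : iB.range = (B.subgroupOf H).map π := by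
      rw [MonoidHom.range_comp, Subgroup.inclusion_range]
    rw [this]
    haveI : (B.subgroupOf H).Normal := Subgroup.normal_subgroupOf_of_le_normalizer
      (sup_le le_normalizer (zpowers_le.mpr hgN))
    exact Subgroup.Normal.map inferInstance π (QuotientGroup.mk'_surjective _)
  have hcardB : Nat.card iB.range = p ^ p := by
    rw [← Nat.card_congr (MonoidHom.ofInjective hiB).toEquiv, hBcard]
  have hgenW : iB.range ⊔ zpowers t = ⊤ := by
    rw [MonoidHom.range_comp, ← MonoidHom.map_zpowers, ← Subgroup.map_sup, Subgroup.inclusion_range]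
    have : B.subgroupOf H ⊔ zpowers (⟨g, hgH⟩ : H) = ⊤ := by
      apply Subgroup.map_injective H.subtype_injective
      rw [Subgroup.map_sup, map_subgroupOf_eq_of_le hBH, MonoidHom.map_zpowers, ← MonoidHom.range_eq_map, range_subtype]
      rfl
    rw [this, Subgroup.map_top_of_surjective _ (QuotientGroup.mk'_surjective _)]
  have hcardW : Nat.card (H ⧸ Z.subgroupOf H) = p ^ (p + 1) := by
    have h1 := PLocal.GlaubermanReplacement.card_sup_mul_card_inf (A := zpowers t) (B := iB.range)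
      le_normalizer_of_normal
    rw [sup_comm, hgenW, card_top] at h1
    have h2 : zpowers t ⊓ iB.range = ⊥ := by
      rw [eq_bot_iff]
      rintro y ⟨hy, hyB⟩
      obtain ⟨i, rfl⟩ := hy
      by_cases hi : (p : ℤ) ∣ i
      · obtain ⟨j, rfl⟩ := hi
        refine mem_bot.mpr ?_
        show t ^ ((p : ℤ) * j) = 1
        rw [zpow_mul, zpow_natCast, htp, one_zpow]
      · exfalso
        obtain ⟨u, v, huv⟩ := (Nat.prime_iff_prime_int.1 hpp).coprime_iff_not_dvd.2 hi
        refine htB ?_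
        have h2 : t ^ (u * (p : ℤ) + v * i) = t := by rw [huv, zpow_one]
        rw [← h2, zpow_add, zpow_mul', zpow_mul', zpow_natCast, htp, one_zpow, one_mul]
        exact iB.range.zpow_mem hyB v
    rw [h2, card_bot, mul_one, hcardB, Nat.card_zpowers, htord] at h1
    rw [h1, pow_succ, mul_comm]
  have hcent : Nat.card ↥(iB.range ⊓ centralizer ({t} : Set (H ⧸ Z.subgroupOf H))) = p := by
    have : iB.range ⊓ centralizer ({t} : Set (H ⧸ Z.subgroupOf H)) = zpowers (iB ⟨s, hsB⟩) := by
      refine le_antisymm ?_ (zpowers_le.mpr ⟨⟨_, rfl⟩, mem_centralizer_singleton_iff.mpr ?_⟩)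
      · rintro _ ⟨⟨b, rfl⟩, hbt⟩
        have h1 := mem_centralizer_singleton_iff.mp hbt
        have h2 : (g * (b : M) * g⁻¹ * (b : M)⁻¹) ∈ B ⊓ Z := by
          refine ⟨B.mul_mem ((mem_normalizer_iff.mp hgN _).mp b.2) (B.inv_mem b.2), ?_⟩
          have h3 : π (⟨g, hgH⟩ * inclusion hBH b * (⟨g, hgH⟩ : H)⁻¹ * (inclusion hBH b)⁻¹) = 1 := by
            rw [map_mul, map_mul, map_mul, map_inv, map_inv]
            show t * iB b * t⁻¹ * (iB b)⁻¹ = 1
            rw [← h1]; group
          exact (QuotientGroup.eq_one_iff ((⟨g, hgH⟩ : H) * inclusion hBH b * (⟨g, hgH⟩ : H)⁻¹ * (inclusion hBH b)⁻¹)).mp h3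
        rw [hBZ, mem_bot, mul_inv_eq_one, hgconj _ (hBV b.2), mul_inv_eq_iff_eq_mul] at h2
        obtain ⟨i, hi⟩ := hfixB.le ⟨b.2, mem_centralizer_singleton_iff.mpr h2.symm⟩
        refine ⟨i, ?_⟩
        show iB ⟨s, hsB⟩ ^ i = iB b
        rw [← map_zpow]
        exact congrArg iB (Subtype.ext (by simpa using hi))
      · show π _ * π _ = π _ * π _
        rw [← map_mul, ← map_mul]
        refine congrArg π (Subtype.ext ?_)
        show s * g = g * s
        refine (mul_inv_eq_iff_eq_mul.mp ?_).symm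
        rw [hgconj s (hBV hsB), mul_inv_eq_iff_eq_mul]
        exact hsg
    rw [this, Nat.card_zpowers, orderOf_injective iB hiB, Subgroup.orderOf_mk, hsord]
  -- move to `Type`
  obtain ⟨N, ⟨e⟩⟩ := Finite.exists_equiv_fin (H ⧸ Z.subgroupOf H)
  letI : Group (Carrier N) := (show (H ⧸ Z.subgroupOf H) ≃ Carrier N from e).symm.group
  let e' : (H ⧸ Z.subgroupOf H) ≃* Carrier N :=
    { toEquiv := (show (H ⧸ Z.subgroupOf H) ≃ Carrier N from e)
      map_mul' := fun a b => (by
        show e (a * b) = e (e.symm (e a) * e.symm (e b))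
        rw [e.symm_apply_apply, e.symm_apply_apply]) }
  refine ⟨Carrier N, inferInstance, inferInstance, ⟨iB.range.map e'.toMonoidHom, e' t, ?_⟩, ?_⟩
  · refine ⟨hBn.map _ e'.surjective, ⟨⟨?_⟩⟩, ?_, ?_, ?_, ?_, ?_, ?_⟩
    · rintro ⟨_, _, ⟨a, rfl⟩, rfl⟩ ⟨_, _, ⟨b, rfl⟩, rfl⟩
      refine Subtype.ext ?_
      show e' (iB a) * e' (iB b) = e' (iB b) * e' (iB a)
      rw [← map_mul, ← map_mul, ← map_mul, ← map_mul, Subtype.ext (hcomm _ (hBV a.2) _ (hBV b.2)) (a1 := a * b) (a2 := b * a)]
    · rintro _ ⟨_, ⟨a, rfl⟩, rfl⟩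
      rw [← map_pow, ← map_pow, show a ^ p = 1 from Subtype.ext (hV.2 _ (hBV a.2)), map_one, map_one]
    · rw [card_map_of_injective e'.injective, hcardB]
    · rw [e'.orderOf_eq, htord]
    · rintro ⟨y, hy, hye⟩
      exact htB (e'.injective hye ▸ hy)
    · rw [← Nat.card_congr e'.toEquiv, hcardW]
    · have h : iB.range.map e'.toMonoidHom ⊓ centralizer ({e' t} : Set (Carrier N)) =
          (iB.range ⊓ centralizer ({t} : Set (H ⧸ Z.subgroupOf H))).map e'.toMonoidHom := by
        ext y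
        constructor
        · rintro ⟨⟨x, hx, rfl⟩, hyc⟩
          refine ⟨x, ⟨hx, mem_centralizer_singleton_iff.mpr (e'.injective ?_)⟩, rfl⟩
          rw [map_mul, map_mul]
          exact mem_centralizer_singleton_iff.mp hyc
        · rintro ⟨x, ⟨hx, hxc⟩, rfl⟩
          refine ⟨⟨x, hx, rfl⟩, mem_centralizer_singleton_iff.mpr ?_⟩
          show e' x * e' t = e' t * e' x
          rw [← map_mul, ← map_mul, mem_centralizer_singleton_iff.mp hxc]
      rw [h, card_map_of_injective e'.injective, hcent]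
  · exact Fusion.LocalModels.involves_of_surj
      ((e'.toMonoidHom.comp π).comp (subgroupOfEquivOfLe hHP).toMonoidHom)
      ((e'.surjective.comp (QuotientGroup.mk'_surjective _)).comp (subgroupOfEquivOfLe hHP).surjective)

end Cfsg.Agent.GenA.WreathSection
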